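import Mathlib
import Cfsg.Prelude.Def_Characters
import Cfsg.Agent.Lib.Helper2.Induction
import Cfsg.Agent.Lib.Helper2.Linear
import Cfsg.Agent.Lib.Helper2.PermLemma

/-!
Clifford theory for `Cfsg.indFun` and a normal subgroup `H` of a finite group `G`:
conjugate functions `conjFn H g θ = fun h => θ (g h g⁻¹)`, the restriction to `H` of an induced
function, the orbit sum, Clifford's theorem.
-/

set_option autoImplicit false

namespace Cfsg.Agent.Lib.Helper11

open Cfsg.Agent.Lib.Helper2
open scoped ComplexConjugate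

section ConjFn

variable {G : Type*} [Group G] (H : Subgroup G) [hN : H.Normal]

/-- The conjugate `θ^g : h ↦ θ (g h g⁻¹)` of a function on the normal subgroup `H`. -/
def conjFn (g : G) (θ : H → ℂ) : H → ℂ :=
  fun h => θ ⟨g * h * g⁻¹, hN.conj_mem h h.2 g⟩

theorem conjFn_apply (g : G) (θ : H → ℂ) (h : H) :
    conjFn H g θ h = θ ⟨g * h * g⁻¹, hN.conj_mem h h.2 g⟩ := rfl

theorem conjFn_eq_comp (g : G) (θ : H → ℂ) :
    conjFn H g θ = θ ∘ (MulAut.conjNormal g : H ≃* H) := by
  funext h
  rw [conjFn_apply, Function.comp_apply]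
  congr 1

@[simp] theorem conjFn_one (θ : H → ℂ) : conjFn H 1 θ = θ := by
  funext h
  rw [conjFn_apply]
  congr 1
  ext
  simp

theorem conjFn_mul (g₁ g₂ : G) (θ : H → ℂ) :
    conjFn H (g₁ * g₂) θ = conjFn H g₂ (conjFn H g₁ θ) := by
  funext h
  simp only [conjFn_apply]
  congr 1
  ext
  simp [mul_assoc]

theorem conjFn_inv_conjFn (g : G) (θ : H → ℂ) : conjFn H g⁻¹ (conjFn H g θ) = θ := by
  rw [← conjFn_mul, mul_inv_cancel, conjFn_one]

theorem conjFn_conjFn_inv (g : G) (θ : H → ℂ) : conjFn H g (conjFn H g⁻¹ θ) = θ := by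
  rw [← conjFn_mul, inv_mul_cancel, conjFn_one]

theorem conjFn_injective (g : G) : Function.Injective (conjFn H g) := by
  intro θ φ h
  rw [← conjFn_inv_conjFn H g θ, h, conjFn_inv_conjFn]

theorem conjFn_of_mem {θ : H → ℂ} (hθ : Cfsg.IsClassFunction H θ) {g : G} (hg : g ∈ H) :
    conjFn H g θ = θ := by
  funext h
  rw [conjFn_apply]
  exact hθ h ⟨g, hg⟩

theorem conjFn_sub (g : G) (θ φ : H → ℂ) : conjFn H g (θ - φ) = conjFn H g θ - conjFn H g φ := rfl

theorem conjFn_add (g : G) (θ φ : H → ℂ) : conjFn H g (θ + φ) = conjFn H g θ + conjFn H g φ := rfl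

theorem conjFn_smul (g : G) (c : ℂ) (θ : H → ℂ) : conjFn H g (c • θ) = c • conjFn H g θ := rfl

theorem conjFn_restrict {χ : G → ℂ} (hχ : Cfsg.IsClassFunction G χ) (g : G) :
    conjFn H g (fun h : H => χ h) = fun h : H => χ h := by
  funext h
  rw [conjFn_apply]
  exact hχ h g

theorem conjFn_isCharacter (g : G) {θ : H → ℂ} (hθ : Cfsg.IsCharacter H θ) :
    Cfsg.IsCharacter H (conjFn H g θ) := by
  rw [conjFn_eq_comp]
  exact IsCharacter.comp hθ (MulAut.conjNormal g : H ≃* H).toMonoidHom

theorem conjFn_isIrrCharacter [Finite G] (g : G) {θ : H → ℂ} (hθ : Cfsg.IsIrrCharacter H θ) :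
    Cfsg.IsIrrCharacter H (conjFn H g θ) := by
  classical
  have : Fintype H := Fintype.ofFinite H
  rw [conjFn_eq_comp]
  exact isIrrCharacter_comp_mulEquiv (MulAut.conjNormal g : H ≃* H) ⟨θ, hθ⟩

theorem classInner_conjFn_conjFn [Fintype H] (g : G) (θ φ : H → ℂ) :
    Cfsg.classInner (conjFn H g θ) (conjFn H g φ) = Cfsg.classInner θ φ := by
  rw [classInner_def, classInner_def, conjFn_eq_comp, conjFn_eq_comp]
  congr 1
  exact Equiv.sum_comp (MulAut.conjNormal g : H ≃* H).toEquiv (fun h => θ h * conj (φ h))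

theorem classInner_conjFn_left [Fintype H] (g : G) (θ φ : H → ℂ) :
    Cfsg.classInner (conjFn H g θ) φ = Cfsg.classInner θ (conjFn H g⁻¹ φ) := by
  rw [← classInner_conjFn_conjFn H g θ (conjFn H g⁻¹ φ), conjFn_conjFn_inv]

end ConjFn

section IndRestrict

variable {G : Type*} [Group G] [Fintype G] (H : Subgroup G) [hN : H.Normal]

/-- Values on `H` of the function induced from the normal subgroup `H`. -/
theorem indFun_apply_of_normal (θ : H → ℂ) (h : H) :
    Cfsg.indFun H θ h = (Nat.card H : ℂ)⁻¹ * ∑ g : G, conjFn H g θ h := by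
  rw [indFun_apply]
  congr 1
  apply Fintype.sum_equiv (Equiv.inv G)
  intro x
  rw [Equiv.inv_apply, conjFn_apply]
  have hx : x⁻¹ * (h : G) * x = ((⟨x⁻¹ * h * x⁻¹⁻¹, hN.conj_mem h h.2 x⁻¹⟩ : H) : G) := by
    simp
  rw [hx, extendByZero_coe]

/-- The function induced from the normal subgroup `H` vanishes off `H`. -/
theorem indFun_apply_of_not_mem (θ : H → ℂ) {x : G} (hx : x ∉ H) :
    Cfsg.indFun H θ x = 0 := by
  rw [indFun_apply]
  have : ∀ y : G, Cfsg.extendByZero H θ (y⁻¹ * x * y) = 0 := by
    intro y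
    apply extendByZero_of_not_mem
    intro hmem
    apply hx
    have := hN.conj_mem _ hmem y
    simpa [mul_assoc] using this
  simp [this]

theorem indFun_restrict_eq (θ : H → ℂ) :
    (fun h : H => Cfsg.indFun H θ h) = (Nat.card H : ℂ)⁻¹ • ∑ g : G, conjFn H g θ := by
  funext h
  rw [indFun_apply_of_normal, Pi.smul_apply, Finset.sum_apply, smul_eq_mul]

/-- Inducing a conjugate gives the same function. -/
theorem indFun_conjFn (g : G) (θ : H → ℂ) :
    Cfsg.indFun H (conjFn H g θ) = Cfsg.indFun H θ := by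
  funext x
  by_cases hx : x ∈ H
  · have h1 := indFun_apply_of_normal H (conjFn H g θ) ⟨x, hx⟩
    have h2 := indFun_apply_of_normal H θ ⟨x, hx⟩
    simp only at h1 h2
    rw [h1, h2]
    congr 1
    apply Fintype.sum_equiv (Equiv.mulLeft g)
    intro y
    rw [Equiv.coe_mulLeft, conjFn_mul]
  · rw [indFun_apply_of_not_mem H _ hx, indFun_apply_of_not_mem H _ hx]

end IndRestrict

section Orbit

variable {G : Type*} [Group G] [Fintype G] (H : Subgroup G) [hN : H.Normal]

/-- The set of distinct conjugates of `θ`. -/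
def conjOrbit (θ : H → ℂ) : Set (H → ℂ) := {ψ | ∃ g : G, ψ = conjFn H g θ}

open Classical in
theorem conjOrbit_eq_coe_image (θ : H → ℂ) :
    conjOrbit H θ = ↑(Finset.univ.image (fun g : G => conjFn H g θ)) := by
  ext ψ
  simp only [conjOrbit, Set.mem_ofPred_eq, Finset.coe_image, Finset.coe_univ, Set.image_univ,
    Set.mem_range]
  constructor
  · rintro ⟨g, rfl⟩; exact ⟨g, rfl⟩
  · rintro ⟨g, rfl⟩; exact ⟨g, rfl⟩

/-- The sum over the group of the conjugates is the order of the stabiliser times the sum of the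
distinct conjugates. -/
theorem sum_conjFn_eq (θ : H → ℂ) :
    ∑ g : G, conjFn H g θ
      = (Nat.card {g : G // conjFn H g θ = θ} : ℂ) • ∑ᶠ ψ ∈ conjOrbit H θ, ψ := by
  classical
  rw [conjOrbit_eq_coe_image, finsum_mem_coe_finset]
  have h1 := Finset.sum_comp (s := (Finset.univ : Finset G)) (fun ψ : H → ℂ => ψ)
    (fun g : G => conjFn H g θ)
  simp only at h1
  rw [h1, Finset.smul_sum]
  apply Finset.sum_congr rfl
  intro ψ hψ
  obtain ⟨g₀, -, rfl⟩ := Finset.mem_image.1 hψ
  have hcard : (Finset.univ.filter (fun a : G => conjFn H a θ = conjFn H g₀ θ)).card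
      = Nat.card {g : G // conjFn H g θ = θ} := by
    rw [Nat.card_eq_fintype_card, Fintype.card_subtype]
    symm
    apply Finset.card_equiv (Equiv.mulRight g₀)
    intro k
    simp only [Finset.mem_filter, Finset.mem_univ, true_and, Equiv.coe_mulRight]
    rw [conjFn_mul]
    constructor
    · intro hk; rw [hk]
    · intro hk; exact conjFn_injective H g₀ hk
  rw [hcard]
  ext h
  simp [nsmul_eq_mul]

end Orbit

section NormBound

variable {G : Type*} [Group G] [Finite G]

/-- A character value has norm at most the degree (statement for `Cfsg.IsCharacter`). -/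
theorem IsCharacter.exists_degree_norm_le {χ : G → ℂ} (hχ : Cfsg.IsCharacter G χ) :
    ∃ n : ℕ, χ 1 = (n : ℂ) ∧ ∀ g : G, ‖χ g‖ ≤ (n : ℝ) := by
  obtain ⟨n, ρ, rfl⟩ := hχ
  exact ⟨Module.finrank ℂ (Fin n → ℂ), Representation.char_one ρ, fun g => norm_char_le ρ g⟩

/-- A complex number of norm at most `d` whose real part is `d` equals `d`. -/
theorem eq_of_re_eq_of_norm_le {z : ℂ} {d : ℝ} (hre : z.re = d) (hn : ‖z‖ ≤ d) : z = (d : ℂ) := by
  have hd : 0 ≤ d := le_trans (norm_nonneg z) hn
  have h1 : ‖z‖ ^ 2 ≤ d ^ 2 := by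
    have := norm_nonneg z
    nlinarith
  rw [Complex.sq_norm, Complex.normSq_apply, hre] at h1
  have him : z.im = 0 := by nlinarith [mul_self_nonneg z.im]
  apply Complex.ext
  · simp [hre]
  · simp [him]

/-- If the values of a character along a finite family sum to (cardinality) × degree, then every
value is the degree. -/
theorem IsCharacter.eq_degree_of_sum_eq {χ : G → ℂ} (hχ : Cfsg.IsCharacter G χ)
    {ι : Type*} (s : Finset ι) (f : ι → G) (h : ∑ i ∈ s, χ (f i) = (s.card : ℂ) * χ 1) :
    ∀ i ∈ s, χ (f i) = χ 1 := by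
  obtain ⟨n, h1, hle⟩ := IsCharacter.exists_degree_norm_le hχ
  have hre : ∑ i ∈ s, (χ (f i)).re = ∑ i ∈ s, (n : ℝ) := by
    have := congrArg Complex.re h
    rw [Complex.re_sum, h1] at this
    rw [this, Finset.sum_const, nsmul_eq_mul]
    simp
  have hle' : ∀ i ∈ s, (χ (f i)).re ≤ (n : ℝ) := fun i _ =>
    le_trans (Complex.re_le_norm _) (hle (f i))
  intro i hi
  have := (Finset.sum_eq_sum_iff_of_le hle').1 hre i hi
  rw [h1, eq_of_re_eq_of_norm_le this (hle (f i))]
  simp

end NormBound

section Clifford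

variable {G : Type*} [Group G] [Fintype G] (H : Subgroup G) [hN : H.Normal] [Fintype H]

/-- Inner product of irreducible characters given as functions. -/
theorem classInner_irr_eq_ite {K : Type*} [Group K] [Fintype K] {θ φ : K → ℂ}
    (hθ : Cfsg.IsIrrCharacter K θ) (hφ : Cfsg.IsIrrCharacter K φ) [Decidable (θ = φ)] :
    Cfsg.classInner θ φ = if θ = φ then 1 else 0 := by
  classical
  have := classInner_irrCharacter (⟨θ, hθ⟩ : Cfsg.IrrCharacter K) ⟨φ, hφ⟩
  simp only [Subtype.mk.injEq] at this
  rw [this]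

/-- Two irreducible characters with nonzero inner product are equal. -/
theorem eq_of_irr_of_classInner_ne_zero {K : Type*} [Group K] [Fintype K] {θ φ : K → ℂ}
    (hθ : Cfsg.IsIrrCharacter K θ) (hφ : Cfsg.IsIrrCharacter K φ)
    (h : Cfsg.classInner θ φ ≠ 0) : θ = φ := by
  classical
  by_contra hne
  rw [classInner_irr_eq_ite hθ hφ, if_neg hne] at h
  exact h rfl

theorem classInner_indFun_indFun (θ φ : H → ℂ) :
    Cfsg.classInner (Cfsg.indFun H θ) (Cfsg.indFun H φ)
      = (Nat.card H : ℂ)⁻¹ * ∑ g : G, Cfsg.classInner θ (conjFn H g φ) := by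
  rw [frobenius_reciprocity H θ _ (indFun_isClassFunction H φ), indFun_restrict_eq,
    classInner_smul_right, classInner_sum_right, map_inv₀, map_natCast]

/-- The norm of the function induced from an irreducible character of a normal subgroup is the
index of the subgroup in the inertia group. -/
theorem classInner_indFun_self_of_irr {θ : H → ℂ} (hθ : Cfsg.IsIrrCharacter H θ) :
    Cfsg.classInner (Cfsg.indFun H θ) (Cfsg.indFun H θ)
      = (Nat.card {g : G // conjFn H g θ = θ} : ℂ) / (Nat.card H : ℂ) := by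
  classical
  rw [classInner_indFun_indFun, div_eq_inv_mul]
  congr 1
  have : ∀ g : G, Cfsg.classInner θ (conjFn H g θ) = if conjFn H g θ = θ then 1 else 0 := by
    intro g
    rw [classInner_irr_eq_ite hθ (conjFn_isIrrCharacter H g hθ)]
    by_cases h : conjFn H g θ = θ
    · rw [if_pos h, if_pos h.symm]
    · rw [if_neg h, if_neg (fun h' => h h'.symm)]
  simp only [this]
  rw [Finset.sum_boole, Nat.card_eq_fintype_card, Fintype.card_subtype]

omit [Fintype G] in
/-- The restriction of a class function of `G` has the same inner product with all conjugates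
of a function on `H`. -/
theorem classInner_restrict_conjFn {χ : G → ℂ} (hχ : Cfsg.IsClassFunction G χ) (g : G)
    (θ : H → ℂ) :
    Cfsg.classInner (fun h : H => χ h) (conjFn H g θ) = Cfsg.classInner (fun h : H => χ h) θ := by
  conv_lhs => rw [← conjFn_restrict H hχ g]
  exact classInner_conjFn_conjFn H g _ θ

/-- Clifford: two irreducible constituents of the restriction to a normal subgroup of an
irreducible character are conjugate. -/
theorem clifford_conj {χ : G → ℂ} (hχ : Cfsg.IsIrrCharacter G χ) {θ φ : H → ℂ}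
    (hθ : Cfsg.IsIrrCharacter H θ) (hφ : Cfsg.IsIrrCharacter H φ)
    (h1 : Cfsg.classInner (fun h : H => χ h) θ ≠ 0)
    (h2 : Cfsg.classInner (fun h : H => χ h) φ ≠ 0) : ∃ g : G, φ = conjFn H g θ := by
  classical
  have hχc : Cfsg.IsCharacter G χ := IsIrrCharacter.isCharacter hχ
  have hχcf : Cfsg.IsClassFunction G χ := IsCharacter.isClassFunction hχc
  have hind : Cfsg.IsCharacter G (Cfsg.indFun H θ) :=
    indFun_isCharacter H θ (IsIrrCharacter.isCharacter hθ)
  have hne : Cfsg.classInner (Cfsg.indFun H θ) χ ≠ 0 := by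
    rw [frobenius_reciprocity H θ χ hχcf, ← classInner_conj_symm]
    exact fun h => h1 ((map_eq_zero _).1 h)
  obtain ⟨Ψ, hΨ, hsum⟩ := exists_add_of_classInner_ne_zero hind ⟨χ, hχ⟩ hne
  -- restrict to H
  have hres : (fun h : H => Cfsg.indFun H θ h) = (fun h : H => χ h) + (fun h : H => Ψ h) := by
    funext h
    rw [hsum]
    rfl
  obtain ⟨a, ha⟩ := classInner_isCharacter_nat (IsCharacter.restrict hχc H)
    (IsIrrCharacter.isCharacter hφ)
  obtain ⟨b, hb⟩ := classInner_isCharacter_nat (IsCharacter.restrict hΨ H)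
    (IsIrrCharacter.isCharacter hφ)
  have hne2 : Cfsg.classInner (fun h : H => Cfsg.indFun H θ h) φ ≠ 0 := by
    rw [hres, classInner_add_left, ha, hb]
    rw [ha] at h2
    have ha' : a ≠ 0 := by
      intro h0
      apply h2
      rw [h0]
      simp
    have : a + b ≠ 0 := by omega
    exact_mod_cast this
  rw [indFun_restrict_eq, classInner_smul_left, classInner_sum_left] at hne2
  have hex : ∃ g : G, Cfsg.classInner (conjFn H g θ) φ ≠ 0 := by
    by_contra hall
    have hall : ∀ g : G, Cfsg.classInner (conjFn H g θ) φ = 0 := by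
      intro g
      by_contra hg
      exact hall ⟨g, hg⟩
    apply hne2
    rw [Finset.sum_eq_zero (fun g _ => hall g), mul_zero]
  obtain ⟨g, hg⟩ := hex
  exact ⟨g, (eq_of_irr_of_classInner_ne_zero (conjFn_isIrrCharacter H g hθ) hφ hg).symm⟩

end Clifford

section FrobKernel

variable {G : Type*} [Group G] [Fintype G] (N : Subgroup G) [hN : N.Normal]

/-- If every nonidentity element of the normal subgroup `N` has its centraliser inside `N`, an
element outside `N` fixes no nonprincipal irreducible character of `N`. -/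
theorem conjFn_ne_of_centralizer_le
    (hC : ∀ n ∈ N, n ≠ 1 → Subgroup.centralizer ({n} : Set G) ≤ N) {g : G} (hg : g ∉ N)
    {φ : N → ℂ} (hφ : Cfsg.IsIrrCharacter N φ) (hne : φ ≠ fun _ => 1) : conjFn N g φ ≠ φ := by
  classical
  have : Fintype N := Fintype.ofFinite N
  intro hfix
  set α : N ≃* N := MulAut.conjNormal g with hα
  have hbr := brauer_permutation α
  -- only the trivial class is fixed
  have hsub : Subsingleton {C : ConjClasses N // ConjClasses.map α.toMonoidHom C = C} := by
    have key : ∀ C : ConjClasses N, ConjClasses.map α.toMonoidHom C = C → C = 1 := by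
      intro C hCfix
      obtain ⟨x, rfl⟩ := ConjClasses.mk_surjective C
      have h1 : ConjClasses.mk (α x) = ConjClasses.mk x := hCfix
      rw [ConjClasses.mk_eq_mk_iff_isConj, isConj_iff] at h1
      obtain ⟨m, hm⟩ := h1
      by_contra hx1
      have hx : (x : G) ≠ 1 := by
        intro h
        apply hx1
        have : x = 1 := Subtype.ext h
        rw [this]; rfl
      have hm' : (m : G) * (g * x * g⁻¹) * (m : G)⁻¹ = x := by
        have := congrArg Subtype.val hm
        simpa [hα] using this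
      have hcent : (m : G) * g ∈ Subgroup.centralizer ({(x : G)} : Set G) := by
        rw [Subgroup.mem_centralizer_iff]
        intro y hy
        rw [Set.mem_singleton_iff] at hy
        subst hy
        calc (x : G) * ((m : G) * g) = ((m : G) * (g * x * g⁻¹) * (m : G)⁻¹) * ((m : G) * g) := by
              rw [hm']
          _ = (m : G) * g * x := by group
      have := hC x x.2 hx hcent
      apply hg
      have h2 : g = (m : G)⁻¹ * ((m : G) * g) := by group
      rw [h2]
      exact N.mul_mem (N.inv_mem m.2) this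
    constructor
    intro a b
    apply Subtype.ext
    rw [key a.1 a.2, key b.1 b.2]
  have hcard : Nat.card {C : ConjClasses N // ConjClasses.map α.toMonoidHom C = C} ≤ 1 :=
    Finite.card_le_one_iff_subsingleton.2 hsub
  rw [hbr] at hcard
  have hsub2 := Finite.card_le_one_iff_subsingleton.1 hcard
  have htriv : Cfsg.IsIrrCharacter N (fun _ => (1 : ℂ)) := by
    have := isIrrCharacter_of_monoidHom (1 : N →* ℂˣ)
    simpa using this
  have e1 : ((⟨fun _ => 1, htriv⟩ : Cfsg.IrrCharacter N) : N → ℂ) ∘ α = fun _ => 1 := rfl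
  have e2 : ((⟨φ, hφ⟩ : Cfsg.IrrCharacter N) : N → ℂ) ∘ α = φ := by
    rw [← conjFn_eq_comp]; exact hfix
  have := hsub2.elim ⟨⟨fun _ => 1, htriv⟩, e1⟩ ⟨⟨φ, hφ⟩, e2⟩
  apply hne
  have h3 := congrArg (fun z => (z.1 : N → ℂ)) this
  exact h3.symm


/-- A class function that is not constant has a nonprincipal irreducible constituent. -/
theorem exists_nonprincipal_constituent {K : Type*} [Group K] [Fintype K] {ψ : K → ℂ}
    (hψ : Cfsg.IsClassFunction K ψ) {k : K} (hk : ψ k ≠ ψ 1) :
    ∃ φ : K → ℂ, Cfsg.IsIrrCharacter K φ ∧ φ ≠ (fun _ => 1) ∧ Cfsg.classInner ψ φ ≠ 0 := by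
  classical
  have : Fintype (Cfsg.IrrCharacter K) := Fintype.ofFinite _
  by_contra hcon
  have hall : ∀ φ : K → ℂ, Cfsg.IsIrrCharacter K φ → φ ≠ (fun _ => 1) →
      Cfsg.classInner ψ φ = 0 := by
    intro φ h1 h2
    by_contra h3
    exact hcon ⟨φ, h1, h2, h3⟩
  have htriv : Cfsg.IsIrrCharacter K (fun _ => (1 : ℂ)) := by
    have := isIrrCharacter_of_monoidHom (1 : K →* ℂˣ)
    simpa using this
  have hexp := classFunction_expansion ψ hψ
  rw [Finset.sum_eq_single (⟨fun _ => 1, htriv⟩ : Cfsg.IrrCharacter K)] at hexp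
  · apply hk
    rw [hexp]
    simp
  · intro b _ hb
    rw [hall b.1 b.2 (fun h => hb (Subtype.ext h)), zero_smul]
  · intro h; exact absurd (Finset.mem_univ _) h

/-- (Isaacs 6.34) If every nonidentity element of the normal subgroup `N` has its centraliser
inside `N`, then an irreducible character of `G` whose kernel does not contain `N` is induced from
an irreducible character of `N`. -/
theorem exists_indFun_eq_of_centralizer_le
    (hC : ∀ n ∈ N, n ≠ 1 → Subgroup.centralizer ({n} : Set G) ≤ N) {χ : G → ℂ}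
    (hχ : Cfsg.IsIrrCharacter G χ) (hker : ∃ n ∈ N, χ n ≠ χ 1) :
    ∃ φ : N → ℂ, Cfsg.IsIrrCharacter N φ ∧ χ = Cfsg.indFun N φ := by
  classical
  have : Fintype N := Fintype.ofFinite N
  obtain ⟨n, hn, hχn⟩ := hker
  have hχc : Cfsg.IsCharacter G χ := IsIrrCharacter.isCharacter hχ
  have hres : Cfsg.IsCharacter N (fun h : N => χ h) := IsCharacter.restrict hχc N
  obtain ⟨φ, hφ, hφ1, hφne⟩ := exists_nonprincipal_constituent
    (ψ := fun h : N => χ h) (IsCharacter.isClassFunction hres) (k := ⟨n, hn⟩) hχn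
  refine ⟨φ, hφ, ?_⟩
  have hφcf : Cfsg.IsClassFunction N φ := IsCharacter.isClassFunction (IsIrrCharacter.isCharacter hφ)
  have hcard : Nat.card {g : G // conjFn N g φ = φ} = Nat.card N := by
    apply Nat.card_congr
    apply Equiv.subtypeEquivRight
    intro g
    constructor
    · intro h
      by_contra hg
      exact conjFn_ne_of_centralizer_le N hC hg hφ hφ1 h
    · intro hg
      exact conjFn_of_mem N hφcf hg
  have hnorm : Cfsg.classInner (Cfsg.indFun N φ) (Cfsg.indFun N φ) = 1 := by
    rw [classInner_indFun_self_of_irr N hφ, hcard]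
    exact div_self (card_subgroup_ne_zero N)
  have hirr : Cfsg.IsIrrCharacter G (Cfsg.indFun N φ) :=
    isIrrCharacter_of_classInner_self_eq_one
      (indFun_isCharacter N φ (IsIrrCharacter.isCharacter hφ)) hnorm
  have hne : Cfsg.classInner (Cfsg.indFun N φ) χ ≠ 0 := by
    rw [frobenius_reciprocity N φ χ (IsCharacter.isClassFunction hχc), ← classInner_conj_symm]
    exact fun h => hφne ((map_eq_zero _).1 h)
  exact (eq_of_irr_of_classInner_ne_zero hirr hχ hne).symm

end FrobKernel

end Cfsg.Agent.Lib.Helper11
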