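import Mathlib

/-!
Linear characters `W →* ℂˣ` of a finite group: orthogonality, and characters of `W₁ ⊔ W₂`.
-/

set_option autoImplicit false

namespace Cfsg.Agent.Lib.Helper11

open scoped ComplexConjugate

section Basic

variable {W : Type*} [Group W] [Fintype W]

/-- the monoid hom into `ℂ` attached to a linear character -/
def linCharHom (ω : W →* ℂˣ) : W →* ℂ := (Units.coeHom ℂ).comp ω

omit [Fintype W] in
theorem linCharHom_apply (ω : W →* ℂˣ) (w : W) : linCharHom ω w = (ω w : ℂ) := rfl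

omit [Fintype W] in
theorem linCharHom_eq_one_iff (ω : W →* ℂˣ) : linCharHom ω = 1 ↔ ω = 1 := by
  constructor
  · intro h
    ext w
    have := DFunLike.congr_fun h w
    simpa [linCharHom_apply] using this
  · rintro rfl
    ext w
    simp [linCharHom_apply]

omit [Fintype W] in
theorem hom_mul_inv_eq_one_iff {M : Type*} [CommGroup M] (ω ω' : W →* M) :
    ω * ω'⁻¹ = 1 ↔ ω = ω' := by
  constructor
  · intro h
    ext w
    have := DFunLike.congr_fun h w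
    simp only [MonoidHom.mul_apply, MonoidHom.inv_apply, MonoidHom.one_apply] at this
    exact mul_inv_eq_one.1 this
  · rintro rfl
    ext w
    simp

theorem sum_linChar (ω : W →* ℂˣ) [Decidable (ω = 1)] :
    ∑ w : W, (ω w : ℂ) = if ω = 1 then (Fintype.card W : ℂ) else 0 := by
  classical
  have := sum_hom_units (linCharHom ω)
  simp only [linCharHom_apply, linCharHom_eq_one_iff] at this
  rw [this]
  split_ifs <;> simp

theorem linChar_pow_card (ω : W →* ℂˣ) (w : W) : (ω w : ℂ) ^ Fintype.card W = 1 := by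
  have : (ω w) ^ Fintype.card W = 1 := by
    rw [← map_pow, pow_card_eq_one, map_one]
  have h := congrArg (fun u : ℂˣ => (u : ℂ)) this
  simpa using h

theorem linChar_norm (ω : W →* ℂˣ) (w : W) : ‖(ω w : ℂ)‖ = 1 :=
  Complex.norm_eq_one_of_pow_eq_one (linChar_pow_card ω w) Fintype.card_ne_zero

theorem linChar_conj (ω : W →* ℂˣ) (w : W) : conj (ω w : ℂ) = ((ω⁻¹ w : ℂˣ) : ℂ) := by
  rw [← Complex.inv_eq_conj (linChar_norm ω w)]
  simp

theorem sum_linChar_mul_conj (ω ω' : W →* ℂˣ) [Decidable (ω = ω')] :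
    ∑ w : W, (ω w : ℂ) * conj (ω' w : ℂ) = if ω = ω' then (Fintype.card W : ℂ) else 0 := by
  classical
  have h1 : ∀ w : W, (ω w : ℂ) * conj (ω' w : ℂ) = (((ω * ω'⁻¹) w : ℂˣ) : ℂ) := by
    intro w
    rw [linChar_conj]
    simp
  simp_rw [h1]
  rw [sum_linChar]
  have : ω * ω'⁻¹ = 1 ↔ ω = ω' := hom_mul_inv_eq_one_iff ω ω'
  simp only [this]

open Classical in
/-- inner products of `(1 - φ)(1 - ψ)` with a linear character -/
theorem sum_alpha_mul_conj (φ ψ ω₀ : W →* ℂˣ) :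
    ∑ w : W, (1 - (φ w : ℂ) - (ψ w : ℂ) + (φ w : ℂ) * (ψ w : ℂ)) * conj (ω₀ w : ℂ)
      = (if (1 : W →* ℂˣ) = ω₀ then (Fintype.card W : ℂ) else 0)
        - (if φ = ω₀ then (Fintype.card W : ℂ) else 0)
        - (if ψ = ω₀ then (Fintype.card W : ℂ) else 0)
        + (if φ * ψ = ω₀ then (Fintype.card W : ℂ) else 0) := by
  rw [← sum_linChar_mul_conj (1 : W →* ℂˣ) ω₀, ← sum_linChar_mul_conj φ ω₀,
    ← sum_linChar_mul_conj ψ ω₀, ← sum_linChar_mul_conj (φ * ψ) ω₀,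
    ← Finset.sum_sub_distrib, ← Finset.sum_sub_distrib, ← Finset.sum_add_distrib]
  apply Finset.sum_congr rfl
  intro w _
  simp only [MonoidHom.one_apply, Units.val_one, MonoidHom.mul_apply, Units.val_mul]
  ring

end Basic

section Sup

variable {G : Type*} [Group G] (W₁ W₂ : Subgroup G)

/-- A character of `W₁ ⊔ W₂` trivial on `W₁` and on `W₂` is trivial. -/
theorem hom_eq_one_of_trivial {M : Type*} [Group M] (φ : ↥(W₁ ⊔ W₂) →* M)
    (h₁ : ∀ w : ↥(W₁ ⊔ W₂), (w : G) ∈ W₁ → φ w = 1)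
    (h₂ : ∀ w : ↥(W₁ ⊔ W₂), (w : G) ∈ W₂ → φ w = 1) : φ = 1 := by
  have hle : W₁ ⊔ W₂ ≤ φ.ker.map (W₁ ⊔ W₂).subtype := by
    apply sup_le
    · intro a ha
      exact ⟨⟨a, Subgroup.mem_sup_left ha⟩, (MonoidHom.mem_ker).2 (h₁ _ ha), rfl⟩
    · intro a ha
      exact ⟨⟨a, Subgroup.mem_sup_right ha⟩, (MonoidHom.mem_ker).2 (h₂ _ ha), rfl⟩
  ext w
  obtain ⟨w', hw', hww'⟩ := hle w.2
  have : w' = w := Subtype.ext hww'
  rw [← this]
  simpa using (MonoidHom.mem_ker).1 hw'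

/-- Two characters of `W₁ ⊔ W₂` agreeing on `W₁` and on `W₂` are equal. -/
theorem hom_eq_of_eqOn (φ φ' : ↥(W₁ ⊔ W₂) →* ℂˣ)
    (h₁ : ∀ w : ↥(W₁ ⊔ W₂), (w : G) ∈ W₁ → φ w = φ' w)
    (h₂ : ∀ w : ↥(W₁ ⊔ W₂), (w : G) ∈ W₂ → φ w = φ' w) : φ = φ' := by
  have : φ * φ'⁻¹ = 1 := by
    apply hom_eq_one_of_trivial
    · intro w hw
      simp [h₁ w hw]
    · intro w hw
      simp [h₂ w hw]
  exact (hom_mul_inv_eq_one_iff φ φ').1 this

/-- Uniqueness of the factorisation `φ * ψ` with `φ` trivial on `W₂` and `ψ` trivial on `W₁`. -/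
theorem mul_eq_mul_iff (φ φ' ψ ψ' : ↥(W₁ ⊔ W₂) →* ℂˣ)
    (hφ : ∀ w : ↥(W₁ ⊔ W₂), (w : G) ∈ W₂ → φ w = 1)
    (hφ' : ∀ w : ↥(W₁ ⊔ W₂), (w : G) ∈ W₂ → φ' w = 1)
    (hψ : ∀ w : ↥(W₁ ⊔ W₂), (w : G) ∈ W₁ → ψ w = 1)
    (hψ' : ∀ w : ↥(W₁ ⊔ W₂), (w : G) ∈ W₁ → ψ' w = 1) :
    φ * ψ = φ' * ψ' ↔ φ = φ' ∧ ψ = ψ' := by
  constructor
  · intro h
    have hw : ∀ w : ↥(W₁ ⊔ W₂), φ w * ψ w = φ' w * ψ' w := fun w => DFunLike.congr_fun h w
    constructor
    · apply hom_eq_of_eqOn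
      · intro w hw₁
        have := hw w
        rwa [hψ w hw₁, hψ' w hw₁, mul_one, mul_one] at this
      · intro w hw₂
        rw [hφ w hw₂, hφ' w hw₂]
    · apply hom_eq_of_eqOn
      · intro w hw₁
        rw [hψ w hw₁, hψ' w hw₁]
      · intro w hw₂
        have := hw w
        rwa [hφ w hw₂, hφ' w hw₂, one_mul, one_mul] at this
  · rintro ⟨rfl, rfl⟩
    rfl

end Sup

end Cfsg.Agent.Lib.Helper11
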