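import Mathlib
import Cfsg.Agent.Lib.Helper11.LinChar

/-!
Separation by linear characters in a finite commutative group, sums over the characters trivial on a
subgroup, and detection of functions orthogonal to all `(1 - φ)(1 - ψ)`.
-/

set_option autoImplicit false

namespace Cfsg.Agent.Lib.Helper11

open scoped ComplexConjugate

variable {A : Type*} [Group A] [Finite A]

/-- In a finite commutative group, an element outside a subgroup `H` is separated from `H` by a linear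
character trivial on `H`. -/
theorem exists_char_trivial_ne_one (hcomm : ∀ a b : A, a * b = b * a) (H : Subgroup A) {x : A}
    (hx : x ∉ H) : ∃ φ : A →* ℂˣ, (∀ y ∈ H, φ y = 1) ∧ φ x ≠ 1 := by
  let inst : CommGroup A := { (inferInstance : Group A) with mul_comm := hcomm }
  have hne : NeZero ((Monoid.exponent A : ℕ) : ℂ) :=
    ⟨by exact_mod_cast Monoid.exponent_ne_zero_of_finite⟩
  by_contra h
  push_neg at h
  apply hx
  exact (@CommGroup.forall_monoidHom_apply_eq_one_iff A ℂ inst _ _ inferInstance H x).1 h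

/-- Sum of the values at `u` of the characters trivial on `H`. -/
theorem sum_char_trivialOn (hcomm : ∀ a b : A, a * b = b * a) [Fintype (A →* ℂˣ)] (H : Subgroup A)
    [DecidablePred (fun φ : A →* ℂˣ => ∀ y ∈ H, φ y = 1)] (u : A) [Decidable (u ∈ H)] :
    ∑ φ ∈ Finset.univ.filter (fun φ : A →* ℂˣ => ∀ y ∈ H, φ y = 1), (φ u : ℂ)
      = if u ∈ H then ((Finset.univ.filter (fun φ : A →* ℂˣ => ∀ y ∈ H, φ y = 1)).card : ℂ) else 0 := by
  by_cases hu : u ∈ H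
  · rw [if_pos hu]
    have : ∀ φ ∈ Finset.univ.filter (fun φ : A →* ℂˣ => ∀ y ∈ H, φ y = 1), (φ u : ℂ) = 1 := by
      intro φ hφ
      rw [Finset.mem_filter] at hφ
      rw [hφ.2 u hu]; simp
    rw [Finset.sum_congr rfl this]
    simp
  · rw [if_neg hu]
    obtain ⟨φ₀, hφ₀, hφ₀u⟩ := exists_char_trivial_ne_one hcomm H hu
    set S := ∑ φ ∈ Finset.univ.filter (fun φ : A →* ℂˣ => ∀ y ∈ H, φ y = 1), (φ u : ℂ) with hS
    have h1 : S = (φ₀ u : ℂ) * S := by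
      rw [hS, Finset.mul_sum]
      apply Finset.sum_nbij' (fun φ => φ₀⁻¹ * φ) (fun φ => φ₀ * φ)
      · intro φ hφ
        rw [Finset.mem_filter] at hφ ⊢
        refine ⟨Finset.mem_univ _, fun y hy => ?_⟩
        simp [hφ.2 y hy, hφ₀ y hy]
      · intro φ hφ
        rw [Finset.mem_filter] at hφ ⊢
        refine ⟨Finset.mem_univ _, fun y hy => ?_⟩
        simp [hφ.2 y hy, hφ₀ y hy]
      · intro φ _
        ext y; simp
      · intro φ _
        ext y; simp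
      · intro φ _
        simp
    have h2 : (1 - (φ₀ u : ℂ)) * S = 0 := by
      linear_combination h1
    rcases mul_eq_zero.1 h2 with h | h
    · exfalso
      apply hφ₀u
      have : (φ₀ u : ℂ) = 1 := by linear_combination -h
      exact Units.ext (by simpa using this)
    · exact h

open Classical in
/-- A function on a finite commutative group `A` orthogonal to all `(1 - φ)(1 - ψ)`, where `φ` is trivial on
`A₂` and `ψ` trivial on `A₁` (`A₁ ⊓ A₂ = ⊥`), vanishes outside `A₁ ∪ A₂`. -/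
theorem eq_zero_of_orthogonal_alpha (hcomm : ∀ a b : A, a * b = b * a) [Fintype A]
    (A₁ A₂ : Subgroup A) (hdisj : A₁ ⊓ A₂ = ⊥) (F : A → ℂ)
    (hF : ∀ φ ψ : A →* ℂˣ, (∀ y ∈ A₂, φ y = 1) → (∀ y ∈ A₁, ψ y = 1) →
      ∑ a : A, F a * conj (1 - (φ a : ℂ) - (ψ a : ℂ) + (φ a : ℂ) * (ψ a : ℂ)) = 0)
    (v : A) (hv₁ : v ∉ A₁) (hv₂ : v ∉ A₂) : F v = 0 := by
  have : Fintype (A →* ℂˣ) := Fintype.ofFinite _
  set Φ := Finset.univ.filter (fun φ : A →* ℂˣ => ∀ y ∈ A₂, φ y = 1) with hΦ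
  set Ψ := Finset.univ.filter (fun ψ : A →* ℂˣ => ∀ y ∈ A₁, ψ y = 1) with hΨ
  have hΦne : (Φ.card : ℂ) ≠ 0 := by
    have : (1 : A →* ℂˣ) ∈ Φ := by
      rw [hΦ, Finset.mem_filter]; exact ⟨Finset.mem_univ _, fun _ _ => rfl⟩
    have : Φ.card ≠ 0 := Finset.card_ne_zero.2 ⟨1, this⟩
    exact_mod_cast this
  have hΨne : (Ψ.card : ℂ) ≠ 0 := by
    have : (1 : A →* ℂˣ) ∈ Ψ := by
      rw [hΨ, Finset.mem_filter]; exact ⟨Finset.mem_univ _, fun _ _ => rfl⟩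
    have : Ψ.card ≠ 0 := Finset.card_ne_zero.2 ⟨1, this⟩
    exact_mod_cast this
  -- the weighted double sum vanishes
  have h0 : ∑ φ ∈ Φ, ∑ ψ ∈ Ψ, ((φ v : ℂ) * (ψ v : ℂ)) *
      ∑ a : A, F a * conj (1 - (φ a : ℂ) - (ψ a : ℂ) + (φ a : ℂ) * (ψ a : ℂ)) = 0 := by
    apply Finset.sum_eq_zero
    intro φ hφ
    apply Finset.sum_eq_zero
    intro ψ hψ
    rw [hΦ, Finset.mem_filter] at hφ
    rw [hΨ, Finset.mem_filter] at hψ
    rw [hF φ ψ hφ.2 hψ.2, mul_zero]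
  -- rewrite each term
  have hterm : ∀ (φ ψ : A →* ℂˣ) (a : A), ((φ v : ℂ) * (ψ v : ℂ)) *
      (F a * conj (1 - (φ a : ℂ) - (ψ a : ℂ) + (φ a : ℂ) * (ψ a : ℂ)))
      = F a * (((φ v : ℂ) - (φ (v * a⁻¹) : ℂ)) * ((ψ v : ℂ) - (ψ (v * a⁻¹) : ℂ))) := by
    intro φ ψ a
    have : Fintype A := Fintype.ofFinite _
    simp only [map_sub, map_add, map_mul, map_one, linChar_conj, map_inv, MonoidHom.inv_apply,
      Units.val_mul, Units.val_inv_eq_inv_val]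
    have h1 : (φ a : ℂ) ≠ 0 := Units.ne_zero _
    have h2 : (ψ a : ℂ) ≠ 0 := Units.ne_zero _
    field_simp
    ring
  have hL : ∑ φ ∈ Φ, ∑ ψ ∈ Ψ, ((φ v : ℂ) * (ψ v : ℂ)) *
      ∑ a : A, F a * conj (1 - (φ a : ℂ) - (ψ a : ℂ) + (φ a : ℂ) * (ψ a : ℂ))
      = ∑ φ ∈ Φ, ∑ ψ ∈ Ψ, ∑ a : A,
          F a * (((φ v : ℂ) - (φ (v * a⁻¹) : ℂ)) * ((ψ v : ℂ) - (ψ (v * a⁻¹) : ℂ))) := by
    apply Finset.sum_congr rfl
    intro φ _
    apply Finset.sum_congr rfl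
    intro ψ _
    rw [Finset.mul_sum]
    apply Finset.sum_congr rfl
    intro a _
    exact hterm φ ψ a
  have hR : ∑ a : A, F a * ((∑ φ ∈ Φ, ((φ v : ℂ) - (φ (v * a⁻¹) : ℂ))) *
          (∑ ψ ∈ Ψ, ((ψ v : ℂ) - (ψ (v * a⁻¹) : ℂ))))
      = ∑ φ ∈ Φ, ∑ ψ ∈ Ψ, ∑ a : A,
          F a * (((φ v : ℂ) - (φ (v * a⁻¹) : ℂ)) * ((ψ v : ℂ) - (ψ (v * a⁻¹) : ℂ))) := by
    have : ∀ a : A, F a * ((∑ φ ∈ Φ, ((φ v : ℂ) - (φ (v * a⁻¹) : ℂ))) *
          (∑ ψ ∈ Ψ, ((ψ v : ℂ) - (ψ (v * a⁻¹) : ℂ))))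
        = ∑ φ ∈ Φ, ∑ ψ ∈ Ψ,
          F a * (((φ v : ℂ) - (φ (v * a⁻¹) : ℂ)) * ((ψ v : ℂ) - (ψ (v * a⁻¹) : ℂ))) := by
      intro a
      rw [Finset.sum_mul_sum, Finset.mul_sum]
      apply Finset.sum_congr rfl
      intro φ _
      rw [Finset.mul_sum]
    simp_rw [this]
    rw [Finset.sum_comm]
    apply Finset.sum_congr rfl
    intro φ _
    rw [Finset.sum_comm]
  have hsumΦ : ∀ a : A, ∑ φ ∈ Φ, ((φ v : ℂ) - (φ (v * a⁻¹) : ℂ))
      = - (if v * a⁻¹ ∈ A₂ then (Φ.card : ℂ) else 0) := by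
    intro a
    rw [Finset.sum_sub_distrib, hΦ, sum_char_trivialOn hcomm A₂ v, sum_char_trivialOn hcomm A₂ (v * a⁻¹),
      if_neg hv₂, zero_sub]
  have hsumΨ : ∀ a : A, ∑ ψ ∈ Ψ, ((ψ v : ℂ) - (ψ (v * a⁻¹) : ℂ))
      = - (if v * a⁻¹ ∈ A₁ then (Ψ.card : ℂ) else 0) := by
    intro a
    rw [Finset.sum_sub_distrib, hΨ, sum_char_trivialOn hcomm A₁ v, sum_char_trivialOn hcomm A₁ (v * a⁻¹),
      if_neg hv₁, zero_sub]
  have hprod : ∀ a : A, (∑ φ ∈ Φ, ((φ v : ℂ) - (φ (v * a⁻¹) : ℂ))) *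
          (∑ ψ ∈ Ψ, ((ψ v : ℂ) - (ψ (v * a⁻¹) : ℂ)))
      = if a = v then (Φ.card : ℂ) * (Ψ.card : ℂ) else 0 := by
    intro a
    rw [hsumΦ, hsumΨ]
    by_cases hav : a = v
    · subst hav
      simp
    · rw [if_neg hav]
      by_cases h2 : v * a⁻¹ ∈ A₂
      · by_cases h1 : v * a⁻¹ ∈ A₁
        · exfalso
          have : v * a⁻¹ ∈ A₁ ⊓ A₂ := ⟨h1, h2⟩
          rw [hdisj, Subgroup.mem_bot] at this
          exact hav (mul_inv_eq_one.1 this).symm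
        · rw [if_neg h1]; simp
      · rw [if_neg h2]; simp
  rw [hL, ← hR] at h0
  simp_rw [hprod] at h0
  rw [Finset.sum_congr rfl (fun a _ => mul_ite (a = v) (F a) _ _)] at h0
  simp only [mul_zero, Finset.sum_ite_eq', Finset.mem_univ, if_true] at h0
  rcases mul_eq_zero.1 h0 with h | h
  · exact h
  · exfalso
    rcases mul_eq_zero.1 h with h | h
    · exact hΦne h
    · exact hΨne h

end Cfsg.Agent.Lib.Helper11
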