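import Cfsg.Agent.Lib.Helper11.Clifford

/-!
Clifford correspondence: for `H` normal in `G`, `θ` irreducible on `H` with inertia group `T`,
induction from `T` to `G` is injective on the irreducible constituents of `θ^T`, and maps them to
irreducible characters of `G`.
-/

set_option autoImplicit false

namespace Cfsg.Agent.Lib.Helper11

open Cfsg.Agent.Lib.Helper2
open scoped ComplexConjugate

section Linear

variable {G : Type*} [Group G] (H : Subgroup G)

theorem extendByZero_add (θ φ : H → ℂ) :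
    Cfsg.extendByZero H (θ + φ) = Cfsg.extendByZero H θ + Cfsg.extendByZero H φ := by
  funext g
  by_cases hg : g ∈ H
  · rw [Pi.add_apply, extendByZero_of_mem _ _ hg, extendByZero_of_mem _ _ hg,
      extendByZero_of_mem _ _ hg, Pi.add_apply]
  · rw [Pi.add_apply, extendByZero_of_not_mem _ _ hg, extendByZero_of_not_mem _ _ hg,
      extendByZero_of_not_mem _ _ hg, add_zero]

theorem extendByZero_smul (c : ℂ) (θ : H → ℂ) :
    Cfsg.extendByZero H (c • θ) = c • Cfsg.extendByZero H θ := by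
  funext g
  by_cases hg : g ∈ H
  · rw [Pi.smul_apply, extendByZero_of_mem _ _ hg, extendByZero_of_mem _ _ hg, Pi.smul_apply]
  · rw [Pi.smul_apply, extendByZero_of_not_mem _ _ hg, extendByZero_of_not_mem _ _ hg, smul_zero]

variable [Fintype G]

theorem indFun_add (θ φ : H → ℂ) :
    Cfsg.indFun H (θ + φ) = Cfsg.indFun H θ + Cfsg.indFun H φ := by
  funext g
  rw [Pi.add_apply, indFun_apply, indFun_apply, indFun_apply, extendByZero_add, ← mul_add,
    ← Finset.sum_add_distrib]
  rfl

theorem indFun_smul (c : ℂ) (θ : H → ℂ) :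
    Cfsg.indFun H (c • θ) = c • Cfsg.indFun H θ := by
  funext g
  rw [Pi.smul_apply, indFun_apply, indFun_apply, extendByZero_smul, smul_eq_mul]
  simp only [Pi.smul_apply, smul_eq_mul]
  rw [← Finset.mul_sum]
  ring

theorem indFun_zero : Cfsg.indFun H (0 : H → ℂ) = 0 := by
  have := indFun_smul H 0 (0 : H → ℂ)
  rw [zero_smul, zero_smul] at this
  exact this

theorem indFun_sum {ι : Type*} (s : Finset ι) (f : ι → H → ℂ) :
    Cfsg.indFun H (∑ i ∈ s, f i) = ∑ i ∈ s, Cfsg.indFun H (f i) := by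
  classical
  induction s using Finset.induction_on with
  | empty => simp [indFun_zero]
  | insert a s ha ih => rw [Finset.sum_insert ha, Finset.sum_insert ha, indFun_add, ih]

end Linear

section Transport

/-- Irreducible characters transport along group isomorphisms. -/
theorem isIrrCharacter_comp_equiv {K K' : Type*} [Group K] [Group K'] [Finite K]
    (e : K' ≃* K) {θ : K → ℂ} (hθ : Cfsg.IsIrrCharacter K θ) :
    Cfsg.IsIrrCharacter K' (θ ∘ e) := by
  classical
  have : Fintype K := Fintype.ofFinite K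
  have : Finite K' := Finite.of_equiv K e.symm.toEquiv
  have : Fintype K' := Fintype.ofFinite K'
  apply isIrrCharacter_of_classInner_self_eq_one
  · exact IsCharacter.comp (IsIrrCharacter.isCharacter hθ) e.toMonoidHom
  · have h1 : Cfsg.classInner θ θ = 1 := by
      have := classInner_irrCharacter_self (⟨θ, hθ⟩ : Cfsg.IrrCharacter K)
      exact this
    rw [← h1, classInner_def, classInner_def, Nat.card_congr e.toEquiv]
    congr 1
    exact Equiv.sum_comp e.toEquiv (fun k => θ k * conj (θ k))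

end Transport

section Counting

/-- Abstract counting lemma behind the Clifford correspondence. -/
theorem nat_gram_rigidity {ι : Type*} [Fintype ι] [DecidableEq ι] (f : ι → ℕ) (c : ι → ι → ℕ)
    (hc : ∀ i, f i ≠ 0 → 1 ≤ c i i)
    (hsum : ∑ i, ∑ j, f i * f j * c i j = ∑ i, f i ^ 2) :
    (∀ i, f i ≠ 0 → c i i = 1) ∧ (∀ i j, i ≠ j → f i ≠ 0 → f j ≠ 0 → c i j = 0) := by
  have hle : ∀ p ∈ (Finset.univ : Finset (ι × ι)),
      (if p.1 = p.2 then f p.1 ^ 2 else 0) ≤ f p.1 * f p.2 * c p.1 p.2 := by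
    rintro ⟨i, j⟩ -
    by_cases hij : i = j
    · subst hij
      simp only [if_true]
      by_cases hf : f i = 0
      · simp [hf]
      · have := hc i hf
        calc f i ^ 2 = f i * f i * 1 := by ring
          _ ≤ f i * f i * c i i := Nat.mul_le_mul_left _ this
    · simp [hij]
  have hsum' : ∑ p ∈ (Finset.univ : Finset (ι × ι)), (if p.1 = p.2 then f p.1 ^ 2 else 0)
      = ∑ p ∈ (Finset.univ : Finset (ι × ι)), f p.1 * f p.2 * c p.1 p.2 := by
    rw [← Finset.univ_product_univ, Finset.sum_product, Finset.sum_product, hsum]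
    apply Finset.sum_congr rfl
    intro i _
    simp
  have hpt := (Finset.sum_eq_sum_iff_of_le hle).1 hsum'
  refine ⟨?_, ?_⟩
  · intro i hf
    have := hpt (i, i) (Finset.mem_univ _)
    simp only [if_true] at this
    have hpos : 0 < f i * f i := Nat.mul_pos (Nat.pos_of_ne_zero hf) (Nat.pos_of_ne_zero hf)
    have h2 : f i * f i * 1 = f i * f i * c i i := by rw [← this]; ring
    exact (Nat.eq_of_mul_eq_mul_left hpos h2).symm
  · intro i j hij hfi hfj
    have := hpt (i, j) (Finset.mem_univ _)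
    simp only [if_neg hij] at this
    have h := this.symm
    rcases Nat.mul_eq_zero.1 h with h | h
    · rcases Nat.mul_eq_zero.1 h with h | h
      · exact absurd h hfi
      · exact absurd h hfj
    · exact h

end Counting

section Correspondence

variable {G : Type*} [Group G] [Fintype G] (H T : Subgroup G) [hN : H.Normal] [Fintype T]

/-- Clifford correspondence. -/
theorem clifford_correspondence (θ : H → ℂ) (hθ : Cfsg.IsIrrCharacter H θ)
    (hT : ∀ g : G, g ∈ T ↔ conjFn H g θ = θ) (hHT : H ≤ T)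
    (ψ ψ' : T → ℂ) (hψ : Cfsg.IsIrrCharacter T ψ) (hψ' : Cfsg.IsIrrCharacter T ψ')
    (hc : Cfsg.classInner (Cfsg.indFun (H.subgroupOf T)
      (fun x => θ ⟨(x : T), Subgroup.mem_subgroupOf.mp x.2⟩)) ψ ≠ 0)
    (hc' : Cfsg.classInner (Cfsg.indFun (H.subgroupOf T)
      (fun x => θ ⟨(x : T), Subgroup.mem_subgroupOf.mp x.2⟩)) ψ' ≠ 0) :
    Cfsg.IsIrrCharacter G (Cfsg.indFun T ψ) ∧
      (Cfsg.indFun T ψ = Cfsg.indFun T ψ' → ψ = ψ') := by
  classical
  have : Fintype H := Fintype.ofFinite H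
  have : Fintype (H.subgroupOf T) := Fintype.ofFinite _
  have : Fintype (Cfsg.IrrCharacter T) := Fintype.ofFinite _
  set θ' : H.subgroupOf T → ℂ := fun x => θ ⟨(x : T), Subgroup.mem_subgroupOf.mp x.2⟩ with hθ'def
  set Θ := Cfsg.indFun (H.subgroupOf T) θ' with hΘ
  have hθ'irr : Cfsg.IsIrrCharacter (H.subgroupOf T) θ' := by
    have := isIrrCharacter_comp_equiv (Subgroup.subgroupOfEquivOfLe hHT) hθ
    convert this using 1
    funext x
    rfl
  have hΘchar : Cfsg.IsCharacter T Θ :=
    indFun_isCharacter _ θ' (IsIrrCharacter.isCharacter hθ'irr)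
  have hf : ∀ μ : Cfsg.IrrCharacter T, ∃ n : ℕ, Cfsg.classInner Θ (μ : T → ℂ) = n :=
    fun μ => classInner_isCharacter_nat hΘchar (IsIrrCharacter.isCharacter μ.2)
  choose f hf using hf
  have hexp : Θ = ∑ μ : Cfsg.IrrCharacter T, (f μ : ℂ) • (μ : T → ℂ) := by
    conv_lhs => rw [classFunction_expansion Θ (IsCharacter.isClassFunction hΘchar)]
    simp only [hf]
  have hcc : ∀ μ ν : Cfsg.IrrCharacter T, ∃ n : ℕ,
      Cfsg.classInner (Cfsg.indFun T (μ : T → ℂ)) (Cfsg.indFun T (ν : T → ℂ)) = n :=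
    fun μ ν => classInner_isCharacter_nat
      (indFun_isCharacter T _ (IsIrrCharacter.isCharacter μ.2))
      (indFun_isCharacter T _ (IsIrrCharacter.isCharacter ν.2))
  choose c hcdef using hcc
  -- the two norms
  have hnormΘ : Cfsg.classInner Θ Θ = (Nat.card T : ℂ) / (Nat.card H : ℂ) := by
    rw [hΘ, classInner_indFun_self_of_irr (H.subgroupOf T) hθ'irr]
    have hall : ∀ t : T, conjFn (H.subgroupOf T) t θ' = θ' := by
      intro t
      funext x
      rw [conjFn_apply]
      have := congrFun ((hT t).1 t.2) ⟨(x : T), Subgroup.mem_subgroupOf.mp x.2⟩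
      rw [conjFn_apply] at this
      exact this
    rw [Nat.card_congr (Equiv.subtypeUnivEquiv hall),
      Nat.card_congr (Subgroup.subgroupOfEquivOfLe hHT).toEquiv]
  have hnormG : Cfsg.classInner (Cfsg.indFun H θ) (Cfsg.indFun H θ)
      = (Nat.card T : ℂ) / (Nat.card H : ℂ) := by
    rw [classInner_indFun_self_of_irr H hθ]
    rw [Nat.card_congr (Equiv.subtypeEquivRight (fun g => (hT g).symm))]
  have htrans : Cfsg.indFun T Θ = Cfsg.indFun H θ := indFun_trans H T hHT θ
  have h1 : Cfsg.classInner Θ Θ = ((∑ μ : Cfsg.IrrCharacter T, f μ ^ 2 : ℕ) : ℂ) := by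
    have e : Cfsg.classInner Θ Θ
        = Cfsg.classInner (∑ μ : Cfsg.IrrCharacter T, (f μ : ℂ) • (μ : T → ℂ)) Θ :=
      congrArg (fun F => Cfsg.classInner F Θ) hexp
    rw [e, classInner_sum_left]
    push_cast
    apply Finset.sum_congr rfl
    intro μ _
    rw [classInner_smul_left, ← classInner_conj_symm, hf μ]
    simp only [map_natCast]
    ring
  have h2 : Cfsg.classInner (Cfsg.indFun H θ) (Cfsg.indFun H θ)
      = ((∑ μ : Cfsg.IrrCharacter T, ∑ ν : Cfsg.IrrCharacter T, f μ * f ν * c μ ν : ℕ) : ℂ) := by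
    rw [← htrans, hexp, indFun_sum, classInner_sum_left]
    push_cast
    apply Finset.sum_congr rfl
    intro μ _
    rw [classInner_sum_right]
    apply Finset.sum_congr rfl
    intro ν _
    rw [indFun_smul, indFun_smul, classInner_smul_left, classInner_smul_right, hcdef]
    simp only [map_natCast]
    ring
  have hsum : ∑ μ : Cfsg.IrrCharacter T, ∑ ν : Cfsg.IrrCharacter T, f μ * f ν * c μ ν
      = ∑ μ : Cfsg.IrrCharacter T, f μ ^ 2 := by
    have : ((∑ μ : Cfsg.IrrCharacter T, ∑ ν : Cfsg.IrrCharacter T, f μ * f ν * c μ ν : ℕ) : ℂ)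
        = ((∑ μ : Cfsg.IrrCharacter T, f μ ^ 2 : ℕ) : ℂ) := by
      rw [← h1, ← h2, hnormΘ, hnormG]
    exact_mod_cast this
  have hcpos : ∀ μ, f μ ≠ 0 → 1 ≤ c μ μ := by
    intro μ _
    by_contra h
    have h0 : c μ μ = 0 := by omega
    have h3 := hcdef μ μ
    rw [h0, Nat.cast_zero] at h3
    have hz := eq_zero_of_classInner_self_eq_zero _ h3
    have h4 := indFun_apply_one T (μ : T → ℂ)
    rw [hz, Pi.zero_apply] at h4
    have h5 : (T.index : ℂ) ≠ 0 := by
      exact_mod_cast Subgroup.index_ne_zero_of_finite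
    exact (mul_ne_zero h5 (IsIrrCharacter.apply_one_ne_zero μ.2)) h4.symm
  obtain ⟨hirr, horth⟩ := nat_gram_rigidity f c hcpos hsum
  have hfψ : f ⟨ψ, hψ⟩ ≠ 0 := by
    intro h0
    apply hc
    have := hf ⟨ψ, hψ⟩
    rw [h0, Nat.cast_zero] at this
    exact this
  have hfψ' : f ⟨ψ', hψ'⟩ ≠ 0 := by
    intro h0
    apply hc'
    have := hf ⟨ψ', hψ'⟩
    rw [h0, Nat.cast_zero] at this
    exact this
  have hnorm1 : Cfsg.classInner (Cfsg.indFun T ψ) (Cfsg.indFun T ψ) = 1 := by
    have := hcdef ⟨ψ, hψ⟩ ⟨ψ, hψ⟩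
    rw [hirr _ hfψ, Nat.cast_one] at this
    exact this
  refine ⟨isIrrCharacter_of_classInner_self_eq_one
    (indFun_isCharacter T ψ (IsIrrCharacter.isCharacter hψ)) hnorm1, ?_⟩
  intro heq
  by_contra hne
  have hne' : (⟨ψ, hψ⟩ : Cfsg.IrrCharacter T) ≠ ⟨ψ', hψ'⟩ := fun h => hne (congrArg Subtype.val h)
  have := hcdef ⟨ψ, hψ⟩ ⟨ψ', hψ'⟩
  rw [horth _ _ hne' hfψ hfψ', Nat.cast_zero] at this
  simp only at this
  rw [← heq, hnorm1] at this
  exact one_ne_zero this

end Correspondence

end Cfsg.Agent.Lib.Helper11
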