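import Mathlib
import Cfsg.Prelude.Def_Characters
import Cfsg.Agent.Lib.Helper2.Orthogonality

/-!
Frobenius reciprocity for `Cfsg.indFun` (functions, class function on the big group).
-/

set_option autoImplicit false

namespace Cfsg.Agent.Lib.Helper11

open Cfsg.Agent.Lib.Helper2
open scoped ComplexConjugate

variable {G : Type*} [Group G] [Fintype G]

theorem extendByZero_apply_mem (H : Subgroup G) (α : H → ℂ) (h : H) :
    Cfsg.extendByZero H α (h : G) = α h :=
  Subtype.val_injective.extend_apply α 0 h

theorem extendByZero_apply_of_mem (H : Subgroup G) (α : H → ℂ) {g : G} (hg : g ∈ H) :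
    Cfsg.extendByZero H α g = α ⟨g, hg⟩ :=
  extendByZero_apply_mem H α ⟨g, hg⟩

theorem extendByZero_apply_not_mem (H : Subgroup G) (α : H → ℂ) {g : G} (hg : g ∉ H) :
    Cfsg.extendByZero H α g = 0 := by
  unfold Cfsg.extendByZero
  rw [Function.extend_apply']
  · rfl
  · rintro ⟨a, rfl⟩; exact hg a.2

/-- Sum over `G` of an extension by zero times a function equals the sum over `H`. -/
theorem sum_extendByZero_mul (H : Subgroup G) [Fintype H] (α : H → ℂ) (c : G → ℂ) :
    ∑ y : G, Cfsg.extendByZero H α y * c y = ∑ h : H, α h * c (h : G) := by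
  classical
  rw [← Finset.sum_filter_add_sum_filter_not Finset.univ (fun y : G => y ∈ H)]
  have h2 : ∑ y ∈ Finset.univ.filter (fun y : G => ¬ y ∈ H), Cfsg.extendByZero H α y * c y = 0 := by
    apply Finset.sum_eq_zero
    intro y hy
    rw [Finset.mem_filter] at hy
    rw [extendByZero_apply_not_mem H α hy.2, zero_mul]
  rw [h2, add_zero]
  rw [Finset.sum_subtype (Finset.univ.filter (fun y : G => y ∈ H)) (p := fun y => y ∈ H)
    (by intro x; simp)]
  apply Finset.sum_congr rfl
  intro h _
  rw [extendByZero_apply_mem]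

/-- Frobenius reciprocity, induced function on the left. -/
theorem classInner_indFun_left (H : Subgroup G) [Fintype H] (α : H → ℂ) (θ : G → ℂ)
    (hθ : Cfsg.IsClassFunction G θ) :
    Cfsg.classInner (Cfsg.indFun H α) θ = Cfsg.classInner α (fun h : H => θ (h : G)) := by
  classical
  rw [classInner_def, classInner_def]
  unfold Cfsg.indFun
  have hGne : (Nat.card G : ℂ) ≠ 0 := card_ne_zero_complex
  have hHne : (Nat.card H : ℂ) ≠ 0 := card_ne_zero_complex
  have h1 : ∑ g : G, ((Nat.card H : ℂ)⁻¹ * ∑ x : G, Cfsg.extendByZero H α (x⁻¹ * g * x)) * conj (θ g)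
      = (Nat.card H : ℂ)⁻¹ * ∑ x : G, ∑ g : G,
          Cfsg.extendByZero H α (x⁻¹ * g * x) * conj (θ (x⁻¹ * g * x)) := by
    rw [Finset.sum_comm, Finset.mul_sum]
    apply Finset.sum_congr rfl
    intro g _
    rw [mul_assoc, Finset.sum_mul]
    congr 1
    apply Finset.sum_congr rfl
    intro x _
    have : θ (x⁻¹ * g * x) = θ g := by
      have := hθ g x⁻¹
      simpa using this
    rw [this]
  rw [h1]
  have h2 : ∀ x : G, ∑ g : G, Cfsg.extendByZero H α (x⁻¹ * g * x) * conj (θ (x⁻¹ * g * x))
      = ∑ y : G, Cfsg.extendByZero H α y * conj (θ y) := by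
    intro x
    have := Equiv.sum_comp (MulAut.conj x⁻¹).toEquiv
      (fun y : G => Cfsg.extendByZero H α y * conj (θ y))
    simp only [MulEquiv.toEquiv_eq_coe, MulEquiv.coe_toEquiv, MulAut.conj_apply, inv_inv] at this
    exact this
  simp_rw [h2]
  rw [Finset.sum_const, Finset.card_univ, nsmul_eq_mul, sum_extendByZero_mul H α (fun y => conj (θ y)),
    ← Nat.card_eq_fintype_card]
  field_simp

/-- Frobenius reciprocity, induced function on the right. -/
theorem classInner_indFun_right (H : Subgroup G) [Fintype H] (α : H → ℂ) (θ : G → ℂ)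
    (hθ : Cfsg.IsClassFunction G θ) :
    Cfsg.classInner θ (Cfsg.indFun H α) = Cfsg.classInner (fun h : H => θ (h : G)) α := by
  rw [← classInner_conj_symm, classInner_indFun_left H α θ hθ, classInner_conj_symm]

end Cfsg.Agent.Lib.Helper11
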