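import Mathlib
import Cfsg.Prelude.Def_Characters
import Cfsg.Agent.Lib.Helper2.RationalChars
import Cfsg.Agent.Lib.Helper2.Linear

/-!
Galois conjugation of characters: for `k` coprime to `|G|` the function `g ↦ χ (g ^ k)` is an
(irreducible) character whenever `χ` is.  The proof extends the cyclotomic automorphism
`ζ ↦ ζ ^ k` to a ring automorphism of `ℂ` and applies it to the matrix entries of a representation.
-/

set_option autoImplicit false

namespace Cfsg.Agent.Lib.Helper11

open Cfsg
open Cfsg.Agent.Lib.Helper2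
open scoped ComplexConjugate

section Extend

/-- Every ring automorphism of a subfield `K` of an algebraically closed field `L` extends to a
ring automorphism of `L`. -/
theorem exists_ringEquiv_extend {K L : Type*} [Field K] [Field L] [IsAlgClosed L] [Algebra K L]
    (τ : K ≃+* K) :
    ∃ σ : L ≃+* L, ∀ x : K, σ (algebraMap K L x) = algebraMap K L (τ x) := by
  obtain ⟨s, hs⟩ := exists_isTranscendenceBasis K L
  have := IsAlgClosed.isAlgClosure_of_transcendence_basis (Subtype.val : s → L) hs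
  let A := Algebra.adjoin K (Set.range (Subtype.val : s → L))
  let e : A ≃+* A := hs.1.aevalEquiv.symm.toRingEquiv.trans
    ((MvPolynomial.mapEquiv s τ).trans hs.1.aevalEquiv.toRingEquiv)
  refine ⟨IsAlgClosure.equivOfEquiv L L e, fun x => ?_⟩
  have h1 : algebraMap K L x = algebraMap A L (algebraMap K A x) :=
    IsScalarTower.algebraMap_apply K A L x
  rw [h1, IsAlgClosure.equivOfEquiv_algebraMap]
  have : e (algebraMap K A x) = algebraMap K A (τ x) := by
    simp only [e, RingEquiv.trans_apply]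
    have h2 : (hs.1.aevalEquiv.symm.toRingEquiv) (algebraMap K A x)
        = MvPolynomial.C x := by
      have := hs.1.aevalEquiv.symm.commutes x
      exact this
    have h3 : (hs.1.aevalEquiv.toRingEquiv) (MvPolynomial.C (τ x))
        = algebraMap K A (τ x) := by
      have := hs.1.aevalEquiv.commutes (τ x)
      exact this
    rw [h2]
    simp only [MvPolynomial.mapEquiv_apply, MvPolynomial.map_C]
    exact h3
  rw [this, ← IsScalarTower.algebraMap_apply]

/-- For `k` coprime to `N` there is a ring automorphism of `ℂ` raising every `N`-th root of unity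
to its `k`-th power. -/
theorem exists_ringEquiv_complex_pow (N : ℕ) [NeZero N] (k : ℕ) (hk : k.Coprime N) :
    ∃ σ : ℂ ≃+* ℂ, ∀ ζ : ℂ, ζ ^ N = 1 → σ ζ = ζ ^ k := by
  have : IsCyclotomicExtension {N} ℚ (CyclotomicField N ℚ) :=
    CyclotomicField.isCyclotomicExtension N ℚ
  have hirr : Irreducible (Polynomial.cyclotomic N ℚ) :=
    Polynomial.cyclotomic.irreducible_rat (NeZero.pos N)
  have hζK : IsPrimitiveRoot (IsCyclotomicExtension.zeta N ℚ (CyclotomicField N ℚ)) N :=
    IsCyclotomicExtension.zeta_spec N ℚ (CyclotomicField N ℚ)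
  have hμ : IsPrimitiveRoot ((IsCyclotomicExtension.zeta N ℚ (CyclotomicField N ℚ)) ^ k) N :=
    hζK.pow_of_coprime k hk
  have hτ := IsCyclotomicExtension.fromZetaAut_spec hμ hirr
  have : Algebra.IsAlgebraic ℚ (CyclotomicField N ℚ) :=
    (IsCyclotomicExtension.integral {N} ℚ (CyclotomicField N ℚ)).isAlgebraic
  let φ : (CyclotomicField N ℚ) →ₐ[ℚ] ℂ := IsAlgClosed.lift
  let _ : Algebra (CyclotomicField N ℚ) ℂ := φ.toRingHom.toAlgebra
  obtain ⟨σ, hσ⟩ := exists_ringEquiv_extend (K := CyclotomicField N ℚ) (L := ℂ)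
    (IsCyclotomicExtension.fromZetaAut hμ hirr).toRingEquiv
  refine ⟨σ, fun ζ hζ => ?_⟩
  have hζ' : IsPrimitiveRoot (algebraMap (CyclotomicField N ℚ) ℂ
      (IsCyclotomicExtension.zeta N ℚ (CyclotomicField N ℚ))) N :=
    hζK.map_of_injective (algebraMap (CyclotomicField N ℚ) ℂ).injective
  obtain ⟨j, _, hj⟩ := hζ'.eq_pow_of_pow_eq_one hζ
  have h1 : σ (algebraMap (CyclotomicField N ℚ) ℂ
      (IsCyclotomicExtension.zeta N ℚ (CyclotomicField N ℚ)))
      = (algebraMap (CyclotomicField N ℚ) ℂ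
      (IsCyclotomicExtension.zeta N ℚ (CyclotomicField N ℚ))) ^ k := by
    rw [hσ]
    show algebraMap (CyclotomicField N ℚ) ℂ ((IsCyclotomicExtension.fromZetaAut hμ hirr)
      (IsCyclotomicExtension.zeta N ℚ (CyclotomicField N ℚ))) = _
    rw [hτ, map_pow]
  rw [← hj, map_pow, h1, ← pow_mul, ← pow_mul, mul_comm]

end Extend

section Twist

variable {G : Type*} [Group G]

/-- Twisting a matrix representation by a ring endomorphism of `ℂ`. -/
noncomputable def twistRep {n : ℕ} (σ : ℂ →+* ℂ) (ρ : Representation ℂ G (Fin n → ℂ)) :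
    Representation ℂ G (Fin n → ℂ) where
  toFun g := Matrix.toLin' ((LinearMap.toMatrix' (ρ g)).map σ)
  map_one' := by
    rw [map_one]
    have : LinearMap.toMatrix' (1 : (Fin n → ℂ) →ₗ[ℂ] (Fin n → ℂ)) = 1 := LinearMap.toMatrix'_one
    rw [this, Matrix.map_one σ (map_zero σ) (map_one σ), Matrix.toLin'_one]
    rfl
  map_mul' g h := by
    rw [map_mul, LinearMap.toMatrix'_mul, Matrix.map_mul, Matrix.toLin'_mul]
    rfl

theorem twistRep_character {n : ℕ} (σ : ℂ →+* ℂ) (ρ : Representation ℂ G (Fin n → ℂ)) (g : G) :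
    (twistRep σ ρ).character g = σ (ρ.character g) := by
  have h1 : ∀ f : (Fin n → ℂ) →ₗ[ℂ] (Fin n → ℂ),
      LinearMap.trace ℂ (Fin n → ℂ) f = Matrix.trace (LinearMap.toMatrix' f) := by
    intro f
    rw [LinearMap.trace_eq_matrix_trace ℂ (Pi.basisFun ℂ (Fin n)) f,
      LinearMap.toMatrix_eq_toMatrix']
  show LinearMap.trace ℂ (Fin n → ℂ) (Matrix.toLin' ((LinearMap.toMatrix' (ρ g)).map σ))
    = σ (LinearMap.trace ℂ (Fin n → ℂ) (ρ g))
  rw [h1, h1, LinearMap.toMatrix'_toLin', AddMonoidHom.map_trace σ]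

theorem isCharacter_ringHom_comp (σ : ℂ →+* ℂ) {χ : G → ℂ} (h : IsCharacter G χ) :
    IsCharacter G (fun g => σ (χ g)) := by
  obtain ⟨n, ρ, rfl⟩ := h
  exact ⟨n, twistRep σ ρ, funext fun g => twistRep_character σ ρ g⟩

end Twist

section Pow

variable {G : Type*} [Group G] [Finite G]

/-- For `k` coprime to `|G|`, `g ↦ χ (g ^ k)` is a character. -/
theorem isCharacter_pow_coprime (k : ℕ) (hk : k.Coprime (Nat.card G)) {χ : G → ℂ}
    (h : IsCharacter G χ) : IsCharacter G (fun g => χ (g ^ k)) := by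
  have hN : Nat.card G ≠ 0 := Nat.card_pos.ne'
  have : NeZero (Nat.card G) := ⟨hN⟩
  obtain ⟨σ, hσ⟩ := exists_ringEquiv_complex_pow (Nat.card G) k hk
  have hch := isCharacter_ringHom_comp (σ : ℂ →+* ℂ) h
  convert hch using 1
  funext g
  obtain ⟨n, ρ, rfl⟩ := h
  have hζ := Complex.isPrimitiveRoot_exp (Nat.card G) hN
  obtain ⟨e, he⟩ := exists_exponents ρ g _ hζ
  have h1 := he 1
  simp only [pow_one, one_mul] at h1
  rw [he k, h1]
  simp only [RingHom.coe_coe, map_sum, map_pow]
  apply Finset.sum_congr rfl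
  intro i _
  rw [hσ _ hζ.pow_eq_one, ← pow_mul]

end Pow

section Irr

variable {G : Type*} [Group G] [Fintype G]

theorem classInner_comp_pow_coprime (k : ℕ) (hk : k.Coprime (Nat.card G)) (φ ψ : G → ℂ) :
    classInner (fun g => φ (g ^ k)) (fun g => ψ (g ^ k)) = classInner φ ψ := by
  unfold classInner
  congr 1
  exact Fintype.sum_equiv (powCoprime hk.symm) _ _ (fun g => rfl)

/-- For `k` coprime to `|G|`, `g ↦ χ (g ^ k)` is an irreducible character if `χ` is. -/
theorem isIrrCharacter_pow_coprime (k : ℕ) (hk : k.Coprime (Nat.card G)) {χ : G → ℂ}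
    (h : IsIrrCharacter G χ) : IsIrrCharacter G (fun g => χ (g ^ k)) := by
  apply isIrrCharacter_of_classInner_self_eq_one
    (isCharacter_pow_coprime k hk (IsIrrCharacter.isCharacter h))
  rw [classInner_comp_pow_coprime k hk]
  have := classInner_irrCharacter_self (⟨χ, h⟩ : IrrCharacter G)
  exact this

end Irr

end Cfsg.Agent.Lib.Helper11
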