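import Mathlib
import Cfsg.Prelude.Def_Characters

/-!
S4706 (Ito, prime degree, `|N(P)| = 2p`): common definitions for the farm-out pieces.
-/

set_option autoImplicit false

namespace Cfsg.Agent.Lib.Helper11.S4706

/-- number of fixed points of `g` on `Ω` -/
noncomputable def fx (G : Type*) [Group G] (Ω : Type*) [MulAction G Ω] (g : G) : ℕ :=
  Nat.card (MulAction.fixedBy Ω g)

/-- the alternating square of the permutation character, as a function:
`g ↦ (fix(g)^2 - fix(g^2)) / 2` -/
noncomputable def altSq (G : Type*) [Group G] (Ω : Type*) [MulAction G Ω] : G → ℂ :=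
  fun g => (((fx G Ω g : ℕ) : ℂ) ^ 2 - ((fx G Ω (g ^ 2) : ℕ) : ℂ)) / 2

/-- the permutation character, as a function -/
noncomputable def pch (G : Type*) [Group G] (Ω : Type*) [MulAction G Ω] : G → ℂ :=
  fun g => ((fx G Ω g : ℕ) : ℂ)

end Cfsg.Agent.Lib.Helper11.S4706
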