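import Mathlib
import Cfsg.Prelude.Def_GeometricClasses
import Cfsg.Agent.Lib.Helper7.AschDefs

/-!
# S5630, block I4 (Clifford theory): shared definitions (helper11, sub-architect)

`V = Fin n → F`.  For a subgroup `X` of `GL (Fin n) F`:
* `commAlg X`  : the commutant of `X` in the matrix algebra;
* `cenAlg X`   : the centre of the commutant (`commAlg X ⊓ centralizer (commAlg X)`);
* `envEnd X`   : the subalgebra of `End_F(V)` generated by `X`; `V` is a module over it;
* `envSub X W hW` : an `X`-invariant `F`-subspace as an `envEnd X`-submodule;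
* `Homog X`    : `V` is isotypic over `envEnd X`;
* `kronL e P`  : `a ↦ P · reindex (a ⊗ 1) · P⁻¹ : GL_d →* GL_n`, `kronLM e P` the same on all matrices.
-/

set_option autoImplicit false

namespace Cfsg.Agent.Lib.Helper11.Cliff

open Matrix Cfsg Cfsg.Geo
open scoped MatrixGroups Kronecker

variable {n : ℕ} {F : Type*} [Field F]

/-- The commutant of `X` in the matrix algebra. -/
def commAlg (X : Subgroup (GL (Fin n) F)) : Subalgebra F (Matrix (Fin n) (Fin n) F) :=
  Subalgebra.centralizer F (matrixSet X)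

theorem mem_commAlg_iff (X : Subgroup (GL (Fin n) F)) (M : Matrix (Fin n) (Fin n) F) :
    M ∈ commAlg X ↔ ∀ x ∈ X, (x : Matrix (Fin n) (Fin n) F) * M = M * (x : Matrix (Fin n) (Fin n) F) := by
  unfold commAlg
  rw [Subalgebra.mem_centralizer_iff]
  constructor
  · intro h x hx
    exact h _ ⟨x, hx, rfl⟩
  · rintro h _ ⟨x, hx, rfl⟩
    exact h x hx

/-- The centre of the commutant of `X`. -/
def cenAlg (X : Subgroup (GL (Fin n) F)) : Subalgebra F (Matrix (Fin n) (Fin n) F) :=
  commAlg X ⊓ Subalgebra.centralizer F (commAlg X : Set (Matrix (Fin n) (Fin n) F))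

theorem mem_cenAlg_iff (X : Subgroup (GL (Fin n) F)) (M : Matrix (Fin n) (Fin n) F) :
    M ∈ cenAlg X ↔ M ∈ commAlg X ∧ ∀ C ∈ commAlg X, C * M = M * C := by
  unfold cenAlg
  rw [Algebra.mem_inf, Subalgebra.mem_centralizer_iff]
  rfl

/-- The subalgebra of `End_F(F^n)` generated by `X`. -/
def envEnd (X : Subgroup (GL (Fin n) F)) : Subalgebra F (Module.End F (Fin n → F)) :=
  Algebra.adjoin F ((fun g : GL (Fin n) F => Matrix.toLin' (g : Matrix (Fin n) (Fin n) F)) '' (X : Set (GL (Fin n) F)))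

theorem toLin_mem_envEnd {X : Subgroup (GL (Fin n) F)} {x : GL (Fin n) F} (hx : x ∈ X) :
    Matrix.toLin' (x : Matrix (Fin n) (Fin n) F) ∈ envEnd X :=
  Algebra.subset_adjoin ⟨x, hx, rfl⟩

/-- An `X`-invariant `F`-subspace, as a submodule over `envEnd X`. -/
def envSub (X : Subgroup (GL (Fin n) F)) (W : Submodule F (Fin n → F))
    (hW : ∀ x ∈ X, ∀ v ∈ W, (x : Matrix (Fin n) (Fin n) F) *ᵥ v ∈ W) : Submodule (envEnd X) (Fin n → F) where
  carrier := W
  add_mem' := W.add_mem
  zero_mem' := W.zero_mem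
  smul_mem' := by
    rintro ⟨a, ha⟩ v hv
    change a v ∈ W
    have key : ∀ v, v ∈ W → a v ∈ W := by
      refine Algebra.adjoin_induction (p := fun a _ => ∀ v, v ∈ W → a v ∈ W) ?_ ?_ ?_ ?_ ha
      · rintro _ ⟨x, hx, rfl⟩ v hv
        simpa [Matrix.toLin'_apply] using hW x hx v hv
      · intro c v hv
        simpa [Algebra.algebraMap_eq_smul_one] using W.smul_mem c hv
      · intro a b _ _ iha ihb v hv
        simpa using W.add_mem (iha v hv) (ihb v hv)
      · intro a b _ _ iha ihb v hv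
        simpa using iha (b v) (ihb v hv)
    exact key v hv

@[simp] theorem mem_envSub (X : Subgroup (GL (Fin n) F)) (W : Submodule F (Fin n → F))
    (hW : ∀ x ∈ X, ∀ v ∈ W, (x : Matrix (Fin n) (Fin n) F) *ᵥ v ∈ W) (v : Fin n → F) :
    v ∈ envSub X W hW ↔ v ∈ W := Iff.rfl

/-- `F^n` is isotypic (homogeneous) as a module over the algebra generated by `X`. -/
def Homog (X : Subgroup (GL (Fin n) F)) : Prop := IsIsotypic (envEnd X) (Fin n → F)

/-- `a ↦ a ⊗ 1` as a monoid hom of matrix monoids. -/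
def kronLMat (d s : ℕ) (F : Type*) [Field F] :
    Matrix (Fin d) (Fin d) F →* Matrix (Fin d × Fin s) (Fin d × Fin s) F where
  toFun a := a ⊗ₖ (1 : Matrix (Fin s) (Fin s) F)
  map_one' := Matrix.one_kronecker_one
  map_mul' a b := by rw [← Matrix.mul_kronecker_mul, mul_one]

/-- `a ↦ P · reindex (a ⊗ 1) · P⁻¹ : GL_d → GL_n`. -/
def kronL {d s : ℕ} (e : Fin n ≃ Fin d × Fin s) (P : GL (Fin n) F) : GL (Fin d) F →* GL (Fin n) F :=
  ((MulAut.conj P).toMonoidHom.comp (glReindex (F := F) e.symm).toMonoidHom).comp (Units.map (kronLMat d s F))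

/-- `c ↦ P · reindex (c ⊗ 1) · P⁻¹` on all matrices. -/
def kronLM {d s : ℕ} (e : Fin n ≃ Fin d × Fin s) (P : GL (Fin n) F) (c : Matrix (Fin d) (Fin d) F) :
    Matrix (Fin n) (Fin n) F :=
  (P : Matrix (Fin n) (Fin n) F) *
    Matrix.reindex e.symm e.symm (c ⊗ₖ (1 : Matrix (Fin s) (Fin s) F)) *
    ((P⁻¹ : GL (Fin n) F) : Matrix (Fin n) (Fin n) F)

theorem kronL_val {d s : ℕ} (e : Fin n ≃ Fin d × Fin s) (P : GL (Fin n) F) (a : GL (Fin d) F) :
    ((kronL e P a : GL (Fin n) F) : Matrix (Fin n) (Fin n) F) = kronLM e P (a : Matrix (Fin d) (Fin d) F) := by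
  rfl

end Cfsg.Agent.Lib.Helper11.Cliff
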