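import Mathlib
import Cfsg.Prelude.Def_Characters
import Cfsg.Agent.Lib.Helper2.Regular

/-!
Signed irreducible characters (functions `a` with `a` or `-a` irreducible).
-/

set_option autoImplicit false

namespace Cfsg.Agent.Lib.Helper11

open Cfsg.Agent.Lib.Helper2
open scoped ComplexConjugate

variable {X : Type*} [Group X] [Fintype X]

/-- `a` is an irreducible character up to sign. -/
def IsSignedIrr (a : X → ℂ) : Prop := Cfsg.IsIrrCharacter X a ∨ Cfsg.IsIrrCharacter X (-a)

theorem IsSignedIrr.exists_rep {a : X → ℂ} (h : IsSignedIrr a) :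
    ∃ (χ : Cfsg.IrrCharacter X) (ε : ℂ), (ε = 1 ∨ ε = -1) ∧ a = ε • (χ : X → ℂ) := by
  rcases h with h | h
  · exact ⟨⟨a, h⟩, 1, Or.inl rfl, by simp⟩
  · exact ⟨⟨-a, h⟩, -1, Or.inr rfl, by simp⟩

theorem conj_sign {ε : ℂ} (h : ε = 1 ∨ ε = -1) : conj ε = ε := by
  rcases h with rfl | rfl <;> simp

theorem sign_mul_self {ε : ℂ} (h : ε = 1 ∨ ε = -1) : ε * ε = 1 := by
  rcases h with rfl | rfl <;> simp

/-- Trichotomy for two signed irreducible characters. -/
theorem IsSignedIrr.inner_cases {a b : X → ℂ} (ha : IsSignedIrr a) (hb : IsSignedIrr b) :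
    (Cfsg.classInner a b = 0 ∧ a ≠ b ∧ a ≠ -b) ∨ (a = b ∧ Cfsg.classInner a b = 1) ∨
      (a = -b ∧ Cfsg.classInner a b = -1) := by
  classical
  obtain ⟨χ, ε, hε, rfl⟩ := ha.exists_rep
  obtain ⟨ψ, δ, hδ, rfl⟩ := hb.exists_rep
  have hin : Cfsg.classInner (ε • (χ : X → ℂ)) (δ • (ψ : X → ℂ)) = ε * δ * (if χ = ψ then 1 else 0) := by
    rw [classInner_smul_left, classInner_smul_right, conj_sign hδ, classInner_irrCharacter]
    ring
  by_cases hχψ : χ = ψ
  · subst hχψ
    rw [if_pos rfl, mul_one] at hin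
    rcases hε with rfl | rfl <;> rcases hδ with rfl | rfl
    · right; left; exact ⟨rfl, by rw [hin]; ring⟩
    · right; right; refine ⟨by simp, by rw [hin]; ring⟩
    · right; right; refine ⟨by simp, by rw [hin]; ring⟩
    · right; left; exact ⟨rfl, by rw [hin]; ring⟩
  · left
    rw [if_neg hχψ, mul_zero] at hin
    refine ⟨hin, ?_, ?_⟩
    · intro h
      have h1 : Cfsg.classInner (ε • (χ : X → ℂ)) (ε • (χ : X → ℂ)) = 1 := by
        rw [classInner_smul_left, classInner_smul_right, conj_sign hε, classInner_irrCharacter_self,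
          mul_one, sign_mul_self hε]
      rw [h] at h1
      rw [h] at hin
      rw [hin] at h1
      exact zero_ne_one h1
    · intro h
      have h1 : Cfsg.classInner (ε • (χ : X → ℂ)) (ε • (χ : X → ℂ)) = 1 := by
        rw [classInner_smul_left, classInner_smul_right, conj_sign hε, classInner_irrCharacter_self,
          mul_one, sign_mul_self hε]
      have h2 : Cfsg.classInner (ε • (χ : X → ℂ)) (-(δ • (ψ : X → ℂ))) = 0 := by
        rw [classInner_neg_right, hin, neg_zero]
      rw [← h] at h2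
      rw [h2] at h1
      exact zero_ne_one h1

theorem IsSignedIrr.inner_self {a : X → ℂ} (ha : IsSignedIrr a) : Cfsg.classInner a a = 1 := by
  obtain ⟨χ, ε, hε, rfl⟩ := ha.exists_rep
  rw [classInner_smul_left, classInner_smul_right, conj_sign hε, classInner_irrCharacter_self,
    mul_one, sign_mul_self hε]

theorem IsSignedIrr.apply_one_ne_zero {a : X → ℂ} (ha : IsSignedIrr a) : a 1 ≠ 0 := by
  obtain ⟨χ, ε, hε, rfl⟩ := ha.exists_rep
  have h1 : (χ : X → ℂ) 1 ≠ 0 := IsIrrCharacter.apply_one_ne_zero χ.2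
  have h2 : ε ≠ 0 := by rcases hε with rfl | rfl <;> simp
  simp only [Pi.smul_apply, smul_eq_mul]
  exact mul_ne_zero h2 h1

theorem IsSignedIrr.neg {a : X → ℂ} (ha : IsSignedIrr a) : IsSignedIrr (-a) := by
  rcases ha with h | h
  · right; simpa using h
  · left; exact h

end Cfsg.Agent.Lib.Helper11
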