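import Mathlib
import Cfsg.Prelude.Def_Characters
import Cfsg.Agent.Lib.Helper2.Expansion
import Cfsg.Agent.Lib.Helper2.Regular
import Cfsg.Agent.Lib.Helper11.SignedIrr

/-!
Generalized characters: integrality of multiplicities, expansion, norm, and the structure of
generalized characters of norm 1 and of norm 2 vanishing at the identity.
-/

set_option autoImplicit false

namespace Cfsg.Agent.Lib.Helper11

open Cfsg.Agent.Lib.Helper2
open scoped ComplexConjugate

section IntLemmas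

variable {ι : Type*} [DecidableEq ι]

theorem int_sq_eq_one {x : ℤ} (h : x ^ 2 = 1) : x = 1 ∨ x = -1 := by
  have : (x - 1) * (x + 1) = 0 := by ring_nf; linarith
  rcases mul_eq_zero.1 this with h | h
  · left; linarith
  · right; linarith

theorem sum_sq_eq_one (s : Finset ι) (f : ι → ℤ) (h : ∑ i ∈ s, f i ^ 2 = 1) :
    ∃ i ∈ s, (f i = 1 ∨ f i = -1) ∧ ∀ k ∈ s, k ≠ i → f k = 0 := by
  have hex : ∃ i ∈ s, f i ≠ 0 := by
    by_contra hne
    push_neg at hne
    have : ∑ i ∈ s, f i ^ 2 = 0 := Finset.sum_eq_zero (fun i hi => by rw [hne i hi]; ring)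
    omega
  obtain ⟨i, hi, hfi⟩ := hex
  rw [← Finset.add_sum_erase s _ hi] at h
  have h1 : 1 ≤ f i ^ 2 := by
    have : 0 < f i ^ 2 := by positivity
    omega
  have h2 : 0 ≤ ∑ k ∈ s.erase i, f k ^ 2 := Finset.sum_nonneg (fun k _ => by positivity)
  have h3 : f i ^ 2 = 1 := by omega
  have h4 : ∑ k ∈ s.erase i, f k ^ 2 = 0 := by omega
  refine ⟨i, hi, int_sq_eq_one h3, ?_⟩
  intro k hk hki
  have := (Finset.sum_eq_zero_iff_of_nonneg (fun k _ => by positivity)).1 h4 k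
    (Finset.mem_erase.2 ⟨hki, hk⟩)
  exact pow_eq_zero_iff (by norm_num) |>.1 this

theorem sum_sq_eq_two (s : Finset ι) (f : ι → ℤ) (h : ∑ i ∈ s, f i ^ 2 = 2) :
    ∃ i ∈ s, ∃ j ∈ s, i ≠ j ∧ (f i = 1 ∨ f i = -1) ∧ (f j = 1 ∨ f j = -1) ∧
      ∀ k ∈ s, k ≠ i → k ≠ j → f k = 0 := by
  have hex : ∃ i ∈ s, f i ≠ 0 := by
    by_contra hne
    push_neg at hne
    have : ∑ i ∈ s, f i ^ 2 = 0 := Finset.sum_eq_zero (fun i hi => by rw [hne i hi]; ring)
    omega
  obtain ⟨i, hi, hfi⟩ := hex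
  rw [← Finset.add_sum_erase s _ hi] at h
  have h2 : 0 ≤ ∑ k ∈ s.erase i, f k ^ 2 := Finset.sum_nonneg (fun k _ => by positivity)
  have h3 : f i ^ 2 = 1 := by
    have hle : f i ^ 2 ≤ 2 := by omega
    have habs : |f i| ≤ 1 := by
      by_contra hgt
      push_neg at hgt
      have : 2 ≤ |f i| := by omega
      have : 4 ≤ |f i| ^ 2 := by nlinarith
      rw [sq_abs] at this
      omega
    have hpos : 0 < |f i| := abs_pos.2 hfi
    have : |f i| = 1 := by omega
    rw [← sq_abs, this]; ring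
  have h4 : ∑ k ∈ s.erase i, f k ^ 2 = 1 := by omega
  obtain ⟨j, hj, hfj, hrest⟩ := sum_sq_eq_one (s.erase i) f h4
  refine ⟨i, hi, j, Finset.mem_of_mem_erase hj, (Finset.ne_of_mem_erase hj).symm, int_sq_eq_one h3,
    hfj, ?_⟩
  intro k hk hki hkj
  exact hrest k (Finset.mem_erase.2 ⟨hki, hk⟩) hkj

end IntLemmas

variable {G : Type*} [Group G] [Fintype G]

theorem classInner_multiset_sum_left (m : Multiset (G → ℂ)) (ψ : G → ℂ) :
    Cfsg.classInner m.sum ψ = (m.map (fun f => Cfsg.classInner f ψ)).sum := by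
  induction m using Multiset.induction_on with
  | empty => simp
  | cons a m ih => simp [classInner_add_left, ih]

/-- multiplicities of irreducibles in a character are natural numbers -/
theorem IsCharacter.inner_irr_nat {χ : G → ℂ} (h : Cfsg.IsCharacter G χ) (μ : Cfsg.IrrCharacter G) :
    ∃ n : ℕ, Cfsg.classInner χ (μ : G → ℂ) = (n : ℂ) := by
  classical
  obtain ⟨m, rfl⟩ := IsCharacter.exists_multiset_irr h
  clear h
  rw [classInner_multiset_sum_left, Multiset.map_map]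
  induction m using Multiset.induction_on with
  | empty => exact ⟨0, by simp⟩
  | cons a m ih =>
    obtain ⟨n, hn⟩ := ih
    rw [Multiset.map_cons, Multiset.sum_cons, hn]
    simp only [Function.comp_apply]
    rw [classInner_irrCharacter]
    by_cases ha : a = μ
    · rw [if_pos ha]; exact ⟨1 + n, by push_cast; ring⟩
    · rw [if_neg ha]; exact ⟨n, by ring⟩

/-- multiplicities of irreducibles in a generalized character are integers -/
theorem IsGeneralizedCharacter.inner_irr_int {ξ : G → ℂ} (h : Cfsg.IsGeneralizedCharacter G ξ)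
    (μ : Cfsg.IrrCharacter G) : ∃ n : ℤ, Cfsg.classInner ξ (μ : G → ℂ) = (n : ℂ) := by
  obtain ⟨χ, ψ, hχ, hψ, rfl⟩ := h
  obtain ⟨a, ha⟩ := IsCharacter.inner_irr_nat hχ μ
  obtain ⟨b, hb⟩ := IsCharacter.inner_irr_nat hψ μ
  exact ⟨(a : ℤ) - (b : ℤ), by rw [classInner_sub_left, ha, hb]; push_cast; ring⟩

theorem IsGeneralizedCharacter.isClassFunction {ξ : G → ℂ} (h : Cfsg.IsGeneralizedCharacter G ξ) :
    Cfsg.IsClassFunction G ξ := by
  obtain ⟨χ, ψ, hχ, hψ, rfl⟩ := h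
  exact isClassFunction_sub (IsCharacter.isClassFunction hχ) (IsCharacter.isClassFunction hψ)

/-- A generalized character with its integer multiplicities. -/
theorem IsGeneralizedCharacter.exists_int_expansion [Fintype (Cfsg.IrrCharacter G)] {ξ : G → ℂ}
    (h : Cfsg.IsGeneralizedCharacter G ξ) :
    ∃ n : Cfsg.IrrCharacter G → ℤ, (∀ μ : Cfsg.IrrCharacter G, Cfsg.classInner ξ (μ : G → ℂ) = (n μ : ℂ)) ∧
      ξ = ∑ μ : Cfsg.IrrCharacter G, (n μ : ℂ) • (μ : G → ℂ) ∧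
      Cfsg.classInner ξ ξ = ((∑ μ : Cfsg.IrrCharacter G, n μ ^ 2 : ℤ) : ℂ) := by
  classical
  choose n hn using fun μ => IsGeneralizedCharacter.inner_irr_int h μ
  have hexp : ξ = ∑ μ : Cfsg.IrrCharacter G, (n μ : ℂ) • (μ : G → ℂ) := by
    have := classFunction_expansion ξ (IsGeneralizedCharacter.isClassFunction h)
    simp_rw [hn] at this
    exact this
  refine ⟨n, hn, hexp, ?_⟩
  have hinner : ∀ μ : Cfsg.IrrCharacter G, Cfsg.classInner (μ : G → ℂ) ξ = (n μ : ℂ) := by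
    intro μ
    rw [← classInner_conj_symm, hn μ]; simp
  have e1 : Cfsg.classInner ξ ξ
      = Cfsg.classInner (∑ μ : Cfsg.IrrCharacter G, (n μ : ℂ) • (μ : G → ℂ)) ξ :=
    congrArg (fun f => Cfsg.classInner f ξ) hexp
  rw [e1, classInner_sum_left]
  push_cast
  apply Finset.sum_congr rfl
  intro μ _
  rw [classInner_smul_left, hinner μ]
  ring

/-- A generalized character of norm one is an irreducible character up to sign. -/
theorem IsGeneralizedCharacter.isSignedIrr_of_norm_one {ξ : G → ℂ}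
    (h : Cfsg.IsGeneralizedCharacter G ξ) (hnorm : Cfsg.classInner ξ ξ = 1) : IsSignedIrr ξ := by
  classical
  have : Fintype (Cfsg.IrrCharacter G) := Fintype.ofFinite _
  obtain ⟨n, hn, hexp, hnn⟩ := IsGeneralizedCharacter.exists_int_expansion h
  rw [hnorm] at hnn
  have h1 : ∑ μ : Cfsg.IrrCharacter G, n μ ^ 2 = 1 := by exact_mod_cast hnn.symm
  obtain ⟨μ₀, _, hμ₀, hrest⟩ := sum_sq_eq_one Finset.univ n h1
  have hξ : ξ = (n μ₀ : ℂ) • (μ₀ : G → ℂ) := by
    rw [hexp]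
    apply Finset.sum_eq_single μ₀
    · intro k _ hk
      rw [hrest k (Finset.mem_univ _) hk]; simp
    · intro h; exact absurd (Finset.mem_univ _) h
  rcases hμ₀ with h | h
  · left
    rw [hξ, h]; simpa using μ₀.2
  · right
    rw [hξ, h]; simpa using μ₀.2

/-- A generalized character of norm two vanishing at `1` is a difference of two distinct irreducible
characters. -/
theorem IsGeneralizedCharacter.eq_sub_of_norm_two {ξ : G → ℂ}
    (h : Cfsg.IsGeneralizedCharacter G ξ) (hnorm : Cfsg.classInner ξ ξ = 2) (h1 : ξ 1 = 0) :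
    ∃ μ₁ μ₂ : Cfsg.IrrCharacter G, μ₁ ≠ μ₂ ∧ ξ = (μ₁ : G → ℂ) - (μ₂ : G → ℂ) := by
  classical
  have : Fintype (Cfsg.IrrCharacter G) := Fintype.ofFinite _
  obtain ⟨n, hn, hexp, hnn⟩ := IsGeneralizedCharacter.exists_int_expansion h
  rw [hnorm] at hnn
  have h2 : ∑ μ : Cfsg.IrrCharacter G, n μ ^ 2 = 2 := by exact_mod_cast hnn.symm
  obtain ⟨μ₁, _, μ₂, _, hne, hμ₁, hμ₂, hrest⟩ := sum_sq_eq_two Finset.univ n h2
  have hsum : ∑ μ : Cfsg.IrrCharacter G, (n μ : ℂ) • (μ : G → ℂ)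
      = (n μ₁ : ℂ) • (μ₁ : G → ℂ) + (n μ₂ : ℂ) • (μ₂ : G → ℂ) := by
    rw [← Finset.add_sum_erase Finset.univ _ (Finset.mem_univ μ₁)]
    congr 1
    apply Finset.sum_eq_single μ₂
    · intro k hk hk2
      rw [hrest k (Finset.mem_univ _) (Finset.ne_of_mem_erase hk) hk2]; simp
    · intro h
      exact absurd (Finset.mem_erase.2 ⟨hne.symm, Finset.mem_univ _⟩) h
  have hξ : ξ = (n μ₁ : ℂ) • (μ₁ : G → ℂ) + (n μ₂ : ℂ) • (μ₂ : G → ℂ) := hexp.trans hsum
  obtain ⟨d₁, hd₁pos, hd₁⟩ := IsIrrCharacter.apply_one μ₁.2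
  obtain ⟨d₂, hd₂pos, hd₂⟩ := IsIrrCharacter.apply_one μ₂.2
  have hval : (n μ₁ : ℂ) * (d₁ : ℂ) + (n μ₂ : ℂ) * (d₂ : ℂ) = 0 := by
    have := congrFun hξ 1
    rw [h1] at this
    simp only [Pi.add_apply, Pi.smul_apply, smul_eq_mul, hd₁, hd₂] at this
    exact this.symm
  have hvalZ : n μ₁ * (d₁ : ℤ) + n μ₂ * (d₂ : ℤ) = 0 := by exact_mod_cast hval
  have hd₁' : (0 : ℤ) < d₁ := by exact_mod_cast hd₁pos
  have hd₂' : (0 : ℤ) < d₂ := by exact_mod_cast hd₂pos
  rcases hμ₁ with e1 | e1 <;> rcases hμ₂ with e2 | e2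
  · exfalso; rw [e1, e2] at hvalZ; nlinarith
  · refine ⟨μ₁, μ₂, hne, ?_⟩
    rw [hξ, e1, e2]; ext g; simp; ring
  · refine ⟨μ₂, μ₁, hne.symm, ?_⟩
    rw [hξ, e1, e2]; ext g; simp; ring
  · exfalso; rw [e1, e2] at hvalZ; nlinarith

/-- The inner product of two generalized characters is an integer. -/
theorem IsGeneralizedCharacter.inner_int {ξ η : G → ℂ} (hξ : Cfsg.IsGeneralizedCharacter G ξ)
    (hη : Cfsg.IsGeneralizedCharacter G η) : ∃ n : ℤ, Cfsg.classInner ξ η = (n : ℂ) := by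
  classical
  have : Fintype (Cfsg.IrrCharacter G) := Fintype.ofFinite _
  obtain ⟨n, _, hexp, _⟩ := IsGeneralizedCharacter.exists_int_expansion hξ
  obtain ⟨m, hm, _, _⟩ := IsGeneralizedCharacter.exists_int_expansion hη
  refine ⟨∑ μ : Cfsg.IrrCharacter G, n μ * m μ, ?_⟩
  have e1 : Cfsg.classInner ξ η
      = Cfsg.classInner (∑ μ : Cfsg.IrrCharacter G, (n μ : ℂ) • (μ : G → ℂ)) η :=
    congrArg (fun f => Cfsg.classInner f η) hexp
  rw [e1, classInner_sum_left]
  push_cast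
  apply Finset.sum_congr rfl
  intro μ _
  rw [classInner_smul_left, ← classInner_conj_symm, hm μ]
  simp

end Cfsg.Agent.Lib.Helper11
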