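import Mathlib

/-!
Internal semidirect products `N ⋊ Q` inside a group: the retraction `N ⊔ Q →* Q`, and sums over
`N ⊔ Q` as double sums.
-/

set_option autoImplicit false

namespace Cfsg.Agent.Lib.Helper11

open Pointwise

section Semidirect

variable {G : Type*} [Group G] (N Q : Subgroup G)

theorem mem_sup_iff_exists_mul (hQ : Q ≤ Subgroup.normalizer (N : Set G)) (m : G) :
    m ∈ N ⊔ Q ↔ ∃ n ∈ N, ∃ q ∈ Q, m = n * q := by
  have h : m ∈ N ⊔ Q ↔ m ∈ ((N ⊔ Q : Subgroup G) : Set G) := Iff.rfl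
  rw [h, Subgroup.coe_mul_of_right_le_normalizer_left N Q hQ, Set.mem_mul]
  constructor
  · rintro ⟨n, hn, q, hq, rfl⟩
    exact ⟨n, hn, q, hq, rfl⟩
  · rintro ⟨n, hn, q, hq, rfl⟩
    exact ⟨n, hn, q, hq, rfl⟩

theorem semidirect_unique (hdisj : N ⊓ Q = ⊥) {n n' q q' : G} (hn : n ∈ N) (hn' : n' ∈ N)
    (hq : q ∈ Q) (hq' : q' ∈ Q) (h : n * q = n' * q') : n = n' ∧ q = q' := by
  have h1 : n'⁻¹ * n = q' * q⁻¹ := by
    have : n'⁻¹ * n = n'⁻¹ * (n * q) * q⁻¹ := by group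
    rw [this, h]; group
  have h2 : n'⁻¹ * n ∈ N ⊓ Q :=
    ⟨N.mul_mem (N.inv_mem hn') hn, by rw [h1]; exact Q.mul_mem hq' (Q.inv_mem hq)⟩
  rw [hdisj, Subgroup.mem_bot] at h2
  have e1 : n = n' := by
    have : n = n' * (n'⁻¹ * n) := by group
    rw [this, h2, mul_one]
  subst e1
  exact ⟨rfl, mul_left_cancel h⟩

/-- The retraction of an internal semidirect product onto the complement. -/
theorem exists_retraction (hQ : Q ≤ Subgroup.normalizer (N : Set G)) (hdisj : N ⊓ Q = ⊥) :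
    ∃ φ : ↥(N ⊔ Q) →* Q, ∀ (n q : G) (hn : n ∈ N) (hq : q ∈ Q),
      φ ⟨n * q, (N ⊔ Q).mul_mem (Subgroup.mem_sup_left hn) (Subgroup.mem_sup_right hq)⟩
        = ⟨q, hq⟩ := by
  classical
  have hdec : ∀ m : ↥(N ⊔ Q), ∃ p : N × Q, (m : G) = (p.1 : G) * (p.2 : G) := by
    intro m
    obtain ⟨n, hn, q, hq, h⟩ := (mem_sup_iff_exists_mul N Q hQ (m : G)).1 m.2
    exact ⟨(⟨n, hn⟩, ⟨q, hq⟩), h⟩
  choose p hp using hdec
  have hnorm : ∀ q ∈ Q, ∀ n ∈ N, q * n * q⁻¹ ∈ N := by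
    intro q hq n hn
    exact ((Subgroup.mem_normalizer_iff (H := N)).1 (hQ hq) n).1 hn
  have hkey : ∀ (m : ↥(N ⊔ Q)) (n q : G), n ∈ N → q ∈ Q → (m : G) = n * q →
      ((p m).2 : G) = q := by
    intro m n q hn hq h
    have := semidirect_unique N Q hdisj (p m).1.2 hn (p m).2.2 hq ((hp m).symm.trans h)
    exact this.2
  refine ⟨MonoidHom.mk' (fun m => (p m).2) ?_, ?_⟩
  · intro m₁ m₂
    apply Subtype.ext
    have h1 := hp m₁
    have h2 := hp m₂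
    apply hkey (m₁ * m₂)
      (((p m₁).1 : G) * (((p m₁).2 : G) * ((p m₂).1 : G) * ((p m₁).2 : G)⁻¹))
      (((p m₁).2 : G) * ((p m₂).2 : G))
    · exact N.mul_mem (p m₁).1.2 (hnorm _ (p m₁).2.2 _ (p m₂).1.2)
    · exact Q.mul_mem (p m₁).2.2 (p m₂).2.2
    · rw [Subgroup.coe_mul, h1, h2]; group
  · intro n q hn hq
    apply Subtype.ext
    exact hkey _ n q hn hq rfl

/-- A chosen retraction. -/
noncomputable def retr (hQ : Q ≤ Subgroup.normalizer (N : Set G)) (hdisj : N ⊓ Q = ⊥) :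
    ↥(N ⊔ Q) →* Q :=
  Classical.choose (exists_retraction N Q hQ hdisj)

theorem retr_mul (hQ : Q ≤ Subgroup.normalizer (N : Set G)) (hdisj : N ⊓ Q = ⊥) (n q : G)
    (hn : n ∈ N) (hq : q ∈ Q) :
    retr N Q hQ hdisj
      ⟨n * q, (N ⊔ Q).mul_mem (Subgroup.mem_sup_left hn) (Subgroup.mem_sup_right hq)⟩
        = ⟨q, hq⟩ :=
  Classical.choose_spec (exists_retraction N Q hQ hdisj) n q hn hq

/-- The product map `N × Q ≃ N ⊔ Q`. -/
noncomputable def semidirectEquiv (hQ : Q ≤ Subgroup.normalizer (N : Set G)) (hdisj : N ⊓ Q = ⊥) :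
    N × Q ≃ ↥(N ⊔ Q) :=
  Equiv.ofBijective
    (fun p => ⟨(p.1 : G) * (p.2 : G),
      (N ⊔ Q).mul_mem (Subgroup.mem_sup_left p.1.2) (Subgroup.mem_sup_right p.2.2)⟩)
    ⟨by
      intro p p' h
      have h' : (p.1 : G) * (p.2 : G) = (p'.1 : G) * (p'.2 : G) := congrArg Subtype.val h
      obtain ⟨e1, e2⟩ := semidirect_unique N Q hdisj p.1.2 p'.1.2 p.2.2 p'.2.2 h'
      exact Prod.ext (Subtype.ext e1) (Subtype.ext e2),
     by
      intro m
      obtain ⟨n, hn, q, hq, h⟩ := (mem_sup_iff_exists_mul N Q hQ (m : G)).1 m.2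
      exact ⟨(⟨n, hn⟩, ⟨q, hq⟩), Subtype.ext h.symm⟩⟩

theorem card_sup_eq (hQ : Q ≤ Subgroup.normalizer (N : Set G)) (hdisj : N ⊓ Q = ⊥) :
    Nat.card ↥(N ⊔ Q) = Nat.card N * Nat.card Q := by
  rw [← Nat.card_prod]
  exact (Nat.card_congr (semidirectEquiv N Q hQ hdisj)).symm

/-- Sums over `N ⊔ Q` as double sums. -/
theorem sum_sup_eq {K : Type*} [AddCommMonoid K] [Fintype ↥(N ⊔ Q)] [Fintype N] [Fintype Q]
    (hQ : Q ≤ Subgroup.normalizer (N : Set G)) (hdisj : N ⊓ Q = ⊥) (f : ↥(N ⊔ Q) → K) :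
    ∑ m : ↥(N ⊔ Q), f m = ∑ q : Q, ∑ n : N,
      f ⟨(n : G) * (q : G),
        (N ⊔ Q).mul_mem (Subgroup.mem_sup_left n.2) (Subgroup.mem_sup_right q.2)⟩ := by
  rw [← Fintype.sum_equiv (semidirectEquiv N Q hQ hdisj)
    (fun p : N × Q => f ⟨(p.1 : G) * (p.2 : G),
      (N ⊔ Q).mul_mem (Subgroup.mem_sup_left p.1.2) (Subgroup.mem_sup_right p.2.2)⟩) f
    (fun p => rfl)]
  rw [Fintype.sum_prod_type, Finset.sum_comm]

/-- Sums over a subgroup as indicator sums. -/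
theorem sum_subgroup_eq {K : Type*} [AddCommMonoid K] [Fintype G] (S : Subgroup G) [Fintype S]
    [DecidablePred (· ∈ S)] (Φ : G → K) :
    ∑ s : S, Φ s = ∑ g : G, (if g ∈ S then Φ g else 0) := by
  rw [← Finset.sum_filter]
  symm
  exact Finset.sum_subtype (Finset.univ.filter (fun a : G => a ∈ S)) (fun x => by simp) Φ

end Semidirect

end Cfsg.Agent.Lib.Helper11
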