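import Mathlib
import Cfsg.Prelude
import Cfsg.Agent.Lib.Helper10.BGEleven
import Cfsg.Agent.Lib.Helper2.NormalEpSqOdd
import Cfsg.Agent.S1404

/-!
# Bender--Glauberman, Section 12 (helper11): Corollary 12.14 and tools

Everything is stated relative to `Cent16 G`, the first assertion of Proposition 12.4 (row S1416):
`C_G(A) ≤ M` for every elementary abelian `A ≤ M` of order `p ^ 2`, `M` maximal.
-/

set_option autoImplicit false
open Cfsg
open Cfsg.Agent.Lib.Helper10.BG

namespace Cfsg.Agent.Lib.Helper11.BG12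

variable {G : Type*} [Group G]

/-- Proposition 12.4, first part, as a hypothesis. -/
def Cent16 (G : Type*) [Group G] : Prop :=
  ∀ (M : Subgroup G), IsCoatom M → ∀ (p : ℕ) [Fact p.Prime] (A : Subgroup G),
    A ≤ M → IsElementaryAbelian p A → Nat.card A = p ^ 2 → Subgroup.centralizer (A : Set G) ≤ M

variable [Finite G]

/-- a noncyclic `p`-subgroup (`p` odd) contains an elementary abelian subgroup of order `p ^ 2`. -/
theorem exists_elementary_sq_le {p : ℕ} [Fact p.Prime] (hp2 : p ≠ 2) {Q : Subgroup G}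
    (hQ : IsPGroup p Q) (hnc : ¬ IsCyclic Q) :
    ∃ A : Subgroup G, A ≤ Q ∧ IsElementaryAbelian p A ∧ Nat.card A = p ^ 2 := by
  obtain ⟨A, -, hAe, hAcard⟩ :=
    Cfsg.Agent.Lib.Helper2.NormalEpSq.exists_normal_elementaryAbelian_sq (R := ↥Q) hp2 hQ hnc
  refine ⟨A.map Q.subtype, Subgroup.map_subtype_le A, isElementaryAbelian_map _ hAe, ?_⟩
  rw [Subgroup.card_map_of_injective Q.subtype_injective, hAcard]

/-- B & G, Corollary 12.10 (c): the normalizer of a noncyclic `p`-subgroup of `M`, `p ∈ σ(M)`,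
lies in `M`. -/
theorem normalizer_le_of_not_isCyclic (hG : IsMinSimpleOddOrder G) (h16 : Cent16 G)
    {M : Subgroup G} (hM : IsCoatom M) {p : ℕ} [Fact p.Prime] (hp : p ∈ sigma M)
    {P : Subgroup G} (hP : IsPGroup p P) (hPM : P ≤ M) (hnc : ¬ IsCyclic P) :
    Subgroup.normalizer (P : Set G) ≤ M := by
  have hP1 : P ≠ ⊥ := by
    rintro rfl
    exact hnc inferInstance
  have hp2 : p ≠ 2 := prime_ne_two_of_pgroup hG hP hP1
  obtain ⟨A, hAP, hAe, hAcard⟩ := exists_elementary_sq_le hp2 hP hnc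
  have h1 := (Cfsg.Agent.S1404.result hG M hM p hp P hP hP1 hPM).2
  rw [h1]
  refine sup_le inf_le_left ?_
  exact (Subgroup.centralizer_le hAP).trans (h16 M hM p A (hAP.trans hPM) hAe hAcard)

end Cfsg.Agent.Lib.Helper11.BG12
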