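import Mathlib
import Cfsg.Prelude

/-!
# Nonabelian subgroups of order `p ^ 3` and exponent `p` (helper11)

`P₁ ≤ G` nonabelian of order `p ^ 3` and exponent `p`, `Z₀ = P₁ ⊓ C_G(P₁)` its centre.
* `CubeData p P₁`: the facts used later (`|Z₀| = p`, commutators lie in `Z₀`, exponent `p`).
* `CubeData.exists_conj_mul`: for noncentral `u ∈ P₁` and `z ∈ Z₀`, `u * z` is `P₁`-conjugate to `u`.
* `CubeData.exists_conj_eq`: the subgroups of order `p` other than `Z₀` of an abelian `A ≥ Z₀` of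
  order `p ^ 2` are `P₁`-conjugate.
* `CubeData.elementary_sup`: `⟨x⟩ Z₀` is elementary abelian of order `p ^ 2` for noncentral `x`.
-/

set_option autoImplicit false
open Cfsg

namespace Cfsg.Agent.Lib.Helper11.Cube

variable {G : Type*} [Group G]

/-- the join of two elementwise commuting subgroups is their setwise product. -/
theorem mem_sup_of_commute (A B : Subgroup G) (h : ∀ x ∈ A, ∀ y ∈ B, x * y = y * x) (y : G) :
    y ∈ A ⊔ B ↔ ∃ a ∈ A, ∃ b ∈ B, y = a * b := by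
  constructor
  · intro hy
    let T : Subgroup G :=
      { carrier := {y | ∃ a ∈ A, ∃ b ∈ B, y = a * b}
        one_mem' := ⟨1, A.one_mem, 1, B.one_mem, by rw [mul_one]⟩
        mul_mem' := by
          rintro _ _ ⟨a, ha, b, hb, rfl⟩ ⟨a', ha', b', hb', rfl⟩
          refine ⟨a * a', A.mul_mem ha ha', b * b', B.mul_mem hb hb', ?_⟩
          have := h a' ha' b hb
          calc a * b * (a' * b') = a * (b * a') * b' := by group
            _ = a * (a' * b) * b' := by rw [this]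
            _ = a * a' * (b * b') := by group
        inv_mem' := by
          rintro _ ⟨a, ha, b, hb, rfl⟩
          refine ⟨a⁻¹, A.inv_mem ha, b⁻¹, B.inv_mem hb, ?_⟩
          have := h a⁻¹ (A.inv_mem ha) b⁻¹ (B.inv_mem hb)
          rw [this, mul_inv_rev] }
    have hle : A ⊔ B ≤ T := by
      apply sup_le
      · intro a ha
        exact ⟨a, ha, 1, B.one_mem, by rw [mul_one]⟩
      · intro b hb
        exact ⟨1, A.one_mem, b, hb, by rw [one_mul]⟩
    exact hle hy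
  · rintro ⟨a, ha, b, hb, rfl⟩
    exact (A ⊔ B).mul_mem (Subgroup.mem_sup_left ha) (Subgroup.mem_sup_right hb)

theorem card_lt_of_lt [Finite G] {H K : Subgroup G} (h : H < K) : Nat.card H < Nat.card K := by
  by_contra hcon
  push Not at hcon
  exact h.ne (Subgroup.eq_of_le_of_card_ge h.le hcon)

/-- the centre of `P₁ ≤ G`, as a subgroup of `G`. -/
def cen (P₁ : Subgroup G) : Subgroup G := P₁ ⊓ Subgroup.centralizer (P₁ : Set G)

theorem mem_cen {P₁ : Subgroup G} {z : G} :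
    z ∈ cen P₁ ↔ z ∈ P₁ ∧ ∀ x ∈ P₁, x * z = z * x := by
  unfold cen
  rw [Subgroup.mem_inf, Subgroup.mem_centralizer_iff]
  rfl

theorem cen_le (P₁ : Subgroup G) : cen P₁ ≤ P₁ := inf_le_left

theorem cen_eq_map_center (P₁ : Subgroup G) :
    cen P₁ = (Subgroup.center ↥P₁).map P₁.subtype := by
  ext z
  rw [mem_cen, Subgroup.mem_map]
  constructor
  · rintro ⟨hz, hc⟩
    refine ⟨⟨z, hz⟩, ?_, rfl⟩
    rw [Subgroup.mem_center_iff]
    intro g
    exact Subtype.ext (hc g g.2)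
  · rintro ⟨w, hw, rfl⟩
    refine ⟨w.2, fun x hx => ?_⟩
    rw [Subgroup.mem_center_iff] at hw
    exact congrArg Subtype.val (hw ⟨x, hx⟩)

/-- the facts about a nonabelian subgroup of order `p ^ 3` and exponent `p` used below. -/
structure CubeData (p : ℕ) (P₁ : Subgroup G) : Prop where
  card : Nat.card P₁ = p ^ 3
  nonab : ¬ IsMulCommutative P₁
  cardZ : Nat.card ↥(cen P₁) = p
  comm : ∀ x ∈ P₁, ∀ y ∈ P₁, x⁻¹ * y⁻¹ * x * y ∈ cen P₁
  exp : ∀ x ∈ P₁, x ^ p = 1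

section CubeOf

variable {P : Type*} [Group P]

/-- the centre of a nonabelian group of order `p ^ 3` has order `p`. -/
theorem card_center_of_card_cube {p : ℕ} [hp : Fact p.Prime] [Finite P]
    (hcard : Nat.card P = p ^ 3) (hnc : ¬ ∀ x y : P, x * y = y * x) :
    Nat.card (Subgroup.center P) = p := by
  have hpp := hp.out
  have hP : IsPGroup p P := IsPGroup.of_card hcard
  have hnt : Nontrivial P := by
    rw [← Finite.one_lt_card_iff_nontrivial, hcard]
    exact Nat.one_lt_pow (by norm_num) hpp.one_lt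
  have hZnt : Nontrivial (Subgroup.center P) := hP.center_nontrivial
  have hdvd : Nat.card (Subgroup.center P) ∣ p ^ 3 := by
    rw [← hcard]; exact Subgroup.card_subgroup_dvd_card _
  obtain ⟨m, hm, hZ⟩ := (Nat.dvd_prime_pow hpp).mp hdvd
  have hidx : Nat.card (Subgroup.center P) * (Subgroup.center P).index = p ^ 3 := by
    rw [Subgroup.card_mul_index, hcard]
  have hppos : 0 < p := hpp.pos
  interval_cases m
  · exfalso
    rw [pow_zero] at hZ
    have h1 := Finite.one_lt_card_iff_nontrivial.mpr hZnt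
    omega
  · rw [hZ, pow_one]
  · exfalso
    rw [hZ] at hidx
    have h1 : (Subgroup.center P).index * p ^ 2 = p * p ^ 2 := by
      calc (Subgroup.center P).index * p ^ 2 = p ^ 2 * (Subgroup.center P).index := by ring
        _ = p ^ 3 := hidx
        _ = p * p ^ 2 := by ring
    have hi : (Subgroup.center P).index = p := Nat.eq_of_mul_eq_mul_right (pow_pos hppos 2) h1
    have hq : Nat.card (P ⧸ Subgroup.center P) = p := by
      rw [← Subgroup.index_eq_card]; exact hi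
    haveI : IsCyclic (P ⧸ Subgroup.center P) := isCyclic_of_prime_card hq
    apply hnc
    exact commutative_of_cyclic_center_quotient (QuotientGroup.mk' (Subgroup.center P))
      (by rw [QuotientGroup.ker_mk'])
  · exfalso
    have h1 : Subgroup.center P = ⊤ := by
      rw [← Subgroup.card_eq_iff_eq_top, hZ, hcard]
    apply hnc
    intro x y
    have hy : y ∈ Subgroup.center P := by rw [h1]; exact Subgroup.mem_top y
    exact (Subgroup.mem_center_iff.mp hy) x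

/-- in a nonabelian group of order `p ^ 3`, commutators are central. -/
theorem comm_mem_center_of_card_cube {p : ℕ} [hp : Fact p.Prime] [Finite P]
    (hcard : Nat.card P = p ^ 3) (hnc : ¬ ∀ x y : P, x * y = y * x) (x y : P) :
    x⁻¹ * y⁻¹ * x * y ∈ Subgroup.center P := by
  have hZ := card_center_of_card_cube hcard hnc
  have hidx : Nat.card (Subgroup.center P) * (Subgroup.center P).index = p ^ 3 := by
    rw [Subgroup.card_mul_index, hcard]
  rw [hZ] at hidx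
  have hi : (Subgroup.center P).index = p ^ 2 := by
    have h1 : p * (Subgroup.center P).index = p * p ^ 2 := by rw [hidx]; ring
    exact Nat.eq_of_mul_eq_mul_left hp.out.pos h1
  have hq : Nat.card (P ⧸ Subgroup.center P) = p ^ 2 := by
    rw [← Subgroup.index_eq_card]; exact hi
  have hc := IsPGroup.commutative_of_card_eq_prime_sq hq
  rw [← QuotientGroup.eq_one_iff]
  have h1 : ((x⁻¹ * y⁻¹ * x * y : P) : P ⧸ Subgroup.center P)
      = (x : P ⧸ Subgroup.center P)⁻¹ * (y : P ⧸ Subgroup.center P)⁻¹ * x * y := by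
    simp only [QuotientGroup.mk_mul, QuotientGroup.mk_inv]
  rw [h1, mul_assoc _ _ (x : P ⧸ Subgroup.center P), hc _ (x : P ⧸ Subgroup.center P)]
  group

end CubeOf

/-- a nonabelian subgroup of order `p ^ 3` and exponent `p` satisfies `CubeData`. -/
theorem cubeData_of [Finite G] {p : ℕ} [hp : Fact p.Prime] {P₁ : Subgroup G}
    (hcard : Nat.card P₁ = p ^ 3) (hna : ¬ IsMulCommutative P₁)
    (hexp : Monoid.exponent P₁ = p) : CubeData p P₁ := by
  have hnc : ¬ ∀ x y : ↥P₁, x * y = y * x := fun h => hna ⟨⟨h⟩⟩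
  refine ⟨hcard, hna, ?_, ?_, ?_⟩
  · rw [cen_eq_map_center, Subgroup.card_map_of_injective P₁.subtype_injective]
    exact card_center_of_card_cube hcard hnc
  · intro x hx y hy
    rw [cen_eq_map_center]
    exact ⟨(⟨x, hx⟩ : ↥P₁)⁻¹ * (⟨y, hy⟩ : ↥P₁)⁻¹ * ⟨x, hx⟩ * ⟨y, hy⟩,
      comm_mem_center_of_card_cube hcard hnc _ _, rfl⟩
  · intro x hx
    have h1 : (⟨x, hx⟩ : ↥P₁) ^ p = 1 := by
      rw [← hexp]; exact Monoid.pow_exponent_eq_one _
    exact congrArg Subtype.val h1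

namespace CubeData

variable {p : ℕ} [hp : Fact p.Prime] {P₁ : Subgroup G}

/-- a nontrivial element of `Z₀` generates it. -/
theorem cen_eq_zpowers (h : CubeData p P₁) {c : G} (hc : c ∈ cen P₁) (hc1 : c ≠ 1) :
    cen P₁ = Subgroup.zpowers c := by
  have : Finite ↥(cen P₁) := Nat.finite_of_card_ne_zero (by rw [h.cardZ]; exact hp.out.ne_zero)
  symm
  apply Subgroup.eq_of_le_of_card_ge (Subgroup.zpowers_le.mpr hc)
  rw [h.cardZ, Nat.card_zpowers]
  have h1 : c ^ p = 1 := h.exp c (cen_le P₁ hc)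
  rw [orderOf_eq_prime h1 hc1]

/-- conjugating `u` by `b ^ m` multiplies it by the `m`-th power of the commutator. -/
theorem conj_pow_eq (h : CubeData p P₁) {u b : G} (hu : u ∈ P₁) (hb : b ∈ P₁) (m : ℕ) :
    (b ^ m)⁻¹ * u * b ^ m = u * (u⁻¹ * b⁻¹ * u * b) ^ m := by
  have hcen := (mem_cen.mp (h.comm u hu b hb)).2
  generalize hcdef : u⁻¹ * b⁻¹ * u * b = c at hcen ⊢
  have hkey : b⁻¹ * u * b = u * c := by rw [← hcdef]; group
  have hbc : b * c = c * b := hcen b hb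
  induction m with
  | zero => simp
  | succ m ih =>
    have h2 : b * c ^ m = c ^ m * b := Commute.pow_right (show Commute b c from hbc) m
    calc (b ^ (m + 1))⁻¹ * u * b ^ (m + 1) = b⁻¹ * ((b ^ m)⁻¹ * u * b ^ m) * b := by
          rw [pow_succ]; group
      _ = b⁻¹ * (u * c ^ m) * b := by rw [ih]
      _ = b⁻¹ * u * (c ^ m * b) := by group
      _ = b⁻¹ * u * (b * c ^ m) := by rw [h2]
      _ = (b⁻¹ * u * b) * c ^ m := by group
      _ = u * c * c ^ m := by rw [hkey]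
      _ = u * c ^ (m + 1) := by rw [pow_succ', mul_assoc]

/-- for noncentral `u ∈ P₁` and `z ∈ Z₀`, `u * z` is a `P₁`-conjugate of `u`. -/
theorem exists_conj_mul (h : CubeData p P₁) {u z : G} (hu : u ∈ P₁) (huZ : u ∉ cen P₁)
    (hz : z ∈ cen P₁) : ∃ g ∈ P₁, g⁻¹ * u * g = u * z := by
  have h1 : ∃ b ∈ P₁, b * u ≠ u * b := by
    by_contra hcon
    push Not at hcon
    exact huZ (mem_cen.mpr ⟨hu, hcon⟩)
  obtain ⟨b, hb, hbu⟩ := h1
  set c := u⁻¹ * b⁻¹ * u * b with hc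
  have hcZ : c ∈ cen P₁ := h.comm u hu b hb
  have hc1 : c ≠ 1 := by
    intro h2
    apply hbu
    have h3 : u * b = b * u * c := by rw [hc]; group
    rw [h3, h2, mul_one]
  have hZ := h.cen_eq_zpowers hcZ hc1
  rw [hZ] at hz
  have hfin : IsOfFinOrder c := isOfFinOrder_iff_pow_eq_one.mpr
    ⟨p, hp.out.pos, h.exp c (cen_le P₁ hcZ)⟩
  rw [← hfin.mem_powers_iff_mem_zpowers, Submonoid.mem_powers_iff] at hz
  obtain ⟨m, rfl⟩ := hz
  exact ⟨b ^ m, P₁.pow_mem hb m, h.conj_pow_eq hu hb m⟩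

/-- `⟨x⟩ Z₀` is elementary abelian of order `p ^ 2` for noncentral `x ∈ P₁`. -/
theorem elementary_sup [Finite G] (h : CubeData p P₁) {x : G} (hx : x ∈ P₁) (hxZ : x ∉ cen P₁) :
    IsElementaryAbelian p (Subgroup.zpowers x ⊔ cen P₁) ∧
      Nat.card ↥(Subgroup.zpowers x ⊔ cen P₁) = p ^ 2 := by
  have hpp := hp.out
  have hcomm : ∀ a ∈ Subgroup.zpowers x, ∀ b ∈ cen P₁, a * b = b * a := by
    intro a ha b hb
    exact (mem_cen.mp hb).2 a (Subgroup.zpowers_le.mpr hx ha)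
  have hle : Subgroup.zpowers x ⊔ cen P₁ ≤ P₁ := sup_le (Subgroup.zpowers_le.mpr hx) (cen_le P₁)
  have hab : ∀ a ∈ Subgroup.zpowers x ⊔ cen P₁, ∀ b ∈ Subgroup.zpowers x ⊔ cen P₁,
      a * b = b * a := by
    intro a ha b hb
    rw [mem_sup_of_commute _ _ hcomm] at ha hb
    obtain ⟨a₁, ha₁, a₂, ha₂, rfl⟩ := ha
    obtain ⟨b₁, hb₁, b₂, hb₂, rfl⟩ := hb
    have e1 : a₁ * b₁ = b₁ * a₁ := by
      obtain ⟨i, rfl⟩ := Subgroup.mem_zpowers_iff.mp ha₁
      obtain ⟨j, rfl⟩ := Subgroup.mem_zpowers_iff.mp hb₁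
      exact (Commute.zpow_zpow_self x i j)
    have e2 : a₂ * b₁ = b₁ * a₂ := (hcomm b₁ hb₁ a₂ ha₂).symm
    have e3 : a₂ * b₂ = b₂ * a₂ := (mem_cen.mp hb₂).2 a₂ (cen_le P₁ ha₂) |>.symm ▸ rfl
    have e4 : a₁ * b₂ = b₂ * a₁ := hcomm a₁ ha₁ b₂ hb₂
    calc a₁ * a₂ * (b₁ * b₂) = a₁ * (a₂ * b₁) * b₂ := by group
      _ = a₁ * (b₁ * a₂) * b₂ := by rw [e2]
      _ = (a₁ * b₁) * (a₂ * b₂) := by group
      _ = (b₁ * a₁) * (b₂ * a₂) := by rw [e1, e3]
      _ = b₁ * (a₁ * b₂) * a₂ := by group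
      _ = b₁ * (b₂ * a₁) * a₂ := by rw [e4]
      _ = b₁ * b₂ * (a₁ * a₂) := by group
  have hel : IsElementaryAbelian p (Subgroup.zpowers x ⊔ cen P₁) :=
    ⟨⟨⟨fun a b => Subtype.ext (hab a a.2 b b.2)⟩⟩, fun a ha => h.exp a (hle ha)⟩
  refine ⟨hel, ?_⟩
  -- the order
  have hx1 : x ≠ 1 := fun h1 => hxZ (h1 ▸ (cen P₁).one_mem)
  have hordx : Nat.card ↥(Subgroup.zpowers x) = p := by
    rw [Nat.card_zpowers, orderOf_eq_prime (h.exp x hx) hx1]
  have hdvd : Nat.card ↥(Subgroup.zpowers x ⊔ cen P₁) ∣ p ^ 3 := by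
    rw [← h.card]; exact Subgroup.card_dvd_of_le hle
  obtain ⟨m, hm, hcard⟩ := (Nat.dvd_prime_pow hpp).mp hdvd
  have hlt : Subgroup.zpowers x < Subgroup.zpowers x ⊔ cen P₁ := by
    apply lt_of_le_of_ne le_sup_left
    intro heq
    have h1 : cen P₁ ≤ Subgroup.zpowers x := by rw [heq]; exact le_sup_right
    have h2 : cen P₁ = Subgroup.zpowers x :=
      Subgroup.eq_of_le_of_card_ge h1 (by rw [h.cardZ, hordx])
    exact hxZ (h2 ▸ Subgroup.mem_zpowers x)
  have hcardlt := card_lt_of_lt hlt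
  rw [hordx, hcard] at hcardlt
  have hne : Subgroup.zpowers x ⊔ cen P₁ ≠ P₁ := by
    intro heq
    apply h.nonab
    rw [← heq]
    exact hel.1
  have hlt3 : Nat.card ↥(Subgroup.zpowers x ⊔ cen P₁) < p ^ 3 := by
    rw [← h.card]
    exact card_lt_of_lt (lt_of_le_of_ne hle hne)
  rw [hcard] at hlt3 ⊢
  have hm3 : m < 3 := (Nat.pow_lt_pow_iff_right hpp.one_lt).mp hlt3
  have hm1 : 1 < m := by
    have : p ^ 1 < p ^ m := by rwa [pow_one]
    exact (Nat.pow_lt_pow_iff_right hpp.one_lt).mp this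
  have : m = 2 := by omega
  rw [this]

/-- the subgroups of order `p` other than `Z₀` of an abelian subgroup `A ≥ Z₀` of order `p ^ 2`
of `P₁` are conjugate under `P₁`. -/
theorem exists_conj_eq [Finite G] (h : CubeData p P₁) {A Y₀ Y : Subgroup G} (hAP : A ≤ P₁)
    (hZA : cen P₁ ≤ A) (hAcard : Nat.card A = p ^ 2)
    (hY₀A : Y₀ ≤ A) (hY₀ : Nat.card Y₀ = p) (hY₀Z : Y₀ ≠ cen P₁)
    (hYA : Y ≤ A) (hY : Nat.card Y = p) (hYZ : Y ≠ cen P₁) :
    ∃ g ∈ P₁, Y₀.map (MulAut.conj g).toMonoidHom = Y := by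
  have hpp := hp.out
  -- `A = Y₀ Z₀`
  have hcomm : ∀ a ∈ Y₀, ∀ b ∈ cen P₁, a * b = b * a := fun a ha b hb =>
    (mem_cen.mp hb).2 a (hAP (hY₀A ha))
  have hlt : Y₀ < Y₀ ⊔ cen P₁ := by
    apply lt_of_le_of_ne le_sup_left
    intro heq
    have h1 : cen P₁ ≤ Y₀ := by rw [heq]; exact le_sup_right
    exact hY₀Z (Subgroup.eq_of_le_of_card_ge h1 (by rw [h.cardZ, hY₀])).symm
  have hsup : Y₀ ⊔ cen P₁ = A := by
    have hle : Y₀ ⊔ cen P₁ ≤ A := sup_le hY₀A hZA
    have hdvd : Nat.card ↥(Y₀ ⊔ cen P₁) ∣ p ^ 2 := by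
      rw [← hAcard]; exact Subgroup.card_dvd_of_le hle
    obtain ⟨m, hm, hcard⟩ := (Nat.dvd_prime_pow hpp).mp hdvd
    have hcardlt := card_lt_of_lt hlt
    rw [hY₀, hcard] at hcardlt
    have hm1 : 1 < m := by
      have : p ^ 1 < p ^ m := by rwa [pow_one]
      exact (Nat.pow_lt_pow_iff_right hpp.one_lt).mp this
    have : m = 2 := by omega
    apply Subgroup.eq_of_le_of_card_ge hle
    rw [hAcard, hcard, this]
  -- a generator of `Y`
  have hYnt : Y ≠ ⊥ := by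
    intro hb
    rw [hb, Subgroup.card_bot] at hY
    exact hpp.one_lt.ne hY
  obtain ⟨y, hy1⟩ := (Subgroup.ne_bot_iff_exists_ne_one.mp hYnt)
  have hyY' : (y : G) ∈ Y := y.2
  have hy1' : (y : G) ≠ 1 := fun h1 => hy1 (Subtype.ext h1)
  have hYgen : Y = Subgroup.zpowers (y : G) := by
    symm
    apply Subgroup.eq_of_le_of_card_ge (Subgroup.zpowers_le.mpr hyY')
    rw [hY, Nat.card_zpowers, orderOf_eq_prime (h.exp _ (hAP (hYA hyY'))) hy1']
  have hyZ : (y : G) ∉ cen P₁ := by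
    intro hyZ
    apply hYZ
    have h1 : Y ≤ cen P₁ := by rw [hYgen]; exact Subgroup.zpowers_le.mpr hyZ
    exact Subgroup.eq_of_le_of_card_ge h1 (by rw [h.cardZ, hY])
  have hyA : (y : G) ∈ Y₀ ⊔ cen P₁ := by rw [hsup]; exact hYA hyY'
  rw [mem_sup_of_commute _ _ hcomm] at hyA
  obtain ⟨u, hu, z, hz, hyuz⟩ := hyA
  have huZ : u ∉ cen P₁ := by
    intro huZ
    apply hyZ
    rw [hyuz]
    exact (cen P₁).mul_mem huZ hz
  obtain ⟨g, hg, hgu⟩ := h.exists_conj_mul (hAP (hY₀A hu)) huZ hz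
  refine ⟨g⁻¹, P₁.inv_mem hg, ?_⟩
  symm
  apply Subgroup.eq_of_le_of_card_ge
  · rw [hYgen, Subgroup.zpowers_le]
    refine ⟨u, hu, ?_⟩
    simp only [MulEquiv.coe_toMonoidHom, MulAut.conj_apply, inv_inv]
    rw [hgu, hyuz]
  · rw [Subgroup.card_map_of_injective (MulAut.conj g⁻¹).injective, hY, hY₀]

end CubeData

end Cfsg.Agent.Lib.Helper11.Cube
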