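import Mathlib
import Cfsg.Prelude
import Cfsg.Agent.Lib.Helper11.CubeSub
import Cfsg.Agent.Lib.Helper17.OddAct

/-!
# Coprime action of a nonabelian group of order `p ^ 3` and exponent `p` with trivial centre action

`CubeData.le_of_inf_centralizer_le`: if `P₁` (nonabelian of order `p ^ 3`, exponent `p`) normalizes
a `p'`-subgroup `K` centralized by `Z₀ = Z(P₁)`, then `K` is generated by the `C_K(x)`,
`x ∈ P₁ \ Z₀`.
-/

set_option autoImplicit false
open Cfsg

namespace Cfsg.Agent.Lib.Helper11.Cube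

open Cfsg.Agent.Lib.Helper17.OddAct

variable {G : Type*} [Group G]

namespace CubeData

variable {p : ℕ} [hp : Fact p.Prime] {P₁ : Subgroup G}

theorem le_of_inf_centralizer_le [Finite G] (h : CubeData p P₁) {K T : Subgroup G}
    (hN : P₁ ≤ Subgroup.normalizer (K : Set G)) (hcop : (Nat.card K).Coprime p)
    (hKZ : K ≤ Subgroup.centralizer (cen P₁ : Set G))
    (hT : ∀ x ∈ P₁, x ∉ cen P₁ → K ⊓ Subgroup.centralizer ({x} : Set G) ≤ T) : K ≤ T := by
  have hpp := hp.out
  let φ : ↥P₁ →* MulAut ↥K := K.normalizerMonoidHom.comp (Subgroup.inclusion hN)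
  have hφ : ∀ (x : ↥P₁) (w : ↥K), ((φ x w : ↥K) : G) = (x : G) * w * (x : G)⁻¹ := fun x w => rfl
  -- the centre acts trivially
  have hker : ∀ x : ↥P₁, (x : G) ∈ cen P₁ → φ x = 1 := by
    intro x hx
    ext w
    rw [hφ, MulAut.one_apply]
    have h1 := (Subgroup.mem_centralizer_iff.mp (hKZ w.2)) (x : G) hx
    rw [h1, mul_inv_cancel_right]
  -- fixed points
  have hfix : ∀ (x : ↥P₁) (w : ↥K), φ x w = w →
      (w : G) ∈ K ⊓ Subgroup.centralizer ({(x : G)} : Set G) := by
    intro x w hw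
    refine Subgroup.mem_inf.mpr ⟨w.2, ?_⟩
    rw [Subgroup.mem_centralizer_iff]
    intro y hy
    rw [Set.mem_singleton_iff] at hy
    subst hy
    have h1 : (x : G) * w * (x : G)⁻¹ = w := by rw [← hφ, hw]
    calc (x : G) * w = (x : G) * w * (x : G)⁻¹ * x := by group
      _ = w * x := by rw [h1]
  let E : Subgroup (MulAut ↥K) := φ.range
  have hEcomm : IsMulCommutative ↥E := by
    refine ⟨⟨?_⟩⟩
    rintro ⟨_, x, rfl⟩ ⟨_, y, rfl⟩
    apply Subtype.ext
    show φ x * φ y = φ y * φ x
    have h1 : φ (x⁻¹ * y⁻¹ * x * y) = 1 := hker _ (h.comm x x.2 y y.2)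
    have h2 : φ x * φ y = φ y * φ x * φ (x⁻¹ * y⁻¹ * x * y) := by
      rw [← map_mul, ← map_mul, ← map_mul]
      congr 1
      group
    rw [h2, h1, mul_one]
  have hEdvd : Nat.card ↥E ∣ p ^ 3 := by
    rw [← h.card]
    exact Subgroup.card_range_dvd φ
  have hEcop : (Nat.card ↥E).Coprime (Nat.card ↥K) := by
    apply Nat.Coprime.coprime_dvd_left hEdvd
    exact (Nat.Coprime.pow_left 3 hcop.symm)
  by_cases hcyc : IsCyclic ↥E
  · -- some noncentral element acts trivially
    have hEexp : ∀ e : ↥E, e ^ p = 1 := by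
      rintro ⟨_, x, rfl⟩
      apply Subtype.ext
      show φ x ^ p = 1
      rw [← map_pow]
      have h1 : x ^ p = 1 := Subtype.ext (h.exp x x.2)
      rw [h1, map_one]
    have hEcard : Nat.card ↥E ∣ p := by
      rw [← IsCyclic.exponent_eq_card]
      exact Monoid.exponent_dvd_of_forall_pow_eq_one hEexp
    have hEle : Nat.card ↥E ≤ p := Nat.le_of_dvd hpp.pos hEcard
    have hmul : Nat.card ↥φ.ker * Nat.card ↥E = p ^ 3 := by
      have h1 := Subgroup.card_mul_index φ.ker
      rw [Subgroup.index_ker, h.card] at h1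
      exact h1
    have hex : ∃ x : ↥P₁, φ x = 1 ∧ (x : G) ∉ cen P₁ := by
      by_contra hcon
      push Not at hcon
      have hle : φ.ker ≤ (cen P₁).subgroupOf P₁ := by
        intro x hx
        rw [Subgroup.mem_subgroupOf]
        exact hcon x (MonoidHom.mem_ker.mp hx)
      have h1 : Nat.card ↥φ.ker ≤ Nat.card ↥((cen P₁).subgroupOf P₁) :=
        Subgroup.card_le_of_le hle
      have h2 : Nat.card ↥((cen P₁).subgroupOf P₁) = p := by
        rw [Nat.card_congr (Subgroup.subgroupOfEquivOfLe (cen_le P₁)).toEquiv, h.cardZ]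
      rw [h2] at h1
      have h3 : p ^ 3 ≤ p * p := by
        rw [← hmul]
        exact Nat.mul_le_mul h1 hEle
      have h4 : p * p < p ^ 3 := by
        have : p * p = p ^ 2 := by ring
        rw [this]
        exact Nat.pow_lt_pow_right hpp.one_lt (by norm_num)
      omega
    obtain ⟨x, hx1, hxZ⟩ := hex
    refine le_trans ?_ (hT x x.2 hxZ)
    intro w hw
    apply hfix x ⟨w, hw⟩
    rw [hx1, MulAut.one_apply]
  · have key := le_of_inf_Fx_le E hcyc hEcop ⊤ (fun _ _ _ _ => Subgroup.mem_top _)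
      (T.subgroupOf K) (by
        rintro _ ⟨x, rfl⟩ hne w hw
        rw [Subgroup.mem_subgroupOf]
        have hxZ : (x : G) ∉ cen P₁ := fun hx => hne (hker x hx)
        apply hT x x.2 hxZ
        exact hfix x w (mem_Fx.mp hw.2))
    intro w hw
    have := key (Subgroup.mem_top (⟨w, hw⟩ : ↥K))
    rwa [Subgroup.mem_subgroupOf] at this

end CubeData

end Cfsg.Agent.Lib.Helper11.Cube
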