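import Mathlib
import Cfsg.Prelude
import Cfsg.Agent.Lib.Helper11.BGTwelveE
import Cfsg.Agent.Lib.Helper11.CubeAct
import Cfsg.Agent.Lib.Helper10.BGTwelveE
import Cfsg.Agent.Lib.Helper23.WardBasic
import Cfsg.Agent.Lib.Helper29.BG125
import Cfsg.Agent.S1412

/-!
# Bender--Glauberman, Theorem 12.13 (helper11): nonabelian `p`-subgroups are uniqueness subgroups

* `u2`: a nonabelian Sylow `p`-subgroup of rank `2` of `G` lies in a unique maximal subgroup.
* `inUniqueMaximal_of_nonabelian`: row S1422.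
-/

set_option autoImplicit false
open Cfsg
open Cfsg.Agent.Lib.Helper10.BG
open Cfsg.Agent.Lib.Helper11.Cube

namespace Cfsg.Agent.Lib.Helper11.BG12

variable {G : Type*} [Group G] [Finite G]

theorem cent16 (hG : IsMinSimpleOddOrder G) : Cent16 G := by
  intro M hM p _ A hAM hAe hAcard
  exact (prop_12_4 hG p M A hM hAM hAe hAcard).1

omit [Finite G] in
theorem eq_of_isCoatom_le {M L : Subgroup G} (hM : IsCoatom M) (hL : IsCoatom L) (h : M ≤ L) :
    M = L := by
  by_contra hne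
  exact hL.1 (hM.2 L (lt_of_le_of_ne h hne))

/-- a maximal subgroup containing a nonabelian `p`-subgroup has `p ∈ σ(M)`. -/
theorem mem_sigma_of_nonabelian (hG : IsMinSimpleOddOrder G) {M : Subgroup G} (hM : IsCoatom M)
    {p : ℕ} [Fact p.Prime] {P : Subgroup G} (hP : IsPGroup p P) (hPM : P ≤ M)
    (hna : ¬ IsMulCommutative P) : p ∈ sigma M := by
  by_contra hpσ
  have hnc : ¬ IsCyclic P := fun hc => hna inferInstance
  have hP1 : P ≠ ⊥ := by
    rintro rfl
    exact hnc inferInstance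
  have hp2 : p ≠ 2 := prime_ne_two_of_pgroup hG hP hP1
  obtain ⟨A, hAP, hAe, hAcard⟩ := exists_elementary_sq_le hp2 hP hnc
  obtain ⟨A₀, hExc⟩ := Cfsg.Agent.Lib.Helper29.BG125.exists_exc
    (fun M hM A hA hno => ((prop_12_4 hG p M A hM hA.1 hA.2.1 hA.2.2).2 hno).1)
    hM hpσ ⟨hAP.trans hPM, hAe, hAcard⟩
  obtain ⟨T, hT, hPT⟩ := exists_isSylowIn_ge hPM hP
  have hab := (sec11 hG).abelian hExc T hT
  exact hna ⟨⟨fun a b => Subtype.ext (hab a (hPT a.2) b (hPT b.2))⟩⟩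

/-- if `M_σ` is nilpotent and `p ∈ σ(M)`, a Sylow `p`-subgroup of `G` inside `M` is normal in `M`. -/
theorem le_normalizer_of_isNilpotent_sigmaCore (hG : IsMinSimpleOddOrder G) {M : Subgroup G}
    (hM : IsCoatom M) {p : ℕ} [Fact p.Prime] (hp : p ∈ sigma M)
    (hnil : Group.IsNilpotent (sigmaCore M)) {S : Subgroup G} (hS : IsSylowIn p S ⊤)
    (hSM : S ≤ M) : M ≤ Subgroup.normalizer (S : Set G) := by
  have hSσ : S ≤ sigmaCore M :=
    Cfsg.Agent.Lib.Helper9.BGExc.pgroup_le_sigmaCore hG hM hp hS.isPGroup hSM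
  have h1 : S ≤ pCoreOf p (sigmaCore M) :=
    Cfsg.Agent.Lib.Helper9.BG10.pgroup_le_pCoreOf_of_nilpotent hnil Fact.out hSσ hS.isPGroup
  have h2 : pCoreOf p (sigmaCore M) = S := hS.eq_of_le le_top (isPGroup_pCoreOf p _) h1
  have h3 : M ≤ Subgroup.normalizer (pCoreOf p (sigmaCore M) : Set G) :=
    le_normalizer_pCoreOf_of_le (le_normalizer_sigmaCore M)
  rwa [h2] at h3

/-- a `p`-rank bound for `M` from a Sylow `p`-subgroup. -/
theorem pRankLE_of_isSylowIn {p k : ℕ} [Fact p.Prime] {S M : Subgroup G} (hS : IsSylowIn p S M)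
    (hr : PRankLE p k ↥S) : PRankLE p k ↥M := by
  by_contra h
  exact not_pRankLE_sylow_of_not_pRankLE hS h hr

omit [Finite G] in
theorem centralizer_singleton_le_normalizer_zpowers (x : G) :
    Subgroup.centralizer ({x} : Set G) ≤ Subgroup.normalizer (Subgroup.zpowers x : Set G) := by
  intro y hy
  rw [Subgroup.mem_normalizer_iff]
  have hxy : x * y = y * x := (Subgroup.mem_centralizer_iff.mp hy) x rfl
  have hc : Commute y x := hxy.symm
  intro z
  constructor
  · rintro ⟨k, rfl⟩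
    refine ⟨k, ?_⟩
    show x ^ k = y * x ^ k * y⁻¹
    rw [(hc.zpow_right k).eq, mul_inv_cancel_right]
  · rintro ⟨k, hk⟩
    refine ⟨k, ?_⟩
    have hk' : x ^ k = y * z * y⁻¹ := hk
    have : z = y⁻¹ * (y * z * y⁻¹) * y := by group
    rw [this, ← hk']
    show x ^ k = y⁻¹ * x ^ k * y
    rw [mul_assoc, ← (hc.zpow_right k).eq, inv_mul_cancel_left]

/-- the key step of Theorem U2. -/
theorem u2_aux (hG : IsMinSimpleOddOrder G) {p : ℕ} [Fact p.Prime] {S P₁ M L A A₀ : Subgroup G}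
    (hS : IsSylowIn p S ⊤) (hr : PRankLE p 2 ↥S) (hP₁S : P₁ ≤ S) (hcube : CubeData p P₁)
    (hM : IsCoatom M) (hL : IsCoatom L) (hSM : S ≤ M) (hSL : S ≤ L)
    (hpM : p ∈ sigma M) (hpL : p ∈ sigma L)
    (hAP : A ≤ P₁) (hZA : cen P₁ ≤ A) (hAcard : Nat.card A = p ^ 2)
    (hAe : IsElementaryAbelian p A)
    (hA₀A : A₀ ≤ A) (hA₀ : Nat.card A₀ = p) (hA₀Z : A₀ ≠ cen P₁)
    (hN : Subgroup.normalizer (A₀ : Set G) ≤ L) : M = L := by
  have hpp : p.Prime := Fact.out
  by_contra hne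
  have hP₁M : P₁ ≤ M := hP₁S.trans hSM
  have hP₁L : P₁ ≤ L := hP₁S.trans hSL
  have hAM : A ≤ M := hAP.trans hP₁M
  have hNSL : Subgroup.normalizer (S : Set G) ≤ L :=
    (sigmaProp_of_mem_sigma hL hpL).2 S (hS.of_le hSL le_top)
  -- (1) all subgroups of order `p` of `A` other than `Z₀` have their normalizers in `L`
  have hY : ∀ Y : Subgroup G, Y ≤ A → Nat.card Y = p → Y ≠ cen P₁ →
      Subgroup.normalizer (Y : Set G) ≤ L := by
    intro Y hYA hYcard hYZ x hx
    obtain ⟨g, hg, hgY⟩ := hcube.exists_conj_eq hAP hZA hAcard hA₀A hA₀ hA₀Z hYA hYcard hYZ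
    rw [← hgY] at hx
    have h1 := hN (conj_mem_normalizer_of_mem_normalizer_map_conj hx)
    have hgL : g ∈ L := hP₁L hg
    have h2 : x = g * (g⁻¹ * x * g) * g⁻¹ := by group
    rw [h2]
    exact L.mul_mem (L.mul_mem hgL h1) (L.inv_mem hgL)
  -- (2) Lemma 12.3
  have hpα : p ∉ alpha M := by
    intro hα
    exact hα.2 (pRankLE_of_isSylowIn (hS.of_le hSM le_top) hr)
  have hAC : A ≤ Subgroup.centralizer ((alphaCore M ⊓ L : Subgroup G) : Set G) :=
    (lemma_12_3 hG hM hL hne hA₀A hAM hA₀ hAcard hAe hN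
      (fun hExc => (sec11 hG).normal hExc)).2 hpα
  have hKC : alphaCore M ⊓ L ≤ Subgroup.centralizer (A : Set G) :=
    Subgroup.le_centralizer_iff.mp hAC
  -- (3) `M_α ≤ C(Z₀)`
  have hcopα : (Nat.card (alphaCore M)).Coprime p := coprime_card_alphaCore hpp hpα
  have hMαN : M ≤ Subgroup.normalizer (alphaCore M : Set G) := le_normalizer_alphaCore M
  have hKZ : alphaCore M ≤ Subgroup.centralizer (cen P₁ : Set G) := by
    have hW := Cfsg.Agent.Lib.Helper23.Ward.eq_iSup_centralizer hpp (A := A) (K := alphaCore M)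
      (fun x hx y hy => congrArg Subtype.val (hAe.1.is_comm.comm (⟨x, hx⟩ : ↥A) ⟨y, hy⟩))
      hAe.2 hAcard (hAM.trans hMαN)
      (fun hd => (Nat.Prime.coprime_iff_not_dvd hpp).mp hcopα.symm hd)
    rw [hW]
    apply iSup_le
    rintro ⟨x, hxA, hx1⟩
    by_cases hxZ : x ∈ cen P₁
    · have h1 : cen P₁ = Subgroup.zpowers x := hcube.cen_eq_zpowers hxZ hx1
      rw [h1, Cfsg.Agent.Lib.Helper9.BGExc.centralizer_zpowers]
      exact inf_le_right
    · have hxp : x ^ p = 1 := hAe.2 x hxA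
      have hcard : Nat.card (Subgroup.zpowers x) = p := by
        rw [Nat.card_zpowers, orderOf_eq_prime hxp hx1]
      have hne' : Subgroup.zpowers x ≠ cen P₁ := by
        intro heq
        exact hxZ (heq ▸ Subgroup.mem_zpowers x)
      have h1 := hY (Subgroup.zpowers x) (Subgroup.zpowers_le.mpr hxA) hcard hne'
      have h2 : alphaCore M ⊓ Subgroup.centralizer ({x} : Set G) ≤ alphaCore M ⊓ L :=
        inf_le_inf_left _ ((centralizer_singleton_le_normalizer_zpowers x).trans h1)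
      exact h2.trans (hKC.trans (Subgroup.centralizer_le hZA))
  -- (4) `C_{M_α}(x) ≤ L` for noncentral `x ∈ P₁`
  have h4 : ∀ x ∈ P₁, x ∉ cen P₁ → alphaCore M ⊓ Subgroup.centralizer ({x} : Set G) ≤ L := by
    intro x hx hxZ
    obtain ⟨hel, hcard⟩ := hcube.elementary_sup hx hxZ
    have hle : Subgroup.zpowers x ⊔ cen P₁ ≤ L :=
      (sup_le (Subgroup.zpowers_le.mpr hx) (cen_le P₁)).trans hP₁L
    have h1 := cent16 hG L hL p _ hle hel hcard
    refine le_trans ?_ h1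
    intro y hy
    have hy1 : y ∈ Subgroup.centralizer (cen P₁ : Set G) := hKZ hy.1
    have hy2 : y ∈ Subgroup.centralizer ({x} : Set G) := hy.2
    have hle2 : Subgroup.zpowers x ⊔ cen P₁ ≤ Subgroup.centralizer ({y} : Set G) := by
      apply sup_le
      · rw [Subgroup.zpowers_le, Subgroup.mem_centralizer_iff]
        intro z hz
        rw [Set.mem_singleton_iff] at hz
        subst hz
        exact ((Subgroup.mem_centralizer_iff.mp hy2) x rfl).symm
      · intro z hz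
        rw [Subgroup.mem_centralizer_iff]
        intro w hw
        rw [Set.mem_singleton_iff] at hw
        subst hw
        exact ((Subgroup.mem_centralizer_iff.mp hy1) z hz).symm
    rw [Subgroup.mem_centralizer_iff]
    intro a ha
    exact ((Subgroup.mem_centralizer_iff.mp (hle2 ha)) y rfl).symm
  -- (5) generation
  have h5 : alphaCore M ≤ L :=
    hcube.le_of_inf_centralizer_le (hP₁M.trans hMαN) hcopα hKZ h4
  -- (6) conclusion
  by_cases hα : alphaCore M = ⊥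
  · have hnil := Cfsg.Agent.Lib.Helper10.BG.isNilpotent_sigmaCore_of_alphaCore_eq_bot hG hM hα
    have h6 := le_normalizer_of_isNilpotent_sigmaCore hG hM hpM hnil hS hSM
    exact hne (eq_of_isCoatom_le hM hL (h6.trans hNSL))
  · have hcard1 : Nat.card (alphaCore M) ≠ 1 := fun h1 => hα (Subgroup.card_eq_one.mp h1)
    obtain ⟨r, hr, hrd⟩ := Nat.exists_prime_and_dvd hcard1
    have : Fact r.Prime := ⟨hr⟩
    have hrα : r ∈ alpha M := mem_alpha_of_dvd_card_alphaCore hr hrd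
    have hrk := not_pRankLE_alphaCore hG hM hrα
    have hαtop : alphaCore M ≠ ⊤ := by
      intro htop
      apply hM.1
      rw [eq_top_iff, ← htop]
      exact alphaCore_le M
    obtain ⟨M₀, -, huniq⟩ := inUniqueMaximal_of_not_pRankLE hG hr hαtop hrk
    have e1 := huniq M ⟨hM, alphaCore_le M⟩
    have e2 := huniq L ⟨hL, h5⟩
    exact hne (e1.trans e2.symm)

/-- **Theorem U2**: a nonabelian Sylow `p`-subgroup of `p`-rank `2` lies in at most one maximal
subgroup. -/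
theorem u2 (hG : IsMinSimpleOddOrder G) {p : ℕ} [Fact p.Prime] {S M L : Subgroup G}
    (hS : IsSylowIn p S ⊤) (hr : PRankLE p 2 ↥S) (hna : ¬ IsMulCommutative S)
    (hM : IsCoatom M) (hL : IsCoatom L) (hSM : S ≤ M) (hSL : S ≤ L) : M = L := by
  have hpp : p.Prime := Fact.out
  have hpM : p ∈ sigma M := mem_sigma_of_nonabelian hG hM hS.isPGroup hSM hna
  have hpL : p ∈ sigma L := mem_sigma_of_nonabelian hG hL hS.isPGroup hSL hna
  have hNSL : Subgroup.normalizer (S : Set G) ≤ L :=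
    (sigmaProp_of_mem_sigma hL hpL).2 S (hS.of_le hSL le_top)
  have hNSM : Subgroup.normalizer (S : Set G) ≤ M :=
    (sigmaProp_of_mem_sigma hM hpM).2 S (hS.of_le hSM le_top)
  rcases Cfsg.Agent.S1412.result hG p hS.toSylowTop hr with hab | ⟨P₁, P₂, hsup, -, hP₁na, hP₁card,
    hP₁exp, -, -⟩
  · exact absurd hab hna
  have hP₁S : P₁ ≤ S := by
    have : P₁ ≤ P₁ ⊔ P₂ := le_sup_left
    rw [hsup] at this
    exact this
  have hcube : CubeData p P₁ := cubeData_of hP₁card hP₁na hP₁exp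
  -- a noncentral element
  have hex : ∃ a ∈ P₁, a ∉ cen P₁ := by
    by_contra hcon
    push Not at hcon
    have h1 : cen P₁ = P₁ := le_antisymm (cen_le P₁) hcon
    have h2 := hcube.cardZ
    rw [h1, hcube.card] at h2
    have h3 : p ^ 1 < p ^ 3 := Nat.pow_lt_pow_right hpp.one_lt (by norm_num)
    rw [pow_one] at h3
    omega
  obtain ⟨a, haP, haZ⟩ := hex
  obtain ⟨hAe, hAcard⟩ := hcube.elementary_sup haP haZ
  set A := Subgroup.zpowers a ⊔ cen P₁ with hA
  have hAP : A ≤ P₁ := sup_le (Subgroup.zpowers_le.mpr haP) (cen_le P₁)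
  have hZA : cen P₁ ≤ A := le_sup_right
  have hAM : A ≤ M := hAP.trans (hP₁S.trans hSM)
  have hAL : A ≤ L := hAP.trans (hP₁S.trans hSL)
  by_contra hne
  -- Proposition 12.4 for `L` and for `M`
  have hexL : ∃ A₀ : Subgroup G, A₀ ≤ A ∧ Nat.card A₀ = p ∧
      (Subgroup.normalizer (A₀ : Set G) ≤ L ∧
        ∀ L' : Subgroup G, IsCoatom L' → Subgroup.normalizer (A₀ : Set G) ≤ L' → L' = L) := by
    by_contra hcon
    push Not at hcon
    have h1 := (prop_12_4 hG p L A hL hAL hAe hAcard).2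
      (fun A₀ hA₀A hA₀ hh => by
        obtain ⟨L', hL', hNL', hne'⟩ := hcon A₀ hA₀A hA₀ hh.1
        exact hne' (hh.2 L' hL' hNL'))
    have h2 := le_normalizer_of_isNilpotent_sigmaCore hG hL hpL h1.2.2 hS hSL
    exact hne (eq_of_isCoatom_le hL hM (h2.trans hNSM)).symm
  have hexM : ∃ A₀ : Subgroup G, A₀ ≤ A ∧ Nat.card A₀ = p ∧
      (Subgroup.normalizer (A₀ : Set G) ≤ M ∧
        ∀ L' : Subgroup G, IsCoatom L' → Subgroup.normalizer (A₀ : Set G) ≤ L' → L' = M) := by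
    by_contra hcon
    push Not at hcon
    have h1 := (prop_12_4 hG p M A hM hAM hAe hAcard).2
      (fun A₀ hA₀A hA₀ hh => by
        obtain ⟨L', hL', hNL', hne'⟩ := hcon A₀ hA₀A hA₀ hh.1
        exact hne' (hh.2 L' hL' hNL'))
    have h2 := le_normalizer_of_isNilpotent_sigmaCore hG hM hpM h1.2.2 hS hSM
    exact hne (eq_of_isCoatom_le hM hL (h2.trans hNSL))
  obtain ⟨AL, hALA, hALcard, hALN, hALu⟩ := hexL
  obtain ⟨AM, hAMA, hAMcard, hAMN, hAMu⟩ := hexM
  by_cases h1 : AL = cen P₁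
  · by_cases h2 : AM = cen P₁
    · -- both equal `Z₀`
      have h3 : Subgroup.normalizer (AL : Set G) ≤ M := by rw [h1, ← h2]; exact hAMN
      exact hne (hALu M hM h3)
    · exact hne (u2_aux hG hS hr hP₁S hcube hL hM hSL hSM hpL hpM hAP hZA hAcard hAe hAMA hAMcard
        h2 hAMN).symm
  · exact hne (u2_aux hG hS hr hP₁S hcube hM hL hSM hSL hpM hpL hAP hZA hAcard hAe hALA hALcard
      h1 hALN)

/-- **Bender--Glauberman, Theorem 12.13** (row S1422). -/
theorem inUniqueMaximal_of_nonabelian (hG : IsMinSimpleOddOrder G) {p : ℕ} [Fact p.Prime]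
    {P : Subgroup G} (hP : IsPGroup p P) (hna : ¬ IsMulCommutative P) : InUniqueMaximal P := by
  have hpp : p.Prime := Fact.out
  have hnc : ¬ IsCyclic P := fun hc => hna inferInstance
  have hP1 : P ≠ ⊥ := by
    rintro rfl
    exact hnc inferInstance
  have hp2 : p ≠ 2 := prime_ne_two_of_pgroup hG hP hP1
  have hPtop : P ≠ ⊤ := Cfsg.Agent.Lib.Lead.BGTrans.pgroup_ne_top hG.2 hP
  obtain ⟨M₁, hM₁, hPM₁⟩ := exists_isCoatom_ge hPtop
  refine ⟨M₁, ⟨hM₁, hPM₁⟩, ?_⟩
  rintro M₂ ⟨hM₂, hPM₂⟩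
  have hp₁ : p ∈ sigma M₁ := mem_sigma_of_nonabelian hG hM₁ hP hPM₁ hna
  have hp₂ : p ∈ sigma M₂ := mem_sigma_of_nonabelian hG hM₂ hP hPM₂ hna
  obtain ⟨T, hT, hPT⟩ := exists_isSylowIn_ge (le_inf hPM₁ hPM₂) hP
  have hTna : ¬ IsMulCommutative T := by
    intro hc
    apply hna
    exact ⟨⟨fun a b => Subtype.ext (by
      simpa using congrArg Subtype.val (hc.is_comm.comm (⟨a, hPT a.2⟩ : ↥T) ⟨b, hPT b.2⟩))⟩⟩
  have hTnc : ¬ IsCyclic T := fun hc => hTna inferInstance
  have hN₁ : Subgroup.normalizer (T : Set G) ≤ M₁ :=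
    normalizer_le_of_not_isCyclic hG (cent16 hG) hM₁ hp₁ hT.isPGroup (hT.le.trans inf_le_left) hTnc
  have hN₂ : Subgroup.normalizer (T : Set G) ≤ M₂ :=
    normalizer_le_of_not_isCyclic hG (cent16 hG) hM₂ hp₂ hT.isPGroup (hT.le.trans inf_le_right) hTnc
  have hT₁ : IsSylowIn p T M₁ := by
    apply IsSylowIn.of_normalizer_le (hT.le.trans inf_le_left) hT.isPGroup
    intro x _ hxN hxp
    have hx : x ∈ M₁ ⊓ M₂ := ⟨hN₁ hxN, hN₂ hxN⟩
    have h3 := hT.eq_of_le (sup_le hT.le (Subgroup.zpowers_le.mpr hx)) hxp le_sup_left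
    rw [← h3]
    exact Subgroup.mem_sup_right (Subgroup.mem_zpowers x)
  have hTtop : IsSylowIn p T ⊤ := (sigmaProp_of_mem_sigma hM₁ hp₁).isSylowIn_top hT₁
  by_cases hr : PRankLE p 2 ↥T
  · exact (u2 hG hTtop hr hTna hM₁ hM₂ (hT.le.trans inf_le_left) (hT.le.trans inf_le_right)).symm
  · have hTne : T ≠ ⊤ := by
      intro htop
      apply hM₁.1
      rw [eq_top_iff, ← htop]
      exact hT.le.trans inf_le_left
    obtain ⟨M₀, -, huniq⟩ := inUniqueMaximal_of_not_pRankLE hG hpp hTne hr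
    have e1 := huniq M₁ ⟨hM₁, hT.le.trans inf_le_left⟩
    have e2 := huniq M₂ ⟨hM₂, hT.le.trans inf_le_right⟩
    exact e2.trans e1.symm

end Cfsg.Agent.Lib.Helper11.BG12
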