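import Mathlib
import Cfsg.Prelude
import Cfsg.Agent.Lib.Helper11.BGTwelveF
import Cfsg.Agent.Lib.Helper13.PNilpotent
import Cfsg.Agent.S1414
import Cfsg.Agent.S1453

/-!
# Bender--Glauberman, Corollary 12.14 (helper11): centralizers of subgroups of order `p`

Row S1423: for `p ∈ σ(M)` and `X ≤ M` of order `p` with `p ∈ β(M)` or `X ≤ (M_σ)'`, `C_G(X)` lies
in `M` only, and so does a Sylow `p`-subgroup of `M_σ`.
-/

set_option autoImplicit false
open Cfsg
open scoped commutatorElement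
open Cfsg.Agent.Lib.Helper10.BG
open Cfsg.Agent.Lib.Helper11.Cube

namespace Cfsg.Agent.Lib.Helper11.BG12

section Focal

variable {K : Type*} [Group K]

omit [Group K] in
theorem commutator_self_le [Group K] (Q : Subgroup K) : ⁅Q, Q⁆ ≤ Q := by
  rw [Subgroup.commutator_le]
  intro a ha b hb
  rw [commutatorElement_def]
  exact Q.mul_mem (Q.mul_mem (Q.mul_mem ha hb) (Q.inv_mem ha)) (Q.inv_mem hb)

/-- the focal subgroup of a complemented subgroup. -/
theorem inf_commutator_le_of_isComplement' {N Q : Subgroup K} [N.Normal]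
    (hc : N.IsComplement' Q) : Q ⊓ commutator K ≤ ⁅Q, Q⁆ := by
  intro x hx
  obtain ⟨hxQ, hxK⟩ := Subgroup.mem_inf.mp hx
  have hsurj : Function.Surjective (QuotientGroup.mk' N) := QuotientGroup.mk'_surjective N
  have hNbot : N.map (QuotientGroup.mk' N) = ⊥ := QuotientGroup.map_mk'_self N
  have h1 : Q.map (QuotientGroup.mk' N) = ⊤ := by
    have h0 : (N ⊔ Q).map (QuotientGroup.mk' N) = ⊤ := by
      rw [hc.sup_eq_top]
      exact Subgroup.map_top_of_surjective _ hsurj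
    rw [Subgroup.map_sup, hNbot, bot_sup_eq] at h0
    exact h0
  have h2 : (commutator K).map (QuotientGroup.mk' N) = (⁅Q, Q⁆).map (QuotientGroup.mk' N) := by
    rw [commutator_def, Subgroup.map_commutator, Subgroup.map_commutator, h1,
      Subgroup.map_top_of_surjective _ hsurj]
  have h3 : QuotientGroup.mk' N x ∈ (⁅Q, Q⁆).map (QuotientGroup.mk' N) := by
    rw [← h2]
    exact Subgroup.mem_map_of_mem _ hxK
  obtain ⟨y, hy, hyx⟩ := h3
  have h4 : y⁻¹ * x ∈ N := by
    have : (y : K ⧸ N) = (x : K ⧸ N) := hyx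
    exact QuotientGroup.eq.mp this
  have hyQ : y ∈ Q := commutator_self_le Q hy
  have h5 : y⁻¹ * x ∈ N ⊓ Q := Subgroup.mem_inf.mpr ⟨h4, Q.mul_mem (Q.inv_mem hyQ) hxQ⟩
  have h6 : y⁻¹ * x = 1 := by
    have hd := hc.disjoint
    rw [disjoint_iff] at hd
    rw [hd] at h5
    exact Subgroup.mem_bot.mp h5
  have h7 : x = y := (inv_mul_eq_one.mp h6).symm
  rw [h7]
  exact hy

end Focal

section SubgroupLevel

variable {G : Type*} [Group G]

/-- `T ∩ K' = T'` for a Sylow `p`-subgroup `T` of a group `K` with a normal `p`-complement. -/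
theorem sylow_inf_commutator_le [Finite G] {p : ℕ} [Fact p.Prime] {K T : Subgroup G}
    (h : HasNormalPComplement p ↥K) (hT : IsSylowIn p T K) : T ⊓ ⁅K, K⁆ ≤ ⁅T, T⁆ := by
  obtain ⟨N, hNn, hcop, k, hk⟩ := Cfsg.Agent.Lib.Helper13.hasNormalPComplement_iff_exists.mp h
  have hc := Cfsg.Agent.Lib.Helper13.isComplement'_sylow_of_coprime_of_index_pow N hcop hk
    hT.toSylow
  rw [hT.coe_toSylow] at hc
  have key := inf_commutator_le_of_isComplement' hc
  intro x hx
  obtain ⟨hxT, hxK'⟩ := Subgroup.mem_inf.mp hx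
  have hxK : x ∈ K := hT.le hxT
  have h1 : (⟨x, hxK⟩ : ↥K) ∈ T.subgroupOf K ⊓ commutator ↥K := by
    refine Subgroup.mem_inf.mpr ⟨Subgroup.mem_subgroupOf.mpr hxT, ?_⟩
    have h2 : x ∈ (commutator ↥K).map K.subtype := by
      rw [Subgroup.map_subtype_commutator]; exact hxK'
    obtain ⟨y, hy, hyx⟩ := h2
    have : y = ⟨x, hxK⟩ := Subtype.ext hyx
    rwa [← this]
  have h3 := key h1
  have h4 : x ∈ (⁅T.subgroupOf K, T.subgroupOf K⁆).map K.subtype := ⟨_, h3, rfl⟩
  rw [Subgroup.map_commutator, Subgroup.subgroupOf_map_subtype, inf_of_le_left hT.le] at h4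
  exact h4

/-- the join of two elementwise commuting elementary abelian subgroups is elementary abelian. -/
theorem isElementaryAbelian_sup {p : ℕ} {B Z : Subgroup G}
    (hB : IsElementaryAbelian p B) (hZ : IsElementaryAbelian p Z)
    (hc : ∀ x ∈ B, ∀ z ∈ Z, x * z = z * x) : IsElementaryAbelian p (B ⊔ Z) := by
  have hBc : ∀ a ∈ B, ∀ b ∈ B, a * b = b * a := fun a ha b hb =>
    congrArg Subtype.val (hB.1.is_comm.comm (⟨a, ha⟩ : ↥B) ⟨b, hb⟩)
  have hZc : ∀ a ∈ Z, ∀ b ∈ Z, a * b = b * a := fun a ha b hb =>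
    congrArg Subtype.val (hZ.1.is_comm.comm (⟨a, ha⟩ : ↥Z) ⟨b, hb⟩)
  have hab : ∀ a ∈ B ⊔ Z, ∀ b ∈ B ⊔ Z, a * b = b * a := by
    intro a ha b hb
    rw [mem_sup_of_commute _ _ hc] at ha hb
    obtain ⟨a₁, ha₁, a₂, ha₂, rfl⟩ := ha
    obtain ⟨b₁, hb₁, b₂, hb₂, rfl⟩ := hb
    have e1 := hBc a₁ ha₁ b₁ hb₁
    have e2 : a₂ * b₁ = b₁ * a₂ := (hc b₁ hb₁ a₂ ha₂).symm
    have e3 := hZc a₂ ha₂ b₂ hb₂
    have e4 := hc a₁ ha₁ b₂ hb₂
    calc a₁ * a₂ * (b₁ * b₂) = a₁ * (a₂ * b₁) * b₂ := by group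
      _ = a₁ * (b₁ * a₂) * b₂ := by rw [e2]
      _ = (a₁ * b₁) * (a₂ * b₂) := by group
      _ = (b₁ * a₁) * (b₂ * a₂) := by rw [e1, e3]
      _ = b₁ * (a₁ * b₂) * a₂ := by group
      _ = b₁ * (b₂ * a₁) * a₂ := by rw [e4]
      _ = b₁ * b₂ * (a₁ * a₂) := by group
  refine ⟨⟨⟨fun a b => Subtype.ext (hab a a.2 b b.2)⟩⟩, ?_⟩
  intro a ha
  rw [mem_sup_of_commute _ _ hc] at ha
  obtain ⟨a₁, ha₁, a₂, ha₂, rfl⟩ := ha
  rw [(show Commute a₁ a₂ from hc a₁ ha₁ a₂ ha₂).mul_pow, hB.2 a₁ ha₁, hZ.2 a₂ ha₂, one_mul]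

theorem card_sup_dvd [Finite G] {B Z : Subgroup G} (hc : ∀ x ∈ B, ∀ z ∈ Z, x * z = z * x) :
    Nat.card ↥(B ⊔ Z) ∣ Nat.card B * Nat.card Z := by
  have comm : ∀ (m : ↥B) (n : ↥Z), Commute (B.subtype m) (Z.subtype n) :=
    fun m n => hc m m.2 n n.2
  have h1 := MonoidHom.noncommCoprod_range B.subtype Z.subtype comm
  rw [Subgroup.range_subtype, Subgroup.range_subtype] at h1
  rw [← h1, ← Nat.card_prod]
  exact Subgroup.card_range_dvd _

theorem isElementaryAbelian_of_card_prime {p : ℕ} [Fact p.Prime] {X : Subgroup G}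
    (hX : Nat.card X = p) : IsElementaryAbelian p X := by
  have : IsCyclic ↥X := isCyclic_of_prime_card hX
  refine ⟨inferInstance, fun x hx => ?_⟩
  have h1 : (⟨x, hx⟩ : ↥X) ^ Nat.card ↥X = 1 := pow_card_eq_one'
  rw [hX] at h1
  exact congrArg Subtype.val h1

/-- a subgroup of order `p` of a `p`-group `T` is central or lies in an elementary abelian
subgroup `X Z` of order `p ^ 2` with `Z ≤ Z(T)`. -/
theorem central_or_exists_sq [Finite G] {p : ℕ} [Fact p.Prime] {T X : Subgroup G}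
    (hT : IsPGroup p T) (hXT : X ≤ T) (hX : Nat.card X = p) :
    X ≤ cen T ∨ ∃ Z : Subgroup G, Z ≤ cen T ∧ IsElementaryAbelian p (X ⊔ Z) ∧
      Nat.card ↥(X ⊔ Z) = p ^ 2 := by
  have hpp : p.Prime := Fact.out
  have hX1 : X ≠ ⊥ := by
    intro hb
    rw [hb, Subgroup.card_bot] at hX
    exact hpp.one_lt.ne hX
  have hTnt : Nontrivial ↥T := by
    obtain ⟨x, hx1⟩ := Subgroup.ne_bot_iff_exists_ne_one.mp hX1
    refine ⟨⟨⟨x, hXT x.2⟩, 1, fun h => hx1 (Subtype.ext ?_)⟩⟩
    have := congrArg Subtype.val h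
    exact this
  have hZnt : Nontrivial (Subgroup.center ↥T) := hT.center_nontrivial
  have hZp : IsPGroup p (Subgroup.center ↥T) := hT.to_subgroup _
  obtain ⟨n, hn⟩ := hZp.exists_card_eq
  have hn0 : n ≠ 0 := by
    rintro rfl
    rw [pow_zero] at hn
    have := Finite.one_lt_card_iff_nontrivial.mpr hZnt
    omega
  have hdvd : p ∣ Nat.card (Subgroup.center ↥T) := by
    rw [hn]; exact dvd_pow_self p hn0
  obtain ⟨z, hz⟩ := exists_prime_orderOf_dvd_card' p hdvd
  -- `z : center T` of order `p`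
  have hzG : ((z : ↥T) : G) ∈ cen T := by
    rw [cen_eq_map_center]
    exact ⟨(z : ↥T), z.2, rfl⟩
  have hzord : orderOf ((z : ↥T) : G) = p := by
    rw [← hz]
    rw [Subgroup.orderOf_coe, Subgroup.orderOf_coe]
  have hzp : ((z : ↥T) : G) ^ p = 1 := by rw [← hzord]; exact pow_orderOf_eq_one _
  have hz1 : ((z : ↥T) : G) ≠ 1 := by
    intro h1
    rw [h1, orderOf_one] at hzord
    exact hpp.one_lt.ne hzord
  set w : G := ((z : ↥T) : G) with hw
  by_cases hwX : w ∈ X
  · left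
    have h1 : Subgroup.zpowers w = X := by
      apply Subgroup.eq_of_le_of_card_ge (Subgroup.zpowers_le.mpr hwX)
      rw [hX, Nat.card_zpowers, hzord]
    rw [← h1, Subgroup.zpowers_le]
    exact hzG
  · right
    have hZle : Subgroup.zpowers w ≤ cen T := Subgroup.zpowers_le.mpr hzG
    have hZcard : Nat.card ↥(Subgroup.zpowers w) = p := by rw [Nat.card_zpowers, hzord]
    have hc : ∀ x ∈ X, ∀ y ∈ Subgroup.zpowers w, x * y = y * x := fun x hx y hy =>
      (mem_cen.mp (hZle hy)).2 x (hXT hx)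
    have hel : IsElementaryAbelian p (X ⊔ Subgroup.zpowers w) :=
      isElementaryAbelian_sup (isElementaryAbelian_of_card_prime hX)
        (isElementaryAbelian_of_card_prime hZcard) hc
    refine ⟨Subgroup.zpowers w, hZle, hel, ?_⟩
    have hdvd2 : Nat.card ↥(X ⊔ Subgroup.zpowers w) ∣ p ^ 2 := by
      have := card_sup_dvd hc
      rwa [hX, hZcard, ← sq] at this
    obtain ⟨m, hm, hcard⟩ := (Nat.dvd_prime_pow hpp).mp hdvd2
    have hlt : X < X ⊔ Subgroup.zpowers w := by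
      apply lt_of_le_of_ne le_sup_left
      intro heq
      apply hwX
      rw [heq]
      exact Subgroup.mem_sup_right (Subgroup.mem_zpowers w)
    have hcardlt := card_lt_of_lt hlt
    rw [hX, hcard] at hcardlt
    have hm1 : 1 < m := by
      have : p ^ 1 < p ^ m := by rwa [pow_one]
      exact (Nat.pow_lt_pow_iff_right hpp.one_lt).mp this
    have : m = 2 := by omega
    rw [hcard, this]

end SubgroupLevel

section TypeLevel

variable {R : Type*} [Group R] [Finite R]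

/-- in a `p`-group of rank at least `3` (`p` odd), a subgroup of order `p` of the commutator
subgroup lies in an elementary abelian subgroup of order at least `p ^ 3`. -/
theorem exists_elementary_cube_of_le_commutator {p : ℕ} [Fact p.Prime] (hp2 : p ≠ 2)
    (hR : IsPGroup p R) (hr : ¬ PRankLE p 2 R) {X : Subgroup R} (hX : Nat.card X = p)
    (hXc : X ≤ commutator R) :
    ∃ B : Subgroup R, IsElementaryAbelian p B ∧ X ≤ B ∧ p ^ 2 < Nat.card B := by
  have hRtop : IsPGroup p (⊤ : Subgroup R) := hR.to_subgroup _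
  have hcen : ∀ z ∈ cen (⊤ : Subgroup R), ∀ x : R, x * z = z * x := fun z hz x =>
    (mem_cen.mp hz).2 x (Subgroup.mem_top x)
  rcases central_or_exists_sq hRtop (le_top : X ≤ ⊤) hX with hXZ | ⟨Z, hZ, hAe, hAcard⟩
  · -- `X` central
    unfold PRankLE at hr
    push Not at hr
    obtain ⟨B₀, hB₀c, hB₀p, hB₀card⟩ := hr
    refine ⟨B₀ ⊔ X, isElementaryAbelian_sup ⟨hB₀c, hB₀p⟩ (isElementaryAbelian_of_card_prime hX)
      (fun x _ z hz => hcen z (hXZ hz) x), le_sup_right, ?_⟩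
    exact lt_of_lt_of_le hB₀card (Subgroup.card_le_of_le le_sup_left)
  · by_contra hno
    push Not at hno
    have hmax : ∀ B : Subgroup R, IsElementaryAbelian p B → X ⊔ Z ≤ B → B = X ⊔ Z := by
      intro B hBe hAB
      have h1 := hno B hBe (le_sup_left.trans hAB)
      symm
      apply Subgroup.eq_of_le_of_card_ge hAB
      rw [hAcard]
      exact h1
    obtain ⟨hnot, -, -, hchar, hidx⟩ :=
      Cfsg.Agent.S1453.result p hp2 hR hr (X ⊔ Z) hAe hAcard hmax
    apply hnot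
    have hnorm := Subgroup.normal_of_characteristic (H := Subgroup.centralizer
      ((Subgroup.closure {x : R | x ∈ Subgroup.upperCentralSeries R 2 ∧ x ^ p = 1} :
        Subgroup R) : Set R))
    have hq : Nat.card (R ⧸ Subgroup.centralizer
      ((Subgroup.closure {x : R | x ∈ Subgroup.upperCentralSeries R 2 ∧ x ^ p = 1} :
        Subgroup R) : Set R)) = p := by
      rw [← Subgroup.index_eq_card]; exact hidx
    have hcyc := isCyclic_of_prime_card hq
    have hcomm : commutator R ≤ Subgroup.centralizer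
      ((Subgroup.closure {x : R | x ∈ Subgroup.upperCentralSeries R 2 ∧ x ^ p = 1} :
        Subgroup R) : Set R) :=
      Subgroup.Normal.quotient_commutative_iff_commutator_le.mp inferInstance
    apply sup_le (hXc.trans hcomm)
    intro z hz
    rw [Subgroup.mem_centralizer_iff]
    intro x _
    exact hcen z (hZ hz) x

end TypeLevel

section Main

variable {G : Type*} [Group G] [Finite G]

/-- subgroup version of `exists_elementary_cube_of_le_commutator`. -/
theorem exists_elementary_cube_le {p : ℕ} [Fact p.Prime] (hp2 : p ≠ 2) {T X : Subgroup G}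
    (hT : IsPGroup p T) (hr : ¬ PRankLE p 2 ↥T) (hX : Nat.card X = p) (hXT : X ≤ ⁅T, T⁆) :
    ∃ B : Subgroup G, B ≤ T ∧ IsElementaryAbelian p B ∧ X ≤ B ∧ p ^ 2 < Nat.card B := by
  have hXT' : X ≤ T := hXT.trans (commutator_self_le T)
  have hcard : Nat.card ↥(X.subgroupOf T) = p := by
    rw [Nat.card_congr (Subgroup.subgroupOfEquivOfLe hXT').toEquiv, hX]
  have hle : X.subgroupOf T ≤ commutator ↥T := by
    intro x hx
    have h1 : (x : G) ∈ (commutator ↥T).map T.subtype := by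
      rw [Subgroup.map_subtype_commutator]
      exact hXT (Subgroup.mem_subgroupOf.mp hx)
    obtain ⟨y, hy, hyx⟩ := h1
    have : y = x := Subtype.ext hyx
    rwa [← this]
  obtain ⟨B, hBe, hXB, hBcard⟩ := exists_elementary_cube_of_le_commutator hp2 hT hr hcard hle
  refine ⟨B.map T.subtype, Subgroup.map_subtype_le B, isElementaryAbelian_map _ hBe, ?_, ?_⟩
  · intro x hx
    exact ⟨⟨x, hXT' hx⟩, hXB (Subgroup.mem_subgroupOf.mpr hx), rfl⟩
  · rw [Subgroup.card_map_of_injective T.subtype_injective]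
    exact hBcard

omit [Finite G] in
theorem commutatorElement_mul_left_of_commute {a z y : G} (hz : z * y = y * z) :
    ⁅a * z, y⁆ = ⁅a, y⁆ := by
  rw [commutatorElement_def, commutatorElement_def, mul_inv_rev]
  calc a * z * y * (z⁻¹ * a⁻¹) * y⁻¹ = a * (z * y) * z⁻¹ * a⁻¹ * y⁻¹ := by group
    _ = a * (y * z) * z⁻¹ * a⁻¹ * y⁻¹ := by rw [hz]
    _ = a * y * a⁻¹ * y⁻¹ := by group

omit [Finite G] in
theorem commutatorElement_mul_right_of_commute {a b z : G} (hz : z * a = a * z) :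
    ⁅a, b * z⁆ = ⁅a, b⁆ := by
  rw [commutatorElement_def, commutatorElement_def, mul_inv_rev]
  have hz' : z * a⁻¹ = a⁻¹ * z := (Commute.inv_right (show Commute z a from hz)).eq
  calc a * (b * z) * a⁻¹ * (z⁻¹ * b⁻¹) = a * b * (z * a⁻¹) * z⁻¹ * b⁻¹ := by group
    _ = a * b * (a⁻¹ * z) * z⁻¹ * b⁻¹ := by rw [hz']
    _ = a * b * a⁻¹ * b⁻¹ := by group

/-- the rank `2` case: `T' ≤ Z(T)` for a nonabelian Sylow `p`-subgroup of rank `2`. -/
theorem le_centralizer_of_le_commutator_rank_two (hG : IsMinSimpleOddOrder G) {p : ℕ}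
    [Fact p.Prime] {T X : Subgroup G} (hT : IsSylowIn p T ⊤) (hr : PRankLE p 2 ↥T)
    (hna : ¬ IsMulCommutative T) (hXT : X ≤ ⁅T, T⁆) :
    T ≤ Subgroup.centralizer (X : Set G) := by
  rcases Cfsg.Agent.S1412.result hG p hT.toSylowTop hr with hab | ⟨P₁, P₂, hsup, hcomm, hP₁na,
    hP₁card, hP₁exp, hP₂cyc, -⟩
  · exact absurd hab hna
  have hsup' : P₁ ⊔ P₂ = T := hsup
  have hcube : CubeData p P₁ := cubeData_of hP₁card hP₁na hP₁exp
  have hP₂ab : ∀ b ∈ P₂, ∀ b' ∈ P₂, b * b' = b' * b := by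
    intro b hb b' hb'
    have : IsMulCommutative ↥P₂ := inferInstance
    exact congrArg Subtype.val (this.is_comm.comm (⟨b, hb⟩ : ↥P₂) ⟨b', hb'⟩)
  have hmem : ∀ t ∈ T, ∃ a ∈ P₁, ∃ b ∈ P₂, t = a * b := by
    intro t ht
    rw [← hsup', mem_sup_of_commute _ _ hcomm] at ht
    exact ht
  -- `P₂` is central in `T`
  have hP₂c : ∀ b ∈ P₂, ∀ t ∈ T, b * t = t * b := by
    intro b hb t ht
    obtain ⟨a, ha, b', hb', rfl⟩ := hmem t ht
    calc b * (a * b') = (b * a) * b' := by group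
      _ = (a * b) * b' := by rw [hcomm a ha b hb]
      _ = a * (b * b') := by group
      _ = a * (b' * b) := by rw [hP₂ab b hb b' hb']
      _ = a * b' * b := by group
  -- `T' ≤ Z(P₁)`
  have hT' : ⁅T, T⁆ ≤ cen P₁ := by
    rw [Subgroup.commutator_le]
    intro x hx y hy
    obtain ⟨a₁, ha₁, b₁, hb₁, rfl⟩ := hmem x hx
    obtain ⟨a₂, ha₂, b₂, hb₂, rfl⟩ := hmem y hy
    have hP₁T : P₁ ≤ T := hsup' ▸ le_sup_left
    rw [commutatorElement_mul_left_of_commute (hP₂c b₁ hb₁ _ hy),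
      commutatorElement_mul_right_of_commute (hP₂c b₂ hb₂ a₁ (hP₁T ha₁))]
    have := hcube.comm a₁⁻¹ (P₁.inv_mem ha₁) a₂⁻¹ (P₁.inv_mem ha₂)
    rwa [inv_inv, inv_inv, ← commutatorElement_def] at this
  intro t ht
  rw [Subgroup.mem_centralizer_iff]
  intro x hx
  have hxZ := mem_cen.mp (hT' (hXT hx))
  obtain ⟨a, ha, b, hb, rfl⟩ := hmem t ht
  calc x * (a * b) = (x * a) * b := by group
    _ = (a * x) * b := by rw [← hxZ.2 a ha]
    _ = a * (x * b) := by group
    _ = a * (b * x) := by rw [hcomm x hxZ.1 b hb]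
    _ = a * b * x := by group

/-- a subgroup containing a uniqueness subgroup of `M` lies in `M` only. -/
theorem unique_of_inUniqueMaximal_le {U C M : Subgroup G} (hU : InUniqueMaximal U) (hUC : U ≤ C)
    (hM : IsCoatom M) (hUM : U ≤ M) (hC : C ≠ ⊤) :
    C ≤ M ∧ ∀ L : Subgroup G, IsCoatom L → C ≤ L → L = M := by
  obtain ⟨M₀, -, huniq⟩ := hU
  have e1 := huniq M ⟨hM, hUM⟩
  have key : ∀ L : Subgroup G, IsCoatom L → C ≤ L → L = M := fun L hL hCL =>
    (huniq L ⟨hL, hUC.trans hCL⟩).trans e1.symm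
  obtain ⟨L₀, hL₀, hCL₀⟩ := exists_isCoatom_ge hC
  exact ⟨(key L₀ hL₀ hCL₀) ▸ hCL₀, key⟩

/-- an elementary abelian subgroup of order at least `p ^ 3` of `M` containing `X` forces
`C_G(X)` into `M` only. -/
theorem centralizer_unique_of_elementary (hG : IsMinSimpleOddOrder G) {p : ℕ} [Fact p.Prime]
    {M X B : Subgroup G} (hM : IsCoatom M) (hBM : B ≤ M) (hBe : IsElementaryAbelian p B)
    (hXB : X ≤ B) (hcard : p ^ 2 < Nat.card B)
    (hC : Subgroup.centralizer (X : Set G) ≠ ⊤) :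
    Subgroup.centralizer (X : Set G) ≤ M ∧
      ∀ L : Subgroup G, IsCoatom L → Subgroup.centralizer (X : Set G) ≤ L → L = M := by
  have hBC : B ≤ Subgroup.centralizer (X : Set G) := by
    intro b hb
    rw [Subgroup.mem_centralizer_iff]
    intro x hx
    exact congrArg Subtype.val (hBe.1.is_comm.comm (⟨x, hXB hx⟩ : ↥B) ⟨b, hb⟩)
  have hBr : ¬ PRankLE p 2 ↥B := not_pRankLE_of_le (le_refl B) hBe hcard
  have hBU : InUniqueMaximal B :=
    inUniqueMaximal_of_not_pRankLE hG Fact.out (ne_top_of_le_isCoatom hM hBM) hBr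
  exact unique_of_inUniqueMaximal_le hBU hBC hM hBM hC

/-- **Bender--Glauberman, Corollary 12.14** (row S1423). -/
theorem s1423 (hG : IsMinSimpleOddOrder G) (M : Subgroup G) (hM : IsCoatom M) (p : ℕ)
    [Fact p.Prime] (hp : p ∈ sigma M) (X : Subgroup G) (hXM : X ≤ M) (hX : Nat.card X = p)
    (P : Sylow p ↥(sigmaCore M))
    (h : p ∈ beta M ∨ X ≤ ⁅sigmaCore M, sigmaCore M⁆) :
    (Subgroup.centralizer (X : Set G) ≤ M ∧
      ∀ L : Subgroup G, IsCoatom L → Subgroup.centralizer (X : Set G) ≤ L → L = M) ∧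
    InUniqueMaximal ((P : Subgroup ↥(sigmaCore M)).map (sigmaCore M).subtype) ∧
      (P : Subgroup ↥(sigmaCore M)).map (sigmaCore M).subtype ≤ M := by
  have hpp : p.Prime := Fact.out
  have hXp : IsPGroup p X := IsPGroup.of_card (n := 1) (by rw [hX, pow_one])
  have hX1 : X ≠ ⊥ := Cfsg.Agent.Lib.Helper9.BGExc.ne_bot_of_card_prime hX
  have hp2 : p ≠ 2 := prime_ne_two_of_pgroup hG hXp hX1
  have hPK : IsSylowIn p ((P : Subgroup ↥(sigmaCore M)).map (sigmaCore M).subtype)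
      (sigmaCore M) := isSylowIn_of_sylow P
  obtain ⟨hPM, hPtop⟩ := Cfsg.Agent.Lib.Helper9.BGExc.isSylowIn_of_sigmaCore hG hM hp hPK
  set Q := (P : Subgroup ↥(sigmaCore M)).map (sigmaCore M).subtype with hQ
  have hC : Subgroup.centralizer (X : Set G) ≠ ⊤ := by
    obtain ⟨x, hx1⟩ := Subgroup.ne_bot_iff_exists_ne_one.mp hX1
    have hx1' : (x : G) ≠ 1 := fun h1 => hx1 (Subtype.ext h1)
    intro htop
    apply Cfsg.Agent.Lib.Lead.BGTrans.centralizer_singleton_ne_top hG.2 hx1'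
    rw [eq_top_iff, ← htop]
    exact Subgroup.centralizer_le (Set.singleton_subset_iff.mpr x.2)
  by_cases hβ : p ∈ beta M
  · -- `p ∈ β(M)`
    have hα : ¬ PRankLE p 2 ↥M := hβ.1.2
    have hideal := hβ.2
    refine ⟨?_, ?_, hPM.le⟩
    · obtain ⟨T, hT, hXT⟩ := exists_isSylowIn_ge hXM hXp
      have hTtop := (sigmaProp_of_mem_sigma hM hp).isSylowIn_top hT
      have hTr : ¬ PRankLE p 2 ↥T := not_pRankLE_sylow_of_not_pRankLE hT hα
      have hex : ∃ B : Subgroup G, B ≤ T ∧ IsElementaryAbelian p B ∧ X ≤ B ∧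
          p ^ 2 < Nat.card B := by
        rcases central_or_exists_sq hT.isPGroup hXT hX with hXZ | ⟨Z, hZ, hAe, hAcard⟩
        · obtain ⟨B₀, hB₀T, hB₀e, hB₀card⟩ := Cfsg.Agent.S1400.exists_elementary_of_not_pRankLE hTr
          refine ⟨B₀ ⊔ X, sup_le hB₀T hXT, isElementaryAbelian_sup hB₀e
            (isElementaryAbelian_of_card_prime hX)
            (fun x hx z hz => (mem_cen.mp (hXZ hz)).2 x (hB₀T hx)), le_sup_right, ?_⟩
          exact lt_of_lt_of_le hB₀card (Subgroup.card_le_of_le le_sup_left)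
        · have hAT : X ⊔ Z ≤ T := sup_le hXT (hZ.trans (cen_le T))
          obtain ⟨B, hBT, hBe, hAB⟩ := hideal.2.2 hTtop.toSylowTop (X ⊔ Z) hAT hAe hAcard
          refine ⟨B, hBT, hBe, le_sup_left.trans hAB.le, ?_⟩
          rw [← hAcard]
          exact card_lt_of_lt hAB
      obtain ⟨B, hBT, hBe, hXB, hBcard⟩ := hex
      exact centralizer_unique_of_elementary hG hM (hBT.trans hT.le) hBe hXB hBcard hC
    · have hQr : ¬ PRankLE p 2 ↥Q := not_pRankLE_sylow_of_not_pRankLE hPM hα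
      exact inUniqueMaximal_of_not_pRankLE hG hpp (ne_top_of_le_isCoatom hM hPM.le) hQr
  · -- `X ≤ (M_σ)'`
    have hXK' : X ≤ ⁅sigmaCore M, sigmaCore M⁆ := h.resolve_left hβ
    have hnpc : HasNormalPComplement p ↥(sigmaCore M) :=
      ((Cfsg.Agent.S1414.result hG M hM).2.2.2.2 p hpp hp.2.1 hβ).2.1
    have hXK : X ≤ sigmaCore M := hXK'.trans (commutator_self_le _)
    obtain ⟨T, hT, hXT⟩ := exists_isSylowIn_ge hXK hXp
    obtain ⟨hTM, hTtop⟩ := Cfsg.Agent.Lib.Helper9.BGExc.isSylowIn_of_sigmaCore hG hM hp hT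
    have hXT' : X ≤ ⁅T, T⁆ := fun x hx =>
      sylow_inf_commutator_le hnpc hT (Subgroup.mem_inf.mpr ⟨hXT hx, hXK' hx⟩)
    have hTna : ¬ IsMulCommutative T := by
      intro hc
      apply hX1
      rw [eq_bot_iff]
      refine hXT'.trans ?_
      rw [Subgroup.commutator_le]
      intro a ha b hb
      rw [Subgroup.mem_bot, commutatorElement_eq_one_iff_mul_comm]
      exact congrArg Subtype.val (hc.is_comm.comm (⟨a, ha⟩ : ↥T) ⟨b, hb⟩)
    have hTU : InUniqueMaximal T := inUniqueMaximal_of_nonabelian hG hT.isPGroup hTna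
    refine ⟨?_, ?_, hPM.le⟩
    · by_cases hr : PRankLE p 2 ↥T
      · have hTC := le_centralizer_of_le_commutator_rank_two hG hTtop hr hTna hXT'
        exact unique_of_inUniqueMaximal_le hTU hTC hM hTM.le hC
      · obtain ⟨B, hBT, hBe, hXB, hBcard⟩ :=
          exists_elementary_cube_le hp2 hT.isPGroup hr hX hXT'
        exact centralizer_unique_of_elementary hG hM (hBT.trans hTM.le) hBe hXB hBcard hC
    · obtain ⟨x, -, hx⟩ := hPK.exists_conj hT
      have hQna : ¬ IsMulCommutative Q := by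
        intro hc
        apply hTna
        rw [hx]
        exact Subgroup.map_isMulCommutative Q _
      exact inUniqueMaximal_of_nonabelian hG hPK.isPGroup hQna

end Main

end Cfsg.Agent.Lib.Helper11.BG12
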