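import Mathlib
import Cfsg.Prelude
import Cfsg.Agent.Lib.Helper11.BGTwelveG
import Cfsg.Agent.Lib.Helper19.BG12B
import Cfsg.Agent.Lib.Helper19.BGCompl
import Cfsg.Agent.Lib.Helper9.BGExc7
import Cfsg.Agent.Lib.Helper9.BGPrime1
import Cfsg.Agent.S1418
import Cfsg.Agent.S1420
import Cfsg.Agent.S3745

/-!
# Bender--Glauberman, Lemma 14.1 (helper11)

Row S1432, relative to three consequences of Theorems 13.9 and 13.10 (rows S1430, S1431) taken
as hypotheses `H30a`, `H30c`, `H31a`.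
-/

set_option autoImplicit false
open Cfsg
open scoped commutatorElement
open Cfsg.Agent.Lib.Helper10.BG

namespace Cfsg.Agent.Lib.Helper11.BG14

variable {G : Type*} [Group G]

/-- S1430, first part: `K` acts in a prime manner on `M_σ`. -/
def H30a (G : Type*) [Group G] : Prop :=
  ∀ (M K : Subgroup G), IsCoatom M → IsPiHallOf (kappa M) K M → K ≠ ⊥ → ∀ k ∈ K, k ≠ 1 →
    sigmaCore M ⊓ Subgroup.centralizer ({k} : Set G) =
      sigmaCore M ⊓ Subgroup.centralizer (K : Set G)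

/-- S1430, third part: `N_M(X) = K K*` for `X ≤ K` of prime order. -/
def H30c (G : Type*) [Group G] : Prop :=
  ∀ (M K : Subgroup G), IsCoatom M → IsPiHallOf (kappa M) K M → K ≠ ⊥ → ∀ X : Subgroup G,
    X ≤ K → (Nat.card X).Prime →
    M ⊓ Subgroup.normalizer (X : Set G) = K ⊔ (sigmaCore M ⊓ Subgroup.centralizer (K : Set G))

/-- S1431, first part: `K* ∩ M^g = 1` for `g ∉ M`. -/
def H31a (G : Type*) [Group G] : Prop :=
  ∀ (M K : Subgroup G), IsCoatom M → IsPiHallOf (kappa M) K M → K ≠ ⊥ → ∀ g : G, g ∉ M →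
    (sigmaCore M ⊓ Subgroup.centralizer (K : Set G)) ⊓ M.map (MulAut.conj g).toMonoidHom = ⊥

variable [Finite G]

/-- a Hall `κ(M)`-subgroup of `M` containing a given `κ(M)`-subgroup. -/
theorem exists_kappa_hall_ge (hG : IsMinSimpleOddOrder G) {M : Subgroup G} (hM : IsCoatom M)
    {U : Subgroup G} (hUM : U ≤ M) (hU : ∀ p : ℕ, p.Prime → p ∣ Nat.card U → p ∈ kappa M) :
    ∃ K : Subgroup G, IsPiHallOf (kappa M) K M ∧ U ≤ K := by
  have hsolv : Group.IsSolvable ↥M := isSolvable_of_ne_top hG hM.1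
  have hcop : (Nat.card (⊥ : Subgroup G)).Coprime (Nat.card M) := by
    rw [Subgroup.card_bot]; exact Nat.coprime_one_left _
  obtain ⟨K, hK, -, hUK⟩ := (Cfsg.Agent.S3745.result (⊥ : Subgroup G) M bot_le hcop hsolv
    (kappa M)).2.2 U hUM bot_le hU
  exact ⟨K, hK, hUK⟩

/-- an element of prime order `r ∉ σ(M)` of `M` centralizing a nonidentity element of `M_σ` has
`r ∈ κ(M)` or `r ∈ τ₂(M)`. -/
theorem mem_kappa_or_tau2 (hG : IsMinSimpleOddOrder G) {M : Subgroup G} (hM : IsCoatom M)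
    {r : ℕ} [Fact r.Prime] {x y : G} (hx : x ∈ sigmaCore M) (hx1 : x ≠ 1) (hy : y ∈ M)
    (hyr : orderOf y = r) (hrσ : r ∉ sigma M) (hxy : y * x = x * y) :
    r ∈ kappa M ∨ r ∈ tau2 M := by
  have hr : r.Prime := Fact.out
  have hy1 : y ≠ 1 := by
    intro h1
    rw [h1, orderOf_one] at hyr
    exact hr.one_lt.ne hyr
  have hdvd : r ∣ Nat.card M := by
    rw [← hyr]
    have := orderOf_dvd_natCard (⟨y, hy⟩ : ↥M)
    rwa [Subgroup.orderOf_mk] at this
  have hr2 : PRankLE r 2 ↥M := alpha_rank M r hr (fun hα => hrσ (alpha_subset_sigma hG hM hα))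
  by_cases h1 : PRankLE r 1 ↥M
  · left
    refine ⟨hr, hdvd, hrσ, ?_⟩
    intro P
    have hQ₀ : IsSylowIn r ((P : Subgroup ↥M).map M.subtype) M := isSylowIn_of_sylow P
    have hZp : IsPGroup r (Subgroup.zpowers y) := by
      apply IsPGroup.of_card (n := 1)
      rw [Nat.card_zpowers, hyr, pow_one]
    have hZ1 : Subgroup.zpowers y ≠ ⊥ := by
      intro hb
      apply hy1
      have := Subgroup.mem_zpowers y
      rw [hb] at this
      exact Subgroup.mem_bot.mp this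
    have hp2 : r ≠ 2 := prime_ne_two_of_pgroup hG hZp hZ1
    constructor
    · have hc : IsCyclic ↥((P : Subgroup ↥M).map M.subtype) :=
        isCyclic_of_pRankLE_one hp2 h1 hQ₀.le hQ₀.isPGroup
      exact isCyclic_of_surjective
        ((P : Subgroup ↥M).equivMapOfInjective M.subtype M.subtype_injective).symm
        ((P : Subgroup ↥M).equivMapOfInjective M.subtype M.subtype_injective).symm.surjective
    · obtain ⟨T, hT, hyT⟩ := exists_isSylowIn_ge (Subgroup.zpowers_le.mpr hy) hZp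
      obtain ⟨m, hm, hconj⟩ := hT.exists_conj hQ₀
      have hmy : m * y * m⁻¹ ∈ (P : Subgroup ↥M).map M.subtype := by
        rw [hconj]
        exact ⟨y, hyT (Subgroup.mem_zpowers y), rfl⟩
      obtain ⟨x₀, hx₀P, hx₀⟩ := hmy
      refine ⟨x₀, hx₀P, ?_, m * x * m⁻¹, ?_, ?_, ?_⟩
      · intro h0
        rw [h0] at hx₀
        apply hy1
        have : m * y * m⁻¹ = 1 := hx₀.symm
        calc y = m⁻¹ * (m * y * m⁻¹) * m := by group
          _ = 1 := by rw [this]; group
      · exact conj_mem_of_mem_normalizer (le_normalizer_sigmaCore M hm) hx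
      · intro h0
        apply hx1
        calc x = m⁻¹ * (m * x * m⁻¹) * m := by group
          _ = 1 := by rw [h0]; group
      · have hx₀' : (x₀ : G) = m * y * m⁻¹ := hx₀
        rw [hx₀']
        calc m * y * m⁻¹ * (m * x * m⁻¹) = m * (y * x) * m⁻¹ := by group
          _ = m * (x * y) * m⁻¹ := by rw [hxy]
          _ = m * x * m⁻¹ * (m * y * m⁻¹) := by group
  · right
    exact ⟨hr, hrσ, hr2, h1⟩

/-- primes of `κ(M)` and of `τ₂(M)` do not mix in a cyclic subgroup of `M`. -/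
theorem no_mix (hG : IsMinSimpleOddOrder G) (h30c : H30c G) {M : Subgroup G} (hM : IsCoatom M)
    {r s : ℕ} [Fact r.Prime] [Fact s.Prime] (hr : r ∈ kappa M) (hs : s ∈ tau2 M) {y z : G}
    (hy : y ∈ M) (hyr : orderOf y = r) (hzs : orderOf z = s) (hz : z ∈ M)
    (hyz : y * z = z * y) : False := by
  have hrp : r.Prime := Fact.out
  have hsp : s.Prime := Fact.out
  have hZcard : Nat.card ↥(Subgroup.zpowers y) = r := by rw [Nat.card_zpowers, hyr]
  obtain ⟨K, hK, hyK⟩ := exists_kappa_hall_ge hG hM (Subgroup.zpowers_le.mpr hy) (by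
    intro p hp hd
    rw [hZcard] at hd
    rw [(Nat.prime_dvd_prime_iff_eq hp hrp).mp hd]
    exact hr)
  have hy1 : y ≠ 1 := by
    intro h1
    rw [h1, orderOf_one] at hyr
    exact hrp.one_lt.ne hyr
  have hK1 : K ≠ ⊥ := by
    intro hb
    apply hy1
    have := hyK (Subgroup.mem_zpowers y)
    rw [hb] at this
    exact Subgroup.mem_bot.mp this
  have hN := h30c M K hM hK hK1 (Subgroup.zpowers y) hyK (by rw [hZcard]; exact hrp)
  have hzN : z ∈ M ⊓ Subgroup.normalizer (Subgroup.zpowers y : Set G) := by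
    refine Subgroup.mem_inf.mpr ⟨hz, ?_⟩
    apply Cfsg.Agent.Lib.Helper11.BG12.centralizer_singleton_le_normalizer_zpowers y
    rw [Subgroup.mem_centralizer_iff]
    intro w hw
    rw [Set.mem_singleton_iff] at hw
    subst hw
    exact hyz
  rw [hN] at hzN
  have hcomm : ∀ a ∈ K, ∀ b ∈ sigmaCore M ⊓ Subgroup.centralizer (K : Set G), a * b = b * a :=
    fun a ha b hb => (Subgroup.mem_centralizer_iff.mp (Subgroup.mem_inf.mp hb).2) a ha
  have hd1 : s ∣ Nat.card ↥(K ⊔ (sigmaCore M ⊓ Subgroup.centralizer (K : Set G))) := by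
    rw [← hzs]
    have := orderOf_dvd_natCard (⟨z, hzN⟩ :
      ↥(K ⊔ (sigmaCore M ⊓ Subgroup.centralizer (K : Set G))))
    rwa [Subgroup.orderOf_mk] at this
  have hd2 := hd1.trans (Cfsg.Agent.Lib.Helper11.BG12.card_sup_dvd hcomm)
  rcases (Nat.Prime.dvd_mul hsp).mp hd2 with h | h
  · -- `s ∈ κ(M)`: cyclic Sylow subgroups
    have hsκ : s ∈ kappa M := hK.2.1 s hsp h
    obtain ⟨P⟩ : Nonempty (Sylow s ↥M) := inferInstance
    have hc := (hsκ.2.2.2 P).1
    have hQ₀ : IsSylowIn s ((P : Subgroup ↥M).map M.subtype) M := isSylowIn_of_sylow P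
    have hc' : IsCyclic ↥((P : Subgroup ↥M).map M.subtype) :=
      isCyclic_of_surjective
        ((P : Subgroup ↥M).equivMapOfInjective M.subtype M.subtype_injective)
        ((P : Subgroup ↥M).equivMapOfInjective M.subtype M.subtype_injective).surjective
    exact hs.2.2.2 (Cfsg.Agent.Lib.Helper9.BGPrime.pRankLE_one_of_cyclic hsp hQ₀ hc')
  · have h2 : s ∣ Nat.card (sigmaCore M) :=
      h.trans (Subgroup.card_dvd_of_le inf_le_left)
    exact hs.2.1 (Cfsg.Agent.Lib.Helper9.BGExc.mem_sigma_of_dvd_card_sigmaCore hG hM hsp h2)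

/-- the power of `x'` of prime order `r`. -/
theorem orderOf_pow_div {x' : G} {r : ℕ} (hr : r ∣ orderOf x') :
    orderOf (x' ^ (orderOf x' / r)) = r := by
  have h0 : orderOf x' ≠ 0 := (isOfFinOrder_of_finite x').orderOf_pos.ne'
  exact orderOf_pow_orderOf_div h0 hr

/-- **Bender--Glauberman, Lemma 14.1** (row S1432), relative to S1430 and S1431. -/
theorem lemma_14_1 (hG : IsMinSimpleOddOrder G) (h30a : H30a G) (h30c : H30c G) (h31a : H31a G)
    (M : Subgroup G) (hM : IsCoatom M) (x : G) (hx : x ∈ sigmaCore M) (hx1 : x ≠ 1) (x' : G)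
    (hx' : x' ∈ M ⊓ Subgroup.centralizer ({x} : Set G)) (hx'1 : x' ≠ 1)
    (hσ : ∀ p : ℕ, p.Prime → p ∣ orderOf x' → p ∉ sigma M) :
    ((∀ p : ℕ, p.Prime → p ∣ orderOf x' → p ∈ kappa M) ∧
        Subgroup.centralizer ({x} : Set G) ≤ M) ∨
      ((∀ p : ℕ, p.Prime → p ∣ orderOf x' → p ∈ tau2 M) ∧
        (∃ L : Subgroup G, IsCoatom L ∧ ∀ p : ℕ, p.Prime → p ∣ orderOf x' → p ∈ sigma L) ∧
        (Subgroup.centralizer ({x'} : Set G) ≤ M ∧ ∀ L : Subgroup G, IsCoatom L →
          Subgroup.centralizer ({x'} : Set G) ≤ L → L = M)) := by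
  obtain ⟨hx'M, hx'C⟩ := Subgroup.mem_inf.mp hx'
  have hcomm : x * x' = x' * x := (Subgroup.mem_centralizer_iff.mp hx'C) x rfl
  -- the powers of prime order
  have hpow : ∀ r : ℕ, r.Prime → r ∣ orderOf x' →
      x' ^ (orderOf x' / r) ∈ M ∧ orderOf (x' ^ (orderOf x' / r)) = r ∧
        x' ^ (orderOf x' / r) * x = x * x' ^ (orderOf x' / r) := by
    intro r _ hrd
    refine ⟨M.pow_mem hx'M _, orderOf_pow_div hrd, ?_⟩
    exact ((Commute.pow_right (show Commute x x' from hcomm) _).eq).symm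
  have hcls : ∀ r : ℕ, r.Prime → r ∣ orderOf x' → r ∈ kappa M ∨ r ∈ tau2 M := by
    intro r hr hrd
    haveI : Fact r.Prime := ⟨hr⟩
    obtain ⟨h1, h2, h3⟩ := hpow r hr hrd
    exact mem_kappa_or_tau2 hG hM hx hx1 h1 h2 (hσ r hr hrd) h3
  -- a prime divisor of the order of `x'`
  have hord1 : orderOf x' ≠ 1 := fun h => hx'1 (orderOf_eq_one_iff.mp h)
  obtain ⟨r₀, hr₀, hr₀d⟩ := Nat.exists_prime_and_dvd hord1
  haveI : Fact r₀.Prime := ⟨hr₀⟩
  obtain ⟨hy₀M, hy₀r, hy₀x⟩ := hpow r₀ hr₀ hr₀d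
  set y₀ := x' ^ (orderOf x' / r₀) with hy₀
  have hy₀1 : y₀ ≠ 1 := by
    intro h1
    rw [h1, orderOf_one] at hy₀r
    exact hr₀.one_lt.ne hy₀r
  have hpowcomm : ∀ a b : ℕ, x' ^ a * x' ^ b = x' ^ b * x' ^ a := fun a b =>
    (Commute.pow_pow (Commute.refl x') a b).eq
  rcases hcls r₀ hr₀ hr₀d with hκ | hτ
  · -- all primes in `κ(M)`
    left
    have hall : ∀ p : ℕ, p.Prime → p ∣ orderOf x' → p ∈ kappa M := by
      intro s hs hsd
      rcases hcls s hs hsd with h | h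
      · exact h
      · exfalso
        haveI : Fact s.Prime := ⟨hs⟩
        obtain ⟨h1, h2, -⟩ := hpow s hs hsd
        exact no_mix hG h30c hM hκ h hy₀M hy₀r h2 h1 (hpowcomm _ _)
    refine ⟨hall, ?_⟩
    -- `x ∈ K*`
    have hZcard : Nat.card ↥(Subgroup.zpowers y₀) = r₀ := by rw [Nat.card_zpowers, hy₀r]
    obtain ⟨K, hK, hyK⟩ := exists_kappa_hall_ge hG hM (Subgroup.zpowers_le.mpr hy₀M) (by
      intro p hp hd
      rw [hZcard] at hd
      rw [(Nat.prime_dvd_prime_iff_eq hp hr₀).mp hd]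
      exact hκ)
    have hy₀K : y₀ ∈ K := hyK (Subgroup.mem_zpowers y₀)
    have hK1 : K ≠ ⊥ := by
      intro hb
      rw [hb] at hy₀K
      exact hy₀1 (Subgroup.mem_bot.mp hy₀K)
    have hxK : x ∈ sigmaCore M ⊓ Subgroup.centralizer (K : Set G) := by
      rw [← h30a M K hM hK hK1 y₀ hy₀K hy₀1]
      refine Subgroup.mem_inf.mpr ⟨hx, ?_⟩
      rw [Subgroup.mem_centralizer_iff]
      intro w hw
      rw [Set.mem_singleton_iff] at hw
      subst hw
      exact hy₀x
    intro c hc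
    by_contra hcM
    have h1 := h31a M K hM hK hK1 c hcM
    have h2 : x ∈ (sigmaCore M ⊓ Subgroup.centralizer (K : Set G)) ⊓
        M.map (MulAut.conj c).toMonoidHom := by
      refine Subgroup.mem_inf.mpr ⟨hxK, ⟨x, Cfsg.Agent.Lib.Helper9.BGExc.sigmaCore_le M hx, ?_⟩⟩
      simp only [MulEquiv.coe_toMonoidHom, MulAut.conj_apply]
      have := (Subgroup.mem_centralizer_iff.mp hc) x rfl
      rw [← this, mul_inv_cancel_right]
    rw [h1] at h2
    exact hx1 (Subgroup.mem_bot.mp h2)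
  · -- all primes in `τ₂(M)`
    right
    have hall : ∀ p : ℕ, p.Prime → p ∣ orderOf x' → p ∈ tau2 M := by
      intro s hs hsd
      rcases hcls s hs hsd with h | h
      · exfalso
        haveI : Fact s.Prime := ⟨hs⟩
        obtain ⟨h1, h2, -⟩ := hpow s hs hsd
        exact no_mix hG h30c hM h hτ h1 h2 hy₀r hy₀M (hpowcomm _ _)
      · exact h
    -- a complement `E` containing `x'`
    have hcopx : (Nat.card ↥(Subgroup.zpowers x')).Coprime (Nat.card (sigmaCore M)) := by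
      apply Nat.Coprime.symm
      apply Nat.coprime_of_dvd
      intro q hq hd1 hd2
      rw [Nat.card_zpowers] at hd2
      exact hσ q hq hd2
        (Cfsg.Agent.Lib.Helper9.BGExc.mem_sigma_of_dvd_card_sigmaCore hG hM hq hd1)
    obtain ⟨E, hE, hxE⟩ := Cfsg.Agent.Lib.Helper9.BGExc.exists_isComplIn_sigmaCore_ge hG hM
      (Subgroup.zpowers_le.mpr hx'M) hcopx
    have hx'E : x' ∈ E := hxE (Subgroup.mem_zpowers x')
    have hhat : ∀ a : ℕ, x' ^ a ∈ sigmaHat M := fun a =>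
      ⟨M.pow_mem hx'M a, x, hx, hx1, ((Commute.pow_right (show Commute x x' from hcomm) a).eq).symm⟩
    have h204 := (Cfsg.Agent.S1420.result hG M hM E hE).2.2.2
    refine ⟨hall, ?_, ?_⟩
    · -- the maximal subgroup `L`
      obtain ⟨A, hAE, hAe, hAc⟩ := Cfsg.Agent.Lib.Helper19.BG12.tau2_elem_sq_compl hG hM hE hτ
      obtain ⟨⟨hEA, hXA⟩, -, -⟩ := Cfsg.Agent.S1418.result hG M hM E hE r₀ hτ A ⟨hAE, hAe, hAc⟩
      have hA1 : A ≠ ⊥ := Cfsg.Agent.Lib.Helper19.BG12.ne_bot_of_card_sq hAc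
      have hAtop : A ≠ ⊤ := ne_top_of_le_isCoatom hM (hAE.trans hE.1)
      have hNtop : Subgroup.normalizer (A : Set G) ≠ ⊤ :=
        Cfsg.Agent.Lib.Lead.BGTrans.normalizer_ne_top hG.2 hA1 hAtop
      obtain ⟨L, hL, hNL⟩ := exists_isCoatom_ge hNtop
      have hr₀L : r₀ ∈ sigma L :=
        Cfsg.Agent.Lib.Helper19.BG12.mem_sigma_of_normalizer_elem_le hG hL hAe hAc hNL
      have hEL : E ≤ L := hEA.trans hNL
      -- `y₀ ∈ A ≤ L_σ`
      have hy₀E : y₀ ∈ E := E.pow_mem hx'E _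
      have hy₀A : y₀ ∈ A := by
        have hZcard : Nat.card ↥(Subgroup.zpowers y₀) = r₀ := by rw [Nat.card_zpowers, hy₀r]
        exact hXA (Subgroup.zpowers y₀) (Subgroup.zpowers_le.mpr hy₀E) hZcard
          (Subgroup.mem_zpowers y₀)
      have hAp : IsPGroup r₀ A := Cfsg.Agent.Lib.Helper19.BG12.isPGroup_of_elem hAe
      have hALσ : A ≤ sigmaCore L := Cfsg.Agent.Lib.Helper9.BGExc.pgroup_le_sigmaCore hG hL hr₀L hAp
        (Subgroup.le_normalizer.trans hNL)
      refine ⟨L, hL, ?_⟩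
      intro s hs hsd
      by_contra hsL
      haveI : Fact s.Prime := ⟨hs⟩
      obtain ⟨hzM, hzs, -⟩ := hpow s hs hsd
      set z := x' ^ (orderOf x' / s) with hz
      have hz1 : z ≠ 1 := by
        intro h1
        rw [h1, orderOf_one] at hzs
        exact hs.one_lt.ne hzs
      have hzE : z ∈ E := E.pow_mem hx'E _
      have hzL : z ∈ L := hEL hzE
      have hsτ : s ∈ tau2 M := hall s hs hsd
      -- `s ∈ τ₂(L)`
      obtain ⟨B, hBE, hBe, hBc⟩ := Cfsg.Agent.Lib.Helper19.BG12.tau2_elem_sq_compl hG hM hE hsτ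
      have hBL : B ≤ L := hBE.trans hEL
      have hsτL : s ∈ tau2 L := by
        refine ⟨hs, hsL, alpha_rank L s hs (fun hα => hsL (alpha_subset_sigma hG hL hα)), ?_⟩
        apply not_pRankLE_of_le hBL hBe
        rw [hBc, pow_one]
        calc s = s ^ 1 := (pow_one s).symm
          _ < s ^ 2 := Nat.pow_lt_pow_right hs.one_lt (by norm_num)
      -- `C_G(z)` lies in `L` only and in `M` only
      have hcopL : (Nat.card ↥(Subgroup.zpowers z)).Coprime (Nat.card (sigmaCore L)) := by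
        rw [Nat.card_zpowers, hzs]
        exact (Cfsg.Agent.Lib.Helper9.BGExc.coprime_card_sigmaCore hG hL hs hsL).symm
      obtain ⟨E', hE', -⟩ := Cfsg.Agent.Lib.Helper9.BGExc.exists_isComplIn_sigmaCore_ge hG hL
        (Subgroup.zpowers_le.mpr hzL) hcopL
      have hprimes : ∀ p : ℕ, p.Prime → p ∣ orderOf z → p ∈ tau2 L := by
        intro p hp hd
        rw [hzs] at hd
        rw [(Nat.prime_dvd_prime_iff_eq hp hs).mp hd]
        exact hsτL
      have hprimesM : ∀ p : ℕ, p.Prime → p ∣ orderOf z → p ∈ tau2 M := by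
        intro p hp hd
        rw [hzs] at hd
        rw [(Nat.prime_dvd_prime_iff_eq hp hs).mp hd]
        exact hsτ
      have hzhatL : z ∈ sigmaHat L := ⟨hzL, y₀, hALσ hy₀A, hy₀1, hpowcomm _ _⟩
      have hL4 := (Cfsg.Agent.S1420.result hG L hL E' hE').2.2.2 z hzL hz1 hprimes hzhatL
      have hM4 := h204 z hzM hz1 hprimesM (hhat _)
      have hLM : L = M := hM4.2 L hL hL4.1
      rw [hLM] at hr₀L
      exact hτ.2.1 hr₀L
    · exact h204 x' hx'M hx'1 hall (by simpa using hhat 1)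

end Cfsg.Agent.Lib.Helper11.BG14
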