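import Mathlib
import Cfsg.Prelude
import Cfsg.Agent.Lib.Helper11.BGFourteenA
import Cfsg.Agent.Lib.Helper3.BGStubs
import Cfsg.Agent.Lib.Helper3.BG14B
import Cfsg.Agent.Lib.Helper3.BG14F

/-!
# Bender--Glauberman, the partner of a maximal subgroup of type `P` (helper11)

Relative to the frozen rows S1430, S1431 (as `P1430 G`, `P1431 G`): for a maximal subgroup `M`
with a nontrivial Hall `κ(M)`-subgroup `K`, `K* = C_{M_σ}(K)`, `X ≤ K` of prime order and a
maximal subgroup `L ≥ N_G(X)`: `π(K*) ⊆ κ(L)` and some Hall `κ(L)`-subgroup `Kt` of `L` has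
`K* ≤ Kt ≤ K K*`.
-/

set_option autoImplicit false
open Cfsg
open scoped commutatorElement
open Cfsg.Agent.Lib.Helper10.BG
open Cfsg.Agent.Lib.Helper3.BGStubs
open Cfsg.Agent.Lib.Helper9.BGExc

namespace Cfsg.Agent.Lib.Helper11.BG14

variable {G : Type*} [Group G] [Finite G]

/-- `N_G(Y) ≤ M` for `1 ≠ Y ≤ K*`. -/
theorem normalizer_le_of_le_kstar (h31 : P1431 G) {M K : Subgroup G} (hM : IsCoatom M)
    (hK : IsPiHallOf (kappa M) K M) (hK1 : K ≠ ⊥) {Y : Subgroup G}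
    (hY : Y ≤ sigmaCore M ⊓ Subgroup.centralizer (K : Set G)) (hY1 : Y ≠ ⊥) :
    Subgroup.normalizer (Y : Set G) ≤ M := by
  intro g hg
  by_contra hgM
  have h1 := (h31 M hM K hK hK1).1 g hgM
  rcases Subgroup.bot_or_exists_ne_one Y with hb | ⟨y, hy, hy1⟩
  · exact hY1 hb
  have h2 : g⁻¹ * y * g⁻¹⁻¹ ∈ Y := (Subgroup.mem_normalizer_iff.mp (inv_mem hg) y).mp hy
  have h3 : y ∈ (sigmaCore M ⊓ Subgroup.centralizer (K : Set G)) ⊓
      M.map (MulAut.conj g).toMonoidHom := by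
    refine Subgroup.mem_inf.mpr ⟨hY hy, ⟨g⁻¹ * y * g⁻¹⁻¹, sigmaCore_le M (hY h2).1, ?_⟩⟩
    simp only [MulEquiv.coe_toMonoidHom, MulAut.conj_apply]
    group
  rw [h1] at h3
  exact hy1 (Subgroup.mem_bot.mp h3)

/-- `C_G(y) ≤ M` for `y ∈ K*`, `y ≠ 1`. -/
theorem centralizer_le_of_mem_kstar (h31 : P1431 G) {M K : Subgroup G} (hM : IsCoatom M)
    (hK : IsPiHallOf (kappa M) K M) (hK1 : K ≠ ⊥) {y : G}
    (hy : y ∈ sigmaCore M ⊓ Subgroup.centralizer (K : Set G)) (hy1 : y ≠ 1) :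
    Subgroup.centralizer ({y} : Set G) ≤ M := by
  refine (Cfsg.Agent.Lib.Helper11.BG12.centralizer_singleton_le_normalizer_zpowers y).trans ?_
  apply normalizer_le_of_le_kstar h31 hM hK hK1 (Subgroup.zpowers_le.mpr hy)
  intro hb
  have := Subgroup.mem_zpowers y
  rw [hb] at this
  exact hy1 (Subgroup.mem_bot.mp this)

/-- a subgroup of prime order is generated by any of its nonidentity elements. -/
theorem zpowers_eq_of_prime_card {X : Subgroup G} (hX : (Nat.card X).Prime) {x₀ : G}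
    (hx₀X : x₀ ∈ X) (hx₀1 : x₀ ≠ 1) : Subgroup.zpowers x₀ = X := by
  apply Subgroup.eq_of_le_of_card_ge (Subgroup.zpowers_le.mpr hx₀X)
  have hd : orderOf x₀ ∣ Nat.card X := by
    have := orderOf_dvd_natCard (⟨x₀, hx₀X⟩ : ↥X)
    rwa [Subgroup.orderOf_mk] at this
  rw [Nat.card_zpowers]
  rcases (Nat.dvd_prime hX).mp hd with h | h
  · exact absurd (orderOf_eq_one_iff.mp h) hx₀1
  · exact h.ge

/-- **The partner lemma**: relative to S1430 and S1431. -/
theorem partner_hall (hG : IsMinSimpleOddOrder G) (h30 : P1430 G) (h31 : P1431 G)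
    {M K X L : Subgroup G} (hM : IsCoatom M) (hK : IsPiHallOf (kappa M) K M) (hK1 : K ≠ ⊥)
    (hXK : X ≤ K) (hX : (Nat.card X).Prime) (hL : IsCoatom L)
    (hNL : Subgroup.normalizer (X : Set G) ≤ L) :
    L ≠ M ∧ X ≤ sigmaCore L ∧
      K ⊔ (sigmaCore M ⊓ Subgroup.centralizer (K : Set G)) ≤ L ∧
      (∀ r : ℕ, r.Prime → r ∣ Nat.card ↥(sigmaCore M ⊓ Subgroup.centralizer (K : Set G)) →
        r ∉ sigma L ∧ r ∈ kappa L) ∧
      ∃ Kt : Subgroup G, IsPiHallOf (kappa L) Kt L ∧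
        sigmaCore M ⊓ Subgroup.centralizer (K : Set G) ≤ Kt ∧
        Kt ≤ K ⊔ (sigmaCore M ⊓ Subgroup.centralizer (K : Set G)) := by
  classical
  obtain ⟨h30a, -, h30c⟩ := h30 M hM K hK hK1
  obtain ⟨hNMX, -, hXσ⟩ := h30c X hXK hX
  have hXL : X ≤ sigmaCore L := hXσ L hL hNL
  obtain ⟨h31a, -, h31c, h31d⟩ := h31 M hM K hK hK1
  have hpL : Nat.card X ∈ sigma L :=
    mem_sigma_of_dvd_card_sigmaCore hG hL hX (Subgroup.card_dvd_of_le hXL)
  have hpκ : Nat.card X ∈ kappa M := hK.2.1 _ hX (Subgroup.card_dvd_of_le hXK)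
  have hpM : Nat.card X ∉ sigma M := hpκ.2.2.1
  have hLM : L ≠ M := by
    rintro rfl
    exact hpM hpL
  have hZL : K ⊔ (sigmaCore M ⊓ Subgroup.centralizer (K : Set G)) ≤ L := by
    rw [← hNMX]
    exact inf_le_right.trans hNL
  have hKsL : sigmaCore M ⊓ Subgroup.centralizer (K : Set G) ≤ L := le_sup_right.trans hZL
  have hKsM : sigmaCore M ⊓ Subgroup.centralizer (K : Set G) ≤ sigmaCore M := inf_le_left
  obtain ⟨x₀, hx₀X, hx₀1⟩ : ∃ x₀ ∈ X, x₀ ≠ 1 := by
    rcases Subgroup.bot_or_exists_ne_one X with hb | h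
    · rw [hb, Subgroup.card_bot] at hX
      exact absurd hX Nat.not_prime_one
    · exact h
  have hx₀L : x₀ ∈ sigmaCore L := hXL hx₀X
  have hx₀K : x₀ ∈ K := hXK hx₀X
  have hcomm : ∀ y ∈ sigmaCore M ⊓ Subgroup.centralizer (K : Set G), y * x₀ = x₀ * y :=
    fun y hy => ((Subgroup.mem_centralizer_iff.mp (Subgroup.mem_inf.mp hy).2) x₀ hx₀K).symm
  have key : ∀ r : ℕ, r.Prime →
      r ∣ Nat.card ↥(sigmaCore M ⊓ Subgroup.centralizer (K : Set G)) →
      r ∉ sigma L ∧ r ∈ kappa L := by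
    intro r hr hrd
    haveI : Fact r.Prime := ⟨hr⟩
    obtain ⟨y', hy'⟩ := exists_prime_orderOf_dvd_card'
      (G := ↥(sigmaCore M ⊓ Subgroup.centralizer (K : Set G))) r hrd
    have hyKs : (y' : G) ∈ sigmaCore M ⊓ Subgroup.centralizer (K : Set G) := y'.2
    have hyr : orderOf (y' : G) = r := by rw [Subgroup.orderOf_coe, hy']
    have hy1 : (y' : G) ≠ 1 := by
      intro h
      rw [h, orderOf_one] at hyr
      exact hr.one_lt.ne hyr
    have hrM : r ∈ sigma M :=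
      mem_sigma_of_dvd_card_sigmaCore hG hM hr (hrd.trans (Subgroup.card_dvd_of_le hKsM))
    have hrL : r ∉ sigma L := by
      intro hrL
      have hZp : IsPGroup r (Subgroup.zpowers (y' : G)) := by
        apply IsPGroup.of_card (n := 1)
        rw [Nat.card_zpowers, hyr, pow_one]
      obtain ⟨Q, hQ, hyQ⟩ := exists_isSylowIn_ge (Subgroup.zpowers_le.mpr (hKsL hyKs)) hZp
      have hQtop : IsSylowIn r Q ⊤ := (sigmaProp_of_mem_sigma hL hrL).isSylowIn_top hQ
      have hQσ : Q ≤ sigmaCore M := by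
        apply h31d Q
        · intro s hs hsd
          obtain ⟨k, hk⟩ := hQ.isPGroup.exists_card_eq
          rw [hk] at hsd
          have := (Nat.prime_dvd_prime_iff_eq hs hr).mp (hs.dvd_of_dvd_pow hsd)
          rw [this]
          exact hrM
        · intro hb
          have : (y' : G) ∈ Q ⊓ (sigmaCore M ⊓ Subgroup.centralizer (K : Set G)) :=
            Subgroup.mem_inf.mpr ⟨hyQ (Subgroup.mem_zpowers _), hyKs⟩
          rw [hb] at this
          exact hy1 (Subgroup.mem_bot.mp this)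
      have hQS : IsSylowIn r Q (sigmaCore M) := hQtop.of_le hQσ le_top
      have h3 := (h31c r hr hrd hQS.toSylow).1
      rw [hQS.coe_toSylow, Subgroup.map_subgroupOf_eq_of_le hQσ] at h3
      obtain ⟨M₀, -, huniq⟩ := h3
      have e1 := huniq M ⟨hM, hQσ.trans (sigmaCore_le M)⟩
      have e2 := huniq L ⟨hL, hQ.le⟩
      exact hLM (e2.trans e1.symm)
    refine ⟨hrL, ?_⟩
    rcases mem_kappa_or_tau2 hG hL hx₀L hx₀1 (hKsL hyKs) hyr hrL (hcomm _ hyKs) with h | h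
    · exact h
    · exfalso
      obtain ⟨E, hE, -⟩ := exists_isComplIn_sigmaCore_ge hG hL (X := ⊥) bot_le (by
        rw [Subgroup.card_bot]; exact Nat.coprime_one_left _)
      have h204 := (Cfsg.Agent.S1420.result hG L hL E hE).2.2.2 (y' : G) (hKsL hyKs) hy1 (by
        intro s hs hsd
        rw [hyr] at hsd
        rw [(Nat.prime_dvd_prime_iff_eq hs hr).mp hsd]
        exact h) ⟨hKsL hyKs, x₀, hx₀L, hx₀1, hcomm _ hyKs⟩
      have hCM := centralizer_le_of_mem_kstar h31 hM hK hK1 hyKs hy1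
      exact hLM (h204.2 M hM hCM).symm
  refine ⟨hLM, hXL, hZL, key, ?_⟩
  obtain ⟨Kt, hKt, hKsKt⟩ := exists_kappa_hall_ge hG hL hKsL (fun r hr hrd => (key r hr hrd).2)
  refine ⟨Kt, hKt, hKsKt, ?_⟩
  have hKs1 : sigmaCore M ⊓ Subgroup.centralizer (K : Set G) ≠ ⊥ :=
    Cfsg.Agent.Lib.Helper3.BG14.Kstar_ne_bot hG hM h30 hK
  obtain ⟨Y, hYKs, hYp⟩ := Cfsg.Agent.Lib.Helper3.BG14.exists_prime_card_le hKs1
  have hKt1 : Kt ≠ ⊥ := by
    intro hb
    rw [hb] at hKsKt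
    exact hKs1 (le_bot_iff.mp hKsKt)
  obtain ⟨h30aL, -, h30cL⟩ := h30 L hL Kt hKt hKt1
  obtain ⟨hNLY, -, -⟩ := h30cL Y (hYKs.trans hKsKt) hYp
  have hY1 : Y ≠ ⊥ := by
    intro hb
    rw [hb, Subgroup.card_bot] at hYp
    exact Nat.not_prime_one hYp
  have hNYM := normalizer_le_of_le_kstar h31 hM hK hK1 hYKs hY1
  have hKtNY : Kt ≤ Subgroup.normalizer (Y : Set G) := by
    have : Kt ≤ L ⊓ Subgroup.normalizer (Y : Set G) := by
      rw [hNLY]
      exact le_sup_left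
    exact this.trans inf_le_right
  have hKtM : Kt ≤ M := hKtNY.trans hNYM
  obtain ⟨y, hyY, hy1⟩ : ∃ y ∈ Y, y ≠ 1 := by
    rcases Subgroup.bot_or_exists_ne_one Y with hb | h
    · exact absurd hb hY1
    · exact h
  have hx₀C : x₀ ∈ sigmaCore L ⊓ Subgroup.centralizer (Kt : Set G) := by
    rw [← h30aL y (hKsKt (hYKs hyY)) hy1]
    refine Subgroup.mem_inf.mpr ⟨hx₀L, ?_⟩
    rw [Subgroup.mem_centralizer_iff]
    intro w hw
    rw [Set.mem_singleton_iff] at hw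
    subst hw
    exact hcomm _ (hYKs hyY)
  have hXz := zpowers_eq_of_prime_card hX hx₀X hx₀1
  have hKtNX : Kt ≤ Subgroup.normalizer (X : Set G) := by
    intro k hk
    rw [← hXz]
    apply Cfsg.Agent.Lib.Helper11.BG12.centralizer_singleton_le_normalizer_zpowers x₀
    rw [Subgroup.mem_centralizer_iff]
    intro w hw
    rw [Set.mem_singleton_iff] at hw
    subst hw
    exact ((Subgroup.mem_centralizer_iff.mp (Subgroup.mem_inf.mp hx₀C).2) k hk).symm
  rw [← hNMX]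
  exact le_inf hKtM hKtNX

end Cfsg.Agent.Lib.Helper11.BG14
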