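import Cfsg.Agent.Lib.Helper11.IcoForm

/-!
# Data for the icosian Leech lattice (helper11): the 120 units, the 9 coordinate representatives and
the 315 canonical minimal vectors (one on each line)
-/

set_option autoImplicit false
set_option maxRecDepth 100000

namespace Cfsg.Agent.Lib.Helper11.Ico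

/-- the 120 unit icosians (doubled coordinates) -/
def U : List Q8 :=
  [⟨-2, 0, 0, 0, 0, 0, 0, 0⟩,
   ⟨-1, 0, -1, 0, -1, 0, -1, 0⟩,
   ⟨-1, 0, -1, 0, -1, 0, 1, 0⟩,
   ⟨-1, 0, -1, 0, 1, 0, -1, 0⟩,
   ⟨-1, 0, -1, 0, 1, 0, 1, 0⟩,
   ⟨-1, 0, -1, 1, 0, 0, 0, -1⟩,
   ⟨-1, 0, -1, 1, 0, 0, 0, 1⟩,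
   ⟨-1, 0, 0, -1, -1, 1, 0, 0⟩,
   ⟨-1, 0, 0, -1, 1, -1, 0, 0⟩,
   ⟨-1, 0, 0, 0, 0, -1, -1, 1⟩,
   ⟨-1, 0, 0, 0, 0, -1, 1, -1⟩,
   ⟨-1, 0, 0, 0, 0, 1, -1, 1⟩,
   ⟨-1, 0, 0, 0, 0, 1, 1, -1⟩,
   ⟨-1, 0, 0, 1, -1, 1, 0, 0⟩,
   ⟨-1, 0, 0, 1, 1, -1, 0, 0⟩,
   ⟨-1, 0, 1, -1, 0, 0, 0, -1⟩,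
   ⟨-1, 0, 1, -1, 0, 0, 0, 1⟩,
   ⟨-1, 0, 1, 0, -1, 0, -1, 0⟩,
   ⟨-1, 0, 1, 0, -1, 0, 1, 0⟩,
   ⟨-1, 0, 1, 0, 1, 0, -1, 0⟩,
   ⟨-1, 0, 1, 0, 1, 0, 1, 0⟩,
   ⟨-1, 1, -1, 0, 0, -1, 0, 0⟩,
   ⟨-1, 1, -1, 0, 0, 1, 0, 0⟩,
   ⟨-1, 1, 0, -1, 0, 0, -1, 0⟩,
   ⟨-1, 1, 0, -1, 0, 0, 1, 0⟩,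
   ⟨-1, 1, 0, 0, -1, 0, 0, -1⟩,
   ⟨-1, 1, 0, 0, -1, 0, 0, 1⟩,
   ⟨-1, 1, 0, 0, 1, 0, 0, -1⟩,
   ⟨-1, 1, 0, 0, 1, 0, 0, 1⟩,
   ⟨-1, 1, 0, 1, 0, 0, -1, 0⟩,
   ⟨-1, 1, 0, 1, 0, 0, 1, 0⟩,
   ⟨-1, 1, 1, 0, 0, -1, 0, 0⟩,
   ⟨-1, 1, 1, 0, 0, 1, 0, 0⟩,
   ⟨0, -1, -1, 0, 0, 0, -1, 1⟩,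
   ⟨0, -1, -1, 0, 0, 0, 1, -1⟩,
   ⟨0, -1, -1, 1, -1, 0, 0, 0⟩,
   ⟨0, -1, -1, 1, 1, 0, 0, 0⟩,
   ⟨0, -1, 0, 0, -1, 1, -1, 0⟩,
   ⟨0, -1, 0, 0, -1, 1, 1, 0⟩,
   ⟨0, -1, 0, 0, 1, -1, -1, 0⟩,
   ⟨0, -1, 0, 0, 1, -1, 1, 0⟩,
   ⟨0, -1, 1, -1, -1, 0, 0, 0⟩,
   ⟨0, -1, 1, -1, 1, 0, 0, 0⟩,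
   ⟨0, -1, 1, 0, 0, 0, -1, 1⟩,
   ⟨0, -1, 1, 0, 0, 0, 1, -1⟩,
   ⟨0, 0, -2, 0, 0, 0, 0, 0⟩,
   ⟨0, 0, -1, 0, -1, 1, 0, -1⟩,
   ⟨0, 0, -1, 0, -1, 1, 0, 1⟩,
   ⟨0, 0, -1, 0, 1, -1, 0, -1⟩,
   ⟨0, 0, -1, 0, 1, -1, 0, 1⟩,
   ⟨0, 0, -1, 1, 0, -1, -1, 0⟩,
   ⟨0, 0, -1, 1, 0, -1, 1, 0⟩,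
   ⟨0, 0, -1, 1, 0, 1, -1, 0⟩,
   ⟨0, 0, -1, 1, 0, 1, 1, 0⟩,
   ⟨0, 0, 0, -1, -1, 0, -1, 1⟩,
   ⟨0, 0, 0, -1, -1, 0, 1, -1⟩,
   ⟨0, 0, 0, -1, 1, 0, -1, 1⟩,
   ⟨0, 0, 0, -1, 1, 0, 1, -1⟩,
   ⟨0, 0, 0, 0, -2, 0, 0, 0⟩,
   ⟨0, 0, 0, 0, 0, 0, -2, 0⟩,
   ⟨0, 0, 0, 0, 0, 0, 2, 0⟩,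
   ⟨0, 0, 0, 0, 2, 0, 0, 0⟩,
   ⟨0, 0, 0, 1, -1, 0, -1, 1⟩,
   ⟨0, 0, 0, 1, -1, 0, 1, -1⟩,
   ⟨0, 0, 0, 1, 1, 0, -1, 1⟩,
   ⟨0, 0, 0, 1, 1, 0, 1, -1⟩,
   ⟨0, 0, 1, -1, 0, -1, -1, 0⟩,
   ⟨0, 0, 1, -1, 0, -1, 1, 0⟩,
   ⟨0, 0, 1, -1, 0, 1, -1, 0⟩,
   ⟨0, 0, 1, -1, 0, 1, 1, 0⟩,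
   ⟨0, 0, 1, 0, -1, 1, 0, -1⟩,
   ⟨0, 0, 1, 0, -1, 1, 0, 1⟩,
   ⟨0, 0, 1, 0, 1, -1, 0, -1⟩,
   ⟨0, 0, 1, 0, 1, -1, 0, 1⟩,
   ⟨0, 0, 2, 0, 0, 0, 0, 0⟩,
   ⟨0, 1, -1, 0, 0, 0, -1, 1⟩,
   ⟨0, 1, -1, 0, 0, 0, 1, -1⟩,
   ⟨0, 1, -1, 1, -1, 0, 0, 0⟩,
   ⟨0, 1, -1, 1, 1, 0, 0, 0⟩,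
   ⟨0, 1, 0, 0, -1, 1, -1, 0⟩,
   ⟨0, 1, 0, 0, -1, 1, 1, 0⟩,
   ⟨0, 1, 0, 0, 1, -1, -1, 0⟩,
   ⟨0, 1, 0, 0, 1, -1, 1, 0⟩,
   ⟨0, 1, 1, -1, -1, 0, 0, 0⟩,
   ⟨0, 1, 1, -1, 1, 0, 0, 0⟩,
   ⟨0, 1, 1, 0, 0, 0, -1, 1⟩,
   ⟨0, 1, 1, 0, 0, 0, 1, -1⟩,
   ⟨1, -1, -1, 0, 0, -1, 0, 0⟩,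
   ⟨1, -1, -1, 0, 0, 1, 0, 0⟩,
   ⟨1, -1, 0, -1, 0, 0, -1, 0⟩,
   ⟨1, -1, 0, -1, 0, 0, 1, 0⟩,
   ⟨1, -1, 0, 0, -1, 0, 0, -1⟩,
   ⟨1, -1, 0, 0, -1, 0, 0, 1⟩,
   ⟨1, -1, 0, 0, 1, 0, 0, -1⟩,
   ⟨1, -1, 0, 0, 1, 0, 0, 1⟩,
   ⟨1, -1, 0, 1, 0, 0, -1, 0⟩,
   ⟨1, -1, 0, 1, 0, 0, 1, 0⟩,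
   ⟨1, -1, 1, 0, 0, -1, 0, 0⟩,
   ⟨1, -1, 1, 0, 0, 1, 0, 0⟩,
   ⟨1, 0, -1, 0, -1, 0, -1, 0⟩,
   ⟨1, 0, -1, 0, -1, 0, 1, 0⟩,
   ⟨1, 0, -1, 0, 1, 0, -1, 0⟩,
   ⟨1, 0, -1, 0, 1, 0, 1, 0⟩,
   ⟨1, 0, -1, 1, 0, 0, 0, -1⟩,
   ⟨1, 0, -1, 1, 0, 0, 0, 1⟩,
   ⟨1, 0, 0, -1, -1, 1, 0, 0⟩,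
   ⟨1, 0, 0, -1, 1, -1, 0, 0⟩,
   ⟨1, 0, 0, 0, 0, -1, -1, 1⟩,
   ⟨1, 0, 0, 0, 0, -1, 1, -1⟩,
   ⟨1, 0, 0, 0, 0, 1, -1, 1⟩,
   ⟨1, 0, 0, 0, 0, 1, 1, -1⟩,
   ⟨1, 0, 0, 1, -1, 1, 0, 0⟩,
   ⟨1, 0, 0, 1, 1, -1, 0, 0⟩,
   ⟨1, 0, 1, -1, 0, 0, 0, -1⟩,
   ⟨1, 0, 1, -1, 0, 0, 0, 1⟩,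
   ⟨1, 0, 1, 0, -1, 0, -1, 0⟩,
   ⟨1, 0, 1, 0, -1, 0, 1, 0⟩,
   ⟨1, 0, 1, 0, 1, 0, -1, 0⟩,
   ⟨1, 0, 1, 0, 1, 0, 1, 0⟩,
   ⟨2, 0, 0, 0, 0, 0, 0, 0⟩]

/-- representatives of the non-zero first coordinates modulo left multiplication by units:
`2`, `1`, `τ`, `σ` and five icosians of norm 2 -/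
def Reps : List Q8 :=
  [⟨4, 0, 0, 0, 0, 0, 0, 0⟩,
   ⟨2, 0, 0, 0, 0, 0, 0, 0⟩,
   ⟨0, 2, 0, 0, 0, 0, 0, 0⟩,
   ⟨2, -2, 0, 0, 0, 0, 0, 0⟩,
   ⟨-2, 0, -2, 0, 0, 0, 0, 0⟩,
   ⟨-2, 0, -1, 0, -1, 1, 0, -1⟩,
   ⟨-2, 0, -1, 0, -1, 1, 0, 1⟩,
   ⟨-2, 0, -1, 0, 1, -1, 0, -1⟩,
   ⟨-2, 0, -1, 0, 1, -1, 0, 1⟩]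

/-- the 315 canonical minimal vectors: the first non-zero coordinate lies in `Reps` -/
def C : List V3 :=
  [⟨⟨-2, 0, -2, 0, 0, 0, 0, 0⟩, ⟨-2, 0, -2, 0, 0, 0, 0, 0⟩, ⟨0, 0, 0, 0, 0, 0, 0, 0⟩⟩,
   ⟨⟨-2, 0, -2, 0, 0, 0, 0, 0⟩, ⟨-2, 0, 2, 0, 0, 0, 0, 0⟩, ⟨0, 0, 0, 0, 0, 0, 0, 0⟩⟩,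
   ⟨⟨-2, 0, -2, 0, 0, 0, 0, 0⟩, ⟨0, 0, 0, 0, -2, 0, -2, 0⟩, ⟨0, 0, 0, 0, 0, 0, 0, 0⟩⟩,
   ⟨⟨-2, 0, -2, 0, 0, 0, 0, 0⟩, ⟨0, 0, 0, 0, -2, 0, 2, 0⟩, ⟨0, 0, 0, 0, 0, 0, 0, 0⟩⟩,
   ⟨⟨-2, 0, -2, 0, 0, 0, 0, 0⟩, ⟨0, 0, 0, 0, 0, 0, 0, 0⟩, ⟨-2, 0, -2, 0, 0, 0, 0, 0⟩⟩,
   ⟨⟨-2, 0, -2, 0, 0, 0, 0, 0⟩, ⟨0, 0, 0, 0, 0, 0, 0, 0⟩, ⟨-2, 0, 2, 0, 0, 0, 0, 0⟩⟩,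
   ⟨⟨-2, 0, -2, 0, 0, 0, 0, 0⟩, ⟨0, 0, 0, 0, 0, 0, 0, 0⟩, ⟨0, 0, 0, 0, -2, 0, -2, 0⟩⟩,
   ⟨⟨-2, 0, -2, 0, 0, 0, 0, 0⟩, ⟨0, 0, 0, 0, 0, 0, 0, 0⟩, ⟨0, 0, 0, 0, -2, 0, 2, 0⟩⟩,
   ⟨⟨-2, 0, -2, 0, 0, 0, 0, 0⟩, ⟨0, 0, 0, 0, 0, 0, 0, 0⟩, ⟨0, 0, 0, 0, 2, 0, -2, 0⟩⟩,
   ⟨⟨-2, 0, -2, 0, 0, 0, 0, 0⟩, ⟨0, 0, 0, 0, 0, 0, 0, 0⟩, ⟨0, 0, 0, 0, 2, 0, 2, 0⟩⟩,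
   ⟨⟨-2, 0, -2, 0, 0, 0, 0, 0⟩, ⟨0, 0, 0, 0, 0, 0, 0, 0⟩, ⟨2, 0, -2, 0, 0, 0, 0, 0⟩⟩,
   ⟨⟨-2, 0, -2, 0, 0, 0, 0, 0⟩, ⟨0, 0, 0, 0, 0, 0, 0, 0⟩, ⟨2, 0, 2, 0, 0, 0, 0, 0⟩⟩,
   ⟨⟨-2, 0, -2, 0, 0, 0, 0, 0⟩, ⟨0, 0, 0, 0, 2, 0, -2, 0⟩, ⟨0, 0, 0, 0, 0, 0, 0, 0⟩⟩,
   ⟨⟨-2, 0, -2, 0, 0, 0, 0, 0⟩, ⟨0, 0, 0, 0, 2, 0, 2, 0⟩, ⟨0, 0, 0, 0, 0, 0, 0, 0⟩⟩,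
   ⟨⟨-2, 0, -2, 0, 0, 0, 0, 0⟩, ⟨2, 0, -2, 0, 0, 0, 0, 0⟩, ⟨0, 0, 0, 0, 0, 0, 0, 0⟩⟩,
   ⟨⟨-2, 0, -2, 0, 0, 0, 0, 0⟩, ⟨2, 0, 2, 0, 0, 0, 0, 0⟩, ⟨0, 0, 0, 0, 0, 0, 0, 0⟩⟩,
   ⟨⟨-2, 0, -1, 0, -1, 1, 0, -1⟩, ⟨-1, 0, 0, 0, 0, -1, 1, -1⟩, ⟨-1, 0, 0, 0, 0, -1, 1, -1⟩⟩,
   ⟨⟨-2, 0, -1, 0, -1, 1, 0, -1⟩, ⟨-1, 0, 0, 0, 0, -1, 1, -1⟩, ⟨1, 0, 0, 0, 0, 1, -1, 1⟩⟩,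
   ⟨⟨-2, 0, -1, 0, -1, 1, 0, -1⟩, ⟨-1, 1, 0, -1, 0, 0, -1, 0⟩, ⟨-1, 1, 0, -1, 0, 0, -1, 0⟩⟩,
   ⟨⟨-2, 0, -1, 0, -1, 1, 0, -1⟩, ⟨-1, 1, 0, -1, 0, 0, -1, 0⟩, ⟨1, -1, 0, 1, 0, 0, 1, 0⟩⟩,
   ⟨⟨-2, 0, -1, 0, -1, 1, 0, -1⟩, ⟨0, -1, 1, -1, 1, 0, 0, 0⟩, ⟨0, -1, 1, -1, 1, 0, 0, 0⟩⟩,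
   ⟨⟨-2, 0, -1, 0, -1, 1, 0, -1⟩, ⟨0, -1, 1, -1, 1, 0, 0, 0⟩, ⟨0, 1, -1, 1, -1, 0, 0, 0⟩⟩,
   ⟨⟨-2, 0, -1, 0, -1, 1, 0, -1⟩, ⟨0, 0, -1, 0, 1, -1, 0, 1⟩, ⟨0, 0, -1, 0, 1, -1, 0, 1⟩⟩,
   ⟨⟨-2, 0, -1, 0, -1, 1, 0, -1⟩, ⟨0, 0, -1, 0, 1, -1, 0, 1⟩, ⟨0, 0, 1, 0, -1, 1, 0, -1⟩⟩,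
   ⟨⟨-2, 0, -1, 0, -1, 1, 0, -1⟩, ⟨0, 0, 1, 0, -1, 1, 0, -1⟩, ⟨0, 0, -1, 0, 1, -1, 0, 1⟩⟩,
   ⟨⟨-2, 0, -1, 0, -1, 1, 0, -1⟩, ⟨0, 0, 1, 0, -1, 1, 0, -1⟩, ⟨0, 0, 1, 0, -1, 1, 0, -1⟩⟩,
   ⟨⟨-2, 0, -1, 0, -1, 1, 0, -1⟩, ⟨0, 1, -1, 1, -1, 0, 0, 0⟩, ⟨0, -1, 1, -1, 1, 0, 0, 0⟩⟩,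
   ⟨⟨-2, 0, -1, 0, -1, 1, 0, -1⟩, ⟨0, 1, -1, 1, -1, 0, 0, 0⟩, ⟨0, 1, -1, 1, -1, 0, 0, 0⟩⟩,
   ⟨⟨-2, 0, -1, 0, -1, 1, 0, -1⟩, ⟨1, -1, 0, 1, 0, 0, 1, 0⟩, ⟨-1, 1, 0, -1, 0, 0, -1, 0⟩⟩,
   ⟨⟨-2, 0, -1, 0, -1, 1, 0, -1⟩, ⟨1, -1, 0, 1, 0, 0, 1, 0⟩, ⟨1, -1, 0, 1, 0, 0, 1, 0⟩⟩,
   ⟨⟨-2, 0, -1, 0, -1, 1, 0, -1⟩, ⟨1, 0, 0, 0, 0, 1, -1, 1⟩, ⟨-1, 0, 0, 0, 0, -1, 1, -1⟩⟩,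
   ⟨⟨-2, 0, -1, 0, -1, 1, 0, -1⟩, ⟨1, 0, 0, 0, 0, 1, -1, 1⟩, ⟨1, 0, 0, 0, 0, 1, -1, 1⟩⟩,
   ⟨⟨-2, 0, -1, 0, -1, 1, 0, 1⟩, ⟨-1, 0, 0, 0, 0, 1, 1, -1⟩, ⟨-1, 1, 0, 1, 0, 0, -1, 0⟩⟩,
   ⟨⟨-2, 0, -1, 0, -1, 1, 0, 1⟩, ⟨-1, 0, 0, 0, 0, 1, 1, -1⟩, ⟨1, -1, 0, -1, 0, 0, 1, 0⟩⟩,
   ⟨⟨-2, 0, -1, 0, -1, 1, 0, 1⟩, ⟨-1, 1, 0, 1, 0, 0, -1, 0⟩, ⟨-1, 0, 0, 0, 0, 1, 1, -1⟩⟩,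
   ⟨⟨-2, 0, -1, 0, -1, 1, 0, 1⟩, ⟨-1, 1, 0, 1, 0, 0, -1, 0⟩, ⟨1, 0, 0, 0, 0, -1, -1, 1⟩⟩,
   ⟨⟨-2, 0, -1, 0, -1, 1, 0, 1⟩, ⟨0, -1, -1, 1, -1, 0, 0, 0⟩, ⟨0, 0, -1, 0, 1, -1, 0, -1⟩⟩,
   ⟨⟨-2, 0, -1, 0, -1, 1, 0, 1⟩, ⟨0, -1, -1, 1, -1, 0, 0, 0⟩, ⟨0, 0, 1, 0, -1, 1, 0, 1⟩⟩,
   ⟨⟨-2, 0, -1, 0, -1, 1, 0, 1⟩, ⟨0, 0, -1, 0, 1, -1, 0, -1⟩, ⟨0, -1, -1, 1, -1, 0, 0, 0⟩⟩,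
   ⟨⟨-2, 0, -1, 0, -1, 1, 0, 1⟩, ⟨0, 0, -1, 0, 1, -1, 0, -1⟩, ⟨0, 1, 1, -1, 1, 0, 0, 0⟩⟩,
   ⟨⟨-2, 0, -1, 0, -1, 1, 0, 1⟩, ⟨0, 0, 1, 0, -1, 1, 0, 1⟩, ⟨0, -1, -1, 1, -1, 0, 0, 0⟩⟩,
   ⟨⟨-2, 0, -1, 0, -1, 1, 0, 1⟩, ⟨0, 0, 1, 0, -1, 1, 0, 1⟩, ⟨0, 1, 1, -1, 1, 0, 0, 0⟩⟩,
   ⟨⟨-2, 0, -1, 0, -1, 1, 0, 1⟩, ⟨0, 1, 1, -1, 1, 0, 0, 0⟩, ⟨0, 0, -1, 0, 1, -1, 0, -1⟩⟩,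
   ⟨⟨-2, 0, -1, 0, -1, 1, 0, 1⟩, ⟨0, 1, 1, -1, 1, 0, 0, 0⟩, ⟨0, 0, 1, 0, -1, 1, 0, 1⟩⟩,
   ⟨⟨-2, 0, -1, 0, -1, 1, 0, 1⟩, ⟨1, -1, 0, -1, 0, 0, 1, 0⟩, ⟨-1, 0, 0, 0, 0, 1, 1, -1⟩⟩,
   ⟨⟨-2, 0, -1, 0, -1, 1, 0, 1⟩, ⟨1, -1, 0, -1, 0, 0, 1, 0⟩, ⟨1, 0, 0, 0, 0, -1, -1, 1⟩⟩,
   ⟨⟨-2, 0, -1, 0, -1, 1, 0, 1⟩, ⟨1, 0, 0, 0, 0, -1, -1, 1⟩, ⟨-1, 1, 0, 1, 0, 0, -1, 0⟩⟩,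
   ⟨⟨-2, 0, -1, 0, -1, 1, 0, 1⟩, ⟨1, 0, 0, 0, 0, -1, -1, 1⟩, ⟨1, -1, 0, -1, 0, 0, 1, 0⟩⟩,
   ⟨⟨-2, 0, -1, 0, 1, -1, 0, -1⟩, ⟨-1, 0, 0, 0, 0, -1, -1, 1⟩, ⟨0, -1, -1, 1, 1, 0, 0, 0⟩⟩,
   ⟨⟨-2, 0, -1, 0, 1, -1, 0, -1⟩, ⟨-1, 0, 0, 0, 0, -1, -1, 1⟩, ⟨0, 1, 1, -1, -1, 0, 0, 0⟩⟩,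
   ⟨⟨-2, 0, -1, 0, 1, -1, 0, -1⟩, ⟨-1, 1, 0, 1, 0, 0, 1, 0⟩, ⟨0, 0, -1, 0, -1, 1, 0, 1⟩⟩,
   ⟨⟨-2, 0, -1, 0, 1, -1, 0, -1⟩, ⟨-1, 1, 0, 1, 0, 0, 1, 0⟩, ⟨0, 0, 1, 0, 1, -1, 0, -1⟩⟩,
   ⟨⟨-2, 0, -1, 0, 1, -1, 0, -1⟩, ⟨0, -1, -1, 1, 1, 0, 0, 0⟩, ⟨-1, 0, 0, 0, 0, -1, -1, 1⟩⟩,
   ⟨⟨-2, 0, -1, 0, 1, -1, 0, -1⟩, ⟨0, -1, -1, 1, 1, 0, 0, 0⟩, ⟨1, 0, 0, 0, 0, 1, 1, -1⟩⟩,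
   ⟨⟨-2, 0, -1, 0, 1, -1, 0, -1⟩, ⟨0, 0, -1, 0, -1, 1, 0, 1⟩, ⟨-1, 1, 0, 1, 0, 0, 1, 0⟩⟩,
   ⟨⟨-2, 0, -1, 0, 1, -1, 0, -1⟩, ⟨0, 0, -1, 0, -1, 1, 0, 1⟩, ⟨1, -1, 0, -1, 0, 0, -1, 0⟩⟩,
   ⟨⟨-2, 0, -1, 0, 1, -1, 0, -1⟩, ⟨0, 0, 1, 0, 1, -1, 0, -1⟩, ⟨-1, 1, 0, 1, 0, 0, 1, 0⟩⟩,
   ⟨⟨-2, 0, -1, 0, 1, -1, 0, -1⟩, ⟨0, 0, 1, 0, 1, -1, 0, -1⟩, ⟨1, -1, 0, -1, 0, 0, -1, 0⟩⟩,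
   ⟨⟨-2, 0, -1, 0, 1, -1, 0, -1⟩, ⟨0, 1, 1, -1, -1, 0, 0, 0⟩, ⟨-1, 0, 0, 0, 0, -1, -1, 1⟩⟩,
   ⟨⟨-2, 0, -1, 0, 1, -1, 0, -1⟩, ⟨0, 1, 1, -1, -1, 0, 0, 0⟩, ⟨1, 0, 0, 0, 0, 1, 1, -1⟩⟩,
   ⟨⟨-2, 0, -1, 0, 1, -1, 0, -1⟩, ⟨1, -1, 0, -1, 0, 0, -1, 0⟩, ⟨0, 0, -1, 0, -1, 1, 0, 1⟩⟩,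
   ⟨⟨-2, 0, -1, 0, 1, -1, 0, -1⟩, ⟨1, -1, 0, -1, 0, 0, -1, 0⟩, ⟨0, 0, 1, 0, 1, -1, 0, -1⟩⟩,
   ⟨⟨-2, 0, -1, 0, 1, -1, 0, -1⟩, ⟨1, 0, 0, 0, 0, 1, 1, -1⟩, ⟨0, -1, -1, 1, 1, 0, 0, 0⟩⟩,
   ⟨⟨-2, 0, -1, 0, 1, -1, 0, -1⟩, ⟨1, 0, 0, 0, 0, 1, 1, -1⟩, ⟨0, 1, 1, -1, -1, 0, 0, 0⟩⟩,
   ⟨⟨-2, 0, -1, 0, 1, -1, 0, 1⟩, ⟨-1, 0, 0, 0, 0, 1, -1, 1⟩, ⟨0, 0, -1, 0, -1, 1, 0, -1⟩⟩,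
   ⟨⟨-2, 0, -1, 0, 1, -1, 0, 1⟩, ⟨-1, 0, 0, 0, 0, 1, -1, 1⟩, ⟨0, 0, 1, 0, 1, -1, 0, 1⟩⟩,
   ⟨⟨-2, 0, -1, 0, 1, -1, 0, 1⟩, ⟨-1, 1, 0, -1, 0, 0, 1, 0⟩, ⟨0, -1, 1, -1, -1, 0, 0, 0⟩⟩,
   ⟨⟨-2, 0, -1, 0, 1, -1, 0, 1⟩, ⟨-1, 1, 0, -1, 0, 0, 1, 0⟩, ⟨0, 1, -1, 1, 1, 0, 0, 0⟩⟩,
   ⟨⟨-2, 0, -1, 0, 1, -1, 0, 1⟩, ⟨0, -1, 1, -1, -1, 0, 0, 0⟩, ⟨-1, 1, 0, -1, 0, 0, 1, 0⟩⟩,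
   ⟨⟨-2, 0, -1, 0, 1, -1, 0, 1⟩, ⟨0, -1, 1, -1, -1, 0, 0, 0⟩, ⟨1, -1, 0, 1, 0, 0, -1, 0⟩⟩,
   ⟨⟨-2, 0, -1, 0, 1, -1, 0, 1⟩, ⟨0, 0, -1, 0, -1, 1, 0, -1⟩, ⟨-1, 0, 0, 0, 0, 1, -1, 1⟩⟩,
   ⟨⟨-2, 0, -1, 0, 1, -1, 0, 1⟩, ⟨0, 0, -1, 0, -1, 1, 0, -1⟩, ⟨1, 0, 0, 0, 0, -1, 1, -1⟩⟩,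
   ⟨⟨-2, 0, -1, 0, 1, -1, 0, 1⟩, ⟨0, 0, 1, 0, 1, -1, 0, 1⟩, ⟨-1, 0, 0, 0, 0, 1, -1, 1⟩⟩,
   ⟨⟨-2, 0, -1, 0, 1, -1, 0, 1⟩, ⟨0, 0, 1, 0, 1, -1, 0, 1⟩, ⟨1, 0, 0, 0, 0, -1, 1, -1⟩⟩,
   ⟨⟨-2, 0, -1, 0, 1, -1, 0, 1⟩, ⟨0, 1, -1, 1, 1, 0, 0, 0⟩, ⟨-1, 1, 0, -1, 0, 0, 1, 0⟩⟩,
   ⟨⟨-2, 0, -1, 0, 1, -1, 0, 1⟩, ⟨0, 1, -1, 1, 1, 0, 0, 0⟩, ⟨1, -1, 0, 1, 0, 0, -1, 0⟩⟩,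
   ⟨⟨-2, 0, -1, 0, 1, -1, 0, 1⟩, ⟨1, -1, 0, 1, 0, 0, -1, 0⟩, ⟨0, -1, 1, -1, -1, 0, 0, 0⟩⟩,
   ⟨⟨-2, 0, -1, 0, 1, -1, 0, 1⟩, ⟨1, -1, 0, 1, 0, 0, -1, 0⟩, ⟨0, 1, -1, 1, 1, 0, 0, 0⟩⟩,
   ⟨⟨-2, 0, -1, 0, 1, -1, 0, 1⟩, ⟨1, 0, 0, 0, 0, -1, 1, -1⟩, ⟨0, 0, -1, 0, -1, 1, 0, -1⟩⟩,
   ⟨⟨-2, 0, -1, 0, 1, -1, 0, 1⟩, ⟨1, 0, 0, 0, 0, -1, 1, -1⟩, ⟨0, 0, 1, 0, 1, -1, 0, 1⟩⟩,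
   ⟨⟨0, 0, 0, 0, 0, 0, 0, 0⟩, ⟨-2, 0, -2, 0, 0, 0, 0, 0⟩, ⟨-2, 0, -2, 0, 0, 0, 0, 0⟩⟩,
   ⟨⟨0, 0, 0, 0, 0, 0, 0, 0⟩, ⟨-2, 0, -2, 0, 0, 0, 0, 0⟩, ⟨-2, 0, 2, 0, 0, 0, 0, 0⟩⟩,
   ⟨⟨0, 0, 0, 0, 0, 0, 0, 0⟩, ⟨-2, 0, -2, 0, 0, 0, 0, 0⟩, ⟨0, 0, 0, 0, -2, 0, -2, 0⟩⟩,
   ⟨⟨0, 0, 0, 0, 0, 0, 0, 0⟩, ⟨-2, 0, -2, 0, 0, 0, 0, 0⟩, ⟨0, 0, 0, 0, -2, 0, 2, 0⟩⟩,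
   ⟨⟨0, 0, 0, 0, 0, 0, 0, 0⟩, ⟨-2, 0, -2, 0, 0, 0, 0, 0⟩, ⟨0, 0, 0, 0, 2, 0, -2, 0⟩⟩,
   ⟨⟨0, 0, 0, 0, 0, 0, 0, 0⟩, ⟨-2, 0, -2, 0, 0, 0, 0, 0⟩, ⟨0, 0, 0, 0, 2, 0, 2, 0⟩⟩,
   ⟨⟨0, 0, 0, 0, 0, 0, 0, 0⟩, ⟨-2, 0, -2, 0, 0, 0, 0, 0⟩, ⟨2, 0, -2, 0, 0, 0, 0, 0⟩⟩,
   ⟨⟨0, 0, 0, 0, 0, 0, 0, 0⟩, ⟨-2, 0, -2, 0, 0, 0, 0, 0⟩, ⟨2, 0, 2, 0, 0, 0, 0, 0⟩⟩,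
   ⟨⟨0, 0, 0, 0, 0, 0, 0, 0⟩, ⟨0, 0, 0, 0, 0, 0, 0, 0⟩, ⟨4, 0, 0, 0, 0, 0, 0, 0⟩⟩,
   ⟨⟨0, 0, 0, 0, 0, 0, 0, 0⟩, ⟨4, 0, 0, 0, 0, 0, 0, 0⟩, ⟨0, 0, 0, 0, 0, 0, 0, 0⟩⟩,
   ⟨⟨0, 2, 0, 0, 0, 0, 0, 0⟩, ⟨-1, 0, -1, 0, -1, 0, -1, 0⟩, ⟨-1, 1, 1, -1, 1, -1, 1, -1⟩⟩,
   ⟨⟨0, 2, 0, 0, 0, 0, 0, 0⟩, ⟨-1, 0, -1, 0, -1, 0, -1, 0⟩, ⟨1, -1, -1, 1, -1, 1, -1, 1⟩⟩,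
   ⟨⟨0, 2, 0, 0, 0, 0, 0, 0⟩, ⟨-1, 0, -1, 0, 1, 0, 1, 0⟩, ⟨-1, 1, -1, 1, -1, 1, 1, -1⟩⟩,
   ⟨⟨0, 2, 0, 0, 0, 0, 0, 0⟩, ⟨-1, 0, -1, 0, 1, 0, 1, 0⟩, ⟨1, -1, 1, -1, 1, -1, -1, 1⟩⟩,
   ⟨⟨0, 2, 0, 0, 0, 0, 0, 0⟩, ⟨-1, 0, 1, 0, -1, 0, 1, 0⟩, ⟨-1, 1, 1, -1, -1, 1, -1, 1⟩⟩,
   ⟨⟨0, 2, 0, 0, 0, 0, 0, 0⟩, ⟨-1, 0, 1, 0, -1, 0, 1, 0⟩, ⟨1, -1, -1, 1, 1, -1, 1, -1⟩⟩,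
   ⟨⟨0, 2, 0, 0, 0, 0, 0, 0⟩, ⟨-1, 0, 1, 0, 1, 0, -1, 0⟩, ⟨-1, 1, -1, 1, 1, -1, -1, 1⟩⟩,
   ⟨⟨0, 2, 0, 0, 0, 0, 0, 0⟩, ⟨-1, 0, 1, 0, 1, 0, -1, 0⟩, ⟨1, -1, 1, -1, -1, 1, 1, -1⟩⟩,
   ⟨⟨0, 2, 0, 0, 0, 0, 0, 0⟩, ⟨-1, 1, -1, 1, -1, 1, 1, -1⟩, ⟨-1, 0, -1, 0, 1, 0, 1, 0⟩⟩,
   ⟨⟨0, 2, 0, 0, 0, 0, 0, 0⟩, ⟨-1, 1, -1, 1, -1, 1, 1, -1⟩, ⟨1, 0, 1, 0, -1, 0, -1, 0⟩⟩,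
   ⟨⟨0, 2, 0, 0, 0, 0, 0, 0⟩, ⟨-1, 1, -1, 1, 1, -1, -1, 1⟩, ⟨-1, 0, 1, 0, 1, 0, -1, 0⟩⟩,
   ⟨⟨0, 2, 0, 0, 0, 0, 0, 0⟩, ⟨-1, 1, -1, 1, 1, -1, -1, 1⟩, ⟨1, 0, -1, 0, -1, 0, 1, 0⟩⟩,
   ⟨⟨0, 2, 0, 0, 0, 0, 0, 0⟩, ⟨-1, 1, 1, -1, -1, 1, -1, 1⟩, ⟨-1, 0, 1, 0, -1, 0, 1, 0⟩⟩,
   ⟨⟨0, 2, 0, 0, 0, 0, 0, 0⟩, ⟨-1, 1, 1, -1, -1, 1, -1, 1⟩, ⟨1, 0, -1, 0, 1, 0, -1, 0⟩⟩,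
   ⟨⟨0, 2, 0, 0, 0, 0, 0, 0⟩, ⟨-1, 1, 1, -1, 1, -1, 1, -1⟩, ⟨-1, 0, -1, 0, -1, 0, -1, 0⟩⟩,
   ⟨⟨0, 2, 0, 0, 0, 0, 0, 0⟩, ⟨-1, 1, 1, -1, 1, -1, 1, -1⟩, ⟨1, 0, 1, 0, 1, 0, 1, 0⟩⟩,
   ⟨⟨0, 2, 0, 0, 0, 0, 0, 0⟩, ⟨1, -1, -1, 1, -1, 1, -1, 1⟩, ⟨-1, 0, -1, 0, -1, 0, -1, 0⟩⟩,
   ⟨⟨0, 2, 0, 0, 0, 0, 0, 0⟩, ⟨1, -1, -1, 1, -1, 1, -1, 1⟩, ⟨1, 0, 1, 0, 1, 0, 1, 0⟩⟩,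
   ⟨⟨0, 2, 0, 0, 0, 0, 0, 0⟩, ⟨1, -1, -1, 1, 1, -1, 1, -1⟩, ⟨-1, 0, 1, 0, -1, 0, 1, 0⟩⟩,
   ⟨⟨0, 2, 0, 0, 0, 0, 0, 0⟩, ⟨1, -1, -1, 1, 1, -1, 1, -1⟩, ⟨1, 0, -1, 0, 1, 0, -1, 0⟩⟩,
   ⟨⟨0, 2, 0, 0, 0, 0, 0, 0⟩, ⟨1, -1, 1, -1, -1, 1, 1, -1⟩, ⟨-1, 0, 1, 0, 1, 0, -1, 0⟩⟩,
   ⟨⟨0, 2, 0, 0, 0, 0, 0, 0⟩, ⟨1, -1, 1, -1, -1, 1, 1, -1⟩, ⟨1, 0, -1, 0, -1, 0, 1, 0⟩⟩,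
   ⟨⟨0, 2, 0, 0, 0, 0, 0, 0⟩, ⟨1, -1, 1, -1, 1, -1, -1, 1⟩, ⟨-1, 0, -1, 0, 1, 0, 1, 0⟩⟩,
   ⟨⟨0, 2, 0, 0, 0, 0, 0, 0⟩, ⟨1, -1, 1, -1, 1, -1, -1, 1⟩, ⟨1, 0, 1, 0, -1, 0, -1, 0⟩⟩,
   ⟨⟨0, 2, 0, 0, 0, 0, 0, 0⟩, ⟨1, 0, -1, 0, -1, 0, 1, 0⟩, ⟨-1, 1, -1, 1, 1, -1, -1, 1⟩⟩,
   ⟨⟨0, 2, 0, 0, 0, 0, 0, 0⟩, ⟨1, 0, -1, 0, -1, 0, 1, 0⟩, ⟨1, -1, 1, -1, -1, 1, 1, -1⟩⟩,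
   ⟨⟨0, 2, 0, 0, 0, 0, 0, 0⟩, ⟨1, 0, -1, 0, 1, 0, -1, 0⟩, ⟨-1, 1, 1, -1, -1, 1, -1, 1⟩⟩,
   ⟨⟨0, 2, 0, 0, 0, 0, 0, 0⟩, ⟨1, 0, -1, 0, 1, 0, -1, 0⟩, ⟨1, -1, -1, 1, 1, -1, 1, -1⟩⟩,
   ⟨⟨0, 2, 0, 0, 0, 0, 0, 0⟩, ⟨1, 0, 1, 0, -1, 0, -1, 0⟩, ⟨-1, 1, -1, 1, -1, 1, 1, -1⟩⟩,
   ⟨⟨0, 2, 0, 0, 0, 0, 0, 0⟩, ⟨1, 0, 1, 0, -1, 0, -1, 0⟩, ⟨1, -1, 1, -1, 1, -1, -1, 1⟩⟩,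
   ⟨⟨0, 2, 0, 0, 0, 0, 0, 0⟩, ⟨1, 0, 1, 0, 1, 0, 1, 0⟩, ⟨-1, 1, 1, -1, 1, -1, 1, -1⟩⟩,
   ⟨⟨0, 2, 0, 0, 0, 0, 0, 0⟩, ⟨1, 0, 1, 0, 1, 0, 1, 0⟩, ⟨1, -1, -1, 1, -1, 1, -1, 1⟩⟩,
   ⟨⟨2, -2, 0, 0, 0, 0, 0, 0⟩, ⟨-1, 0, -1, 0, -1, 0, 1, 0⟩, ⟨0, -1, 0, -1, 0, 1, 0, 1⟩⟩,
   ⟨⟨2, -2, 0, 0, 0, 0, 0, 0⟩, ⟨-1, 0, -1, 0, -1, 0, 1, 0⟩, ⟨0, 1, 0, 1, 0, -1, 0, -1⟩⟩,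
   ⟨⟨2, -2, 0, 0, 0, 0, 0, 0⟩, ⟨-1, 0, -1, 0, 1, 0, -1, 0⟩, ⟨0, -1, 0, 1, 0, 1, 0, -1⟩⟩,
   ⟨⟨2, -2, 0, 0, 0, 0, 0, 0⟩, ⟨-1, 0, -1, 0, 1, 0, -1, 0⟩, ⟨0, 1, 0, -1, 0, -1, 0, 1⟩⟩,
   ⟨⟨2, -2, 0, 0, 0, 0, 0, 0⟩, ⟨-1, 0, 1, 0, -1, 0, -1, 0⟩, ⟨0, -1, 0, 1, 0, -1, 0, 1⟩⟩,
   ⟨⟨2, -2, 0, 0, 0, 0, 0, 0⟩, ⟨-1, 0, 1, 0, -1, 0, -1, 0⟩, ⟨0, 1, 0, -1, 0, 1, 0, -1⟩⟩,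
   ⟨⟨2, -2, 0, 0, 0, 0, 0, 0⟩, ⟨-1, 0, 1, 0, 1, 0, 1, 0⟩, ⟨0, -1, 0, -1, 0, -1, 0, -1⟩⟩,
   ⟨⟨2, -2, 0, 0, 0, 0, 0, 0⟩, ⟨-1, 0, 1, 0, 1, 0, 1, 0⟩, ⟨0, 1, 0, 1, 0, 1, 0, 1⟩⟩,
   ⟨⟨2, -2, 0, 0, 0, 0, 0, 0⟩, ⟨0, -1, 0, -1, 0, -1, 0, -1⟩, ⟨-1, 0, 1, 0, 1, 0, 1, 0⟩⟩,
   ⟨⟨2, -2, 0, 0, 0, 0, 0, 0⟩, ⟨0, -1, 0, -1, 0, -1, 0, -1⟩, ⟨1, 0, -1, 0, -1, 0, -1, 0⟩⟩,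
   ⟨⟨2, -2, 0, 0, 0, 0, 0, 0⟩, ⟨0, -1, 0, -1, 0, 1, 0, 1⟩, ⟨-1, 0, -1, 0, -1, 0, 1, 0⟩⟩,
   ⟨⟨2, -2, 0, 0, 0, 0, 0, 0⟩, ⟨0, -1, 0, -1, 0, 1, 0, 1⟩, ⟨1, 0, 1, 0, 1, 0, -1, 0⟩⟩,
   ⟨⟨2, -2, 0, 0, 0, 0, 0, 0⟩, ⟨0, -1, 0, 1, 0, -1, 0, 1⟩, ⟨-1, 0, 1, 0, -1, 0, -1, 0⟩⟩,
   ⟨⟨2, -2, 0, 0, 0, 0, 0, 0⟩, ⟨0, -1, 0, 1, 0, -1, 0, 1⟩, ⟨1, 0, -1, 0, 1, 0, 1, 0⟩⟩,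
   ⟨⟨2, -2, 0, 0, 0, 0, 0, 0⟩, ⟨0, -1, 0, 1, 0, 1, 0, -1⟩, ⟨-1, 0, -1, 0, 1, 0, -1, 0⟩⟩,
   ⟨⟨2, -2, 0, 0, 0, 0, 0, 0⟩, ⟨0, -1, 0, 1, 0, 1, 0, -1⟩, ⟨1, 0, 1, 0, -1, 0, 1, 0⟩⟩,
   ⟨⟨2, -2, 0, 0, 0, 0, 0, 0⟩, ⟨0, 1, 0, -1, 0, -1, 0, 1⟩, ⟨-1, 0, -1, 0, 1, 0, -1, 0⟩⟩,
   ⟨⟨2, -2, 0, 0, 0, 0, 0, 0⟩, ⟨0, 1, 0, -1, 0, -1, 0, 1⟩, ⟨1, 0, 1, 0, -1, 0, 1, 0⟩⟩,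
   ⟨⟨2, -2, 0, 0, 0, 0, 0, 0⟩, ⟨0, 1, 0, -1, 0, 1, 0, -1⟩, ⟨-1, 0, 1, 0, -1, 0, -1, 0⟩⟩,
   ⟨⟨2, -2, 0, 0, 0, 0, 0, 0⟩, ⟨0, 1, 0, -1, 0, 1, 0, -1⟩, ⟨1, 0, -1, 0, 1, 0, 1, 0⟩⟩,
   ⟨⟨2, -2, 0, 0, 0, 0, 0, 0⟩, ⟨0, 1, 0, 1, 0, -1, 0, -1⟩, ⟨-1, 0, -1, 0, -1, 0, 1, 0⟩⟩,
   ⟨⟨2, -2, 0, 0, 0, 0, 0, 0⟩, ⟨0, 1, 0, 1, 0, -1, 0, -1⟩, ⟨1, 0, 1, 0, 1, 0, -1, 0⟩⟩,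
   ⟨⟨2, -2, 0, 0, 0, 0, 0, 0⟩, ⟨0, 1, 0, 1, 0, 1, 0, 1⟩, ⟨-1, 0, 1, 0, 1, 0, 1, 0⟩⟩,
   ⟨⟨2, -2, 0, 0, 0, 0, 0, 0⟩, ⟨0, 1, 0, 1, 0, 1, 0, 1⟩, ⟨1, 0, -1, 0, -1, 0, -1, 0⟩⟩,
   ⟨⟨2, -2, 0, 0, 0, 0, 0, 0⟩, ⟨1, 0, -1, 0, -1, 0, -1, 0⟩, ⟨0, -1, 0, -1, 0, -1, 0, -1⟩⟩,
   ⟨⟨2, -2, 0, 0, 0, 0, 0, 0⟩, ⟨1, 0, -1, 0, -1, 0, -1, 0⟩, ⟨0, 1, 0, 1, 0, 1, 0, 1⟩⟩,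
   ⟨⟨2, -2, 0, 0, 0, 0, 0, 0⟩, ⟨1, 0, -1, 0, 1, 0, 1, 0⟩, ⟨0, -1, 0, 1, 0, -1, 0, 1⟩⟩,
   ⟨⟨2, -2, 0, 0, 0, 0, 0, 0⟩, ⟨1, 0, -1, 0, 1, 0, 1, 0⟩, ⟨0, 1, 0, -1, 0, 1, 0, -1⟩⟩,
   ⟨⟨2, -2, 0, 0, 0, 0, 0, 0⟩, ⟨1, 0, 1, 0, -1, 0, 1, 0⟩, ⟨0, -1, 0, 1, 0, 1, 0, -1⟩⟩,
   ⟨⟨2, -2, 0, 0, 0, 0, 0, 0⟩, ⟨1, 0, 1, 0, -1, 0, 1, 0⟩, ⟨0, 1, 0, -1, 0, -1, 0, 1⟩⟩,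
   ⟨⟨2, -2, 0, 0, 0, 0, 0, 0⟩, ⟨1, 0, 1, 0, 1, 0, -1, 0⟩, ⟨0, -1, 0, -1, 0, 1, 0, 1⟩⟩,
   ⟨⟨2, -2, 0, 0, 0, 0, 0, 0⟩, ⟨1, 0, 1, 0, 1, 0, -1, 0⟩, ⟨0, 1, 0, 1, 0, -1, 0, -1⟩⟩,
   ⟨⟨2, 0, 0, 0, 0, 0, 0, 0⟩, ⟨-2, 0, 0, 0, 0, 0, 0, 0⟩, ⟨-1, 0, -1, 0, 1, 0, -1, 2⟩⟩,
   ⟨⟨2, 0, 0, 0, 0, 0, 0, 0⟩, ⟨-2, 0, 0, 0, 0, 0, 0, 0⟩, ⟨-1, 0, -1, 2, -1, 0, 1, 0⟩⟩,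
   ⟨⟨2, 0, 0, 0, 0, 0, 0, 0⟩, ⟨-2, 0, 0, 0, 0, 0, 0, 0⟩, ⟨-1, 0, 1, 0, -1, 2, -1, 0⟩⟩,
   ⟨⟨2, 0, 0, 0, 0, 0, 0, 0⟩, ⟨-2, 0, 0, 0, 0, 0, 0, 0⟩, ⟨-1, 2, 1, 0, 1, 0, 1, 0⟩⟩,
   ⟨⟨2, 0, 0, 0, 0, 0, 0, 0⟩, ⟨-2, 0, 0, 0, 0, 0, 0, 0⟩, ⟨1, -2, -1, 0, -1, 0, -1, 0⟩⟩,
   ⟨⟨2, 0, 0, 0, 0, 0, 0, 0⟩, ⟨-2, 0, 0, 0, 0, 0, 0, 0⟩, ⟨1, 0, -1, 0, 1, -2, 1, 0⟩⟩,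
   ⟨⟨2, 0, 0, 0, 0, 0, 0, 0⟩, ⟨-2, 0, 0, 0, 0, 0, 0, 0⟩, ⟨1, 0, 1, -2, 1, 0, -1, 0⟩⟩,
   ⟨⟨2, 0, 0, 0, 0, 0, 0, 0⟩, ⟨-2, 0, 0, 0, 0, 0, 0, 0⟩, ⟨1, 0, 1, 0, -1, 0, 1, -2⟩⟩,
   ⟨⟨2, 0, 0, 0, 0, 0, 0, 0⟩, ⟨-1, 0, -1, 0, -1, 0, 1, -2⟩, ⟨0, 0, -2, 0, 0, 0, 0, 0⟩⟩,
   ⟨⟨2, 0, 0, 0, 0, 0, 0, 0⟩, ⟨-1, 0, -1, 0, -1, 0, 1, -2⟩, ⟨0, 0, 2, 0, 0, 0, 0, 0⟩⟩,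
   ⟨⟨2, 0, 0, 0, 0, 0, 0, 0⟩, ⟨-1, 0, -1, 0, -1, 2, 1, 0⟩, ⟨0, 0, 0, 0, -2, 0, 0, 0⟩⟩,
   ⟨⟨2, 0, 0, 0, 0, 0, 0, 0⟩, ⟨-1, 0, -1, 0, -1, 2, 1, 0⟩, ⟨0, 0, 0, 0, 2, 0, 0, 0⟩⟩,
   ⟨⟨2, 0, 0, 0, 0, 0, 0, 0⟩, ⟨-1, 0, -1, 0, 1, -2, -1, 0⟩, ⟨0, 0, 0, 0, 0, 0, -2, 0⟩⟩,
   ⟨⟨2, 0, 0, 0, 0, 0, 0, 0⟩, ⟨-1, 0, -1, 0, 1, -2, -1, 0⟩, ⟨0, 0, 0, 0, 0, 0, 2, 0⟩⟩,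
   ⟨⟨2, 0, 0, 0, 0, 0, 0, 0⟩, ⟨-1, 0, -1, 0, 1, 0, -1, 2⟩, ⟨-2, 0, 0, 0, 0, 0, 0, 0⟩⟩,
   ⟨⟨2, 0, 0, 0, 0, 0, 0, 0⟩, ⟨-1, 0, -1, 0, 1, 0, -1, 2⟩, ⟨2, 0, 0, 0, 0, 0, 0, 0⟩⟩,
   ⟨⟨2, 0, 0, 0, 0, 0, 0, 0⟩, ⟨-1, 0, -1, 2, -1, 0, 1, 0⟩, ⟨-2, 0, 0, 0, 0, 0, 0, 0⟩⟩,
   ⟨⟨2, 0, 0, 0, 0, 0, 0, 0⟩, ⟨-1, 0, -1, 2, -1, 0, 1, 0⟩, ⟨2, 0, 0, 0, 0, 0, 0, 0⟩⟩,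
   ⟨⟨2, 0, 0, 0, 0, 0, 0, 0⟩, ⟨-1, 0, -1, 2, 1, 0, -1, 0⟩, ⟨0, 0, -2, 0, 0, 0, 0, 0⟩⟩,
   ⟨⟨2, 0, 0, 0, 0, 0, 0, 0⟩, ⟨-1, 0, -1, 2, 1, 0, -1, 0⟩, ⟨0, 0, 2, 0, 0, 0, 0, 0⟩⟩,
   ⟨⟨2, 0, 0, 0, 0, 0, 0, 0⟩, ⟨-1, 0, 1, -2, -1, 0, -1, 0⟩, ⟨0, 0, 0, 0, -2, 0, 0, 0⟩⟩,
   ⟨⟨2, 0, 0, 0, 0, 0, 0, 0⟩, ⟨-1, 0, 1, -2, -1, 0, -1, 0⟩, ⟨0, 0, 0, 0, 2, 0, 0, 0⟩⟩,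
   ⟨⟨2, 0, 0, 0, 0, 0, 0, 0⟩, ⟨-1, 0, 1, -2, 1, 0, 1, 0⟩, ⟨0, 0, 0, 0, 0, 0, -2, 0⟩⟩,
   ⟨⟨2, 0, 0, 0, 0, 0, 0, 0⟩, ⟨-1, 0, 1, -2, 1, 0, 1, 0⟩, ⟨0, 0, 0, 0, 0, 0, 2, 0⟩⟩,
   ⟨⟨2, 0, 0, 0, 0, 0, 0, 0⟩, ⟨-1, 0, 1, 0, -1, 0, -1, 2⟩, ⟨0, 0, 0, 0, 0, 0, -2, 0⟩⟩,
   ⟨⟨2, 0, 0, 0, 0, 0, 0, 0⟩, ⟨-1, 0, 1, 0, -1, 0, -1, 2⟩, ⟨0, 0, 0, 0, 0, 0, 2, 0⟩⟩,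
   ⟨⟨2, 0, 0, 0, 0, 0, 0, 0⟩, ⟨-1, 0, 1, 0, -1, 2, -1, 0⟩, ⟨-2, 0, 0, 0, 0, 0, 0, 0⟩⟩,
   ⟨⟨2, 0, 0, 0, 0, 0, 0, 0⟩, ⟨-1, 0, 1, 0, -1, 2, -1, 0⟩, ⟨2, 0, 0, 0, 0, 0, 0, 0⟩⟩,
   ⟨⟨2, 0, 0, 0, 0, 0, 0, 0⟩, ⟨-1, 0, 1, 0, 1, -2, 1, 0⟩, ⟨0, 0, -2, 0, 0, 0, 0, 0⟩⟩,
   ⟨⟨2, 0, 0, 0, 0, 0, 0, 0⟩, ⟨-1, 0, 1, 0, 1, -2, 1, 0⟩, ⟨0, 0, 2, 0, 0, 0, 0, 0⟩⟩,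
   ⟨⟨2, 0, 0, 0, 0, 0, 0, 0⟩, ⟨-1, 0, 1, 0, 1, 0, 1, -2⟩, ⟨0, 0, 0, 0, -2, 0, 0, 0⟩⟩,
   ⟨⟨2, 0, 0, 0, 0, 0, 0, 0⟩, ⟨-1, 0, 1, 0, 1, 0, 1, -2⟩, ⟨0, 0, 0, 0, 2, 0, 0, 0⟩⟩,
   ⟨⟨2, 0, 0, 0, 0, 0, 0, 0⟩, ⟨-1, 1, -1, 1, -1, 1, -1, 1⟩, ⟨0, -1, 0, 1, 0, 1, 0, 1⟩⟩,
   ⟨⟨2, 0, 0, 0, 0, 0, 0, 0⟩, ⟨-1, 1, -1, 1, -1, 1, -1, 1⟩, ⟨0, 1, 0, -1, 0, -1, 0, -1⟩⟩,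
   ⟨⟨2, 0, 0, 0, 0, 0, 0, 0⟩, ⟨-1, 1, -1, 1, 1, -1, 1, -1⟩, ⟨0, -1, 0, -1, 0, -1, 0, 1⟩⟩,
   ⟨⟨2, 0, 0, 0, 0, 0, 0, 0⟩, ⟨-1, 1, -1, 1, 1, -1, 1, -1⟩, ⟨0, 1, 0, 1, 0, 1, 0, -1⟩⟩,
   ⟨⟨2, 0, 0, 0, 0, 0, 0, 0⟩, ⟨-1, 1, 1, -1, -1, 1, 1, -1⟩, ⟨0, -1, 0, 1, 0, -1, 0, -1⟩⟩,
   ⟨⟨2, 0, 0, 0, 0, 0, 0, 0⟩, ⟨-1, 1, 1, -1, -1, 1, 1, -1⟩, ⟨0, 1, 0, -1, 0, 1, 0, 1⟩⟩,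
   ⟨⟨2, 0, 0, 0, 0, 0, 0, 0⟩, ⟨-1, 1, 1, -1, 1, -1, -1, 1⟩, ⟨0, -1, 0, -1, 0, 1, 0, -1⟩⟩,
   ⟨⟨2, 0, 0, 0, 0, 0, 0, 0⟩, ⟨-1, 1, 1, -1, 1, -1, -1, 1⟩, ⟨0, 1, 0, 1, 0, -1, 0, 1⟩⟩,
   ⟨⟨2, 0, 0, 0, 0, 0, 0, 0⟩, ⟨-1, 2, -1, 0, -1, 0, 1, 0⟩, ⟨0, 0, 0, 0, 0, 0, -2, 0⟩⟩,
   ⟨⟨2, 0, 0, 0, 0, 0, 0, 0⟩, ⟨-1, 2, -1, 0, -1, 0, 1, 0⟩, ⟨0, 0, 0, 0, 0, 0, 2, 0⟩⟩,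
   ⟨⟨2, 0, 0, 0, 0, 0, 0, 0⟩, ⟨-1, 2, -1, 0, 1, 0, -1, 0⟩, ⟨0, 0, 0, 0, -2, 0, 0, 0⟩⟩,
   ⟨⟨2, 0, 0, 0, 0, 0, 0, 0⟩, ⟨-1, 2, -1, 0, 1, 0, -1, 0⟩, ⟨0, 0, 0, 0, 2, 0, 0, 0⟩⟩,
   ⟨⟨2, 0, 0, 0, 0, 0, 0, 0⟩, ⟨-1, 2, 1, 0, -1, 0, -1, 0⟩, ⟨0, 0, -2, 0, 0, 0, 0, 0⟩⟩,
   ⟨⟨2, 0, 0, 0, 0, 0, 0, 0⟩, ⟨-1, 2, 1, 0, -1, 0, -1, 0⟩, ⟨0, 0, 2, 0, 0, 0, 0, 0⟩⟩,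
   ⟨⟨2, 0, 0, 0, 0, 0, 0, 0⟩, ⟨-1, 2, 1, 0, 1, 0, 1, 0⟩, ⟨-2, 0, 0, 0, 0, 0, 0, 0⟩⟩,
   ⟨⟨2, 0, 0, 0, 0, 0, 0, 0⟩, ⟨-1, 2, 1, 0, 1, 0, 1, 0⟩, ⟨2, 0, 0, 0, 0, 0, 0, 0⟩⟩,
   ⟨⟨2, 0, 0, 0, 0, 0, 0, 0⟩, ⟨0, -1, 0, -1, 0, -1, 0, 1⟩, ⟨-1, 1, -1, 1, 1, -1, 1, -1⟩⟩,
   ⟨⟨2, 0, 0, 0, 0, 0, 0, 0⟩, ⟨0, -1, 0, -1, 0, -1, 0, 1⟩, ⟨1, -1, 1, -1, -1, 1, -1, 1⟩⟩,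
   ⟨⟨2, 0, 0, 0, 0, 0, 0, 0⟩, ⟨0, -1, 0, -1, 0, 1, 0, -1⟩, ⟨-1, 1, 1, -1, 1, -1, -1, 1⟩⟩,
   ⟨⟨2, 0, 0, 0, 0, 0, 0, 0⟩, ⟨0, -1, 0, -1, 0, 1, 0, -1⟩, ⟨1, -1, -1, 1, -1, 1, 1, -1⟩⟩,
   ⟨⟨2, 0, 0, 0, 0, 0, 0, 0⟩, ⟨0, -1, 0, 1, 0, -1, 0, -1⟩, ⟨-1, 1, 1, -1, -1, 1, 1, -1⟩⟩,
   ⟨⟨2, 0, 0, 0, 0, 0, 0, 0⟩, ⟨0, -1, 0, 1, 0, -1, 0, -1⟩, ⟨1, -1, -1, 1, 1, -1, -1, 1⟩⟩,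
   ⟨⟨2, 0, 0, 0, 0, 0, 0, 0⟩, ⟨0, -1, 0, 1, 0, 1, 0, 1⟩, ⟨-1, 1, -1, 1, -1, 1, -1, 1⟩⟩,
   ⟨⟨2, 0, 0, 0, 0, 0, 0, 0⟩, ⟨0, -1, 0, 1, 0, 1, 0, 1⟩, ⟨1, -1, 1, -1, 1, -1, 1, -1⟩⟩,
   ⟨⟨2, 0, 0, 0, 0, 0, 0, 0⟩, ⟨0, 0, -2, 0, 0, 0, 0, 0⟩, ⟨-1, 0, -1, 0, -1, 0, 1, -2⟩⟩,
   ⟨⟨2, 0, 0, 0, 0, 0, 0, 0⟩, ⟨0, 0, -2, 0, 0, 0, 0, 0⟩, ⟨-1, 0, -1, 2, 1, 0, -1, 0⟩⟩,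
   ⟨⟨2, 0, 0, 0, 0, 0, 0, 0⟩, ⟨0, 0, -2, 0, 0, 0, 0, 0⟩, ⟨-1, 0, 1, 0, 1, -2, 1, 0⟩⟩,
   ⟨⟨2, 0, 0, 0, 0, 0, 0, 0⟩, ⟨0, 0, -2, 0, 0, 0, 0, 0⟩, ⟨-1, 2, 1, 0, -1, 0, -1, 0⟩⟩,
   ⟨⟨2, 0, 0, 0, 0, 0, 0, 0⟩, ⟨0, 0, -2, 0, 0, 0, 0, 0⟩, ⟨1, -2, -1, 0, 1, 0, 1, 0⟩⟩,
   ⟨⟨2, 0, 0, 0, 0, 0, 0, 0⟩, ⟨0, 0, -2, 0, 0, 0, 0, 0⟩, ⟨1, 0, -1, 0, -1, 2, -1, 0⟩⟩,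
   ⟨⟨2, 0, 0, 0, 0, 0, 0, 0⟩, ⟨0, 0, -2, 0, 0, 0, 0, 0⟩, ⟨1, 0, 1, -2, -1, 0, 1, 0⟩⟩,
   ⟨⟨2, 0, 0, 0, 0, 0, 0, 0⟩, ⟨0, 0, -2, 0, 0, 0, 0, 0⟩, ⟨1, 0, 1, 0, 1, 0, -1, 2⟩⟩,
   ⟨⟨2, 0, 0, 0, 0, 0, 0, 0⟩, ⟨0, 0, 0, 0, -2, 0, 0, 0⟩, ⟨-1, 0, -1, 0, -1, 2, 1, 0⟩⟩,
   ⟨⟨2, 0, 0, 0, 0, 0, 0, 0⟩, ⟨0, 0, 0, 0, -2, 0, 0, 0⟩, ⟨-1, 0, 1, -2, -1, 0, -1, 0⟩⟩,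
   ⟨⟨2, 0, 0, 0, 0, 0, 0, 0⟩, ⟨0, 0, 0, 0, -2, 0, 0, 0⟩, ⟨-1, 0, 1, 0, 1, 0, 1, -2⟩⟩,
   ⟨⟨2, 0, 0, 0, 0, 0, 0, 0⟩, ⟨0, 0, 0, 0, -2, 0, 0, 0⟩, ⟨-1, 2, -1, 0, 1, 0, -1, 0⟩⟩,
   ⟨⟨2, 0, 0, 0, 0, 0, 0, 0⟩, ⟨0, 0, 0, 0, -2, 0, 0, 0⟩, ⟨1, -2, 1, 0, -1, 0, 1, 0⟩⟩,
   ⟨⟨2, 0, 0, 0, 0, 0, 0, 0⟩, ⟨0, 0, 0, 0, -2, 0, 0, 0⟩, ⟨1, 0, -1, 0, -1, 0, -1, 2⟩⟩,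
   ⟨⟨2, 0, 0, 0, 0, 0, 0, 0⟩, ⟨0, 0, 0, 0, -2, 0, 0, 0⟩, ⟨1, 0, -1, 2, 1, 0, 1, 0⟩⟩,
   ⟨⟨2, 0, 0, 0, 0, 0, 0, 0⟩, ⟨0, 0, 0, 0, -2, 0, 0, 0⟩, ⟨1, 0, 1, 0, 1, -2, -1, 0⟩⟩,
   ⟨⟨2, 0, 0, 0, 0, 0, 0, 0⟩, ⟨0, 0, 0, 0, 0, 0, -2, 0⟩, ⟨-1, 0, -1, 0, 1, -2, -1, 0⟩⟩,
   ⟨⟨2, 0, 0, 0, 0, 0, 0, 0⟩, ⟨0, 0, 0, 0, 0, 0, -2, 0⟩, ⟨-1, 0, 1, -2, 1, 0, 1, 0⟩⟩,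
   ⟨⟨2, 0, 0, 0, 0, 0, 0, 0⟩, ⟨0, 0, 0, 0, 0, 0, -2, 0⟩, ⟨-1, 0, 1, 0, -1, 0, -1, 2⟩⟩,
   ⟨⟨2, 0, 0, 0, 0, 0, 0, 0⟩, ⟨0, 0, 0, 0, 0, 0, -2, 0⟩, ⟨-1, 2, -1, 0, -1, 0, 1, 0⟩⟩,
   ⟨⟨2, 0, 0, 0, 0, 0, 0, 0⟩, ⟨0, 0, 0, 0, 0, 0, -2, 0⟩, ⟨1, -2, 1, 0, 1, 0, -1, 0⟩⟩,
   ⟨⟨2, 0, 0, 0, 0, 0, 0, 0⟩, ⟨0, 0, 0, 0, 0, 0, -2, 0⟩, ⟨1, 0, -1, 0, 1, 0, 1, -2⟩⟩,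
   ⟨⟨2, 0, 0, 0, 0, 0, 0, 0⟩, ⟨0, 0, 0, 0, 0, 0, -2, 0⟩, ⟨1, 0, -1, 2, -1, 0, -1, 0⟩⟩,
   ⟨⟨2, 0, 0, 0, 0, 0, 0, 0⟩, ⟨0, 0, 0, 0, 0, 0, -2, 0⟩, ⟨1, 0, 1, 0, -1, 2, 1, 0⟩⟩,
   ⟨⟨2, 0, 0, 0, 0, 0, 0, 0⟩, ⟨0, 0, 0, 0, 0, 0, 2, 0⟩, ⟨-1, 0, -1, 0, 1, -2, -1, 0⟩⟩,
   ⟨⟨2, 0, 0, 0, 0, 0, 0, 0⟩, ⟨0, 0, 0, 0, 0, 0, 2, 0⟩, ⟨-1, 0, 1, -2, 1, 0, 1, 0⟩⟩,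
   ⟨⟨2, 0, 0, 0, 0, 0, 0, 0⟩, ⟨0, 0, 0, 0, 0, 0, 2, 0⟩, ⟨-1, 0, 1, 0, -1, 0, -1, 2⟩⟩,
   ⟨⟨2, 0, 0, 0, 0, 0, 0, 0⟩, ⟨0, 0, 0, 0, 0, 0, 2, 0⟩, ⟨-1, 2, -1, 0, -1, 0, 1, 0⟩⟩,
   ⟨⟨2, 0, 0, 0, 0, 0, 0, 0⟩, ⟨0, 0, 0, 0, 0, 0, 2, 0⟩, ⟨1, -2, 1, 0, 1, 0, -1, 0⟩⟩,
   ⟨⟨2, 0, 0, 0, 0, 0, 0, 0⟩, ⟨0, 0, 0, 0, 0, 0, 2, 0⟩, ⟨1, 0, -1, 0, 1, 0, 1, -2⟩⟩,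
   ⟨⟨2, 0, 0, 0, 0, 0, 0, 0⟩, ⟨0, 0, 0, 0, 0, 0, 2, 0⟩, ⟨1, 0, -1, 2, -1, 0, -1, 0⟩⟩,
   ⟨⟨2, 0, 0, 0, 0, 0, 0, 0⟩, ⟨0, 0, 0, 0, 0, 0, 2, 0⟩, ⟨1, 0, 1, 0, -1, 2, 1, 0⟩⟩,
   ⟨⟨2, 0, 0, 0, 0, 0, 0, 0⟩, ⟨0, 0, 0, 0, 2, 0, 0, 0⟩, ⟨-1, 0, -1, 0, -1, 2, 1, 0⟩⟩,
   ⟨⟨2, 0, 0, 0, 0, 0, 0, 0⟩, ⟨0, 0, 0, 0, 2, 0, 0, 0⟩, ⟨-1, 0, 1, -2, -1, 0, -1, 0⟩⟩,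
   ⟨⟨2, 0, 0, 0, 0, 0, 0, 0⟩, ⟨0, 0, 0, 0, 2, 0, 0, 0⟩, ⟨-1, 0, 1, 0, 1, 0, 1, -2⟩⟩,
   ⟨⟨2, 0, 0, 0, 0, 0, 0, 0⟩, ⟨0, 0, 0, 0, 2, 0, 0, 0⟩, ⟨-1, 2, -1, 0, 1, 0, -1, 0⟩⟩,
   ⟨⟨2, 0, 0, 0, 0, 0, 0, 0⟩, ⟨0, 0, 0, 0, 2, 0, 0, 0⟩, ⟨1, -2, 1, 0, -1, 0, 1, 0⟩⟩,
   ⟨⟨2, 0, 0, 0, 0, 0, 0, 0⟩, ⟨0, 0, 0, 0, 2, 0, 0, 0⟩, ⟨1, 0, -1, 0, -1, 0, -1, 2⟩⟩,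
   ⟨⟨2, 0, 0, 0, 0, 0, 0, 0⟩, ⟨0, 0, 0, 0, 2, 0, 0, 0⟩, ⟨1, 0, -1, 2, 1, 0, 1, 0⟩⟩,
   ⟨⟨2, 0, 0, 0, 0, 0, 0, 0⟩, ⟨0, 0, 0, 0, 2, 0, 0, 0⟩, ⟨1, 0, 1, 0, 1, -2, -1, 0⟩⟩,
   ⟨⟨2, 0, 0, 0, 0, 0, 0, 0⟩, ⟨0, 0, 2, 0, 0, 0, 0, 0⟩, ⟨-1, 0, -1, 0, -1, 0, 1, -2⟩⟩,
   ⟨⟨2, 0, 0, 0, 0, 0, 0, 0⟩, ⟨0, 0, 2, 0, 0, 0, 0, 0⟩, ⟨-1, 0, -1, 2, 1, 0, -1, 0⟩⟩,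
   ⟨⟨2, 0, 0, 0, 0, 0, 0, 0⟩, ⟨0, 0, 2, 0, 0, 0, 0, 0⟩, ⟨-1, 0, 1, 0, 1, -2, 1, 0⟩⟩,
   ⟨⟨2, 0, 0, 0, 0, 0, 0, 0⟩, ⟨0, 0, 2, 0, 0, 0, 0, 0⟩, ⟨-1, 2, 1, 0, -1, 0, -1, 0⟩⟩,
   ⟨⟨2, 0, 0, 0, 0, 0, 0, 0⟩, ⟨0, 0, 2, 0, 0, 0, 0, 0⟩, ⟨1, -2, -1, 0, 1, 0, 1, 0⟩⟩,
   ⟨⟨2, 0, 0, 0, 0, 0, 0, 0⟩, ⟨0, 0, 2, 0, 0, 0, 0, 0⟩, ⟨1, 0, -1, 0, -1, 2, -1, 0⟩⟩,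
   ⟨⟨2, 0, 0, 0, 0, 0, 0, 0⟩, ⟨0, 0, 2, 0, 0, 0, 0, 0⟩, ⟨1, 0, 1, -2, -1, 0, 1, 0⟩⟩,
   ⟨⟨2, 0, 0, 0, 0, 0, 0, 0⟩, ⟨0, 0, 2, 0, 0, 0, 0, 0⟩, ⟨1, 0, 1, 0, 1, 0, -1, 2⟩⟩,
   ⟨⟨2, 0, 0, 0, 0, 0, 0, 0⟩, ⟨0, 1, 0, -1, 0, -1, 0, -1⟩, ⟨-1, 1, -1, 1, -1, 1, -1, 1⟩⟩,
   ⟨⟨2, 0, 0, 0, 0, 0, 0, 0⟩, ⟨0, 1, 0, -1, 0, -1, 0, -1⟩, ⟨1, -1, 1, -1, 1, -1, 1, -1⟩⟩,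
   ⟨⟨2, 0, 0, 0, 0, 0, 0, 0⟩, ⟨0, 1, 0, -1, 0, 1, 0, 1⟩, ⟨-1, 1, 1, -1, -1, 1, 1, -1⟩⟩,
   ⟨⟨2, 0, 0, 0, 0, 0, 0, 0⟩, ⟨0, 1, 0, -1, 0, 1, 0, 1⟩, ⟨1, -1, -1, 1, 1, -1, -1, 1⟩⟩,
   ⟨⟨2, 0, 0, 0, 0, 0, 0, 0⟩, ⟨0, 1, 0, 1, 0, -1, 0, 1⟩, ⟨-1, 1, 1, -1, 1, -1, -1, 1⟩⟩,
   ⟨⟨2, 0, 0, 0, 0, 0, 0, 0⟩, ⟨0, 1, 0, 1, 0, -1, 0, 1⟩, ⟨1, -1, -1, 1, -1, 1, 1, -1⟩⟩,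
   ⟨⟨2, 0, 0, 0, 0, 0, 0, 0⟩, ⟨0, 1, 0, 1, 0, 1, 0, -1⟩, ⟨-1, 1, -1, 1, 1, -1, 1, -1⟩⟩,
   ⟨⟨2, 0, 0, 0, 0, 0, 0, 0⟩, ⟨0, 1, 0, 1, 0, 1, 0, -1⟩, ⟨1, -1, 1, -1, -1, 1, -1, 1⟩⟩,
   ⟨⟨2, 0, 0, 0, 0, 0, 0, 0⟩, ⟨1, -2, -1, 0, -1, 0, -1, 0⟩, ⟨-2, 0, 0, 0, 0, 0, 0, 0⟩⟩,
   ⟨⟨2, 0, 0, 0, 0, 0, 0, 0⟩, ⟨1, -2, -1, 0, -1, 0, -1, 0⟩, ⟨2, 0, 0, 0, 0, 0, 0, 0⟩⟩,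
   ⟨⟨2, 0, 0, 0, 0, 0, 0, 0⟩, ⟨1, -2, -1, 0, 1, 0, 1, 0⟩, ⟨0, 0, -2, 0, 0, 0, 0, 0⟩⟩,
   ⟨⟨2, 0, 0, 0, 0, 0, 0, 0⟩, ⟨1, -2, -1, 0, 1, 0, 1, 0⟩, ⟨0, 0, 2, 0, 0, 0, 0, 0⟩⟩,
   ⟨⟨2, 0, 0, 0, 0, 0, 0, 0⟩, ⟨1, -2, 1, 0, -1, 0, 1, 0⟩, ⟨0, 0, 0, 0, -2, 0, 0, 0⟩⟩,
   ⟨⟨2, 0, 0, 0, 0, 0, 0, 0⟩, ⟨1, -2, 1, 0, -1, 0, 1, 0⟩, ⟨0, 0, 0, 0, 2, 0, 0, 0⟩⟩,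
   ⟨⟨2, 0, 0, 0, 0, 0, 0, 0⟩, ⟨1, -2, 1, 0, 1, 0, -1, 0⟩, ⟨0, 0, 0, 0, 0, 0, -2, 0⟩⟩,
   ⟨⟨2, 0, 0, 0, 0, 0, 0, 0⟩, ⟨1, -2, 1, 0, 1, 0, -1, 0⟩, ⟨0, 0, 0, 0, 0, 0, 2, 0⟩⟩,
   ⟨⟨2, 0, 0, 0, 0, 0, 0, 0⟩, ⟨1, -1, -1, 1, -1, 1, 1, -1⟩, ⟨0, -1, 0, -1, 0, 1, 0, -1⟩⟩,
   ⟨⟨2, 0, 0, 0, 0, 0, 0, 0⟩, ⟨1, -1, -1, 1, -1, 1, 1, -1⟩, ⟨0, 1, 0, 1, 0, -1, 0, 1⟩⟩,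
   ⟨⟨2, 0, 0, 0, 0, 0, 0, 0⟩, ⟨1, -1, -1, 1, 1, -1, -1, 1⟩, ⟨0, -1, 0, 1, 0, -1, 0, -1⟩⟩,
   ⟨⟨2, 0, 0, 0, 0, 0, 0, 0⟩, ⟨1, -1, -1, 1, 1, -1, -1, 1⟩, ⟨0, 1, 0, -1, 0, 1, 0, 1⟩⟩,
   ⟨⟨2, 0, 0, 0, 0, 0, 0, 0⟩, ⟨1, -1, 1, -1, -1, 1, -1, 1⟩, ⟨0, -1, 0, -1, 0, -1, 0, 1⟩⟩,
   ⟨⟨2, 0, 0, 0, 0, 0, 0, 0⟩, ⟨1, -1, 1, -1, -1, 1, -1, 1⟩, ⟨0, 1, 0, 1, 0, 1, 0, -1⟩⟩,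
   ⟨⟨2, 0, 0, 0, 0, 0, 0, 0⟩, ⟨1, -1, 1, -1, 1, -1, 1, -1⟩, ⟨0, -1, 0, 1, 0, 1, 0, 1⟩⟩,
   ⟨⟨2, 0, 0, 0, 0, 0, 0, 0⟩, ⟨1, -1, 1, -1, 1, -1, 1, -1⟩, ⟨0, 1, 0, -1, 0, -1, 0, -1⟩⟩,
   ⟨⟨2, 0, 0, 0, 0, 0, 0, 0⟩, ⟨1, 0, -1, 0, -1, 0, -1, 2⟩, ⟨0, 0, 0, 0, -2, 0, 0, 0⟩⟩,
   ⟨⟨2, 0, 0, 0, 0, 0, 0, 0⟩, ⟨1, 0, -1, 0, -1, 0, -1, 2⟩, ⟨0, 0, 0, 0, 2, 0, 0, 0⟩⟩,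
   ⟨⟨2, 0, 0, 0, 0, 0, 0, 0⟩, ⟨1, 0, -1, 0, -1, 2, -1, 0⟩, ⟨0, 0, -2, 0, 0, 0, 0, 0⟩⟩,
   ⟨⟨2, 0, 0, 0, 0, 0, 0, 0⟩, ⟨1, 0, -1, 0, -1, 2, -1, 0⟩, ⟨0, 0, 2, 0, 0, 0, 0, 0⟩⟩,
   ⟨⟨2, 0, 0, 0, 0, 0, 0, 0⟩, ⟨1, 0, -1, 0, 1, -2, 1, 0⟩, ⟨-2, 0, 0, 0, 0, 0, 0, 0⟩⟩,
   ⟨⟨2, 0, 0, 0, 0, 0, 0, 0⟩, ⟨1, 0, -1, 0, 1, -2, 1, 0⟩, ⟨2, 0, 0, 0, 0, 0, 0, 0⟩⟩,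
   ⟨⟨2, 0, 0, 0, 0, 0, 0, 0⟩, ⟨1, 0, -1, 0, 1, 0, 1, -2⟩, ⟨0, 0, 0, 0, 0, 0, -2, 0⟩⟩,
   ⟨⟨2, 0, 0, 0, 0, 0, 0, 0⟩, ⟨1, 0, -1, 0, 1, 0, 1, -2⟩, ⟨0, 0, 0, 0, 0, 0, 2, 0⟩⟩,
   ⟨⟨2, 0, 0, 0, 0, 0, 0, 0⟩, ⟨1, 0, -1, 2, -1, 0, -1, 0⟩, ⟨0, 0, 0, 0, 0, 0, -2, 0⟩⟩,
   ⟨⟨2, 0, 0, 0, 0, 0, 0, 0⟩, ⟨1, 0, -1, 2, -1, 0, -1, 0⟩, ⟨0, 0, 0, 0, 0, 0, 2, 0⟩⟩,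
   ⟨⟨2, 0, 0, 0, 0, 0, 0, 0⟩, ⟨1, 0, -1, 2, 1, 0, 1, 0⟩, ⟨0, 0, 0, 0, -2, 0, 0, 0⟩⟩,
   ⟨⟨2, 0, 0, 0, 0, 0, 0, 0⟩, ⟨1, 0, -1, 2, 1, 0, 1, 0⟩, ⟨0, 0, 0, 0, 2, 0, 0, 0⟩⟩,
   ⟨⟨2, 0, 0, 0, 0, 0, 0, 0⟩, ⟨1, 0, 1, -2, -1, 0, 1, 0⟩, ⟨0, 0, -2, 0, 0, 0, 0, 0⟩⟩,
   ⟨⟨2, 0, 0, 0, 0, 0, 0, 0⟩, ⟨1, 0, 1, -2, -1, 0, 1, 0⟩, ⟨0, 0, 2, 0, 0, 0, 0, 0⟩⟩,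
   ⟨⟨2, 0, 0, 0, 0, 0, 0, 0⟩, ⟨1, 0, 1, -2, 1, 0, -1, 0⟩, ⟨-2, 0, 0, 0, 0, 0, 0, 0⟩⟩,
   ⟨⟨2, 0, 0, 0, 0, 0, 0, 0⟩, ⟨1, 0, 1, -2, 1, 0, -1, 0⟩, ⟨2, 0, 0, 0, 0, 0, 0, 0⟩⟩,
   ⟨⟨2, 0, 0, 0, 0, 0, 0, 0⟩, ⟨1, 0, 1, 0, -1, 0, 1, -2⟩, ⟨-2, 0, 0, 0, 0, 0, 0, 0⟩⟩,
   ⟨⟨2, 0, 0, 0, 0, 0, 0, 0⟩, ⟨1, 0, 1, 0, -1, 0, 1, -2⟩, ⟨2, 0, 0, 0, 0, 0, 0, 0⟩⟩,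
   ⟨⟨2, 0, 0, 0, 0, 0, 0, 0⟩, ⟨1, 0, 1, 0, -1, 2, 1, 0⟩, ⟨0, 0, 0, 0, 0, 0, -2, 0⟩⟩,
   ⟨⟨2, 0, 0, 0, 0, 0, 0, 0⟩, ⟨1, 0, 1, 0, -1, 2, 1, 0⟩, ⟨0, 0, 0, 0, 0, 0, 2, 0⟩⟩,
   ⟨⟨2, 0, 0, 0, 0, 0, 0, 0⟩, ⟨1, 0, 1, 0, 1, -2, -1, 0⟩, ⟨0, 0, 0, 0, -2, 0, 0, 0⟩⟩,
   ⟨⟨2, 0, 0, 0, 0, 0, 0, 0⟩, ⟨1, 0, 1, 0, 1, -2, -1, 0⟩, ⟨0, 0, 0, 0, 2, 0, 0, 0⟩⟩,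
   ⟨⟨2, 0, 0, 0, 0, 0, 0, 0⟩, ⟨1, 0, 1, 0, 1, 0, -1, 2⟩, ⟨0, 0, -2, 0, 0, 0, 0, 0⟩⟩,
   ⟨⟨2, 0, 0, 0, 0, 0, 0, 0⟩, ⟨1, 0, 1, 0, 1, 0, -1, 2⟩, ⟨0, 0, 2, 0, 0, 0, 0, 0⟩⟩,
   ⟨⟨2, 0, 0, 0, 0, 0, 0, 0⟩, ⟨2, 0, 0, 0, 0, 0, 0, 0⟩, ⟨-1, 0, -1, 0, 1, 0, -1, 2⟩⟩,
   ⟨⟨2, 0, 0, 0, 0, 0, 0, 0⟩, ⟨2, 0, 0, 0, 0, 0, 0, 0⟩, ⟨-1, 0, -1, 2, -1, 0, 1, 0⟩⟩,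
   ⟨⟨2, 0, 0, 0, 0, 0, 0, 0⟩, ⟨2, 0, 0, 0, 0, 0, 0, 0⟩, ⟨-1, 0, 1, 0, -1, 2, -1, 0⟩⟩,
   ⟨⟨2, 0, 0, 0, 0, 0, 0, 0⟩, ⟨2, 0, 0, 0, 0, 0, 0, 0⟩, ⟨-1, 2, 1, 0, 1, 0, 1, 0⟩⟩,
   ⟨⟨2, 0, 0, 0, 0, 0, 0, 0⟩, ⟨2, 0, 0, 0, 0, 0, 0, 0⟩, ⟨1, -2, -1, 0, -1, 0, -1, 0⟩⟩,
   ⟨⟨2, 0, 0, 0, 0, 0, 0, 0⟩, ⟨2, 0, 0, 0, 0, 0, 0, 0⟩, ⟨1, 0, -1, 0, 1, -2, 1, 0⟩⟩,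
   ⟨⟨2, 0, 0, 0, 0, 0, 0, 0⟩, ⟨2, 0, 0, 0, 0, 0, 0, 0⟩, ⟨1, 0, 1, -2, 1, 0, -1, 0⟩⟩,
   ⟨⟨2, 0, 0, 0, 0, 0, 0, 0⟩, ⟨2, 0, 0, 0, 0, 0, 0, 0⟩, ⟨1, 0, 1, 0, -1, 0, 1, -2⟩⟩,
   ⟨⟨4, 0, 0, 0, 0, 0, 0, 0⟩, ⟨0, 0, 0, 0, 0, 0, 0, 0⟩, ⟨0, 0, 0, 0, 0, 0, 0, 0⟩⟩]

/-- the `i`-th canonical minimal vector -/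
def cvec (i : ℕ) : V3 := C.getD i ⟨Q8.zero, Q8.zero, Q8.zero⟩

theorem U_length : U.length = 120 := by decide +kernel
theorem C_length : C.length = 315 := by decide +kernel

end Cfsg.Agent.Lib.Helper11.Ico
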