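import Cfsg.Agent.Lib.Helper11.IcoModel

/-!
# The icosian Leech lattice in the computable model (helper11)
-/

set_option autoImplicit false

namespace Cfsg.Agent.Lib.Helper11.Ico

open Quaternion Cfsg.Spor

namespace Q8

/-- `h = ½(−√5 + i + j + k)`, with `−√5 = 1 − 2τ` -/
def hQ : Q8 := ⟨1, -2, 1, 0, 1, 0, 1, 0⟩

theorem toH_hQ : hQ.toH = icoH := by
  ext <;> simp [hQ, icoH, tau] <;> ring

theorem icoH_mul_star : icoH * star icoH = 2 := by
  rw [Quaternion.self_mul_star]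
  have h5 := Real.mul_self_sqrt (show (0:ℝ) ≤ 5 by norm_num)
  have : Quaternion.normSq icoH = 2 := by
    rw [Quaternion.normSq_def']
    simp only [icoH]
    nlinarith
  rw [this]; norm_cast

theorem star_icoH_mul : star icoH * icoH = 2 := by
  rw [Quaternion.star_mul_self]
  have h5 := Real.mul_self_sqrt (show (0:ℝ) ≤ 5 by norm_num)
  have : Quaternion.normSq icoH = 2 := by
    rw [Quaternion.normSq_def']
    simp only [icoH]
    nlinarith
  rw [this]; norm_cast

def div4 (x : Q8) : Bool :=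
  x.a0 % 4 == 0 && x.b0 % 4 == 0 && x.a1 % 4 == 0 && x.b1 % 4 == 0 &&
  x.a2 % 4 == 0 && x.b2 % 4 == 0 && x.a3 % 4 == 0 && x.b3 % 4 == 0

def quarter (x : Q8) : Q8 := ⟨x.a0 / 4, x.b0 / 4, x.a1 / 4, x.b1 / 4, x.a2 / 4, x.b2 / 4, x.a3 / 4, x.b3 / 4⟩

theorem dbl_dbl_quarter {x : Q8} (h : div4 x = true) : dbl (dbl (quarter x)) = x := by
  simp only [div4, Bool.and_eq_true, beq_iff_eq] at h
  obtain ⟨⟨⟨⟨⟨⟨⟨h0, h1⟩, h2⟩, h3⟩, h4⟩, h5⟩, h6⟩, h7⟩ := h
  ext <;> simp only [dbl, zs, quarter] <;> omega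

theorem div4_dbl_dbl (x : Q8) : div4 (dbl (dbl x)) = true ∧ quarter (dbl (dbl x)) = x := by
  constructor
  · simp only [div4, dbl, zs, Bool.and_eq_true, beq_iff_eq]
    refine ⟨⟨⟨⟨⟨⟨⟨?_, ?_⟩, ?_⟩, ?_⟩, ?_⟩, ?_⟩, ?_⟩, ?_⟩ <;> omega
  · ext <;> simp only [dbl, zs, quarter] <;> omega

/-- `x ∈ I·q` for `q` of norm 2 (test: `x q̄ / 2 ∈ I`) -/
def inIq (q x : Q8) : Bool := div4 (mulRaw x (conj q)) && inI (quarter (mulRaw x (conj q)))

theorem mem_leftIdeal_iff {q : Q8} (hq : q.toH * star q.toH = 2) (hq' : star q.toH * q.toH = 2)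
    {x : Q8} (hx : inI x = true) :
    x.toH ∈ leftIdeal q.toH ↔ inIq q x = true := by
  constructor
  · rintro ⟨a, ha, hxa⟩
    obtain ⟨y, hy, rfl⟩ := (mem_icosians_iff a).mp ha
    have h1 : mulRaw x (conj q) = dbl (dbl y) := by
      apply toH_injective
      rw [toH_mulRaw, toH_dbl, toH_dbl, toH_conj, hxa, mul_assoc, hq]
      congr 1
      rw [mul_two, two_smul]
    obtain ⟨h2, h3⟩ := div4_dbl_dbl y
    simp only [inIq, h1, h2, h3, hy, Bool.and_self]
  · intro h
    simp only [inIq, Bool.and_eq_true] at h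
    obtain ⟨h4, hI⟩ := h
    refine ⟨(quarter (mulRaw x (conj q))).toH, toH_mem_icosians hI, ?_⟩
    have h1 := dbl_dbl_quarter h4
    have h2 := toH_mulRaw x (conj q)
    rw [← h1, toH_dbl, toH_dbl, toH_conj, smul_smul] at h2
    -- 4 • z = 2 • (x * star q)
    have h3 : (quarter (mulRaw x (conj q))).toH = (1/2 : ℝ) • (x.toH * star q.toH) := by
      have := congrArg (fun t => (1/4 : ℝ) • t) h2
      simp only [smul_smul] at this
      norm_num at this
      rw [this]
    rw [h3, smul_mul_assoc, mul_assoc, hq']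
    rw [mul_two, smul_add, ← add_smul]
    norm_num

end Q8

/-- triples of model quaternions -/
@[ext] structure V3 where
  x : Q8
  y : Q8
  z : Q8
deriving DecidableEq, Repr

namespace V3
open Q8

noncomputable def toV (v : V3) : Fin 3 → ℍ[ℝ] := ![v.x.toH, v.y.toH, v.z.toH]

theorem toV_injective : Function.Injective toV := by
  intro v w h
  have h0 := congrFun h 0
  have h1 := congrFun h 1
  have h2 := congrFun h 2
  simp [toV] at h0 h1 h2
  ext1
  · exact toH_injective h0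
  · exact toH_injective h1
  · exact toH_injective h2

def inLeech (v : V3) : Bool :=
  inI v.x && inI v.y && inI v.z && inIq hQ (sub v.x v.y) && inIq hQ (sub v.y v.z) &&
    inIq (conj hQ) (add (add v.x v.y) v.z)

theorem hQ_norm : hQ.toH * star hQ.toH = 2 ∧ star hQ.toH * hQ.toH = 2 := by
  rw [toH_hQ]; exact ⟨icoH_mul_star, star_icoH_mul⟩

theorem hQc_norm : (conj hQ).toH * star (conj hQ).toH = 2 ∧ star (conj hQ).toH * (conj hQ).toH = 2 := by
  rw [toH_conj, star_star, toH_hQ]; exact ⟨star_icoH_mul, icoH_mul_star⟩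

/-- **The icosian Leech lattice is the image of the model.** -/
theorem mem_icoLeech_iff (w : Fin 3 → ℍ[ℝ]) :
    w ∈ icoLeech ↔ ∃ v : V3, inLeech v = true ∧ v.toV = w := by
  constructor
  · rintro ⟨hI, h1, h2, h3⟩
    obtain ⟨x, hx, ex⟩ := (mem_icosians_iff _).mp (hI 0)
    obtain ⟨y, hy, ey⟩ := (mem_icosians_iff _).mp (hI 1)
    obtain ⟨z, hz, ez⟩ := (mem_icosians_iff _).mp (hI 2)
    refine ⟨⟨x, y, z⟩, ?_, ?_⟩
    · simp only [inLeech, hx, hy, hz, Bool.and_eq_true, true_and, Bool.true_and]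
      refine ⟨⟨?_, ?_⟩, ?_⟩
      · rw [← mem_leftIdeal_iff hQ_norm.1 hQ_norm.2 (inI_sub hx hy), toH_sub, ex, ey, toH_hQ]
        exact h1
      · rw [← mem_leftIdeal_iff hQ_norm.1 hQ_norm.2 (inI_sub hy hz), toH_sub, ey, ez, toH_hQ]
        exact h2
      · rw [← mem_leftIdeal_iff hQc_norm.1 hQc_norm.2 (inI_add (inI_add hx hy) hz), toH_add, toH_add,
          ex, ey, ez, toH_conj, toH_hQ]
        exact h3
    · funext t
      fin_cases t
      · simpa [toV] using ex
      · simpa [toV] using ey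
      · simpa [toV] using ez
  · rintro ⟨v, hv, rfl⟩
    simp only [inLeech, Bool.and_eq_true] at hv
    obtain ⟨⟨⟨⟨⟨hx, hy⟩, hz⟩, h1⟩, h2⟩, h3⟩ := hv
    refine ⟨?_, ?_, ?_, ?_⟩
    · intro t
      fin_cases t
      · simpa [toV] using toH_mem_icosians hx
      · simpa [toV] using toH_mem_icosians hy
      · simpa [toV] using toH_mem_icosians hz
    · have := (mem_leftIdeal_iff hQ_norm.1 hQ_norm.2 (inI_sub hx hy)).mpr h1
      rw [toH_sub, toH_hQ] at this
      simpa [toV] using this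
    · have := (mem_leftIdeal_iff hQ_norm.1 hQ_norm.2 (inI_sub hy hz)).mpr h2
      rw [toH_sub, toH_hQ] at this
      simpa [toV] using this
    · have := (mem_leftIdeal_iff hQc_norm.1 hQc_norm.2 (inI_add (inI_add hx hy) hz)).mpr h3
      rw [toH_add, toH_add, toH_conj, toH_hQ] at this
      simpa [toV] using this

end V3

end Cfsg.Agent.Lib.Helper11.Ico
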