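import Mathlib
import Cfsg.Prelude.Def_KGroupFacts
import Cfsg.Agent.S0102
import Cfsg.Agent.H5.TCkSound
import Cfsg.Agent.H5.StemTC
import Cfsg.Agent.H5.StemLift
import Cfsg.Agent.Lib.Helper5.Sp62Data
import Cfsg.Agent.Lib.Helper1.Sp62L
import Cfsg.Agent.Lib.Helper1.O8pData

/-!
# S2098 piece [UP] (helper11 for helper1): the upper bound `|ker| ≤ 4`, with [P] and [C] as hypotheses.
`relsW` / `conjW` are used only through their definition shape and one `decide` check.
-/

set_option autoImplicit false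

namespace Cfsg.Agent.Lib.Helper1.O8p

open Cfsg Cfsg.H5.TCk
open Cfsg.Agent.Lib.Helper5.Sp62 (cr crOf)

universe u v

namespace Helper11

theorem perfect_of_stem {Γ : Type u} {G : Type v} [Group Γ] [Group G] (σ : Γ →* G)
    (hσ : IsStemExtension σ) (hperf : commutator G = ⊤) : commutator Γ = ⊤ := by
  obtain ⟨hs, _, hcomm⟩ := hσ
  rw [eq_top_iff]
  intro x _
  have hx : σ x ∈ (commutator Γ).map σ := by
    have h1 : (commutator Γ).map σ = commutator G := by
      rw [commutator_def, commutator_def, Subgroup.map_commutator, ← MonoidHom.range_eq_map,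
        MonoidHom.range_eq_top.mpr hs]
    rw [h1, hperf]; exact Subgroup.mem_top _
  obtain ⟨y, hy, hyx⟩ := hx
  have hk : y⁻¹ * x ∈ σ.ker := by
    rw [MonoidHom.mem_ker, map_mul, map_inv, hyx, inv_mul_cancel]
  have : x = y * (y⁻¹ * x) := by group
  rw [this]
  exact mul_mem hy (hcomm hk)

theorem card_eq_mul_ker {Γ : Type u} {G : Type v} [Group Γ] [Group G] (σ : Γ →* G)
    (hs : Function.Surjective σ) : Nat.card Γ = Nat.card G * Nat.card σ.ker := by
  rw [Subgroup.card_eq_card_quotient_mul_card_subgroup σ.ker]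
  congr 1
  exact Nat.card_congr (QuotientGroup.quotientKerEquivOfSurjective σ hs).toEquiv

theorem ev_replicate {Γ : Type u} [Group Γ] (γ : ℕ → Γ) (l x : ℕ) :
    ev γ (List.replicate l x) = gl γ x ^ l := by
  induction l with
  | zero => simp [ev]
  | succ l ih => rw [List.replicate_succ, ev, ih, pow_succ']

theorem ev_pow7 {Γ : Type u} [Group Γ] (γ : ℕ → Γ) (i : ℕ) :
    ev γ (List.replicate 7 (2 * i)) = γ i ^ 7 := by
  rw [ev_replicate]
  have h1 : (2 * i) % 2 = 0 := by omega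
  have h2 : (2 * i) / 2 = i := by omega
  simp only [gl, h1, if_true, h2]

theorem factorization_seven : (174182400 : ℕ).factorization 7 = 1 := by
  have e : (174182400 : ℕ) = 7 ^ 1 * 24883200 := by norm_num
  rw [e, Nat.factorization_mul (by norm_num) (by norm_num), Finsupp.add_apply,
    Nat.Prime.factorization_pow (by norm_num), Finsupp.single_eq_same,
    Nat.factorization_eq_zero_of_not_dvd (by norm_num)]

set_option maxRecDepth 100000 in
theorem conjW_idx : ∀ q ∈ conjW, q.2.1 < 5 ∧ q.2.2.1 / 2 < 5 := by decide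

theorem mem_relsW {r : List ℕ} (h : r ∈ relsW) :
    (∃ i, i < 5 ∧ r = List.replicate 7 (2 * i)) ∨ ∃ q, q ∈ conjW ∧ r = crOf q := by
  unfold relsW at h
  rcases List.mem_append.mp h with h | h
  · obtain ⟨i, hi, rfl⟩ := List.mem_map.mp h
    exact Or.inl ⟨i, List.mem_range.mp hi, rfl⟩
  · obtain ⟨q, hq, rfl⟩ := List.mem_map.mp h
    exact Or.inr ⟨q, hq, rfl⟩

theorem pow7_mem_relsW {i : ℕ} (hi : i < 5) : List.replicate 7 (2 * i) ∈ relsW := by
  unfold relsW
  exact List.mem_append.mpr (Or.inl (List.mem_map.mpr ⟨i, List.mem_range.mpr hi, rfl⟩))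

end Helper11

/-- [UP] the upper bound, with [P] and [C] as hypotheses -/
theorem card_ker_le_four_of
    (hP : ∀ {H : Type u} [Group H] (h : ℕ → H),
      Subgroup.closure (Set.range fun i : Fin 5 => h i.val) = ⊤ →
      (∀ r ∈ relsW, ev h r = 1) → commutator H = ⊤)
    (hC : ∀ {Δ : Type u} [Group Δ] (δ : ℕ → Δ), (∀ r ∈ relsW, ev δ r = 1) →
      Subgroup.closure (Set.range fun i : Fin 5 => δ i.val) = ⊤ →
      Finite Δ ∧ Nat.card Δ ≤ 696729600)
    {G : Type u} [Group G] (g : ℕ → G) (hg : IsO8pTuple g)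
    {Γ : Type u} [Group Γ] [Finite Γ] (σ : Γ →* G) (hσ : IsStemExtension σ) :
    Nat.card σ.ker ≤ 4 := by
  classical
  obtain ⟨hcard, hgen, hrel, _, _⟩ := hg
  haveI : Finite G := Nat.finite_of_card_ne_zero (by rw [hcard]; norm_num)
  haveI : Fact (Nat.Prime 7) := ⟨by norm_num⟩
  have hGperf : commutator G = ⊤ := hP g hgen hrel
  have hΓperf : commutator Γ = ⊤ := Helper11.perfect_of_stem σ hσ hGperf
  have hcyc : ∀ P : Sylow 7 G, IsCyclic P := by
    intro P
    have hc : Nat.card P = 7 ^ (Nat.card G).factorization 7 := Sylow.card_eq_multiplicity P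
    rw [hcard, Helper11.factorization_seven, pow_one] at hc
    exact isCyclic_of_prime_card hc
  have hnd : ¬ 7 ∣ Nat.card σ.ker :=
    Cfsg.Agent.S0102.result hGperf hcyc σ hσ.1 hσ.2.1 hΓperf
  have hcop : (7 : ℕ).Coprime (Nat.card σ.ker) :=
    (Nat.Prime.coprime_iff_not_dvd (by norm_num)).mpr hnd
  have hg7 : ∀ i < 5, g i ^ 7 = 1 := by
    intro i hi
    rw [← Helper11.ev_pow7]
    exact hrel _ (Helper11.pow7_mem_relsW hi)
  have hex : ∀ k : ℕ, ∃ y : Γ, σ y = g k ∧ (k < 5 → y ^ 7 = 1) := by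
    intro k
    by_cases hk : k < 5
    · obtain ⟨y, hy1, hy2⟩ := Cfsg.Agent.Lib.Helper5.Sp62.exists_lift_pow_eq_one σ hσ.1 hσ.2.1
        hcop (g k) (hg7 k hk)
      exact ⟨y, hy1, fun _ => hy2⟩
    · obtain ⟨y, hy⟩ := hσ.1 (g k)
      exact ⟨y, hy, fun h => absurd h hk⟩
  choose γh hγσ hγ7 using hex
  have hσγ : (fun k => σ (γh k)) = g := funext hγσ
  have hrelΓ : ∀ r ∈ relsW, ev γh r = 1 := by
    intro r hr
    rcases Helper11.mem_relsW hr with ⟨i, hi, rfl⟩ | ⟨q, hq, rfl⟩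
    · rw [Helper11.ev_pow7]; exact hγ7 i hi
    · have hidx := Helper11.conjW_idx q hq
      have hqrel : crOf q ∈ relsW := hr
      unfold Cfsg.Agent.Lib.Helper5.Sp62.crOf at hqrel ⊢
      apply Cfsg.Agent.Lib.Helper5.Sp62.ev_cr_eq_one σ hσ.2.1 hcop γh _ _ _ _
        (hγ7 _ hidx.1) (hγ7 _ hidx.2)
      rw [hσγ]
      exact hrel _ hqrel
  have hgenΓ : Subgroup.closure (Set.range fun i : Fin 5 => γh i.val) = ⊤ := by
    apply Cfsg.H5.StemLift.eq_top_of_map_eq_top σ hσ
    rw [MonoidHom.map_closure, ← Set.range_comp]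
    have : (⇑σ ∘ fun i : Fin 5 => γh i.val) = fun i : Fin 5 => g i.val := by
      funext i; exact hγσ i.val
    rw [this, hgen]
  obtain ⟨_, hle⟩ := hC γh hrelΓ hgenΓ
  have hmul := Helper11.card_eq_mul_ker σ hσ.1
  rw [hcard] at hmul
  rw [hmul] at hle
  omega

end Cfsg.Agent.Lib.Helper1.O8p
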