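import Mathlib
import Cfsg.Prelude.Def_GeometricClasses
import Cfsg.Agent.Lib.Helper6.OrthForms
import Cfsg.Agent.Lib.Helper6.SiegelOmega
import Cfsg.Agent.Lib.Helper13.OrthNondeg
import Cfsg.Agent.Lib.Helper13.OrthMax
import Cfsg.Agent.Lib.Helper9.HubCorA1

/-!
# Even-dimensional orthogonal rows, piece P-DEC (helper11): `Ω` does not stabilise a non-degenerate decomposition

`not_omega_le_decomp` of `notes/OECorSkel_helper1.lean.txt`, exact signature: ALL `q` (also characteristic 2), every block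
dimension `k ≥ 1`, blocks isometric or not, `5 ≤ n`.

Proof: `e, f ∈ D 0` with `polar f e ≠ 0`; `z ≠ 0` singular in `(D 0)^⊥` (dimension `n - k ≥ 3`); the Siegel transformation
`ρ = ρ_{z, f} ∈ Ω` maps `e` to `e + polar f e • z`, which lies neither in `D 0` (`z ∉ D 0`) nor in a block orthogonal to
`D 0` (its product with `f` is `polar e f ≠ 0`).
-/

set_option autoImplicit false
set_option linter.unusedSectionVars false
set_option linter.unusedVariables false

namespace Cfsg.Agent.Lib.Helper11.OECorPDEC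

open Matrix Cfsg Cfsg.Geo Module QuadraticMap
open Cfsg.Agent.Lib.Helper6 Cfsg.Agent.Lib.Helper13 Cfsg.Agent.Lib.Helper13.OND
open Cfsg.Agent.Lib.Helper13 (toQF toQF_nondegenerate)

variable {F : Type*} [Field F] [Fintype F] {n : ℕ}

/-- **P-DEC** : non-degenerate decompositions (isometric or not, every `k ≥ 1`, every `q`). -/
theorem not_omega_le_decomp {Q : (Fin n → F) → F} (hQ : IsNondegenerateQuadraticForm Q) (h5 : 5 ≤ n)
    {t k : ℕ} (D : Fin t → Submodule F (Fin n → F))
    (hD : IsNondegenerateMDecomposition (polar Q) k D) : ¬ omegaGL Q ≤ decompositionStabilizer D := by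
  intro hle
  have hQ' := toQF_nondegenerate Q hQ
  obtain ⟨Q', hQ'def⟩ : ∃ Q' : QuadraticForm F (Fin n → F), Q' = toQF Q hQ := ⟨_, rfl⟩
  have hcoe : ⇑Q' = Q := by rw [hQ'def]; rfl
  rw [← hQ'def] at hQ'
  rw [← hcoe] at hD hle
  clear hQ'def
  have hdec := hD.decomp
  have ht2 := hdec.two_le
  have hcard := Cfsg.Agent.Lib.Helper9.HubCor.mul_eq_card_of_isMDecomposition D hdec
  rw [Fintype.card_fin] at hcard
  have h5' : 5 ≤ Fintype.card (Fin n) := by rw [Fintype.card_fin]; exact h5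
  set i₀ : Fin t := ⟨0, by omega⟩ with hi₀
  have hD0 : D i₀ ≠ ⊥ := by
    intro h
    have h1 := hdec.finrank_eq i₀
    rw [h, finrank_bot] at h1
    have := hdec.pos
    omega
  obtain ⟨e, heD, he0⟩ := (Submodule.ne_bot_iff (D i₀)).1 hD0
  obtain ⟨f, hfD, hfe⟩ := (hD.nondegenerate i₀ e heD he0).1
  -- the orthogonal complement of `D i₀`
  have hP := orthPair_of_nondeg Q' hQ' (D i₀) (hD.nondegenerate i₀)
  set E : Submodule F (Fin n → F) :=
    LinearMap.BilinForm.orthogonal (polarBilin Q') (D i₀) with hE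
  have hfr := hP.finrank_add
  rw [hdec.finrank_eq i₀, Fintype.card_fin] at hfr
  have h3 : 3 ≤ finrank F E := by
    have : 2 * k ≤ t * k := Nat.mul_le_mul_right k ht2
    omega
  obtain ⟨z, hzE, hz0, hQz⟩ := exists_singular_sub Q' E h3
  have hzD : z ∉ D i₀ := by
    intro hz
    obtain ⟨y, hyD, hy⟩ := (hD.nondegenerate i₀ z hz hz0).1
    exact hy (hP.orth y hyD z hzE)
  have hez : polar (⇑Q') e z = 0 := hP.orth e heD z hzE
  have hfz : polar (⇑Q') f z = 0 := hP.orth f hfD z hzE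
  have hze : polar (⇑Q') z e = 0 := by rw [polar_comm]; exact hez
  have hzf : polar (⇑Q') z f = 0 := by rw [polar_comm]; exact hfz
  have hρΩ := siegIso_mem_Omega Q' hQ' h5' z f hQz hzf
  have hρ : ((siegIso Q' z f hQz hzf : ↥(Cfsg.isometryGroup F ⇑Q')) : GL (Fin n) F) ∈ omegaGL ⇑Q' :=
    (mem_omegaGL_iff Q' _).2 ⟨_, hρΩ, rfl⟩
  obtain ⟨σ, hσ⟩ := hle hρ
  have hρe : gact Q' (siegIso Q' z f hQz hzf) e = e + (polar (⇑Q') f e) • z := by
    rw [gact_siegIso, hze, mul_zero, sub_zero, neg_zero, zero_smul, add_zero]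
  have hmem : gact Q' (siegIso Q' z f hQz hzf) e ∈ D (σ i₀) := by
    rw [← hσ i₀]
    exact Submodule.mem_map_of_mem heD
  rw [hρe] at hmem
  by_cases hj : σ i₀ = i₀
  · rw [hj] at hmem
    apply hzD
    have h1 : (polar (⇑Q') f e) • z ∈ D i₀ := by
      have := (D i₀).sub_mem hmem heD
      rwa [add_sub_cancel_left] at this
    have h2 := (D i₀).smul_mem (polar (⇑Q') f e)⁻¹ h1
    rwa [smul_smul, inv_mul_cancel₀ hfe, one_smul] at h2
  · have h1 := hD.orthogonal (σ i₀) i₀ hj _ hmem f hfD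
    rw [polar_add_left, polar_smul_left, hzf, smul_eq_mul, mul_zero, add_zero, polar_comm] at h1
    exact hfe h1

end Cfsg.Agent.Lib.Helper11.OECorPDEC
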