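import Cfsg.Agent.Lib.Helper11.Coherence3
import Cfsg.Agent.Lib.Helper11.Clifford

/-!
Indexed Bessel identity, generalized characters of norm `< 1`, and Feit's coherence lemma for a
set of irreducible characters (used for S1530).
-/

set_option autoImplicit false

namespace Cfsg.Agent.Lib.Helper11

open Cfsg
open Cfsg.Agent.Lib.Helper2
open scoped ComplexConjugate

section Misc

theorem zspanOn_mono' {X : Type*} {S₁ S₂ : Set (X → ℂ)} (h : S₁ ⊆ S₂) (A : Set X) :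
    zspanOn S₁ A ⊆ zspanOn S₂ A := by
  intro α hα
  exact ⟨Submodule.span_mono h hα.1, hα.2⟩

theorem zsmul_eq_complex_smul {X : Type*} (m : ℤ) (f : X → ℂ) :
    (m • f : X → ℂ) = (m : ℂ) • f := by
  ext z; simp

variable {L : Type*} [Group L] [Fintype L] {G : Type*} [Group G] [Fintype G]

theorem isLinIso_neg (E : Submodule ℤ (L → ℂ)) {τ : (L → ℂ) → (G → ℂ)}
    (h : IsLinearIsometryOn (E : Set (L → ℂ)) τ) {f : L → ℂ} (hf : f ∈ E) : τ (-f) = -τ f := by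
  have := h.2.1 f hf (-1)
  simpa using this

theorem isLinIso_sub (E : Submodule ℤ (L → ℂ)) {τ : (L → ℂ) → (G → ℂ)}
    (h : IsLinearIsometryOn (E : Set (L → ℂ)) τ) {f g : L → ℂ} (hf : f ∈ E) (hg : g ∈ E) :
    τ (f - g) = τ f - τ g := by
  rw [sub_eq_add_neg, h.1 f hf (-g) (E.neg_mem hg), isLinIso_neg E h hg, sub_eq_add_neg]

end Misc

section BesselIdx

variable {G : Type*} [Group G] [Fintype G]

/-- Bessel's identity for an orthonormal indexed family. -/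
theorem bessel_indexed {ι : Type*} [DecidableEq ι] (F : Finset ι) (e : ι → G → ℂ)
    (horth : ∀ i ∈ F, ∀ j ∈ F, classInner (e i) (e j) = if i = j then 1 else 0) (X : G → ℂ) :
    classInner (X - ∑ i ∈ F, classInner X (e i) • e i) (X - ∑ i ∈ F, classInner X (e i) • e i)
      = classInner X X - ((∑ i ∈ F, ‖classInner X (e i)‖ ^ 2 : ℝ) : ℂ) := by
  set Q : G → ℂ := ∑ i ∈ F, classInner X (e i) • e i with hQ
  have hsq : ∀ i, classInner X (e i) * conj (classInner X (e i))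
      = ((‖classInner X (e i)‖ ^ 2 : ℝ) : ℂ) := by
    intro i
    rw [Complex.mul_conj, Complex.normSq_eq_norm_sq]
  have h1 : classInner X Q = ((∑ i ∈ F, ‖classInner X (e i)‖ ^ 2 : ℝ) : ℂ) := by
    rw [hQ, classInner_sum_right]
    push_cast
    apply Finset.sum_congr rfl
    intro i _
    rw [classInner_smul_right, mul_comm, hsq]
    push_cast
    rfl
  have h2 : classInner Q X = ((∑ i ∈ F, ‖classInner X (e i)‖ ^ 2 : ℝ) : ℂ) := by
    rw [← classInner_conj_symm, h1, Complex.conj_ofReal]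
  have h3 : classInner Q Q = ((∑ i ∈ F, ‖classInner X (e i)‖ ^ 2 : ℝ) : ℂ) := by
    rw [hQ, classInner_sum_left]
    push_cast
    apply Finset.sum_congr rfl
    intro i hi
    rw [classInner_smul_left, classInner_sum_right, Finset.sum_eq_single i]
    · rw [classInner_smul_right, horth i hi i hi, if_pos rfl, mul_one, hsq]
      push_cast
      rfl
    · intro j hj hne
      rw [classInner_smul_right, horth i hi j hj, if_neg (fun h => hne h.symm), mul_zero]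
    · intro h; exact absurd hi h
  rw [classInner_sub_left, classInner_sub_right, classInner_sub_right, h1, h2, h3]
  ring

/-- The squared norm of a generalized character is a natural number. -/
theorem IsGeneralizedCharacter.norm_nat {ξ : G → ℂ} (h : IsGeneralizedCharacter G ξ) :
    ∃ k : ℕ, classInner ξ ξ = (k : ℂ) := by
  classical
  have : Fintype (IrrCharacter G) := Fintype.ofFinite _
  obtain ⟨n, _, _, hnn⟩ := IsGeneralizedCharacter.exists_int_expansion h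
  have hnonneg : 0 ≤ ∑ μ : IrrCharacter G, n μ ^ 2 := Finset.sum_nonneg (fun μ _ => sq_nonneg _)
  obtain ⟨k, hk⟩ := Int.eq_ofNat_of_zero_le hnonneg
  refine ⟨k, ?_⟩
  rw [hnn, hk]
  simp

/-- A generalized character of squared norm `< 1` vanishes. -/
theorem IsGeneralizedCharacter.eq_zero_of_norm_lt_one {ξ : G → ℂ}
    (h : IsGeneralizedCharacter G ξ) (hlt : (classInner ξ ξ).re < 1) : ξ = 0 := by
  obtain ⟨k, hk⟩ := IsGeneralizedCharacter.norm_nat h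
  rw [hk, Complex.natCast_re] at hlt
  have hk0 : k = 0 := by
    have : k < 1 := by exact_mod_cast hlt
    omega
  apply eq_zero_of_classInner_self_eq_zero
  rw [hk, hk0, Nat.cast_zero]

end BesselIdx

section Arith

/-- The arithmetic core of Feit's coherence lemma for irreducible characters. -/
theorem feit_irr_arith (c : ℤ) (a : ℕ) (dψ T : ℝ) (ha : 0 < a) (hdψ : 0 < dψ)
    (hT : 2 * (a : ℝ) * dψ ^ 2 < T)
    (h : ((c : ℝ) - a) ^ 2 + (c : ℝ) ^ 2 / dψ ^ 2 * (T - dψ ^ 2) ≤ 1 + (a : ℝ) ^ 2) :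
    c = 0 ∨ c = 1 := by
  by_cases hc : c = 0
  · exact Or.inl hc
  right
  have hc2 : (0 : ℝ) < (c : ℝ) ^ 2 := by
    have : (c : ℝ) ≠ 0 := by exact_mod_cast hc
    positivity
  have e2 : (c : ℝ) ^ 2 / dψ ^ 2 * (T - dψ ^ 2) = (c : ℝ) ^ 2 / dψ ^ 2 * T - (c : ℝ) ^ 2 := by
    field_simp
  rw [e2] at h
  have h3 : (c : ℝ) ^ 2 / dψ ^ 2 * T ≤ 1 + 2 * a * c := by nlinarith
  have h4 : (c : ℝ) ^ 2 / dψ ^ 2 * (2 * (a : ℝ) * dψ ^ 2) < (c : ℝ) ^ 2 / dψ ^ 2 * T := by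
    apply mul_lt_mul_of_pos_left hT
    positivity
  have h5 : (c : ℝ) ^ 2 / dψ ^ 2 * (2 * (a : ℝ) * dψ ^ 2) = 2 * a * (c : ℝ) ^ 2 := by
    field_simp
  rw [h5] at h4
  have h6 : 2 * (a : ℝ) * ((c : ℝ) ^ 2 - c) < 1 := by linarith
  have h6' : 2 * (a : ℤ) * (c ^ 2 - c) < 1 := by exact_mod_cast h6
  have h7 : c ≤ c ^ 2 := Int.le_self_sq c
  have ha' : (0 : ℤ) < a := by exact_mod_cast ha
  have h8 : c ^ 2 - c ≤ 0 := by
    by_contra hpos
    have hpos : 0 < c ^ 2 - c := not_le.1 hpos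
    have : 2 * (a : ℤ) * (c ^ 2 - c) ≥ 2 * 1 * 1 := by
      apply mul_le_mul _ (by omega) (by norm_num) (by positivity)
      omega
    omega
  have h9 : c * (c - 1) = 0 := by nlinarith
  rcases mul_eq_zero.1 h9 with h | h
  · exact absurd h hc
  · omega

end Arith

section FeitIrr

variable {L : Type*} [Group L] [Fintype L] {G : Type*} [Group G] [Fintype G]

/-- Feit's coherence lemma for irreducible characters. -/
theorem feit_coherence_irr (S₀ : Finset (L → ℂ)) (χ : L → ℂ)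
    (hirr : ∀ ξ ∈ S₀, IsIrrCharacter L ξ) (hχ : IsIrrCharacter L χ) (hχS : χ ∉ S₀)
    (d : (L → ℂ) → ℕ) (hd : ∀ ξ ∈ insert χ S₀, ξ 1 = (d ξ : ℂ)) (τ : (L → ℂ) → (G → ℂ))
    (hτ : IsLinearIsometryOn (zspanOn (↑(insert χ S₀) : Set (L → ℂ)) {1}ᶜ) τ)
    (hτ1 : ∀ α ∈ zspanOn (↑(insert χ S₀) : Set (L → ℂ)) {1}ᶜ, τ α 1 = 0)
    (hcoh : IsCoherent (↑S₀ : Set (L → ℂ)) {1}ᶜ τ) (ψ : L → ℂ) (hψ : ψ ∈ S₀)
    (hdvd : d ψ ∣ d χ) (hlt : 2 * d ψ * d χ < ∑ ξ ∈ S₀, d ξ ^ 2) :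
    IsCoherent (↑(insert χ S₀) : Set (L → ℂ)) {1}ᶜ τ := by
  classical
  obtain ⟨_, τ₀, hτ₀, hagree₀⟩ := hcoh
  rw [Finset.coe_insert] at hτ hτ1 ⊢
  set S' : Set (L → ℂ) := insert χ (↑S₀ : Set (L → ℂ)) with hS'
  have hS₀S' : (↑S₀ : Set (L → ℂ)) ⊆ S' := Set.subset_insert _ _
  have hχS' : χ ∈ S' := Set.mem_insert _ _
  have hdχ : χ 1 = (d χ : ℂ) := hd χ (Finset.mem_insert_self _ _)
  have hdξ : ∀ ξ ∈ S₀, ξ 1 = (d ξ : ℂ) := fun ξ h => hd ξ (Finset.mem_insert_of_mem h)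
  obtain ⟨a, ha⟩ := hdvd
  have hdχ0 : (d χ : ℂ) ≠ 0 := by rw [← hdχ]; exact IsIrrCharacter.apply_one_ne_zero hχ
  have hdψ0 : (d ψ : ℂ) ≠ 0 := by
    rw [← hdξ ψ hψ]; exact IsIrrCharacter.apply_one_ne_zero (hirr ψ hψ)
  have hdψpos : 0 < d ψ := by
    apply Nat.pos_of_ne_zero
    intro h; rw [h] at hdψ0; simp at hdψ0
  have hdχpos : 0 < d χ := by
    apply Nat.pos_of_ne_zero
    intro h; rw [h] at hdχ0; simp at hdχ0
  have hapos : 0 < a := by
    rcases Nat.eq_zero_or_pos a with h | h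
    · rw [h, mul_zero] at ha; omega
    · exact h
  have horth : ∀ ξ ∈ S₀, ∀ ξ' ∈ S₀, classInner ξ ξ' = if ξ = ξ' then 1 else 0 :=
    fun ξ hξ ξ' hξ' => classInner_irr_eq_ite (hirr ξ hξ) (hirr ξ' hξ')
  have hχξ : ∀ ξ ∈ S₀, classInner χ ξ = 0 := by
    intro ξ hξ
    rw [classInner_irr_eq_ite hχ (hirr ξ hξ), if_neg]
    intro h; exact hχS (h ▸ hξ)
  have hξχ : ∀ ξ ∈ S₀, classInner ξ χ = 0 := by
    intro ξ hξ
    rw [← classInner_conj_symm, hχξ ξ hξ, map_zero]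
  have hχχ : classInner χ χ = 1 := by rw [classInner_irr_eq_ite hχ hχ, if_pos rfl]
  have hψψ₀ : classInner ψ ψ = 1 := by rw [horth ψ hψ ψ hψ, if_pos rfl]
  -- ψa
  set ψa : L → ℂ := (a : ℤ) • ψ with hψadef
  have hψaC : ψa = (a : ℂ) • ψ := by
    rw [hψadef, zsmul_eq_complex_smul]; push_cast; rfl
  have hψa₀ : ψa ∈ zspan (↑S₀ : Set (L → ℂ)) :=
    Submodule.smul_mem _ _ (Submodule.subset_span hψ)
  have hψaS' : ψa ∈ zspan S' := Submodule.span_mono hS₀S' hψa₀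
  have hψa1 : ψa 1 = (d χ : ℂ) := by
    rw [hψaC, Pi.smul_apply, hdξ ψ hψ, ha]; push_cast; rw [smul_eq_mul]; ring
  have h1 : classInner χ ψa = 0 := by
    rw [hψaC, classInner_smul_right, hχξ ψ hψ, mul_zero]
  have h1' : classInner ψa χ = 0 := by rw [← classInner_conj_symm, h1, map_zero]
  have hψψ : classInner ψa ψa = (a : ℂ) ^ 2 := by
    rw [hψaC, classInner_smul_left, classInner_smul_right, hψψ₀, Complex.conj_natCast]; ring
  have hm : χ - ψa ∈ zspanOn S' {1}ᶜ := by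
    refine ⟨Submodule.sub_mem _ (Submodule.subset_span hχS') hψaS', ?_⟩
    intro x hx
    have hx1 : x = 1 := by simpa using hx
    subst hx1
    rw [Pi.sub_apply, hdχ, hψa1, sub_self]
  set X := τ (χ - ψa) with hX
  have hXgen : IsGeneralizedCharacter G X := hτ.2.2.2 _ hm
  have hX1 : X 1 = 0 := hτ1 _ hm
  have hXX : classInner X X = 1 + (a : ℂ) ^ 2 := by
    rw [hX, hτ.2.2.1 _ hm _ hm, classInner_sub_left, classInner_sub_right,
      classInner_sub_right, h1, h1', hψψ, hχχ]; ring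
  have hXXr : classInner X X = (((1 : ℝ) + (a : ℝ) ^ 2 : ℝ) : ℂ) := by
    rw [hXX]; push_cast; rfl
  have horthτ₀ : ∀ i ∈ S₀, ∀ j ∈ S₀,
      classInner (τ₀ i) (τ₀ j) = if i = j then 1 else 0 := by
    intro i hi j hj
    rw [hτ₀.2.2.1 i (Submodule.subset_span hi) j (Submodule.subset_span hj), horth i hi j hj]
  have hYY := bessel_indexed S₀ τ₀ horthτ₀ X
  set Y := X - ∑ ξ ∈ S₀, classInner X (τ₀ ξ) • τ₀ ξ with hY
  -- integrality
  have hint : ∀ ξ : L → ℂ, ∃ k : ℤ, ξ ∈ S₀ → classInner X (τ₀ ξ) = (k : ℂ) := by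
    intro ξ
    by_cases hξ : ξ ∈ S₀
    · obtain ⟨k, hk⟩ := IsGeneralizedCharacter.inner_int hXgen
        (hτ₀.2.2.2 ξ (Submodule.subset_span hξ))
      exact ⟨k, fun _ => hk⟩
    · exact ⟨0, fun h => absurd h hξ⟩
  choose x hx using hint
  have hYgen : IsGeneralizedCharacter G Y := by
    apply isGenChar_sub hXgen
    apply isGenChar_sum
    intro ξ hξ
    rw [hx ξ hξ]
    exact isGenChar_intCast_smul _ (hτ₀.2.2.2 ξ (Submodule.subset_span hξ))
  -- the relation, together with the values at one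
  have hrel : ∀ ξ ∈ S₀, ξ ≠ ψ → ((d ψ : ℂ) * classInner X (τ₀ ξ)
      = (d ξ : ℂ) * ((x ψ : ℂ) + (a : ℂ))) ∧ (d ψ : ℂ) * τ₀ ξ 1 = (d ξ : ℂ) * τ₀ ψ 1 := by
    intro ξ hξ hne
    set δ : L → ℂ := (d ψ : ℤ) • ξ - (d ξ : ℤ) • ψ with hδ
    have hδC : δ = (d ψ : ℂ) • ξ - (d ξ : ℂ) • ψ := by
      rw [hδ, zsmul_eq_complex_smul, zsmul_eq_complex_smul]; push_cast; rfl
    have hδmem : δ ∈ zspanOn (↑S₀ : Set (L → ℂ)) {1}ᶜ := by
      refine ⟨Submodule.sub_mem _ (Submodule.smul_mem _ _ (Submodule.subset_span hξ))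
        (Submodule.smul_mem _ _ (Submodule.subset_span hψ)), ?_⟩
      intro z hz
      have hz1 : z = 1 := by simpa using hz
      subst hz1
      rw [hδC]
      simp only [Pi.sub_apply, Pi.smul_apply, smul_eq_mul]
      rw [hdξ ξ hξ, hdξ ψ hψ]; ring
    have hδS : δ ∈ zspanOn S' {1}ᶜ := zspanOn_mono' hS₀S' _ hδmem
    have e1 : τ₀ δ = (d ψ : ℂ) • τ₀ ξ - (d ξ : ℂ) • τ₀ ψ := by
      rw [hδ, isLinIso_sub (Submodule.span ℤ (↑S₀ : Set (L → ℂ))) hτ₀
        (Submodule.smul_mem _ _ (Submodule.subset_span hξ))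
        (Submodule.smul_mem _ _ (Submodule.subset_span hψ)),
        hτ₀.2.1 ξ (Submodule.subset_span hξ), hτ₀.2.1 ψ (Submodule.subset_span hψ),
        zsmul_eq_complex_smul, zsmul_eq_complex_smul]
      push_cast; rfl
    constructor
    · have e2 : classInner X (τ₀ δ) = classInner (χ - ψa) δ := by
        rw [hagree₀ δ hδmem, hX, hτ.2.2.1 _ hm _ hδS]
      have o3 : classInner ψa ξ = 0 := by
        rw [hψaC, classInner_smul_left, horth ψ hψ ξ hξ, if_neg (fun h => hne h.symm), mul_zero]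
      have o4 : classInner ψa ψ = (a : ℂ) := by
        rw [hψaC, classInner_smul_left, hψψ₀, mul_one]
      rw [e1, hδC, classInner_sub_right, classInner_smul_right, classInner_smul_right, hx ψ hψ,
        classInner_sub_right, classInner_smul_right, classInner_smul_right, classInner_sub_left,
        classInner_sub_left, hχξ ξ hξ, hχξ ψ hψ, o3, o4] at e2
      simp only [Complex.conj_natCast] at e2
      linear_combination e2
    · have e3 : τ₀ δ 1 = 0 := by rw [hagree₀ δ hδmem]; exact hτ1 δ hδS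
      rw [e1] at e3
      simp only [Pi.sub_apply, Pi.smul_apply, smul_eq_mul] at e3
      linear_combination e3
  -- the integer `c`
  set c : ℤ := x ψ + (a : ℤ) with hc
  have hcC : (c : ℂ) = (x ψ : ℂ) + (a : ℂ) := by rw [hc]; push_cast; rfl
  have hdψR : (0 : ℝ) < (d ψ : ℝ) := by exact_mod_cast hdψpos
  have hval : ∀ ξ ∈ S₀, ξ ≠ ψ → classInner X (τ₀ ξ)
      = (((d ξ : ℝ) * (c : ℝ) / (d ψ : ℝ) : ℝ) : ℂ) := by
    intro ξ hξ hne
    have := (hrel ξ hξ hne).1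
    rw [← hcC] at this
    push_cast
    field_simp
    linear_combination this
  have hxψR : (x ψ : ℝ) = (c : ℝ) - (a : ℝ) := by
    rw [hc]; push_cast; ring
  have hsumX : ∑ ξ ∈ S₀, ‖classInner X (τ₀ ξ)‖ ^ 2
      = ((c : ℝ) - (a : ℝ)) ^ 2 + (c : ℝ) ^ 2 / (d ψ : ℝ) ^ 2 *
        (∑ ξ ∈ S₀, ((d ξ : ℝ) ^ 2) - (d ψ : ℝ) ^ 2) := by
    rw [← Finset.add_sum_erase S₀ _ hψ]
    congr 1
    · rw [hx ψ hψ, Complex.norm_intCast, sq_abs, hxψR]
    · have e : ∑ ξ ∈ S₀, ((d ξ : ℝ) ^ 2) - (d ψ : ℝ) ^ 2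
          = ∑ ξ ∈ S₀.erase ψ, ((d ξ : ℝ) ^ 2) := by
        rw [← Finset.add_sum_erase S₀ _ hψ]; ring
      rw [e, Finset.mul_sum]
      apply Finset.sum_congr rfl
      intro ξ hξ
      obtain ⟨hne, hξ'⟩ := Finset.mem_erase.1 hξ
      rw [hval ξ hξ' hne, Complex.norm_real, Real.norm_eq_abs, sq_abs]
      field_simp
  have hTlt : 2 * (a : ℝ) * (d ψ : ℝ) ^ 2 < ∑ ξ ∈ S₀, ((d ξ : ℝ) ^ 2) := by
    have : ((2 * d ψ * d χ : ℕ) : ℝ) < ((∑ ξ ∈ S₀, d ξ ^ 2 : ℕ) : ℝ) := by exact_mod_cast hlt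
    rw [ha] at this
    push_cast at this
    linarith
  have hYYre : (classInner Y Y).re = 1 + (a : ℝ) ^ 2 - ∑ ξ ∈ S₀, ‖classInner X (τ₀ ξ)‖ ^ 2 := by
    rw [hYY, hXXr, Complex.sub_re, Complex.ofReal_re, Complex.ofReal_re]
  have hc01 : c = 0 ∨ c = 1 := by
    apply feit_irr_arith c a (d ψ : ℝ) (∑ ξ ∈ S₀, ((d ξ : ℝ) ^ 2)) hapos hdψR hTlt
    rw [← hsumX]
    have := classInner_self_re_nonneg Y
    rw [hYYre] at this
    linarith
  have hSI : IsSignedIrr (τ₀ ψ) := by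
    apply IsGeneralizedCharacter.isSignedIrr_of_norm_one
      (hτ₀.2.2.2 ψ (Submodule.subset_span hψ))
    rw [horthτ₀ ψ hψ ψ hψ, if_pos rfl]
  have he0 : τ₀ ψ 1 ≠ 0 := hSI.apply_one_ne_zero
  rcases hc01 with hc0 | hc1
  · -- the case `c = 0`: build the extension
    have hxψval : classInner X (τ₀ ψ) = -(a : ℂ) := by
      rw [hx ψ hψ]
      have : (c : ℂ) = 0 := by rw [hc0]; simp
      rw [hcC] at this
      linear_combination this
    have hxξ : ∀ ξ ∈ S₀, ξ ≠ ψ → classInner X (τ₀ ξ) = 0 := by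
      intro ξ hξ hne
      rw [hval ξ hξ hne, hc0]; simp
    set W := τ₀ ψa with hW
    have hWC : W = (a : ℂ) • τ₀ ψ := by
      rw [hW, hψadef, hτ₀.2.1 ψ (Submodule.subset_span hψ), zsmul_eq_complex_smul]; push_cast; rfl
    have hWgen : IsGeneralizedCharacter G W := hτ₀.2.2.2 ψa hψa₀
    have hXW : classInner X W = -((a : ℂ) ^ 2) := by
      rw [hWC, classInner_smul_right, hxψval, Complex.conj_natCast]; ring
    have hWX : classInner W X = -((a : ℂ) ^ 2) := by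
      rw [← classInner_conj_symm, hXW]; simp
    have hWW : classInner W W = (a : ℂ) ^ 2 := by
      rw [hW, hτ₀.2.2.1 ψa hψa₀ ψa hψa₀, hψψ]
    have hξW : ∀ ξ ∈ S₀, classInner (τ₀ ξ) W = if ξ = ψ then (a : ℂ) else 0 := by
      intro ξ hξ
      rw [hW, hτ₀.2.2.1 ξ (Submodule.subset_span hξ) ψa hψa₀, hψaC, classInner_smul_right,
        Complex.conj_natCast, horth ξ hξ ψ hψ]
      split_ifs <;> simp
    have hξX : ∀ ξ ∈ S₀, classInner (τ₀ ξ) X = if ξ = ψ then -(a : ℂ) else 0 := by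
      intro ξ hξ
      rw [← classInner_conj_symm]
      split_ifs with h
      · subst h; rw [hxψval]; simp
      · rw [hxξ ξ hξ h, map_zero]
    set Xχ := X + W with hXχ
    have hXχgen : IsGeneralizedCharacter G Xχ := isGenChar_add hXgen hWgen
    have hXχXχ : classInner Xχ Xχ = ((1 : ℕ) : ℂ) := by
      rw [hXχ, classInner_add_left, classInner_add_right, classInner_add_right, hXX, hXW, hWX,
        hWW]
      push_cast; ring
    have hξXχ : ∀ ξ ∈ (↑S₀ : Set (L → ℂ)), classInner (τ₀ ξ) Xχ = 0 := by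
      intro ξ hξ
      rw [hXχ, classInner_add_right, hξX ξ hξ, hξW ξ hξ]
      split_ifs <;> ring
    obtain ⟨τ', hτ', hext, hτ'χ⟩ := isometry_extend_one (↑S₀ : Set (L → ℂ)) τ₀ hτ₀ χ 1
      (by rw [hχχ]; simp) one_ne_zero (fun φ hφ => hξχ φ hφ) Xχ hXχgen hXχXχ hξXχ
    refine ⟨⟨χ - ψa, hm, ?_⟩, τ', hτ', ?_⟩
    · intro h
      have h3 : classInner (χ - ψa) χ = 1 := by
        rw [classInner_sub_left, hχχ, h1', sub_zero]
      rw [h, classInner_zero_left] at h3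
      exact zero_ne_one h3
    · intro α hα
      obtain ⟨hαspan, hαvan⟩ := hα
      obtain ⟨p, β, hβ, rfl⟩ := Submodule.mem_span_insert.1 hαspan
      have hβS' : β ∈ Submodule.span ℤ S' := Submodule.span_mono hS₀S' hβ
      have hχm : χ ∈ Submodule.span ℤ S' := Submodule.subset_span hχS'
      have hα1 : (p • χ + β) 1 = 0 := hαvan 1 (by simp)
      have hβ1 : β 1 = -(p : ℂ) * (d χ : ℂ) := by
        rw [zsmul_eq_complex_smul p χ] at hα1
        simp only [Pi.add_apply, Pi.smul_apply, smul_eq_mul] at hα1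
        rw [hdχ] at hα1
        linear_combination hα1
      set β' : L → ℂ := β + p • ψa with hβ'
      have hβ'mem : β' ∈ zspanOn (↑S₀ : Set (L → ℂ)) {1}ᶜ := by
        refine ⟨Submodule.add_mem _ hβ (Submodule.smul_mem _ _ hψa₀), ?_⟩
        intro z hz
        have hz1 : z = 1 := by simpa using hz
        subst hz1
        rw [hβ', zsmul_eq_complex_smul p ψa]
        simp only [Pi.add_apply, Pi.smul_apply, smul_eq_mul]
        rw [hβ1, hψa1]; ring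
      have hβ'S : β' ∈ zspanOn S' {1}ᶜ := zspanOn_mono' hS₀S' _ hβ'mem
      have eL : τ' (p • χ + β) = p • Xχ + τ₀ β := by
        rw [hτ'.1 _ (Submodule.smul_mem _ p hχm) _ hβS', hτ'.2.1 χ hχm p, hτ'χ, hext β hβ]
      have eα : p • χ + β = p • (χ - ψa) + β' := by
        rw [hβ']
        simp only [smul_sub]
        abel
      have mA : p • (χ - ψa) ∈ zspanOnSubmodule S' {1}ᶜ :=
        (zspanOnSubmodule S' {1}ᶜ).smul_mem _ hm
      have eR : τ (p • χ + β) = p • X + τ₀ β' := by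
        rw [eα, hτ.1 _ mA _ hβ'S, hτ.2.1 _ hm, hagree₀ β' hβ'mem]
      have eβ' : τ₀ β' = τ₀ β + p • W := by
        rw [hβ', hτ₀.1 β hβ _ (Submodule.smul_mem _ _ hψa₀), hτ₀.2.1 ψa hψa₀]
      rw [eL, eR, eβ', hXχ]
      simp only [smul_add]
      abel
  · -- the case `c = 1` is impossible
    exfalso
    have hcR : (c : ℝ) = 1 := by rw [hc1]; simp
    have hYlt : (classInner Y Y).re < 1 := by
      rw [hYYre, hsumX, hcR]
      have e : (1 : ℝ) ^ 2 / (d ψ : ℝ) ^ 2 * (∑ ξ ∈ S₀, ((d ξ : ℝ) ^ 2) - (d ψ : ℝ) ^ 2)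
          = (∑ ξ ∈ S₀, ((d ξ : ℝ) ^ 2)) / (d ψ : ℝ) ^ 2 - 1 := by
        field_simp
      rw [e]
      have h2 : 2 * (a : ℝ) < (∑ ξ ∈ S₀, ((d ξ : ℝ) ^ 2)) / (d ψ : ℝ) ^ 2 := by
        rw [lt_div_iff₀ (by positivity)]
        exact hTlt
      nlinarith
    have hY0 : Y = 0 := IsGeneralizedCharacter.eq_zero_of_norm_lt_one hYgen hYlt
    have hXeq : X = ∑ ξ ∈ S₀, classInner X (τ₀ ξ) • τ₀ ξ := sub_eq_zero.1 hY0
    have hsum1 : ∑ ξ ∈ S₀, classInner X (τ₀ ξ) * τ₀ ξ 1 = 0 := by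
      have := congrFun hXeq 1
      rw [hX1] at this
      simp only [Finset.sum_apply, Pi.smul_apply, smul_eq_mul] at this
      exact this.symm
    have hTC : (∑ ξ ∈ S₀.erase ψ, ((d ξ : ℂ) ^ 2))
        = (((∑ ξ ∈ S₀, ((d ξ : ℝ) ^ 2) : ℝ)) : ℂ) - (d ψ : ℂ) ^ 2 := by
      rw [← Finset.add_sum_erase S₀ _ hψ]; push_cast; ring
    have key : (d ψ : ℂ) ^ 2 * ∑ ξ ∈ S₀, classInner X (τ₀ ξ) * τ₀ ξ 1
        = τ₀ ψ 1 * ((((∑ ξ ∈ S₀, ((d ξ : ℝ) ^ 2) : ℝ)) : ℂ) - (a : ℂ) * (d ψ : ℂ) ^ 2) := by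
      rw [Finset.mul_sum, ← Finset.add_sum_erase S₀ _ hψ]
      have e : ∑ ξ ∈ S₀.erase ψ, (d ψ : ℂ) ^ 2 * (classInner X (τ₀ ξ) * τ₀ ξ 1)
          = ∑ ξ ∈ S₀.erase ψ, (τ₀ ψ 1) * ((d ξ : ℂ) ^ 2) := by
        apply Finset.sum_congr rfl
        intro ξ hξ
        obtain ⟨hne, hξ'⟩ := Finset.mem_erase.1 hξ
        obtain ⟨r1, r2⟩ := hrel ξ hξ' hne
        have hc1C : (x ψ : ℂ) + (a : ℂ) = 1 := by rw [← hcC, hc1]; simp
        rw [hc1C, mul_one] at r1
        have : (d ψ : ℂ) ^ 2 * (classInner X (τ₀ ξ) * τ₀ ξ 1)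
            = ((d ψ : ℂ) * classInner X (τ₀ ξ)) * ((d ψ : ℂ) * τ₀ ξ 1) := by ring
        rw [this, r1, r2]; ring
      rw [e, ← Finset.mul_sum, hTC, hx ψ hψ]
      have hxψC : (x ψ : ℂ) = 1 - (a : ℂ) := by
        have hc1C : (x ψ : ℂ) + (a : ℂ) = 1 := by rw [← hcC, hc1]; simp
        linear_combination hc1C
      rw [hxψC]; ring
    rw [hsum1, mul_zero] at key
    rcases mul_eq_zero.1 key.symm with h | h
    · exact he0 h
    · have h' : (((∑ ξ ∈ S₀, ((d ξ : ℝ) ^ 2) - (a : ℝ) * (d ψ : ℝ) ^ 2 : ℝ)) : ℂ) = 0 := by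
        push_cast; push_cast at h; exact h
      have h'' : ∑ ξ ∈ S₀, ((d ξ : ℝ) ^ 2) - (a : ℝ) * (d ψ : ℝ) ^ 2 = 0 := by exact_mod_cast h'
      have : 0 < (a : ℝ) * (d ψ : ℝ) ^ 2 := by positivity
      linarith

end FeitIrr

end Cfsg.Agent.Lib.Helper11
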