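import Mathlib

/-!
Elementary group theory of Frobenius groups, given through the centraliser condition
`hF : ∀ k ∈ K, k ≠ 1 → ∀ x, x * k = k * x → x ∈ K` for a normal subgroup `K`.
-/

set_option autoImplicit false

namespace Cfsg.Agent.Lib.Helper11

section FrobBasic

variable {Λ : Type*} [Group Λ]

/-- In a Frobenius group with kernel `K`, `[Λ:K]` divides `|Z| - 1` for every normal subgroup
`Z ≤ K`. -/
theorem index_dvd_card_sub_one_of_frob [Finite Λ] (K : Subgroup Λ)
    (hF : ∀ k ∈ K, k ≠ 1 → ∀ x : Λ, x * k = k * x → x ∈ K)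
    (Z : Subgroup Λ) [hZn : Z.Normal] (hZK : Z ≤ K) : K.index ∣ Nat.card Z - 1 := by
  classical
  let β : Type _ := ↥((Z : Set Λ) \ {1})
  letI inst : MulAction Λ β :=
    { smul := fun g z => ⟨g * z.1 * g⁻¹, hZn.conj_mem _ z.2.1 g, fun h => z.2.2 (by
          have h1 : g * z.1 * g⁻¹ = 1 := h
          have h2 : z.1 = g⁻¹ * (g * z.1 * g⁻¹) * g := by group
          rw [h1] at h2
          rw [h2]
          simp)⟩
      one_smul := fun z => Subtype.ext (by
        show 1 * z.1 * 1⁻¹ = z.1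
        simp)
      mul_smul := fun g h z => Subtype.ext (by
        show (g * h) * z.1 * (g * h)⁻¹ = g * (h * z.1 * h⁻¹) * g⁻¹
        simp [mul_assoc]) }
  have hsmul : ∀ (g : Λ) (z : β), ((g • z : β) : Λ) = g * z.1 * g⁻¹ := fun g z => rfl
  have hstab : ∀ z : β, MulAction.stabilizer Λ z ≤ K := by
    intro z g hg
    rw [MulAction.mem_stabilizer_iff] at hg
    have h1 : g * z.1 * g⁻¹ = z.1 := by rw [← hsmul, hg]
    apply hF z.1 (hZK z.2.1) (fun h => z.2.2 h) g
    calc g * z.1 = g * z.1 * g⁻¹ * g := by group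
      _ = z.1 * g := by rw [h1]
  haveI : Fintype (Quotient (MulAction.orbitRel Λ β)) := Fintype.ofFinite _
  have hcard : Nat.card β = ∑ ω : Quotient (MulAction.orbitRel Λ β),
      (MulAction.stabilizer Λ ω.out).index := by
    rw [Nat.card_congr (MulAction.selfEquivSigmaOrbitsQuotientStabilizer Λ β), Nat.card_sigma]
    rfl
  have hdvd : K.index ∣ Nat.card β := by
    rw [hcard]
    apply Finset.dvd_sum
    intro ω _
    exact Subgroup.index_dvd_of_le (hstab _)
  have hβcard : Nat.card β = Nat.card Z - 1 := by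
    show Nat.card ↥((Z : Set Λ) \ {1}) = Nat.card Z - 1
    rw [Nat.card_coe_set_eq, Set.ncard_sdiff_singleton_of_mem (Z.one_mem),
      ← Nat.card_coe_set_eq]
    rfl
  rwa [hβcard] at hdvd

/-- The Frobenius condition passes to quotients by normal subgroups `D ≤ K` of `Λ`. -/
theorem frob_quotient [Finite Λ] (K : Subgroup Λ)
    (hF : ∀ k ∈ K, k ≠ 1 → ∀ x : Λ, x * k = k * x → x ∈ K)
    (D : Subgroup Λ) [hD : D.Normal] (hDK : D ≤ K) :
    ∀ k ∈ K, k ∉ D → ∀ x : Λ, x * k * x⁻¹ * k⁻¹ ∈ D → x ∈ K := by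
  intro k hk hkD x hx
  by_contra hxK
  let c : Λ → Λ := fun y => x * y * x⁻¹ * y⁻¹
  let B : Set Λ := {y | y ∈ K ∧ c y ∈ D}
  have hDB : (D : Set Λ) ⊆ B := by
    intro y hy
    refine ⟨hDK hy, ?_⟩
    show x * y * x⁻¹ * y⁻¹ ∈ D
    exact D.mul_mem (hD.conj_mem y hy x) (D.inv_mem hy)
  have hinj : Set.InjOn c B := by
    intro y hy y' hy' hcc
    have h1 : x * y * x⁻¹ * y⁻¹ = x * y' * x⁻¹ * y'⁻¹ := hcc
    by_contra hne
    have hu : y'⁻¹ * y ∈ K := K.mul_mem (K.inv_mem hy'.1) hy.1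
    have hu1 : y'⁻¹ * y ≠ 1 := by
      intro h
      apply hne
      have : y = y' * (y'⁻¹ * y) := by group
      rw [this, h, mul_one]
    apply hxK
    apply hF _ hu hu1 x
    -- from h1: y x⁻¹ y⁻¹ = y' x⁻¹ y'⁻¹
    have h2 : y * x⁻¹ * y⁻¹ = y' * x⁻¹ * y'⁻¹ := by
      have := congrArg (fun t => x⁻¹ * t) h1
      simpa [mul_assoc] using this
    have h3 : (y'⁻¹ * y) * x⁻¹ = x⁻¹ * (y'⁻¹ * y) := by
      calc (y'⁻¹ * y) * x⁻¹ = y'⁻¹ * (y * x⁻¹ * y⁻¹) * y := by group
        _ = y'⁻¹ * (y' * x⁻¹ * y'⁻¹) * y := by rw [h2]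
        _ = x⁻¹ * (y'⁻¹ * y) := by group
    calc x * (y'⁻¹ * y) = x * ((y'⁻¹ * y) * x⁻¹) * x := by group
      _ = x * (x⁻¹ * (y'⁻¹ * y)) * x := by rw [h3]
      _ = (y'⁻¹ * y) * x := by group
  have hmaps : ∀ y ∈ B, c y ∈ (D : Set Λ) := fun y hy => hy.2
  have hle : B.ncard ≤ (D : Set Λ).ncard :=
    Set.ncard_le_ncard_of_injOn c hmaps hinj (Set.toFinite _)
  have heq : (D : Set Λ) = B := Set.eq_of_subset_of_ncard_le hDB hle (Set.toFinite _)
  have hkB : k ∈ B := ⟨hk, hx⟩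
  rw [← heq] at hkB
  exact hkD hkB

/-- The derived subgroup of a nontrivial solvable subgroup is a proper subgroup of it. -/
theorem commutator_lt_of_solvable (K : Subgroup Λ) (hsolv : Group.IsSolvable K) (hK1 : K ≠ ⊥) :
    ⁅K, K⁆ < K := by
  haveI : Nontrivial K := (Subgroup.nontrivial_iff_ne_bot K).2 hK1
  haveI := hsolv
  have h1 : commutator K < ⊤ := Group.IsSolvable.commutator_lt_top_of_nontrivial K
  have h2 : (commutator K).map K.subtype = ⁅K, K⁆ := by
    rw [commutator_def, Subgroup.map_commutator, ← MonoidHom.range_eq_map, Subgroup.range_subtype]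
  have h3 : (⊤ : Subgroup K).map K.subtype = K := by
    rw [← MonoidHom.range_eq_map, Subgroup.range_subtype]
  rw [← h2]
  conv_rhs => rw [← h3]
  exact Subgroup.map_lt_map_iff_of_injective (Subgroup.subtype_injective K) |>.2 h1

/-- A `p`-subgroup whose index in its normaliser is prime to `p` is a Sylow `p`-subgroup. -/
theorem exists_sylow_eq_of_normalizer [Finite Λ] (p : ℕ) [hp : Fact p.Prime] (H L : Subgroup Λ)
    (M : ℕ) (hcard : Nat.card H = p ^ M) (hN : Subgroup.normalizer (H : Set Λ) = L)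
    (hHL : H ≤ L) (hidx : ¬ p ∣ H.relIndex L) : ∃ P : Sylow p Λ, (P : Subgroup Λ) = H := by
  have hnd : ¬ p ^ (M + 1) ∣ Nat.card Λ := by
    intro hdvd
    have h1 := Sylow.prime_pow_dvd_card_normalizer hdvd hcard
    rw [hN] at h1
    have h2 : Nat.card L = H.relIndex L * Nat.card H := by
      have h5 := Subgroup.card_mul_index (H.subgroupOf L)
      rw [Nat.card_congr (Subgroup.subgroupOfEquivOfLe hHL).toEquiv] at h5
      rw [mul_comm]
      exact h5.symm
    rw [h2, hcard, pow_succ] at h1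
    have h3 : p ∣ H.relIndex L := by
      have hpos : 0 < p ^ M := pow_pos hp.out.pos M
      have h4 : p ^ M * p ∣ p ^ M * H.relIndex L := by rwa [mul_comm (H.relIndex L)] at h1
      exact Nat.dvd_of_mul_dvd_mul_left hpos h4
    exact hidx h3
  have hd : p ^ M ∣ Nat.card Λ := by
    rw [← hcard]
    exact Subgroup.card_subgroup_dvd_card H
  have hne : Nat.card Λ ≠ 0 := Nat.card_pos.ne'
  have hM : M = (Nat.card Λ).factorization p := by
    have h1 := (hp.out.pow_dvd_iff_le_factorization hne).1 hd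
    have h2 : ¬ M + 1 ≤ (Nat.card Λ).factorization p := fun h =>
      hnd ((hp.out.pow_dvd_iff_le_factorization hne).2 h)
    omega
  exact ⟨Sylow.ofCard H (by rw [hcard, hM]), rfl⟩

end FrobBasic

end Cfsg.Agent.Lib.Helper11
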