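import Mathlib
import Cfsg.Prelude.Def_Characters
import Cfsg.Agent.Lib.Helper11.Frobenius

/-!
Induction of class functions from a subgroup `L` supported on a subset `A` of `L` that controls its own
fusion (`x⁻¹ a x ∈ A → x ∈ L`): values of the induced function and the isometry property.
-/

set_option autoImplicit false

namespace Cfsg.Agent.Lib.Helper11

open Cfsg.Agent.Lib.Helper2
open scoped ComplexConjugate

variable {G : Type*} [Group G] [Fintype G]

/-- An induced function is a class function. -/
theorem indFun_isClassFunction (H : Subgroup G) (α : H → ℂ) :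
    Cfsg.IsClassFunction G (Cfsg.indFun H α) := by
  intro g h
  unfold Cfsg.indFun
  congr 1
  have := Equiv.sum_comp (Equiv.mulLeft h⁻¹) (fun x : G => Cfsg.extendByZero H α (x⁻¹ * g * x))
  rw [← this]
  apply Finset.sum_congr rfl
  intro x _
  simp only [Equiv.coe_mulLeft]
  congr 1
  group

/-- Value of an induced function at an element of a fusion-controlling subset. -/
theorem indFun_apply_of_TI (L : Subgroup G) [Fintype L] (A : Set G)
    (hTI : ∀ a ∈ A, ∀ x : G, x⁻¹ * a * x ∈ A → x ∈ L)
    (α : L → ℂ) (hα : Cfsg.IsClassFunction L α) (hαA : ∀ l : L, (l : G) ∉ A → α l = 0)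
    (a : L) (ha : (a : G) ∈ A) : Cfsg.indFun L α (a : G) = α a := by
  classical
  unfold Cfsg.indFun
  have hLne : (Nat.card L : ℂ) ≠ 0 := card_ne_zero_complex
  have h1 : ∀ x : G, Cfsg.extendByZero L α (x⁻¹ * (a : G) * x) = if x ∈ L then α a else 0 := by
    intro x
    by_cases hx : x ∈ L
    · rw [if_pos hx]
      have hmem : x⁻¹ * (a : G) * x ∈ L := L.mul_mem (L.mul_mem (L.inv_mem hx) a.2) hx
      rw [extendByZero_apply_of_mem L α hmem]
      have := hα a (⟨x, hx⟩⁻¹ : L)
      rw [← this]
      congr 1
      apply Subtype.ext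
      simp
    · rw [if_neg hx]
      by_cases hmem : x⁻¹ * (a : G) * x ∈ L
      · rw [extendByZero_apply_of_mem L α hmem]
        apply hαA
        intro hA
        exact hx (hTI _ ha x hA)
      · exact extendByZero_apply_not_mem L α hmem
  simp_rw [h1]
  rw [Finset.sum_ite, Finset.sum_const_zero, add_zero, Finset.sum_const, nsmul_eq_mul]
  have hcard : ((Finset.univ.filter (fun x : G => x ∈ L)).card : ℂ) = (Nat.card L : ℂ) := by
    rw [Nat.card_eq_fintype_card, Fintype.card_subtype]
  rw [hcard]
  field_simp

/-- Isometry: inner product of two induced functions supported on a fusion-controlling subset. -/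
theorem classInner_indFun_indFun_of_TI (L : Subgroup G) [Fintype L] (A : Set G)
    (hTI : ∀ a ∈ A, ∀ x : G, x⁻¹ * a * x ∈ A → x ∈ L)
    (α β : L → ℂ) (hαA : ∀ l : L, (l : G) ∉ A → α l = 0)
    (hβ : Cfsg.IsClassFunction L β) (hβA : ∀ l : L, (l : G) ∉ A → β l = 0) :
    Cfsg.classInner (Cfsg.indFun L α) (Cfsg.indFun L β) = Cfsg.classInner α β := by
  rw [classInner_indFun_left L α _ (indFun_isClassFunction L β), classInner_def, classInner_def]
  congr 1
  apply Finset.sum_congr rfl
  intro l _
  by_cases hl : (l : G) ∈ A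
  · rw [indFun_apply_of_TI L A hTI β hβ hβA l hl]
  · rw [hαA l hl, zero_mul, zero_mul]

end Cfsg.Agent.Lib.Helper11
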