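import Cfsg.Agent.Lib.Helper11.CentralChar
import Cfsg.Agent.Lib.Helper2.Linear
import Cfsg.Agent.Lib.Helper2.Regular

/-!
Degree bound for an irreducible character `θ` of `K` from a central section `C/D` modulo the
kernel of `θ`: `θ(1)² ≤ [K:C]² [C:D]`.
-/

set_option autoImplicit false

namespace Cfsg.Agent.Lib.Helper11

open Cfsg
open Cfsg.Agent.Lib.Helper2
open scoped ComplexConjugate

section CentralBound

variable {K : Type*} [Group K] [Fintype K]

omit [Fintype K] in
/-- If a sum of two characters takes its degree at `g`, so does the first. -/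
theorem IsCharacter.eq_degree_of_add [Finite K] {ζ Ψ : K → ℂ} (hζ : IsCharacter K ζ)
    (hΨ : IsCharacter K Ψ) {g : K} (h : ζ g + Ψ g = ζ 1 + Ψ 1) : ζ g = ζ 1 := by
  obtain ⟨n₁, h1, hle1⟩ := IsCharacter.exists_degree_norm_le hζ
  obtain ⟨n₂, h2, hle2⟩ := IsCharacter.exists_degree_norm_le hΨ
  have hre := congrArg Complex.re h
  rw [Complex.add_re, Complex.add_re, h1, h2, Complex.natCast_re, Complex.natCast_re] at hre
  have h3 : (ζ g).re ≤ n₁ := le_trans (Complex.re_le_norm _) (hle1 g)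
  have h4 : (Ψ g).re ≤ n₂ := le_trans (Complex.re_le_norm _) (hle2 g)
  have h5 : (ζ g).re = n₁ := by linarith
  rw [h1]
  exact eq_of_re_eq_of_norm_le h5 (hle1 g)

/-- `θ(1)² ≤ [K:C]² [C:D]` if `[D, C]` lies in the kernel of the irreducible character `θ`. -/
theorem IsIrrCharacter.degree_sq_le_of_central {θ : K → ℂ} (hθ : IsIrrCharacter K θ)
    (C D : Subgroup K)
    (hc : ∀ x ∈ D, ∀ y ∈ C, θ (x * y * x⁻¹ * y⁻¹) = θ 1) (m : ℕ) (hm : θ 1 = m) :
    m ^ 2 ≤ C.index ^ 2 * D.relIndex C := by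
  classical
  have : Fintype C := Fintype.ofFinite C
  have hψ : IsCharacter C (fun c : C => θ c) :=
    IsCharacter.restrict (IsIrrCharacter.isCharacter hθ) C
  have hne : (fun c : C => θ c) ≠ 0 := by
    intro h
    have := congrFun h 1
    simp only [Pi.zero_apply] at this
    exact IsIrrCharacter.apply_one_ne_zero hθ this
  obtain ⟨ζ, Ψ, hΨ, hdec⟩ := exists_irr_add_of_ne_zero hψ hne
  obtain ⟨z, hzpos, hz⟩ := IsIrrCharacter.apply_one ζ.2
  -- Frobenius: m ≤ [K:C] z
  obtain ⟨c, hcc⟩ := classInner_isCharacter_nat hΨ (IsIrrCharacter.isCharacter ζ.2)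
  have hinner : classInner (fun c : C => θ c) (ζ : C → ℂ) = ((1 + c : ℕ) : ℂ) := by
    rw [hdec, classInner_add_left, classInner_irrCharacter_self, hcc]; push_cast; ring
  have hfrob := frobenius_reciprocity C (ζ : C → ℂ) θ
    (IrrCharacter.isClassFunction (⟨θ, hθ⟩ : IrrCharacter K))
  have hfrob' : classInner (indFun C (ζ : C → ℂ)) θ = ((1 + c : ℕ) : ℂ) := by
    rw [hfrob, ← classInner_conj_symm, hinner, Complex.conj_natCast]
  have hind : IsCharacter K (indFun C (ζ : C → ℂ)) :=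
    indFun_isCharacter C _ (IsIrrCharacter.isCharacter ζ.2)
  obtain ⟨Ψ', hΨ', hdec'⟩ := exists_add_of_classInner_ne_zero hind (⟨θ, hθ⟩ : IrrCharacter K) (by
    rw [hfrob']; exact_mod_cast (by omega : (1 + c) ≠ 0))
  have h1 := congrFun hdec' 1
  rw [indFun_apply_one, hz, Pi.add_apply] at h1
  change (C.index : ℂ) * (z : ℂ) = θ 1 + Ψ' 1 at h1
  rw [hm] at h1
  obtain ⟨d, hd⟩ := IsCharacter.apply_one hΨ'
  rw [hd] at h1
  have hmz : C.index * z = m + d := by exact_mod_cast h1
  -- the commutators lie in the kernel of ζ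
  have hker : ∀ x : C, (x : K) ∈ D → ∀ y : C, (ζ : C → ℂ) (x * y * x⁻¹ * y⁻¹) = (ζ : C → ℂ) 1 := by
    intro x hx y
    apply IsCharacter.eq_degree_of_add (IsIrrCharacter.isCharacter ζ.2) hΨ
    have e1 := congrFun hdec (x * y * x⁻¹ * y⁻¹)
    have e2 := congrFun hdec 1
    simp only [Pi.add_apply] at e1 e2
    rw [← e1, ← e2]
    have := hc x hx y y.2
    simpa using this
  have hnorm : ∀ x ∈ D.subgroupOf C, ‖(ζ : C → ℂ) x‖ = ‖(ζ : C → ℂ) 1‖ := by
    intro x hx
    exact IsIrrCharacter.norm_eq_of_commutators_in_ker ζ.2 x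
      (fun y => hker x (Subgroup.mem_subgroupOf.1 hx) y)
  have hbound := IsIrrCharacter.degree_sq_mul_card_le ζ.2 (D.subgroupOf C) hnorm
  rw [hz, Complex.norm_natCast] at hbound
  have hb : z ^ 2 * Nat.card (D.subgroupOf C) ≤ Nat.card C := by exact_mod_cast hbound
  have hidx : (D.subgroupOf C).index * Nat.card (D.subgroupOf C) = Nat.card C :=
    Subgroup.index_mul_card _
  have hpos : 0 < Nat.card (D.subgroupOf C) := Nat.card_pos
  have hz2 : z ^ 2 ≤ D.relIndex C := by
    rw [Subgroup.relIndex]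
    rw [← hidx] at hb
    exact Nat.le_of_mul_le_mul_right hb hpos
  calc m ^ 2 ≤ (C.index * z) ^ 2 := by
        apply Nat.pow_le_pow_left
        omega
    _ = C.index ^ 2 * z ^ 2 := by ring
    _ ≤ C.index ^ 2 * D.relIndex C := Nat.mul_le_mul_left _ hz2

end CentralBound

end Cfsg.Agent.Lib.Helper11
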