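import Cfsg.Agent.Lib.Helper11.Clifford4
import Cfsg.Agent.Lib.Helper2.Integrality

/-!
Clifford theory over an inertia group with abelian quotient of order coprime to `|H|`:
`Ind_H^G θ` is a sum of `[T:H]` distinct irreducible characters of degree `[G:T] θ(1)`.
-/

set_option autoImplicit false

namespace Cfsg.Agent.Lib.Helper11

open Cfsg.Agent.Lib.Helper2
open scoped ComplexConjugate

section CoprimeTop

variable {K : Type*} [Group K] [Fintype K] (N : Subgroup K) [hN : N.Normal]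

/-- The degree of an irreducible character divides the group order. -/
theorem IsIrrCharacter.exists_degree_dvd_card {θ : K → ℂ} (hθ : Cfsg.IsIrrCharacter K θ) :
    ∃ d : ℕ, θ 1 = (d : ℂ) ∧ d ∣ Nat.card K := by
  obtain ⟨n, ρ, hρ, rfl⟩ := hθ
  haveI := hρ
  exact ⟨_, Representation.char_one ρ, finrank_dvd_card ρ⟩

/-- An invariant irreducible character of a normal subgroup with abelian quotient of coprime order
extends; all constituents of the induced character are extensions. -/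
theorem clifford_coprime_abelian_top (θ : N → ℂ) (hθ : Cfsg.IsIrrCharacter N θ)
    (hinv : ∀ g : K, conjFn N g θ = θ) (hab : ∀ x y : K, x * y * x⁻¹ * y⁻¹ ∈ N)
    (hcop : Nat.Coprime (Nat.card N) N.index) :
    ∃ C : Finset (K → ℂ), (∀ χ ∈ C, Cfsg.IsIrrCharacter K χ) ∧ C.card = N.index ∧
      Cfsg.indFun N θ = ∑ χ ∈ C, χ ∧ ∀ χ ∈ C, χ 1 = θ 1 := by
  classical
  obtain ⟨e, C, hePos, hirr, hcard, hsum, hdeg⟩ := clifford_abelian_quotient N ⊤ θ hθ
    (fun g => ⟨fun _ => hinv g, fun _ => Subgroup.mem_top g⟩) (fun x _ y _ => hab x y)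
  have hcard' : e ^ 2 * C.card = N.index := by
    rw [Subgroup.card_top, ← Subgroup.card_mul_index N] at hcard
    have hNpos : 0 < Nat.card N := Nat.card_pos
    have : Nat.card N * (e ^ 2 * C.card) = Nat.card N * N.index := by
      rw [← hcard]; ring
    exact Nat.eq_of_mul_eq_mul_left hNpos this
  -- the complement
  obtain ⟨Q, hQ⟩ := Subgroup.exists_right_complement'_of_coprime hcop
  have hQcard : Nat.card Q = N.index := by
    have h1 := hQ.card_mul_card
    rw [← Subgroup.card_mul_index N] at h1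
    exact Nat.eq_of_mul_eq_mul_left Nat.card_pos h1
  have hdisj : ∀ q : K, q ∈ Q → q ≠ 1 → q ∉ N := by
    intro q hq hq1 hqN
    have := hQ.disjoint
    rw [Subgroup.disjoint_def] at this
    exact hq1 (this hqN hq)
  haveI : Fintype Q := Fintype.ofFinite Q
  -- sum of the induced character over the complement
  have hS1 : ∑ q : Q, Cfsg.indFun N θ (q : K) = (N.index : ℂ) * θ 1 := by
    rw [Finset.sum_eq_single (1 : Q)]
    · rw [OneMemClass.coe_one, indFun_apply_one]
    · intro q _ hq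
      apply indFun_apply_of_not_mem N θ
      apply hdisj q q.2
      intro h
      exact hq (Subtype.ext h)
    · intro h; exact absurd (Finset.mem_univ _) h
  -- multiplicities of the trivial character of the complement
  have hmult : ∀ χ ∈ C, ∃ n : ℕ, ∑ q : Q, χ (q : K) = (Nat.card Q : ℂ) * (n : ℂ) := by
    intro χ hχ
    have h1 : Cfsg.IsCharacter Q (fun q : Q => χ (q : K)) :=
      IsCharacter.restrict (IsIrrCharacter.isCharacter (hirr χ hχ)) Q
    have h2 : Cfsg.IsCharacter Q (fun _ : Q => (1 : ℂ)) :=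
      IsCharacter.comp (G := K) (χ := fun _ => (1 : ℂ))
        (IsIrrCharacter.isCharacter isIrrCharacter_one) Q.subtype
    obtain ⟨n, hn⟩ := classInner_isCharacter_nat h1 h2
    refine ⟨n, ?_⟩
    rw [classInner_def] at hn
    simp only [map_one, mul_one] at hn
    have hQne : (Nat.card Q : ℂ) ≠ 0 := by exact_mod_cast Nat.card_pos.ne'
    rw [← hn]
    field_simp
  choose! n hn using hmult
  have hS2 : ∑ q : Q, Cfsg.indFun N θ (q : K)
      = (e : ℂ) * ((Nat.card Q : ℂ) * ((∑ χ ∈ C, n χ : ℕ) : ℂ)) := by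
    rw [hsum]
    simp only [Pi.smul_apply, Finset.sum_apply, smul_eq_mul]
    rw [← Finset.mul_sum, Finset.sum_comm]
    congr 1
    rw [Finset.sum_congr rfl (fun χ hχ => hn χ hχ), ← Finset.mul_sum]
    push_cast
    rfl
  obtain ⟨d, hd, hdvd⟩ := IsIrrCharacter.exists_degree_dvd_card hθ
  have hde : d = e * ∑ χ ∈ C, n χ := by
    have h3 : (N.index : ℂ) * θ 1 = (e : ℂ) * ((Nat.card Q : ℂ) * ((∑ χ ∈ C, n χ : ℕ) : ℂ)) := by
      rw [← hS1, hS2]
    rw [hQcard, hd] at h3
    have hne : (N.index : ℂ) ≠ 0 := by exact_mod_cast Subgroup.index_ne_zero_of_finite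
    have h4 : (d : ℂ) = (e : ℂ) * ((∑ χ ∈ C, n χ : ℕ) : ℂ) := by
      apply mul_left_cancel₀ hne
      rw [h3]; ring
    exact_mod_cast h4
  have he1 : e = 1 := by
    have h1 : e ∣ Nat.card N := Dvd.dvd.trans ⟨_, hde⟩ hdvd
    have h2 : e ∣ N.index := ⟨e * C.card, by rw [← hcard']; ring⟩
    exact Nat.eq_one_of_dvd_coprimes hcop h1 h2
  subst he1
  refine ⟨C, hirr, ?_, ?_, ?_⟩
  · rw [← hcard']; ring
  · rw [hsum]; simp
  · intro χ hχ
    rw [hdeg χ hχ, Subgroup.index_top]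
    simp

end CoprimeTop

section CoprimeInertia

variable {G : Type*} [Group G] [Fintype G] (H T : Subgroup G) [hN : H.Normal]

theorem clifford_abelian_coprime (θ : H → ℂ) (hθ : Cfsg.IsIrrCharacter H θ)
    (hT : ∀ g : G, g ∈ T ↔ conjFn H g θ = θ)
    (hab : ∀ x ∈ T, ∀ y ∈ T, x * y * x⁻¹ * y⁻¹ ∈ H)
    (hcop : Nat.Coprime (Nat.card H) (H.relIndex T)) :
    ∃ C : Finset (G → ℂ), (∀ χ ∈ C, Cfsg.IsIrrCharacter G χ) ∧ C.card = H.relIndex T ∧
      Cfsg.indFun H θ = ∑ χ ∈ C, χ ∧ ∀ χ ∈ C, χ 1 = (T.index : ℂ) * θ 1 := by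
  classical
  have : Fintype T := Fintype.ofFinite T
  have : Fintype H := Fintype.ofFinite H
  have : Fintype (H.subgroupOf T) := Fintype.ofFinite _
  have hθcf : Cfsg.IsClassFunction H θ := IsCharacter.isClassFunction (IsIrrCharacter.isCharacter hθ)
  have hHT : H ≤ T := fun g hg => (hT g).2 (conjFn_of_mem H hθcf hg)
  set θ' : H.subgroupOf T → ℂ := fun x => θ ⟨(x : T), Subgroup.mem_subgroupOf.mp x.2⟩ with hθ'def
  set Θ := Cfsg.indFun (H.subgroupOf T) θ' with hΘ
  have hθ'irr : Cfsg.IsIrrCharacter (H.subgroupOf T) θ' := by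
    have := isIrrCharacter_comp_equiv (Subgroup.subgroupOfEquivOfLe hHT) hθ
    convert this using 1
    funext x
    rfl
  have hθ'1 : θ' 1 = θ 1 := rfl
  have hall : ∀ t : T, conjFn (H.subgroupOf T) t θ' = θ' := by
    intro t
    funext x
    rw [conjFn_apply]
    have := congrFun ((hT t).1 t.2) ⟨(x : T), Subgroup.mem_subgroupOf.mp x.2⟩
    rw [conjFn_apply] at this
    exact this
  have hab' : ∀ x y : T, x * y * x⁻¹ * y⁻¹ ∈ H.subgroupOf T := by
    intro x y
    rw [Subgroup.mem_subgroupOf]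
    exact hab x x.2 y y.2
  have hcop' : Nat.Coprime (Nat.card (H.subgroupOf T)) (H.subgroupOf T).index := by
    rw [Nat.card_congr (Subgroup.subgroupOfEquivOfLe hHT).toEquiv]
    exact hcop
  obtain ⟨C₀, hirr₀, hcard₀, hsum₀, hdeg₀⟩ :=
    clifford_coprime_abelian_top (H.subgroupOf T) θ' hθ'irr hall hab' hcop'
  have hcc : ∀ ψ ∈ C₀, Cfsg.classInner Θ ψ ≠ 0 := by
    intro ψ hψ
    rw [hΘ, hsum₀, classInner_sum_left, Finset.sum_eq_single ψ]
    · rw [classInner_irr_eq_ite (hirr₀ ψ hψ) (hirr₀ ψ hψ), if_pos rfl]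
      exact one_ne_zero
    · intro φ hφ hne
      rw [classInner_irr_eq_ite (hirr₀ φ hφ) (hirr₀ ψ hψ), if_neg hne]
    · intro h; exact absurd hψ h
  have hinj : ∀ μ ∈ C₀, ∀ ν ∈ C₀, Cfsg.indFun T μ = Cfsg.indFun T ν → μ = ν := by
    intro μ hμ ν hν h
    exact (clifford_correspondence H T θ hθ hT hHT μ ν (hirr₀ μ hμ) (hirr₀ ν hν)
      (hcc μ hμ) (hcc ν hν)).2 h
  refine ⟨C₀.image (fun ψ => Cfsg.indFun T ψ), ?_, ?_, ?_, ?_⟩
  · intro χ hχ
    obtain ⟨μ, hμ, rfl⟩ := Finset.mem_image.1 hχ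
    exact (clifford_correspondence H T θ hθ hT hHT μ μ (hirr₀ μ hμ) (hirr₀ μ hμ)
      (hcc μ hμ) (hcc μ hμ)).1
  · rw [Finset.card_image_of_injOn (fun μ hμ ν hν h => hinj μ hμ ν hν h), hcard₀]
    rfl
  · rw [← indFun_trans H T hHT θ]
    change Cfsg.indFun T Θ = _
    rw [hΘ, hsum₀, indFun_sum, Finset.sum_image (fun μ hμ ν hν h => hinj μ hμ ν hν h)]
  · intro χ hχ
    obtain ⟨μ, hμ, rfl⟩ := Finset.mem_image.1 hχ
    rw [indFun_apply_one, hdeg₀ μ hμ, hθ'1]

end CoprimeInertia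

end Cfsg.Agent.Lib.Helper11
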