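import Cfsg.Agent.Lib.Helper11.CohExtend

/-!
A variant of `coherent_extend` whose hypotheses only concern the characters outside `S_A`.
-/

set_option autoImplicit false

namespace Cfsg.Agent.Lib.Helper11

open Cfsg
open Cfsg.Agent.Lib.Helper2
open scoped ComplexConjugate

section CohExtend2

variable {L : Type*} [Group L] [Fintype L] {G : Type*} [Group G] [Fintype G]
  {S : Set (L → ℂ)} {τ : (L → ℂ) → (G → ℂ)} {R : (L → ℂ) → Finset (G → ℂ)}

/-- Repeated application of (5.6): extending a coherent set `S_A` to cover `S_B`; the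
divisibility and the inequality are only needed for the new characters. -/
theorem coherent_extend' (hS : IsCoherenceSystem S τ R) (d n : (L → ℂ) → ℕ)
    (hd : ∀ φ ∈ S, φ 1 = (d φ : ℂ)) (hn : ∀ φ ∈ S, classInner φ φ = (n φ : ℂ))
    (S_A S_B : Finset (L → ℂ)) (hA : ↑S_A ⊆ S) (hB : ↑S_B ⊆ S)
    (hAc : ∀ φ ∈ S_A, conjFun φ ∈ S_A) (hBc : ∀ φ ∈ S_B, conjFun φ ∈ S_B)
    (hcohA : IsCoherent (↑S_A : Set (L → ℂ)) {1}ᶜ τ) (hBne : S_B.Nonempty)
    (χ₁ : L → ℂ) (hχ₁ : χ₁ ∈ S_A) (hdvd : ∀ χ ∈ S_B, χ ∉ S_A → d χ₁ ∣ d χ)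
    (hineq : ∀ χ ∈ S_B, χ ∉ S_A →
      (2 * d χ * d χ₁ : ℝ) < ∑ φ ∈ S_A, ((d φ : ℝ) ^ 2 / (n φ : ℝ))) :
    IsCoherent (↑S_B : Set (L → ℂ)) {1}ᶜ τ := by
  classical
  -- the invariant
  have key : ∀ k : ℕ, ∀ S₁ : Finset (L → ℂ), S_A ⊆ S₁ → ↑S₁ ⊆ S →
      (∀ φ ∈ S₁, conjFun φ ∈ S₁) → IsCoherent (↑S₁ : Set (L → ℂ)) {1}ᶜ τ →
      (S_B \ S₁).card = k → IsCoherent (↑S_B : Set (L → ℂ)) {1}ᶜ τ := by
    intro k
    induction k using Nat.strong_induction_on with
    | _ k ih =>
      intro S₁ hAS₁ hS₁S hS₁c hcoh₁ hk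
      by_cases hk0 : S_B \ S₁ = ∅
      · have hsub : S_B ⊆ S₁ := Finset.sdiff_eq_empty_iff_subset.1 hk0
        apply isCoherent_subset (Finset.coe_subset.2 hsub) hcoh₁
        exact exists_ne_zero_zspanOn hS hB (fun φ hφ => hBc φ hφ) (Finset.coe_nonempty.2 hBne)
      · obtain ⟨χ, hχ⟩ := Finset.nonempty_iff_ne_empty.2 hk0
        rw [Finset.mem_sdiff] at hχ
        have hχS : χ ∈ S := hB hχ.1
        have hχc : conjFun χ ∉ S₁ := by
          intro h
          have := hS₁c _ h
          rw [conjFun_conjFun] at this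
          exact hχ.2 this
        have hsum : ∑ φ ∈ S_A, ((d φ : ℝ) ^ 2 / (n φ : ℝ))
            ≤ ∑ φ ∈ S₁, ((d φ : ℝ) ^ 2 / (n φ : ℝ)) := by
          apply Finset.sum_le_sum_of_subset_of_nonneg hAS₁
          intro φ _ _
          positivity
        have hcoh₂ := Cfsg.Agent.S1516.result S τ R hS d n hd hn S₁ hS₁S hS₁c hcoh₁ χ hχS hχ.2 hχc
          χ₁ (hAS₁ hχ₁) (hdvd χ hχ.1 (fun h => hχ.2 (hAS₁ h)))
          (lt_of_lt_of_le (hineq χ hχ.1 (fun h => hχ.2 (hAS₁ h))) hsum)
        set S₂ : Finset (L → ℂ) := S₁ ∪ {χ, conjFun χ} with hS₂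
        have hcoe : (↑S₂ : Set (L → ℂ)) = ↑S₁ ∪ {χ, conjFun χ} := by
          rw [hS₂, Finset.coe_union]
          congr 1
          ext x
          simp
        rw [← hcoe] at hcoh₂
        have hlt : (S_B \ S₂).card < k := by
          rw [← hk]
          apply Finset.card_lt_card
          rw [Finset.ssubset_iff_of_subset]
          · refine ⟨χ, Finset.mem_sdiff.2 hχ, ?_⟩
            rw [Finset.mem_sdiff]
            intro h
            apply h.2
            rw [hS₂, Finset.mem_union]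
            right
            exact Finset.mem_insert_self _ _
          · intro x hx
            rw [Finset.mem_sdiff] at hx ⊢
            refine ⟨hx.1, fun h => hx.2 ?_⟩
            rw [hS₂]
            exact Finset.mem_union_left _ h
        refine ih _ hlt S₂ ?_ ?_ ?_ hcoh₂ rfl
        · exact fun x hx => Finset.mem_union_left _ (hAS₁ hx)
        · intro x hx
          have hx' : x ∈ S₂ := hx
          rw [hS₂, Finset.mem_union, Finset.mem_insert, Finset.mem_singleton] at hx'
          rcases hx' with h | h | h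
          · exact hS₁S h
          · rw [h]; exact hχS
          · rw [h]; exact hS.conj_mem χ hχS
        · intro x hx
          rw [hS₂, Finset.mem_union, Finset.mem_insert, Finset.mem_singleton] at hx ⊢
          rcases hx with h | h | h
          · exact Or.inl (hS₁c x h)
          · right; right; rw [h]
          · right; left; rw [h, conjFun_conjFun]
  exact key _ S_A (Finset.Subset.refl _) hA hAc hcohA rfl

end CohExtend2

end Cfsg.Agent.Lib.Helper11
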