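import Cfsg.Agent.Lib.Helper11.FrobQuot
import Cfsg.Agent.Lib.Helper2.Expansion

/-!
Further facts on characters induced from a normal subgroup: constituents not trivial at a given
element, kernels of induced characters, and sums over fibers of `θ ↦ ind θ`.
-/

set_option autoImplicit false

namespace Cfsg.Agent.Lib.Helper11

open Cfsg
open Cfsg.Agent.Lib.Helper2
open scoped ComplexConjugate

section IndIrr3
open Classical

/-- A class function with `ψ z ≠ ψ 1` has an irreducible constituent with `φ z ≠ φ 1`. -/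
theorem exists_constituent_apply_ne {K : Type*} [Group K] [Fintype K] {ψ : K → ℂ}
    (hψ : IsClassFunction K ψ) {z : K} (hz : ψ z ≠ ψ 1) :
    ∃ φ : K → ℂ, IsIrrCharacter K φ ∧ φ z ≠ φ 1 ∧ classInner ψ φ ≠ 0 := by
  have : Fintype (IrrCharacter K) := Fintype.ofFinite _
  by_contra hcon
  have hall : ∀ φ : IrrCharacter K, classInner ψ (φ : K → ℂ) ≠ 0 →
      (φ : K → ℂ) z = (φ : K → ℂ) 1 := by
    intro φ h3
    by_contra h2
    exact hcon ⟨φ.1, φ.2, h2, h3⟩
  have hexp := classFunction_expansion ψ hψ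
  apply hz
  have e1 := congrFun hexp z
  have e2 := congrFun hexp 1
  rw [e1, e2]
  simp only [Finset.sum_apply, Pi.smul_apply, smul_eq_mul]
  apply Finset.sum_congr rfl
  intro φ _
  by_cases h : classInner ψ (φ : K → ℂ) = 0
  · rw [h, zero_mul, zero_mul]
  · rw [hall φ h]

variable {L : Type*} [Group L] [Fintype L] (K : Subgroup L) [hK : K.Normal]

/-- If the function induced from the character `θ` of the normal subgroup `K` takes its degree
at `z ∈ K`, then `θ` takes its degree at all conjugates of `z`. -/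
theorem apply_conj_eq_of_indFun_apply_eq {θ : K → ℂ} (hθ : IsCharacter K θ) (z : K)
    (h : indFun K θ (z : L) = indFun K θ 1) (g : L) :
    θ ⟨g * z * g⁻¹, hK.conj_mem z z.2 g⟩ = θ 1 := by
  have h1 := indFun_apply_of_normal K θ z
  have h2 := indFun_apply_one K θ
  rw [h, h2] at h1
  have hK0 : (Nat.card K : ℂ) ≠ 0 := card_subgroup_ne_zero K
  have h3 : ∑ g : L, θ ⟨g * z * g⁻¹, hK.conj_mem z z.2 g⟩
      = ((Finset.univ : Finset L).card : ℂ) * θ 1 := by
    have h4 : ∑ g : L, conjFn K g θ z = (Nat.card K : ℂ) * ((K.index : ℂ) * θ 1) := by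
      rw [h1]; field_simp
    simp only [conjFn_apply] at h4
    rw [h4, Finset.card_univ, ← Nat.card_eq_fintype_card, ← Subgroup.card_mul_index K]
    push_cast
    ring
  exact IsCharacter.eq_degree_of_sum_eq hθ Finset.univ
    (fun g : L => (⟨g * z * g⁻¹, hK.conj_mem z z.2 g⟩ : K)) h3 g (Finset.mem_univ g)

/-- Summing over the fibers of `θ ↦ ind θ` on a set of characters with irreducible induced
functions. -/
theorem sum_irrDeg_sq_eq_index_mul [Fintype (IrrCharacter K)] (T' : Finset (IrrCharacter K))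
    (hclosed : ∀ θ ∈ T', ∀ θ' : IrrCharacter K,
      indFun K (θ' : K → ℂ) = indFun K (θ : K → ℂ) → θ' ∈ T' ∧ irrDeg θ' = irrDeg θ)
    (hnorm : ∀ θ ∈ T', classInner (indFun K (θ : K → ℂ)) (indFun K (θ : K → ℂ)) = 1)
    (q : (L → ℂ) → ℕ) (hq : ∀ θ ∈ T', q (indFun K (θ : K → ℂ)) = irrDeg θ ^ 2) :
    ∑ θ ∈ T', irrDeg θ ^ 2
      = K.index * ∑ ψ ∈ T'.image (fun θ : IrrCharacter K => indFun K (θ : K → ℂ)), q ψ := by
  rw [Finset.mul_sum]
  symm
  apply Finset.sum_image'
  intro θ hθ
  have hfib : T'.filter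
      (fun θ' : IrrCharacter K => indFun K (θ' : K → ℂ) = indFun K (θ : K → ℂ))
      = Finset.univ.filter
        (fun θ' : IrrCharacter K => indFun K (θ' : K → ℂ) = indFun K (θ : K → ℂ)) := by
    ext θ'
    simp only [Finset.mem_filter, Finset.mem_univ, true_and]
    exact ⟨fun h => h.2, fun h => ⟨(hclosed θ hθ θ' h).1, h⟩⟩
  have hconst : ∀ θ' ∈ T'.filter
      (fun θ' : IrrCharacter K => indFun K (θ' : K → ℂ) = indFun K (θ : K → ℂ)),
      irrDeg θ' ^ 2 = irrDeg θ ^ 2 := by
    intro θ' hθ'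
    rw [Finset.mem_filter] at hθ'
    rw [(hclosed θ hθ θ' hθ'.2).2]
  rw [Finset.sum_congr rfl hconst, Finset.sum_const, smul_eq_mul, hfib, hq θ hθ]
  have h2 := card_fiber_indFun K θ
  rw [hnorm θ hθ, mul_one] at h2
  have h3 : (Finset.univ.filter (fun θ' : IrrCharacter K =>
      indFun K (θ' : K → ℂ) = indFun K (θ : K → ℂ))).card = K.index := by exact_mod_cast h2
  rw [h3]

end IndIrr3

end Cfsg.Agent.Lib.Helper11
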