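import Cfsg.Agent.Lib.Helper11.Coherence

/-!
Peterfalvi (5.6): a coherence system whose characters all have the same degree is coherent.
-/

set_option autoImplicit false

namespace Cfsg.Agent.Lib.Helper11

open Cfsg
open Cfsg.Agent.Lib.Helper2
open scoped ComplexConjugate

section Anchor

variable {L : Type*} [Group L] [Fintype L] {G : Type*} [Group G] [Fintype G]
variable {S : Set (L → ℂ)} {τ : (L → ℂ) → (G → ℂ)} {R : (L → ℂ) → Finset (G → ℂ)}

/-- inner product of sums over orthonormal subfamilies -/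
theorem classInner_sum_sum_of_subset [DecidableEq (G → ℂ)] (F F' : Finset (G → ℂ))
    (hF : ∀ α ∈ F, ∀ β ∈ F, classInner α β = if α = β then 1 else 0) (hsub : F' ⊆ F) :
    classInner (∑ α ∈ F', α) (∑ β ∈ F, β) = (F'.card : ℂ) := by
  rw [classInner_sum_left]
  have : ∀ α ∈ F', classInner α (∑ β ∈ F, β) = 1 := by
    intro α hα
    rw [classInner_sum_right, Finset.sum_eq_single α]
    · rw [hF α (hsub hα) α (hsub hα), if_pos rfl]
    · intro β hβ hne
      rw [hF α (hsub hα) β hβ, if_neg (fun h => hne h.symm)]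
    · intro h; exact absurd (hsub hα) h
  rw [Finset.sum_congr rfl this]
  simp

theorem coh_card_R (hS : IsCoherenceSystem S τ R) {ξ : L → ℂ} (hξ : ξ ∈ S) :
    ((R ξ).card : ℂ) = 2 * classInner ξ ξ := by
  classical
  have h1 := classInner_sum_sum_of_subset (R ξ) (R ξ) (hS.orthonormal ξ hξ) (Finset.Subset.refl _)
  rw [← h1, ← hS.sum_eq ξ hξ, hS.isometry.2.2.1 _ (coh_sub_conj_mem hS hξ) _ (coh_sub_conj_mem hS hξ),
    classInner_sub_left, classInner_sub_right, classInner_sub_right, coh_norm_conj hS hξ,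
    coh_orth_conj hS hξ]
  have : classInner (conjFun ξ) ξ = 0 := by
    rw [← classInner_conj_symm, coh_orth_conj hS hξ, map_zero]
  rw [this]
  ring

theorem coh_exists_anchor (hS : IsCoherenceSystem S τ R)
    (hdeg : ∀ φ ∈ S, ∀ ψ ∈ S, φ 1 = ψ 1) {χ₁ : L → ℂ} (hχ₁ : χ₁ ∈ S) :
    ∃ Y : G → ℂ, IsGeneralizedCharacter G Y ∧ classInner Y Y = classInner χ₁ χ₁ ∧
      ∀ ξ ∈ S, classInner Y (τ (χ₁ - ξ)) + classInner χ₁ ξ = classInner χ₁ χ₁ := by
  classical
  obtain ⟨n₁, hn₁pos, hn₁⟩ := coh_norm_nat hS hχ₁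
  have hχ₁c : conjFun χ₁ ∈ S := hS.conj_mem χ₁ hχ₁
  by_cases hB : ∃ χ₂ ∈ S, χ₂ ≠ χ₁ ∧ χ₂ ≠ conjFun χ₁
  · -- Case B
    obtain ⟨χ₂, hχ₂, hne, hne'⟩ := hB
    have hd12 : χ₁ 1 = χ₂ 1 := hdeg χ₁ hχ₁ χ₂ hχ₂
    set X₂ := τ (χ₁ - χ₂) with hX₂
    have m12 : χ₁ - χ₂ ∈ zspanOn S {1}ᶜ := coh_sub_mem hS hχ₁ hχ₂ hd12
    obtain ⟨hP1, _, _⟩ := coh_pair hS hχ₁ hχ₂ hne hne' hd12
    set Y : G → ℂ := ∑ α ∈ R χ₁, classInner X₂ α • α with hY
    have hsq : ∀ α : G → ℂ, classInner X₂ α * conj (classInner X₂ α)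
        = ((‖classInner X₂ α‖ ^ 2 : ℝ) : ℂ) := by
      intro α
      rw [Complex.mul_conj, Complex.normSq_eq_norm_sq]
    have hsumsq : ∑ α ∈ R χ₁, classInner X₂ α * conj (classInner X₂ α) = classInner χ₁ χ₁ := by
      simp only [hsq]
      rw [← Complex.ofReal_sum, hP1, hn₁]
      simp
    -- ⟨α, Y⟩ for α ∈ R χ₁
    have hαY : ∀ α ∈ R χ₁, classInner α Y = conj (classInner X₂ α) := by
      intro α hα
      rw [hY, classInner_sum_right, Finset.sum_eq_single α]
      · rw [classInner_smul_right, hS.orthonormal χ₁ hχ₁ α hα α hα, if_pos rfl, mul_one]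
      · intro β hβ hne
        rw [classInner_smul_right, hS.orthonormal χ₁ hχ₁ α hα β hβ,
          if_neg (fun h => hne h.symm), mul_zero]
      · intro h; exact absurd hα h
    have hXY : classInner X₂ Y = classInner χ₁ χ₁ := by
      rw [hY, classInner_sum_right, ← hsumsq]
      apply Finset.sum_congr rfl
      intro α _
      rw [classInner_smul_right, mul_comm]
    have hYX : classInner Y X₂ = classInner χ₁ χ₁ := by
      rw [← classInner_conj_symm, hXY, hn₁, map_natCast]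
    have hYY : classInner Y Y = classInner χ₁ χ₁ := by
      conv_lhs => rw [hY]
      rw [classInner_sum_left, ← hsumsq]
      apply Finset.sum_congr rfl
      intro α hα
      rw [classInner_smul_left, hαY α hα]
    -- orthogonality of Y to R ζ for ζ ∉ {χ₁, conj χ₁}
    have hperp : ∀ ζ ∈ S, ζ ≠ χ₁ → ζ ≠ conjFun χ₁ → ∀ β ∈ R ζ, classInner β Y = 0 := by
      intro ζ hζ h1 h2 β hβ
      rw [hY, classInner_sum_right]
      apply Finset.sum_eq_zero
      intro α hα
      have hz : classInner β α = 0 := by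
        rw [← classInner_conj_symm, coh_R_orth hS hχ₁ hζ h1 h2 α hα β hβ, map_zero]
      rw [classInner_smul_right, hz, mul_zero]
    refine ⟨Y, ?_, hYY, ?_⟩
    · -- generalized character
      apply isGenChar_sum
      intro α hα
      obtain ⟨k, hk⟩ := IsGeneralizedCharacter.inner_int (hS.isometry.2.2.2 _ m12)
        (hS.virtual χ₁ hχ₁ α hα)
      rw [hk]
      exact isGenChar_intCast_smul k (hS.virtual χ₁ hχ₁ α hα)
    · intro ξ hξ
      by_cases h1 : ξ = χ₁
      · subst h1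
        rw [sub_self, coh_tau_zero hS, classInner_zero_right, zero_add]
      have h0 : classInner χ₁ ξ = 0 := hS.orthogonal χ₁ hχ₁ ξ hξ (fun h => h1 h.symm)
      rw [h0, add_zero]
      by_cases h2 : ξ = conjFun χ₁
      · subst h2
        -- ⟨Y, Σ_{R χ₁}⟩ = ⟨X₂, Σ⟩ = n₁
        rw [hS.sum_eq χ₁ hχ₁]
        have e1 : classInner Y (∑ β ∈ R χ₁, β) = classInner X₂ (∑ β ∈ R χ₁, β) := by
          rw [classInner_sum_right, classInner_sum_right]
          apply Finset.sum_congr rfl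
          intro β hβ
          rw [← classInner_conj_symm, hαY β hβ, Complex.conj_conj]
        rw [e1, ← hS.sum_eq χ₁ hχ₁, hX₂, hS.isometry.2.2.1 _ m12 _ (coh_sub_conj_mem hS hχ₁),
          classInner_sub_left, classInner_sub_right, classInner_sub_right,
          coh_orth_conj hS hχ₁, hS.orthogonal χ₂ hχ₂ χ₁ hχ₁ hne,
          hS.orthogonal χ₂ hχ₂ _ hχ₁c hne']
        ring
      · -- ξ ∉ {χ₁, conj χ₁}
        have hd2ξ : χ₂ 1 = ξ 1 := hdeg χ₂ hχ₂ ξ hξ
        have m2ξ : χ₂ - ξ ∈ zspanOn S {1}ᶜ := coh_sub_mem hS hχ₂ hξ hd2ξ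
        have hsplit : τ (χ₁ - ξ) = X₂ + τ (χ₂ - ξ) := by
          rw [hX₂, ← hS.isometry.1 _ m12 _ m2ξ]
          congr 1
          abel
        rw [hsplit, classInner_add_right, hYX]
        have hz : classInner Y (τ (χ₂ - ξ)) = 0 := by
          rw [← classInner_conj_symm]
          have : classInner (τ (χ₂ - ξ)) Y = 0 := by
            by_cases h3 : ξ = χ₂
            · subst h3
              rw [sub_self, coh_tau_zero hS, classInner_zero_left]
            by_cases h4 : ξ = conjFun χ₂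
            · subst h4
              rw [hS.sum_eq χ₂ hχ₂, classInner_sum_left]
              apply Finset.sum_eq_zero
              intro β hβ
              exact hperp χ₂ hχ₂ hne hne' β hβ
            · exact coh_pair_orth hS hχ₂ hξ h3 h4 hd2ξ Y (hperp χ₂ hχ₂ hne hne')
                (hperp ξ hξ h1 h2)
          rw [this, map_zero]
        rw [hz, add_zero]
  · -- Case A
    have hA : ∀ ξ ∈ S, ξ = χ₁ ∨ ξ = conjFun χ₁ := by
      intro ξ hξ
      by_contra h
      apply hB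
      exact ⟨ξ, hξ, fun h1 => h (Or.inl h1), fun h2 => h (Or.inr h2)⟩
    have hcard : (R χ₁).card = 2 * n₁ := by
      have := coh_card_R hS hχ₁
      rw [hn₁] at this
      exact_mod_cast this
    obtain ⟨R', hR'sub, hR'card⟩ := Finset.exists_subset_card_eq (show n₁ ≤ (R χ₁).card by omega)
    set Y : G → ℂ := ∑ α ∈ R', α with hY
    have hYsum : classInner Y (∑ β ∈ R χ₁, β) = classInner χ₁ χ₁ := by
      rw [hY, classInner_sum_sum_of_subset (R χ₁) R' (hS.orthonormal χ₁ hχ₁) hR'sub, hR'card, hn₁]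
    have hYY : classInner Y Y = classInner χ₁ χ₁ := by
      have hon' : ∀ α ∈ R', ∀ β ∈ R', classInner α β = if α = β then 1 else 0 :=
        fun α hα β hβ => hS.orthonormal χ₁ hχ₁ α (hR'sub hα) β (hR'sub hβ)
      rw [hY, classInner_sum_sum_of_subset R' R' hon' (Finset.Subset.refl _), hR'card, hn₁]
    refine ⟨Y, ?_, hYY, ?_⟩
    · apply isGenChar_sum
      intro α hα
      exact hS.virtual χ₁ hχ₁ α (hR'sub hα)
    · intro ξ hξ
      rcases hA ξ hξ with rfl | rfl
      · rw [sub_self, coh_tau_zero hS, classInner_zero_right, zero_add]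
      · rw [hS.sum_eq χ₁ hχ₁, hYsum, coh_orth_conj hS hχ₁, add_zero]

end Anchor

section Main

variable {L : Type*} [Group L] [Fintype L] {G : Type*} [Group G] [Fintype G]
variable {S : Set (L → ℂ)} {τ : (L → ℂ) → (G → ℂ)} {R : (L → ℂ) → Finset (G → ℂ)}

/-- Elements of `zspanOn S {1}ᶜ` are integer combinations of the differences `ξ - χ₁`. -/
theorem coh_zspanOn_le_span_diff (hS : IsCoherenceSystem S τ R)
    (hdeg : ∀ φ ∈ S, ∀ ψ ∈ S, φ 1 = ψ 1) {χ₁ : L → ℂ} (hχ₁ : χ₁ ∈ S) {α : L → ℂ}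
    (hα : α ∈ zspanOn S {1}ᶜ) :
    α ∈ Submodule.span ℤ {δ : L → ℂ | ∃ ξ ∈ S, δ = ξ - χ₁} := by
  set D : Set (L → ℂ) := {δ : L → ℂ | ∃ ξ ∈ S, δ = ξ - χ₁} with hD
  have h1 : ∀ β ∈ Submodule.span ℤ S, ∃ m : ℤ, β - m • χ₁ ∈ Submodule.span ℤ D := by
    intro β hβ
    induction hβ using Submodule.span_induction with
    | mem x hx =>
      refine ⟨1, ?_⟩
      rw [one_smul]
      exact Submodule.subset_span ⟨x, hx, rfl⟩
    | zero => exact ⟨0, by simp⟩
    | add x y _ _ hx hy =>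
      obtain ⟨m₁, h₁⟩ := hx
      obtain ⟨m₂, h₂⟩ := hy
      refine ⟨m₁ + m₂, ?_⟩
      have : x + y - (m₁ + m₂) • χ₁ = (x - m₁ • χ₁) + (y - m₂ • χ₁) := by
        rw [add_smul]; abel
      rw [this]
      exact Submodule.add_mem _ h₁ h₂
    | smul a x _ hx =>
      obtain ⟨m, h⟩ := hx
      refine ⟨a * m, ?_⟩
      have : a • x - (a * m) • χ₁ = a • (x - m • χ₁) := by
        rw [smul_sub, mul_smul]
      rw [this]
      exact Submodule.smul_mem _ a h
  have h2 : ∀ β ∈ Submodule.span ℤ D, β 1 = 0 := by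
    intro β hβ
    induction hβ using Submodule.span_induction with
    | mem x hx =>
      obtain ⟨ξ, hξ, rfl⟩ := hx
      rw [Pi.sub_apply, hdeg ξ hξ χ₁ hχ₁, sub_self]
    | zero => rfl
    | add x y _ _ hx hy => rw [Pi.add_apply, hx, hy, add_zero]
    | smul a x _ hx => rw [Pi.smul_apply, hx, smul_zero]
  obtain ⟨m, hm⟩ := h1 α hα.1
  have h3 := h2 _ hm
  have hα1 : α 1 = 0 := hα.2 1 (by simp)
  rw [Pi.sub_apply, hα1, zero_sub, Pi.smul_apply, neg_eq_zero] at h3
  obtain ⟨d, hdpos, hd⟩ := coh_norm_nat hS hχ₁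
  have hχ1 : χ₁ 1 ≠ 0 := by
    intro h0
    obtain ⟨k, hk⟩ := IsCharacter.apply_one (hS.isCharacter χ₁ hχ₁)
    -- a character of degree 0 is zero
    obtain ⟨n, ρ, hρ⟩ := hS.isCharacter χ₁ hχ₁
    have hfin : Module.finrank ℂ (Fin n → ℂ) = 0 := by
      have : ρ.character 1 = (Module.finrank ℂ (Fin n → ℂ) : ℂ) := Representation.char_one ρ
      rw [hρ, h0] at this
      exact_mod_cast this.symm
    have hn : n = 0 := by simpa using hfin
    subst hn
    apply coh_ne_zero hS hχ₁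
    rw [← hρ]
    ext g
    have : ρ g = 0 := LinearMap.ext fun v => Subsingleton.elim _ _
    simp [Representation.character, this]
  have hm0 : m = 0 := by
    have : (m : ℂ) * χ₁ 1 = 0 := by simpa using h3
    rcases mul_eq_zero.1 this with h | h
    · exact_mod_cast h
    · exact absurd h hχ1
  rw [hm0, zero_smul, sub_zero] at hm
  exact hm

/-- (Peterfalvi 5.6) A coherence system all of whose characters have the same degree is
coherent. -/
theorem coherent_of_uniform_degree (hS : IsCoherenceSystem S τ R)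
    (hdeg : ∀ φ ∈ S, ∀ ψ ∈ S, φ 1 = ψ 1) : IsCoherent S {1}ᶜ τ := by
  classical
  obtain ⟨χ₁, hχ₁⟩ := hS.nonempty
  obtain ⟨Y, hYgen, hYY, hK⟩ := coh_exists_anchor hS hdeg hχ₁
  obtain ⟨n₁, hn₁pos, hn₁⟩ := coh_norm_nat hS hχ₁
  have hfin := coh_finite hS
  set Sf := hfin.toFinset with hSfdef
  have hSf : ∀ ξ, ξ ∈ Sf ↔ ξ ∈ S := fun ξ => hfin.mem_toFinset
  set T : (L → ℂ) → (G → ℂ) := fun ξ => Y - τ (χ₁ - ξ) with hT
  set τ₁ : (L → ℂ) → (G → ℂ) :=
    fun f => ∑ ξ ∈ Sf, (classInner f ξ / classInner ξ ξ) • T ξ with hτ₁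
  have hadd : ∀ f g : L → ℂ, τ₁ (f + g) = τ₁ f + τ₁ g := by
    intro f g
    simp only [hτ₁]
    rw [← Finset.sum_add_distrib]
    apply Finset.sum_congr rfl
    intro ξ _
    rw [classInner_add_left, add_div, add_smul]
  have hsmul : ∀ (n : ℤ) (f : L → ℂ), τ₁ (n • f) = n • τ₁ f := by
    intro n f
    simp only [hτ₁]
    rw [Finset.smul_sum]
    apply Finset.sum_congr rfl
    intro ξ _
    have : (n • f : L → ℂ) = (n : ℂ) • f := by ext x; simp
    rw [this, classInner_smul_left, mul_div_assoc, mul_smul]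
    ext g; simp
  have hτ₁S : ∀ ξ ∈ S, τ₁ ξ = T ξ := by
    intro ξ hξ
    simp only [hτ₁]
    rw [Finset.sum_eq_single ξ]
    · obtain ⟨n, hnpos, hn⟩ := coh_norm_nat hS hξ
      have : classInner ξ ξ ≠ 0 := by rw [hn]; exact_mod_cast hnpos.ne'
      rw [div_self this, one_smul]
    · intro ξ' hξ' hne
      rw [hS.orthogonal ξ hξ ξ' ((hSf ξ').1 hξ') (fun h => hne h.symm), zero_div, zero_smul]
    · intro h; exact absurd ((hSf ξ).2 hξ) h
  have hmem : ∀ ξ ∈ S, χ₁ - ξ ∈ zspanOn S {1}ᶜ :=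
    fun ξ hξ => coh_sub_mem hS hχ₁ hξ (hdeg χ₁ hχ₁ ξ hξ)
  have hgram : ∀ ξ ∈ S, ∀ ξ' ∈ S, classInner (T ξ) (T ξ') = classInner ξ ξ' := by
    intro ξ hξ ξ' hξ'
    simp only [hT]
    have e1 : classInner Y (τ (χ₁ - ξ')) = classInner χ₁ χ₁ - classInner χ₁ ξ' := by
      rw [← hK ξ' hξ']; ring
    have e2 : classInner (τ (χ₁ - ξ)) Y = classInner χ₁ χ₁ - classInner ξ χ₁ := by
      have : classInner Y (τ (χ₁ - ξ)) = classInner χ₁ χ₁ - classInner χ₁ ξ := by
        rw [← hK ξ hξ]; ring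
      rw [← classInner_conj_symm, this, map_sub, classInner_conj_symm χ₁ ξ,
        classInner_conj_symm χ₁ χ₁]
    rw [classInner_sub_left, classInner_sub_right, classInner_sub_right, hYY, e1, e2,
      hS.isometry.2.2.1 _ (hmem ξ hξ) _ (hmem ξ' hξ'), classInner_sub_left, classInner_sub_right,
      classInner_sub_right]
    ring
  have hTgen : ∀ ξ ∈ S, IsGeneralizedCharacter G (T ξ) := fun ξ hξ =>
    isGenChar_sub hYgen (hS.isometry.2.2.2 _ (hmem ξ hξ))
  have hτ₁zero : τ₁ 0 = 0 := by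
    have := hsmul 0 0
    simpa using this
  -- generalized characters
  have hgen : ∀ f ∈ zspan S, IsGeneralizedCharacter G (τ₁ f) := by
    intro f hf
    induction hf using Submodule.span_induction with
    | mem x hx => rw [hτ₁S x hx]; exact hTgen x hx
    | zero => rw [hτ₁zero]; exact isGenChar_zero
    | add x y _ _ hx hy => rw [hadd]; exact isGenChar_add hx hy
    | smul a x _ hx => rw [hsmul]; exact isGenChar_zsmul a hx
  -- isometry
  have hiso1 : ∀ ξ ∈ S, ∀ g ∈ zspan S, classInner (τ₁ ξ) (τ₁ g) = classInner ξ g := by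
    intro ξ hξ g hg
    induction hg using Submodule.span_induction with
    | mem x hx => rw [hτ₁S ξ hξ, hτ₁S x hx, hgram ξ hξ x hx]
    | zero => rw [hτ₁zero, classInner_zero_right, classInner_zero_right]
    | add x y _ _ hx hy => rw [hadd, classInner_add_right, classInner_add_right, hx, hy]
    | smul a x _ hx =>
      have e1 : (a • x : L → ℂ) = (a : ℂ) • x := by ext z; simp
      have e2 : (a • τ₁ x : G → ℂ) = (a : ℂ) • τ₁ x := by ext z; simp
      rw [hsmul, e1, e2, classInner_smul_right, classInner_smul_right, hx]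
  have hiso : ∀ f ∈ zspan S, ∀ g ∈ zspan S, classInner (τ₁ f) (τ₁ g) = classInner f g := by
    intro f hf g hg
    induction hf using Submodule.span_induction with
    | mem x hx => exact hiso1 x hx g hg
    | zero => rw [hτ₁zero, classInner_zero_left, classInner_zero_left]
    | add x y _ _ hx hy => rw [hadd, classInner_add_left, classInner_add_left, hx, hy]
    | smul a x _ hx =>
      have e1 : (a • x : L → ℂ) = (a : ℂ) • x := by ext z; simp
      have e2 : (a • τ₁ x : G → ℂ) = (a : ℂ) • τ₁ x := by ext z; simp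
      rw [hsmul, e1, e2, classInner_smul_left, classInner_smul_left, hx]
  -- agreement with τ
  have hagree : ∀ α ∈ zspanOn S {1}ᶜ, τ₁ α = τ α := by
    intro α hα
    have hspan := coh_zspanOn_le_span_diff hS hdeg hχ₁ hα
    have key : ∀ β ∈ Submodule.span ℤ {δ : L → ℂ | ∃ ξ ∈ S, δ = ξ - χ₁},
        β ∈ zspanOn S {1}ᶜ ∧ τ₁ β = τ β := by
      intro β hβ
      induction hβ using Submodule.span_induction with
      | mem x hx =>
        obtain ⟨ξ, hξ, rfl⟩ := hx
        have hm' : ξ - χ₁ ∈ zspanOn S {1}ᶜ := coh_sub_mem hS hξ hχ₁ (hdeg ξ hξ χ₁ hχ₁)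
        refine ⟨hm', ?_⟩
        have e1 : τ₁ (ξ - χ₁) = τ₁ ξ - τ₁ χ₁ := by
          have := hadd (ξ - χ₁) χ₁
          rw [sub_add_cancel] at this
          rw [this]; abel
        rw [e1, hτ₁S ξ hξ, hτ₁S χ₁ hχ₁]
        simp only [hT]
        rw [sub_self, coh_tau_zero hS, ← neg_sub ξ χ₁, coh_tau_neg hS hm']
        abel
      | zero =>
        exact ⟨(zspanOnSubmodule S {1}ᶜ).zero_mem, by rw [hτ₁zero, coh_tau_zero hS]⟩
      | add x y _ _ hx hy =>
        refine ⟨(zspanOnSubmodule S {1}ᶜ).add_mem hx.1 hy.1, ?_⟩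
        rw [hadd, hx.2, hy.2, hS.isometry.1 x hx.1 y hy.1]
      | smul a x _ hx =>
        refine ⟨(zspanOnSubmodule S {1}ᶜ).smul_mem a hx.1, ?_⟩
        rw [hsmul, hx.2, hS.isometry.2.1 x hx.1 a]
    exact (key α hspan).2
  refine ⟨⟨χ₁ - conjFun χ₁, coh_sub_conj_mem hS hχ₁, ?_⟩, τ₁, ⟨?_, ?_, hiso, hgen⟩, hagree⟩
  · intro h
    exact hS.conj_ne χ₁ hχ₁ (sub_eq_zero.1 h).symm
  · intro α _ β _
    exact hadd α β
  · intro α _ n
    exact hsmul n α

end Main

end Cfsg.Agent.Lib.Helper11
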