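import Cfsg.Agent.Lib.Helper11.IndIrr2

/-!
Peterfalvi (6.4) set-up: `K ⊴ L`, `⁅K, K⁆ ≤ H₁ ≤ K`, and `L/H₁` a Frobenius group with kernel
`K/H₁` (elements of `K ∖ H₁` are centralized modulo `H₁` only from inside `K`).
Nonprincipal linear characters of `K/H₁` have inertia group `K`, and `[L:K]` divides `[K:A] - 1`
for every `A ⊴ L` with `H₁ ≤ A ≤ K`.
-/

set_option autoImplicit false

namespace Cfsg.Agent.Lib.Helper11

open Cfsg
open Cfsg.Agent.Lib.Helper2
open scoped ComplexConjugate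

section FrobQuot
open Classical

variable {L : Type*} [Group L] [Fintype L] (K : Subgroup L) [hK : K.Normal]

omit [Fintype L] in
/-- A nontrivial linear character of `K` trivial on `H₁` is moved by every `x ∉ K`. -/
theorem conjFn_ne_of_frob [Finite L] (H₁ : Subgroup L) [hH₁ : H₁.Normal]
    (hfrob : ∀ k ∈ K, k ∉ H₁ → ∀ x : L, x * k * x⁻¹ * k⁻¹ ∈ H₁ → x ∈ K)
    (φ : K →* ℂˣ) (hφ1 : ∃ t, φ t ≠ 1) (hφH : ∀ a : K, (a : L) ∈ H₁ → φ a = 1)
    {x : L} (hx : x ∉ K) :
    conjFn K x (fun k => (φ k : ℂ)) ≠ (fun k => (φ k : ℂ)) := by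
  intro heq
  have hinv : ∀ k : K, φ ⟨x * k * x⁻¹, hK.conj_mem k k.2 x⟩ = φ k := by
    intro k
    have := congrFun heq k
    rw [conjFn_apply] at this
    exact Units.ext this
  set A : Subgroup K := H₁.subgroupOf K with hA
  set B : Subgroup K := φ.ker with hB
  have hAB : A ≤ B := by
    intro a ha
    rw [hB, MonoidHom.mem_ker]
    exact hφH a (Subgroup.mem_subgroupOf.1 ha)
  have hBtop : B ≠ ⊤ := by
    intro h
    obtain ⟨t, ht⟩ := hφ1
    apply ht
    have : t ∈ B := by rw [h]; exact Subgroup.mem_top t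
    exact MonoidHom.mem_ker.1 this
  -- the commutator map
  let c : K → K := fun k => (⟨x * k * x⁻¹, hK.conj_mem k k.2 x⟩ : K) * k⁻¹
  have hcB : ∀ k : K, c k ∈ B := by
    intro k
    rw [hB, MonoidHom.mem_ker]
    change φ ((⟨x * k * x⁻¹, hK.conj_mem k k.2 x⟩ : K) * k⁻¹) = 1
    rw [map_mul, hinv, map_inv, mul_inv_cancel]
  have key : ∀ k₁ k₂ : K, (c k₁)⁻¹ * c k₂ ∈ A → k₁⁻¹ * k₂ ∈ A := by
    intro k₁ k₂ h
    rw [hA, Subgroup.mem_subgroupOf] at h ⊢
    by_contra hu
    apply hx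
    have hu' : ((k₁⁻¹ * k₂ : K) : L) ∈ K := (k₁⁻¹ * k₂).2
    apply hfrob _ hu' hu x
    have e : (((c k₁)⁻¹ * c k₂ : K) : L)
        = (k₁ : L) * (x * ((k₁⁻¹ * k₂ : K) : L) * x⁻¹ * ((k₁⁻¹ * k₂ : K) : L)⁻¹) * (k₁ : L)⁻¹ := by
      simp only [c, Subgroup.coe_mul, Subgroup.coe_inv]
      group
    rw [e] at h
    have := hH₁.conj_mem _ h (k₁ : L)⁻¹
    simpa [mul_assoc] using this
  -- the injection of coset spaces
  let ι : K ⧸ A → B ⧸ A.subgroupOf B := fun q =>
    QuotientGroup.mk (⟨c q.out, hcB _⟩ : B)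
  have hι : Function.Injective ι := by
    intro q₁ q₂ h
    have h1 : (⟨c q₁.out, hcB _⟩ : B)⁻¹ * (⟨c q₂.out, hcB _⟩ : B) ∈ A.subgroupOf B :=
      QuotientGroup.eq.1 h
    rw [Subgroup.mem_subgroupOf] at h1
    have h2 := key q₁.out q₂.out (by simpa using h1)
    have h3 : (QuotientGroup.mk q₁.out : K ⧸ A) = QuotientGroup.mk q₂.out :=
      QuotientGroup.eq.2 h2
    rwa [QuotientGroup.out_eq', QuotientGroup.out_eq'] at h3
  have hle : A.index ≤ A.relIndex B := by
    rw [Subgroup.relIndex, Subgroup.index, Subgroup.index]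
    exact Nat.card_le_card_of_injective ι hι
  have hmul : A.relIndex B * B.index = A.index := Subgroup.relIndex_mul_index hAB
  have hB1 : B.index ≠ 1 := fun h => hBtop (Subgroup.index_eq_one.1 h)
  have hB0 : B.index ≠ 0 := Subgroup.index_ne_zero_of_finite
  have hA0 : A.index ≠ 0 := Subgroup.index_ne_zero_of_finite
  have hB2 : 2 ≤ B.index := by omega
  have hrel0 : A.relIndex B ≠ 0 := by
    intro h
    rw [h, zero_mul] at hmul
    exact hA0 hmul.symm
  have hpos : 0 < A.relIndex B := Nat.pos_of_ne_zero hrel0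
  have h2 : A.relIndex B * 2 ≤ A.relIndex B * B.index := Nat.mul_le_mul_left _ hB2
  omega

omit hK in
/-- `1 + ∑_{θ ∈ Irr(K/A), θ ≠ 1} θ(1)² = [K:A]`. -/
theorem one_add_sum_irrDeg_sq [Fintype (IrrCharacter K)] (A : Subgroup L) [hA : A.Normal] :
    1 + ∑ θ ∈ irrAboveFinset K A, irrDeg θ ^ 2 = A.relIndex K := by
  have hfilter : Finset.univ.filter (fun χ : IrrCharacter K =>
      ∀ x ∈ A.subgroupOf K, (χ : K → ℂ) x = (χ : K → ℂ) 1)
      = insert (trivialIrr K) (irrAboveFinset K A) := by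
    ext θ
    rw [Finset.mem_filter, Finset.mem_insert, mem_irrAboveFinset]
    constructor
    · rintro ⟨_, h⟩
      by_cases h1 : θ = trivialIrr K
      · left; exact h1
      · right
        exact ⟨fun h2 => h1 (Subtype.ext h2), fun a ha => h a (Subgroup.mem_subgroupOf.2 ha)⟩
    · rintro (h | h)
      · rw [h]; exact ⟨Finset.mem_univ _, fun _ _ => rfl⟩
      · exact ⟨Finset.mem_univ _, fun a ha => h.2 a (Subgroup.mem_subgroupOf.1 ha)⟩
  have hnotin : trivialIrr K ∉ irrAboveFinset K A := by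
    rw [mem_irrAboveFinset]; intro h; exact h.1 rfl
  have h1 := sum_degree_sq_of_ker (K' := K) (A.subgroupOf K)
  rw [hfilter, Finset.sum_insert hnotin] at h1
  have h2 : ((trivialIrr K : IrrCharacter K) : K → ℂ) 1 ^ 2 = 1 := by
    change (1 : ℂ) ^ 2 = 1
    rw [one_pow]
  rw [h2, Finset.sum_congr rfl (fun θ _ => by rw [irrDeg_spec])] at h1
  have h3 : Nat.card (A.subgroupOf K) * (1 + ∑ θ ∈ irrAboveFinset K A, irrDeg θ ^ 2)
      = Nat.card K := by
    exact_mod_cast h1
  have h4 : (A.subgroupOf K).index * Nat.card (A.subgroupOf K) = Nat.card K :=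
    Subgroup.index_mul_card _
  have hpos : 0 < Nat.card (A.subgroupOf K) := Nat.card_pos
  rw [Subgroup.relIndex]
  apply Nat.eq_of_mul_eq_mul_left hpos
  rw [h3, ← h4, mul_comm]

/-- In the Frobenius-quotient set-up, `[L:K]` divides `[K:A] - 1` for `A ⊴ L`,
`H₁ ≤ A ≤ K`. -/
theorem index_dvd_relIndex_sub_one (H₁ : Subgroup L) [hH₁ : H₁.Normal] (hcomm : ⁅K, K⁆ ≤ H₁)
    (hfrob : ∀ k ∈ K, k ∉ H₁ → ∀ x : L, x * k * x⁻¹ * k⁻¹ ∈ H₁ → x ∈ K)
    (A : Subgroup L) [hA : A.Normal] (hH₁A : H₁ ≤ A) :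
    K.index ∣ A.relIndex K - 1 := by
  haveI : Fintype (IrrCharacter K) := Fintype.ofFinite _
  have hdeg : ∀ θ ∈ irrAboveFinset K A, irrDeg θ = 1 := by
    intro θ hθ
    rw [mem_irrAboveFinset] at hθ
    exact irrDeg_eq_one_of_commutator_le K A (hcomm.trans hH₁A) θ hθ.2
  have hcount : (irrAboveFinset K A).card = A.relIndex K - 1 := by
    have h := one_add_sum_irrDeg_sq K A
    rw [Finset.sum_congr rfl (fun θ hθ => by rw [hdeg θ hθ, one_pow]), Finset.sum_const,
      smul_eq_mul, mul_one] at h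
    omega
  -- norms
  have hnorm : ∀ θ ∈ irrAboveFinset K A,
      classInner (indFun K (θ : K → ℂ)) (indFun K (θ : K → ℂ)) = 1 := by
    intro θ hθ
    have hθ' := (mem_irrAboveFinset K A θ).1 hθ
    have h1 : (θ : K → ℂ) 1 = 1 := by
      rw [irrDeg_spec, hdeg θ hθ]; simp
    obtain ⟨φ, hφ⟩ := exists_monoidHom_of_isIrrCharacter_of_apply_one θ.2 h1
    have hφ1 : ∃ t, φ t ≠ 1 := by
      by_contra hcon
      push Not at hcon
      apply hθ'.1
      rw [hφ]
      funext k
      rw [hcon k]; rfl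
    have hφH : ∀ a : K, (a : L) ∈ H₁ → φ a = 1 := by
      intro a ha
      have h2 := hθ'.2 a (hH₁A ha)
      rw [h1, hφ] at h2
      exact Units.ext h2
    have hfilt : Finset.univ.filter (fun g : L => conjFn K g (θ : K → ℂ) = (θ : K → ℂ))
        = Finset.univ.filter (fun g : L => g ∈ K) := by
      ext g
      simp only [Finset.mem_filter, Finset.mem_univ, true_and]
      constructor
      · intro h
        by_contra hg
        have := conjFn_ne_of_frob K H₁ hfrob φ hφ1 hφH hg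
        rw [← hφ] at this
        exact this h
      · intro hg
        exact conjFn_of_mem K (IrrCharacter.isClassFunction θ) hg
    have h3 := card_mul_classInner_indFun_irr K θ.2 θ.2
    rw [hfilt] at h3
    have h4 : (Finset.univ.filter (fun g : L => g ∈ K)).card = Nat.card K := by
      rw [Nat.card_eq_fintype_card, Fintype.card_subtype]
    rw [h4] at h3
    have hK0 : (Nat.card K : ℂ) ≠ 0 := card_subgroup_ne_zero K
    apply mul_left_cancel₀ hK0
    rw [h3, mul_one]
  -- fibers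
  have hfib : ∀ θ ∈ irrAboveFinset K A, ((irrAboveFinset K A).filter
      (fun θ' : IrrCharacter K => indFun K (θ' : K → ℂ) = indFun K (θ : K → ℂ))).card
      = K.index := by
    intro θ hθ
    have h1 : (irrAboveFinset K A).filter
        (fun θ' : IrrCharacter K => indFun K (θ' : K → ℂ) = indFun K (θ : K → ℂ))
        = Finset.univ.filter
          (fun θ' : IrrCharacter K => indFun K (θ' : K → ℂ) = indFun K (θ : K → ℂ)) := by
      ext θ'
      simp only [Finset.mem_filter, Finset.mem_univ, true_and]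
      exact ⟨fun h => h.2, fun h => ⟨(mem_irrAboveFinset_of_indFun_eq K A hθ h).1, h⟩⟩
    rw [h1]
    have h2 := card_fiber_indFun K θ
    rw [hnorm θ hθ, mul_one] at h2
    exact_mod_cast h2
  rw [← hcount, Finset.card_eq_sum_card_image (fun θ : IrrCharacter K => indFun K (θ : K → ℂ))]
  apply Finset.dvd_sum
  intro b hb
  obtain ⟨θ, hθ, rfl⟩ := Finset.mem_image.1 hb
  rw [hfib θ hθ]

end FrobQuot

end Cfsg.Agent.Lib.Helper11
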