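import Mathlib

/-!
Nilpotent sections `H/M` inside a group `L`: the lower central series of `H` reaches `M`, and a
subgroup `H₁ ≤ H` with `H₁ ≤ M ⊔ ⁅H₁, H⁆` lies in `M`.
-/

set_option autoImplicit false

namespace Cfsg.Agent.Lib.Helper11

section NilSection

variable {L : Type*} [Group L]

/-- If `H/(M ∩ H)` is nilpotent, some term of the lower central series of `H` lies in `M`. -/
theorem exists_lowerCentralSeries_le_of_nilpotent_quotient (H M : Subgroup L)
    [(M.subgroupOf H).Normal] (hnil : Group.IsNilpotent (↥H ⧸ M.subgroupOf H)) :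
    ∃ n, H.lowerCentralSeries n ≤ M := by
  obtain ⟨n, hn⟩ := Subgroup.nilpotent_iff_lowerCentralSeries.1 hnil
  refine ⟨n, ?_⟩
  have h1 : ((⊤ : Subgroup H).lowerCentralSeries n).map (QuotientGroup.mk' (M.subgroupOf H)) = ⊥ := by
    rw [Subgroup.map_lowerCentralSeries,
      Subgroup.map_top_of_surjective _ (QuotientGroup.mk'_surjective _), hn]
  rw [Subgroup.map_eq_bot_iff, QuotientGroup.ker_mk'] at h1
  rw [← Subgroup.top_subtype_lowerCentralSeries]
  intro x hx
  obtain ⟨y, hy, rfl⟩ := Subgroup.mem_map.1 hx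
  exact Subgroup.mem_subgroupOf.1 (h1 hy)

/-- If `H₁ ≤ H`, the lower central series of `H` reaches the normal subgroup `M`, and
`H₁ ≤ M ⊔ ⁅H₁, H⁆`, then `H₁ ≤ M`. -/
theorem le_of_le_sup_commutator (M H₁ H : Subgroup L) [M.Normal] (hH₁H : H₁ ≤ H) (n : ℕ)
    (hn : H.lowerCentralSeries n ≤ M) (h : H₁ ≤ M ⊔ ⁅H₁, H⁆) : H₁ ≤ M := by
  set π := QuotientGroup.mk' M with hπ
  have hA : H₁.map π ≤ ⁅H₁.map π, H.map π⁆ := by
    calc H₁.map π ≤ (M ⊔ ⁅H₁, H⁆).map π := Subgroup.map_mono h
      _ = ⁅H₁.map π, H.map π⁆ := by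
        rw [Subgroup.map_sup, Subgroup.map_commutator, hπ, QuotientGroup.map_mk'_self, bot_sup_eq]
  have hk : ∀ k, H₁.map π ≤ (H.map π).lowerCentralSeries k := by
    intro k
    induction k with
    | zero => exact Subgroup.map_mono hH₁H
    | succ k ih =>
      rw [Subgroup.lowerCentralSeries_succ]
      exact hA.trans (Subgroup.commutator_mono ih le_rfl)
  have h2 : (H.map π).lowerCentralSeries n = ⊥ := by
    rw [← Subgroup.map_lowerCentralSeries, Subgroup.map_eq_bot_iff, hπ, QuotientGroup.ker_mk']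
    exact hn
  have h3 : H₁.map π = ⊥ := by
    rw [eq_bot_iff, ← h2]
    exact hk n
  rw [Subgroup.map_eq_bot_iff, hπ, QuotientGroup.ker_mk'] at h3
  exact h3

end NilSection

end Cfsg.Agent.Lib.Helper11
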