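import Cfsg.Agent.Lib.Helper11.IndIrr
import Cfsg.Agent.Lib.Helper11.NilSection

/-!
Nilpotent quotients `K/M`: linear characters of prime-power order, the primes dividing `[K:M]`
divide `[K : ⁅K,K⁆ M]`, cyclic abelianization forces `⁅K,K⁆ ≤ M`, and intermediate normal
subgroups when `[K:H₁]` is not a prime power.
-/

set_option autoImplicit false

namespace Cfsg.Agent.Lib.Helper11

open Cfsg
open scoped commutatorElement

section NilLinear

/-- A finite nilpotent group of order divisible by the prime `q` has a nontrivial linear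
character of `q`-power order. -/
theorem exists_linear_prime_pow_of_nilpotent {Q : Type*} [Group Q] [Finite Q]
    [hnil : Group.IsNilpotent Q] (q : ℕ) [hq : Fact q.Prime] (hdvd : q ∣ Nat.card Q) :
    ∃ ψ : Q →* ℂˣ, (∃ t, ψ t ≠ 1) ∧ ∃ b : ℕ, ∀ g, ψ g ^ (q ^ b) = 1 := by
  classical
  obtain ⟨e⟩ := ((Group.isNilpotent_of_finite_tfae (G := Q)).out 0 4).1 hnil
  have hqmem : q ∈ (Nat.card Q).primeFactors :=
    Nat.mem_primeFactors.2 ⟨hq.out, hdvd, Nat.card_pos.ne'⟩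
  obtain ⟨S⟩ := (inferInstance : Nonempty (Sylow q Q))
  let f : Q →* (S : Subgroup Q) :=
    (Pi.evalMonoidHom (fun P : Sylow q Q => ((P : Subgroup Q) : Type _)) S).comp
      ((Pi.evalMonoidHom (fun p : (Nat.card Q).primeFactors =>
        ∀ P : Sylow p Q, ((P : Subgroup Q) : Type _)) ⟨q, hqmem⟩).comp e.symm.toMonoidHom)
  have hf : Function.Surjective f := by
    intro s
    refine ⟨e (Pi.mulSingle (⟨q, hqmem⟩ : (Nat.card Q).primeFactors)
      (Pi.mulSingle S s)), ?_⟩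
    simp [f]
  have hSne : (S : Subgroup Q) ≠ ⊥ := S.ne_bot_of_dvd_card hdvd
  haveI : Group.IsNilpotent (S : Subgroup Q) := S.isPGroup'.isNilpotent
  have hbot : (⊥ : Subgroup (S : Subgroup Q)) ≠ ⊤ := by
    intro h
    apply hSne
    rw [Subgroup.eq_bot_iff_forall]
    intro x hx
    have : (⟨x, hx⟩ : (S : Subgroup Q)) ∈ (⊥ : Subgroup (S : Subgroup Q)) := by
      rw [h]; exact Subgroup.mem_top _
    exact congrArg Subtype.val (Subgroup.mem_bot.1 this)
  obtain ⟨φ, -, t, ht⟩ := exists_linear_trivialOn_of_solvable (⊥ : Subgroup (S : Subgroup Q)) hbot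
  obtain ⟨b, hb⟩ := S.isPGroup'.exists_card_eq
  refine ⟨φ.comp f, ?_, b, ?_⟩
  · obtain ⟨x, rfl⟩ := hf t
    exact ⟨x, ht⟩
  · intro g
    rw [MonoidHom.comp_apply, ← map_pow, ← hb, pow_card_eq_one', map_one]

end NilLinear

section NilQuot

variable {L : Type*} [Group L] [Finite L]

/-- If `K/M` is nilpotent and `[K : ⁅K,K⁆ M]` is a power of the prime `p`, so is `[K:M]`. -/
theorem relIndex_prime_pow_of_nilpotent (K M : Subgroup L) [hK : K.Normal] [hM : M.Normal]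
    (hMK : M ≤ K)
    [(M.subgroupOf K).Normal] (hnil : Group.IsNilpotent (↥K ⧸ M.subgroupOf K)) (p : ℕ)
    (hp : p.Prime) (j : ℕ) (hj : (⁅K, K⁆ ⊔ M).relIndex K = p ^ j) :
    ∃ m, M.relIndex K = p ^ m := by
  by_contra hcon
  push Not at hcon
  have hn0 : M.relIndex K ≠ 0 :=
    (Subgroup.index_ne_zero_of_finite : (M.subgroupOf K).index ≠ 0)
  have hex : ∃ q : ℕ, q.Prime ∧ q ∣ M.relIndex K ∧ q ≠ p := by
    by_contra h
    push Not at h
    exact hcon _ (Nat.eq_prime_pow_of_unique_prime_dvd hn0 (fun {d} hd hdn => h d hd hdn))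
  obtain ⟨q, hq, hqn, hqp⟩ := hex
  haveI := hnil
  haveI : Fact q.Prime := ⟨hq⟩
  have hcard : Nat.card (↥K ⧸ M.subgroupOf K) = M.relIndex K := rfl
  obtain ⟨ψ, ⟨t, ht⟩, b, hb⟩ := exists_linear_prime_pow_of_nilpotent (Q := ↥K ⧸ M.subgroupOf K) q
    (by rw [hcard]; exact hqn)
  set lam : K →* ℂˣ := ψ.comp (QuotientGroup.mk' (M.subgroupOf K)) with hlam
  -- lam is trivial on ⁅K,K⁆ ⊔ M
  have hker : ⁅K, K⁆ ⊔ M ≤ (lam.ker).map K.subtype := by
    apply sup_le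
    · rw [Subgroup.commutator_le]
      intro a ha c hc
      refine ⟨⁅(⟨a, ha⟩ : K), (⟨c, hc⟩ : K)⁆, ?_, rfl⟩
      rw [SetLike.mem_coe, MonoidHom.mem_ker, map_commutatorElement]
      exact commutatorElement_eq_one_iff_commute.2 (Commute.all _ _)
    · intro m hm
      refine ⟨⟨m, hMK hm⟩, ?_, rfl⟩
      rw [SetLike.mem_coe, MonoidHom.mem_ker, hlam, MonoidHom.comp_apply,
        QuotientGroup.mk'_apply,
        (QuotientGroup.eq_one_iff _).2 (Subgroup.mem_subgroupOf.2 hm), map_one]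
  have hker' : ∀ a : K, (a : L) ∈ ⁅K, K⁆ ⊔ M → lam a = 1 := by
    intro a ha
    obtain ⟨a', ha', heq⟩ := hker ha
    have : a' = a := Subtype.ext heq
    rw [← this]
    exact MonoidHom.mem_ker.1 ha'
  -- lam is trivial
  have htriv : ∀ k : K, lam k = 1 := by
    intro k
    have h1 : lam k ^ (q ^ b) = 1 := hb _
    have h2 : lam k ^ (p ^ j) = 1 := by
      rw [← map_pow]
      apply hker'
      have h3 : ((QuotientGroup.mk k : ↥K ⧸ (⁅K, K⁆ ⊔ M).subgroupOf K)) ^ (p ^ j) = 1 := by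
        have hc : Nat.card (↥K ⧸ (⁅K, K⁆ ⊔ M).subgroupOf K) = p ^ j := hj
        rw [← hc, pow_card_eq_one']
      rw [← QuotientGroup.mk_pow, QuotientGroup.eq_one_iff, Subgroup.mem_subgroupOf] at h3
      exact h3
    have hcop : Nat.Coprime (q ^ b) (p ^ j) :=
      Nat.Coprime.pow _ _ ((Nat.coprime_primes hq hp).2 hqp)
    have h3 : orderOf (lam k) ∣ Nat.gcd (q ^ b) (p ^ j) :=
      Nat.dvd_gcd (orderOf_dvd_of_pow_eq_one h1) (orderOf_dvd_of_pow_eq_one h2)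
    rw [hcop.gcd_eq_one, Nat.dvd_one, orderOf_eq_one_iff] at h3
    exact h3
  obtain ⟨k, rfl⟩ := QuotientGroup.mk_surjective t
  exact ht (htriv k)

omit [Finite L] in
/-- If `K/M` is nilpotent and `[K : ⁅K,K⁆ M]` is a prime, then `⁅K,K⁆ ≤ M`. -/
theorem commutator_le_of_prime_relIndex (K M : Subgroup L) [hK : K.Normal] [hM : M.Normal]
    (hMK : M ≤ K) [(M.subgroupOf K).Normal]
    (hnil : Group.IsNilpotent (↥K ⧸ M.subgroupOf K))
    (hprime : ((⁅K, K⁆ ⊔ M).relIndex K).Prime) : ⁅K, K⁆ ≤ M := by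
  obtain ⟨c, hc⟩ := exists_lowerCentralSeries_le_of_nilpotent_quotient K M hnil
  apply le_of_le_sup_commutator M ⁅K, K⁆ K (Subgroup.commutator_le_left K K) c hc
  set T : Subgroup L := M ⊔ ⁅⁅K, K⁆, K⁆ with hT
  haveI : T.Normal := by rw [hT]; infer_instance
  set π := QuotientGroup.mk' T with hπ
  -- elements of ⁅K,K⁆ ⊔ M are central modulo T
  have hcentral : ⁅K, K⁆ ⊔ M ≤
      (Subgroup.centralizer ((K.map π : Subgroup (L ⧸ T)) : Set (L ⧸ T))).comap π := by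
    apply sup_le
    · intro u hu
      rw [Subgroup.mem_comap, Subgroup.mem_centralizer_iff]
      rintro _ ⟨k, hk, rfl⟩
      rw [← map_mul, ← map_mul, hπ, QuotientGroup.mk'_apply, QuotientGroup.mk'_apply,
        QuotientGroup.eq]
      have h1 : (k * u)⁻¹ * (u * k) = ⁅u⁻¹, k⁻¹⁆ := by
        rw [commutatorElement_def]; group
      rw [h1, hT]
      exact (le_sup_right : ⁅⁅K, K⁆, K⁆ ≤ M ⊔ ⁅⁅K, K⁆, K⁆)
        (Subgroup.commutator_mem_commutator (Subgroup.inv_mem _ hu) (K.inv_mem hk))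
    · intro m hm
      rw [Subgroup.mem_comap, Subgroup.mem_centralizer_iff]
      rintro _ ⟨k, hk, rfl⟩
      rw [← map_mul, ← map_mul, hπ, QuotientGroup.mk'_apply, QuotientGroup.mk'_apply,
        QuotientGroup.eq]
      have h1 : (k * m)⁻¹ * (m * k) = m⁻¹ * (k⁻¹ * m * k⁻¹⁻¹) := by group
      rw [h1, hT]
      exact (le_sup_left : M ≤ M ⊔ ⁅⁅K, K⁆, K⁆)
        (M.mul_mem (M.inv_mem hm) (hM.conj_mem m hm k⁻¹))
  -- a generator of K modulo ⁅K,K⁆ ⊔ M
  have hne1 : (⁅K, K⁆ ⊔ M).relIndex K ≠ 1 := hprime.ne_one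
  have hnotle : ¬ K ≤ ⁅K, K⁆ ⊔ M := fun h => hne1 (Subgroup.relIndex_eq_one.2 h)
  obtain ⟨x, hxK, hxH⟩ := Set.not_subset.1 hnotle
  haveI : Fact ((⁅K, K⁆ ⊔ M).relIndex K).Prime := ⟨hprime⟩
  have hgen : ∀ a ∈ K, ∃ (i : ℤ) (u : L), u ∈ ⁅K, K⁆ ⊔ M ∧ a = x ^ i * u := by
    intro a ha
    have hcard : Nat.card (↥K ⧸ (⁅K, K⁆ ⊔ M).subgroupOf K) = (⁅K, K⁆ ⊔ M).relIndex K := rfl
    have hx1 : (QuotientGroup.mk (⟨x, hxK⟩ : K) : ↥K ⧸ (⁅K, K⁆ ⊔ M).subgroupOf K) ≠ 1 := by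
      intro h
      rw [QuotientGroup.eq_one_iff, Subgroup.mem_subgroupOf] at h
      exact hxH h
    have htop := zpowers_eq_top_of_prime_card hcard hx1
    have hmem : (QuotientGroup.mk (⟨a, ha⟩ : K) : ↥K ⧸ (⁅K, K⁆ ⊔ M).subgroupOf K)
        ∈ Subgroup.zpowers (QuotientGroup.mk (⟨x, hxK⟩ : K)) := by
      rw [htop]; exact Subgroup.mem_top _
    obtain ⟨i, hi⟩ := Subgroup.mem_zpowers_iff.1 hmem
    rw [← QuotientGroup.mk_zpow, QuotientGroup.eq, Subgroup.mem_subgroupOf] at hi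
    refine ⟨i, x ^ (-i) * a, ?_, by group⟩
    simpa using hi
  -- K is abelian modulo T
  rw [Subgroup.commutator_le]
  intro a ha b hb
  obtain ⟨i, u, hu, rfl⟩ := hgen a ha
  obtain ⟨j, v, hv, rfl⟩ := hgen b hb
  have hHK : ⁅K, K⁆ ⊔ M ≤ K := sup_le (Subgroup.commutator_le_left K K) hMK
  have hXK : ∀ n : ℤ, π (x ^ n) ∈ K.map π := fun n => ⟨x ^ n, K.zpow_mem hxK n, rfl⟩
  have hU := Subgroup.mem_centralizer_iff.1 (Subgroup.mem_comap.1 (hcentral hu))
  have hV := Subgroup.mem_centralizer_iff.1 (Subgroup.mem_comap.1 (hcentral hv))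
  have c1 : Commute (π (x ^ i)) (π (x ^ j)) := by
    rw [map_zpow, map_zpow]; exact Commute.zpow_zpow_self _ _ _
  have c2 : Commute (π (x ^ i)) (π v) := hV _ (hXK i)
  have c3 : Commute (π u) (π (x ^ j)) := (hU _ (hXK j)).symm
  have c4 : Commute (π u) (π v) := (hU _ ⟨v, hHK hv, rfl⟩).symm
  have hcomm : Commute (π (x ^ i * u)) (π (x ^ j * v)) := by
    rw [map_mul, map_mul]
    exact Commute.mul_left (Commute.mul_right c1 c2) (Commute.mul_right c3 c4)
  have : π ⁅x ^ i * u, x ^ j * v⁆ = 1 := by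
    rw [map_commutatorElement]
    exact commutatorElement_eq_one_iff_commute.2 hcomm
  rw [hπ, QuotientGroup.mk'_apply, QuotientGroup.eq_one_iff] at this
  exact this

/-- If `K/H₁` is abelian and `[K:H₁]` is not a prime power, there is a normal subgroup of `L`
strictly between `H₁` and `K`. -/
theorem exists_normal_between_of_not_prime_pow (K H₁ : Subgroup L) [hK : K.Normal]
    [hH₁ : H₁.Normal] (hcomm : ⁅K, K⁆ ≤ H₁) (hH₁K : H₁ ≤ K)
    (hnpp : ¬ ∃ p j : ℕ, p.Prime ∧ H₁.relIndex K = p ^ j) :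
    ∃ N : Subgroup L, N.Normal ∧ H₁ < N ∧ N < K := by
  have hn0 : H₁.relIndex K ≠ 0 :=
    (Subgroup.index_ne_zero_of_finite : (H₁.subgroupOf K).index ≠ 0)
  have hn1 : H₁.relIndex K ≠ 1 := by
    intro h
    exact hnpp ⟨2, 0, Nat.prime_two, by rw [h, pow_zero]⟩
  set p := (H₁.relIndex K).minFac with hp
  have hpp : p.Prime := Nat.minFac_prime hn1
  have hpd : p ∣ H₁.relIndex K := Nat.minFac_dvd _
  have hex : ∃ q : ℕ, q.Prime ∧ q ∣ H₁.relIndex K ∧ q ≠ p := by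
    by_contra h
    push Not at h
    exact hnpp ⟨p, _, hpp, Nat.eq_prime_pow_of_unique_prime_dvd hn0 (fun {d} hd hdn => h d hd hdn)⟩
  obtain ⟨q, hq, hqd, hqp⟩ := hex
  set π := QuotientGroup.mk' H₁ with hπ
  have hcomm' : ∀ a ∈ K, ∀ b ∈ K, Commute (π a) (π b) := by
    intro a ha b hb
    have h1 : π ⁅a, b⁆ = 1 := by
      rw [hπ, QuotientGroup.mk'_apply, QuotientGroup.eq_one_iff]
      exact hcomm (Subgroup.commutator_mem_commutator ha hb)
    rw [map_commutatorElement] at h1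
    exact commutatorElement_eq_one_iff_commute.1 h1
  have hmemH : ∀ a : L, a ∈ H₁ ↔ π a = 1 := by
    intro a
    rw [hπ, QuotientGroup.mk'_apply, QuotientGroup.eq_one_iff]
  let N : Subgroup L :=
    { carrier := {k | k ∈ K ∧ k ^ p ∈ H₁}
      one_mem' := ⟨K.one_mem, by rw [one_pow]; exact H₁.one_mem⟩
      mul_mem' := by
        rintro a b ⟨ha, hap⟩ ⟨hb, hbp⟩
        refine ⟨K.mul_mem ha hb, ?_⟩
        rw [hmemH] at hap hbp ⊢
        rw [map_pow, map_mul, (hcomm' a ha b hb).mul_pow, ← map_pow, ← map_pow, hap, hbp, one_mul]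
      inv_mem' := by
        rintro a ⟨ha, hap⟩
        refine ⟨K.inv_mem ha, ?_⟩
        rw [inv_pow]
        exact H₁.inv_mem hap }
  have hNmem : ∀ k : L, k ∈ N ↔ k ∈ K ∧ k ^ p ∈ H₁ := fun k => Iff.rfl
  have hcardQ : Nat.card (↥K ⧸ H₁.subgroupOf K) = H₁.relIndex K := rfl
  refine ⟨N, ?_, ?_, ?_⟩
  · constructor
    intro k hk g
    rw [hNmem] at hk ⊢
    refine ⟨hK.conj_mem k hk.1 g, ?_⟩
    rw [conj_pow]
    exact hH₁.conj_mem _ hk.2 g
  · -- H₁ < N by Cauchy for p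
    haveI : Fact p.Prime := ⟨hpp⟩
    obtain ⟨y, hy⟩ := exists_prime_orderOf_dvd_card' (G := ↥K ⧸ H₁.subgroupOf K) p
      (by rw [hcardQ]; exact hpd)
    obtain ⟨k, rfl⟩ := QuotientGroup.mk_surjective y
    have hkp : (k : L) ^ p ∈ H₁ := by
      have h1 : (QuotientGroup.mk k : ↥K ⧸ H₁.subgroupOf K) ^ p = 1 := by
        rw [← hy, pow_orderOf_eq_one]
      rw [← QuotientGroup.mk_pow, QuotientGroup.eq_one_iff, Subgroup.mem_subgroupOf] at h1
      exact h1
    have hknot : (k : L) ∉ H₁ := by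
      intro h
      have h1 : (QuotientGroup.mk k : ↥K ⧸ H₁.subgroupOf K) = 1 := by
        rw [QuotientGroup.eq_one_iff, Subgroup.mem_subgroupOf]; exact h
      rw [h1, orderOf_one] at hy
      exact hpp.one_lt.ne hy
    refine lt_of_le_of_ne ?_ ?_
    · intro h hh
      rw [hNmem]
      exact ⟨hH₁K hh, H₁.pow_mem hh p⟩
    · intro heq
      apply hknot
      rw [heq, hNmem]
      exact ⟨k.2, hkp⟩
  · -- N < K by Cauchy for q
    haveI : Fact q.Prime := ⟨hq⟩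
    obtain ⟨y, hy⟩ := exists_prime_orderOf_dvd_card' (G := ↥K ⧸ H₁.subgroupOf K) q
      (by rw [hcardQ]; exact hqd)
    obtain ⟨k, rfl⟩ := QuotientGroup.mk_surjective y
    refine lt_of_le_of_ne (fun k hk => ((hNmem k).1 hk).1) ?_
    intro heq
    have hkN : (k : L) ∈ N := by rw [heq]; exact k.2
    have hkp := ((hNmem _).1 hkN).2
    have h1 : (QuotientGroup.mk k : ↥K ⧸ H₁.subgroupOf K) ^ p = 1 := by
      rw [← QuotientGroup.mk_pow, QuotientGroup.eq_one_iff, Subgroup.mem_subgroupOf]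
      exact hkp
    have h2 := orderOf_dvd_of_pow_eq_one h1
    rw [hy] at h2
    exact hqp ((Nat.prime_dvd_prime_iff_eq hq hpp).1 h2)

end NilQuot

end Cfsg.Agent.Lib.Helper11
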