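import Cfsg.Agent.Lib.Helper11.Bessel
import Cfsg.Agent.Lib.Helper11.GenChar
import Cfsg.Agent.S1515
import Cfsg.Agent.Lib.Helper2.Induction
import Cfsg.Prelude.Def_OddOrderChar

/-!
Coherence systems (Peterfalvi §5): basic facts and the "pair lemma": for `ξ, ξ' ∈ S` of equal
degree with `ξ' ∉ {ξ, conj ξ}`, `τ (ξ - ξ')` lies in the span of `R ξ ∪ R ξ'`, with the squared
coefficients along `R ξ` summing to `⟨ξ, ξ⟩`.
-/

set_option autoImplicit false

namespace Cfsg.Agent.Lib.Helper11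

open Cfsg
open Cfsg.Agent.Lib.Helper2
open scoped ComplexConjugate

section ZSpan

variable {X : Type*}

/-- `zspanOn S A` as a `ℤ`-submodule. -/
def zspanOnSubmodule (S : Set (X → ℂ)) (A : Set X) : Submodule ℤ (X → ℂ) where
  carrier := zspanOn S A
  zero_mem' := ⟨Submodule.zero_mem _, fun _ _ => rfl⟩
  add_mem' := by
    rintro a b ⟨ha, ha'⟩ ⟨hb, hb'⟩
    refine ⟨Submodule.add_mem _ ha hb, fun x hx => ?_⟩
    rw [Pi.add_apply, ha' x hx, hb' x hx, add_zero]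
  smul_mem' := by
    rintro c a ⟨ha, ha'⟩
    refine ⟨Submodule.smul_mem _ c ha, fun x hx => ?_⟩
    rw [Pi.smul_apply, ha' x hx, smul_zero]

theorem coe_zspanOnSubmodule (S : Set (X → ℂ)) (A : Set X) :
    ((zspanOnSubmodule S A : Submodule ℤ (X → ℂ)) : Set (X → ℂ)) = zspanOn S A := rfl

theorem mem_zspanOnSubmodule {S : Set (X → ℂ)} {A : Set X} {α : X → ℂ} :
    α ∈ zspanOnSubmodule S A ↔ α ∈ zspanOn S A := Iff.rfl

theorem zspan_le_zspanOn {S : Set (X → ℂ)} {A : Set X} {T : Set (X → ℂ)} (h : T ⊆ zspanOn S A) :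
    zspan T ⊆ zspanOn S A := by
  intro α hα
  have : Submodule.span ℤ T ≤ zspanOnSubmodule S A := Submodule.span_le.2 h
  exact this hα

end ZSpan

section Mono

variable {L : Type*} [Group L] [Fintype L] {G : Type*} [Group G] [Fintype G]

theorem isLinearIsometryOn_mono {E E' : Set (L → ℂ)} {τ : (L → ℂ) → (G → ℂ)}
    (h : IsLinearIsometryOn E τ) (hE : E' ⊆ E) : IsLinearIsometryOn E' τ :=
  ⟨fun α hα β hβ => h.1 α (hE hα) β (hE hβ), fun α hα n => h.2.1 α (hE hα) n,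
    fun α hα β hβ => h.2.2.1 α (hE hα) β (hE hβ), fun α hα => h.2.2.2 α (hE hα)⟩

theorem classInner_conjFun_conjFun (f g : L → ℂ) :
    classInner (conjFun f) (conjFun g) = conj (classInner f g) := by
  simp only [classInner_def, conjFun, map_mul, map_inv₀, map_natCast, map_sum]

omit [Group L] [Fintype L] in
theorem conjFun_conjFun (f : L → ℂ) : conjFun (conjFun f) = f := by
  ext x; simp [conjFun]

end Mono

section Basics

variable {L : Type*} [Group L] [Fintype L] {G : Type*} [Group G] [Fintype G]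
variable {S : Set (L → ℂ)} {τ : (L → ℂ) → (G → ℂ)} {R : (L → ℂ) → Finset (G → ℂ)}

theorem coh_sub_mem (hS : IsCoherenceSystem S τ R) {ξ ξ' : L → ℂ} (hξ : ξ ∈ S)
    (hξ' : ξ' ∈ S) (hdeg : ξ 1 = ξ' 1) : ξ - ξ' ∈ zspanOn S {1}ᶜ := by
  refine ⟨Submodule.sub_mem _ (Submodule.subset_span hξ) (Submodule.subset_span hξ'), ?_⟩
  intro x hx
  have hx1 : x = 1 := by simpa using hx
  subst hx1
  rw [Pi.sub_apply, hdeg, sub_self]

theorem coh_conj_apply_one (hS : IsCoherenceSystem S τ R) {ξ : L → ℂ} (hξ : ξ ∈ S) :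
    conjFun ξ 1 = ξ 1 := by
  simp only [conjFun]
  exact IsCharacter.conj_apply_one (hS.isCharacter ξ hξ)

theorem coh_sub_conj_mem (hS : IsCoherenceSystem S τ R) {ξ : L → ℂ} (hξ : ξ ∈ S) :
    ξ - conjFun ξ ∈ zspanOn S {1}ᶜ :=
  (coh_sub_mem hS) hξ (hS.conj_mem ξ hξ) ((coh_conj_apply_one hS) hξ).symm

theorem coh_ne_zero (hS : IsCoherenceSystem S τ R) {ξ : L → ℂ} (hξ : ξ ∈ S) :
    ξ ≠ 0 := by
  intro h
  apply hS.conj_ne ξ hξ
  rw [h]
  ext x
  simp [conjFun]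

theorem coh_norm_nat (hS : IsCoherenceSystem S τ R) {ξ : L → ℂ} (hξ : ξ ∈ S) :
    ∃ n : ℕ, 0 < n ∧ classInner ξ ξ = (n : ℂ) := by
  obtain ⟨n, hn⟩ := classInner_isCharacter_nat (hS.isCharacter ξ hξ) (hS.isCharacter ξ hξ)
  refine ⟨n, ?_, hn⟩
  by_contra h0
  have : n = 0 := by omega
  rw [this, Nat.cast_zero] at hn
  exact (coh_ne_zero hS) hξ (eq_zero_of_classInner_self_eq_zero ξ hn)

theorem coh_norm_conj (hS : IsCoherenceSystem S τ R) {ξ : L → ℂ} (hξ : ξ ∈ S) :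
    classInner (conjFun ξ) (conjFun ξ) = classInner ξ ξ := by
  obtain ⟨n, _, hn⟩ := (coh_norm_nat hS) hξ
  rw [classInner_conjFun_conjFun, hn, map_natCast]

theorem coh_tau_zero (hS : IsCoherenceSystem S τ R) : τ 0 = 0 := by
  obtain ⟨ξ, hξ⟩ := hS.nonempty
  have := hS.isometry.2.1 _ ((coh_sub_conj_mem hS) hξ) 0
  simpa using this

theorem coh_tau_neg (hS : IsCoherenceSystem S τ R) {α : L → ℂ}
    (hα : α ∈ zspanOn S {1}ᶜ) : τ (-α) = -τ α := by
  have := hS.isometry.2.1 α hα (-1)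
  simpa using this

theorem coh_tau_sub (hS : IsCoherenceSystem S τ R) {α β : L → ℂ}
    (hα : α ∈ zspanOn S {1}ᶜ) (hβ : β ∈ zspanOn S {1}ᶜ) : τ (α - β) = τ α - τ β := by
  have hnβ : -β ∈ zspanOn S {1}ᶜ := (zspanOnSubmodule S {1}ᶜ).neg_mem hβ
  rw [sub_eq_add_neg, hS.isometry.1 α hα (-β) hnβ, (coh_tau_neg hS) hβ, sub_eq_add_neg]

theorem coh_orth_conj (hS : IsCoherenceSystem S τ R) {ξ : L → ℂ} (hξ : ξ ∈ S) :
    classInner ξ (conjFun ξ) = 0 :=
  hS.orthogonal ξ hξ _ (hS.conj_mem ξ hξ) (fun h => hS.conj_ne ξ hξ h.symm)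

/-- The families `R ξ`, `R ξ'` are mutually orthogonal when `ξ' ∉ {ξ, conj ξ}`. -/
theorem coh_R_orth (hS : IsCoherenceSystem S τ R) {ξ ξ' : L → ℂ} (hξ : ξ ∈ S)
    (hξ' : ξ' ∈ S) (hne : ξ' ≠ ξ) (hne' : ξ' ≠ conjFun ξ) :
    ∀ α ∈ R ξ, ∀ β ∈ R ξ', classInner α β = 0 := by
  apply hS.disjoint ξ' hξ' ξ hξ
  · exact hS.orthogonal ξ hξ ξ' hξ' (fun h => hne h.symm)
  · apply hS.orthogonal ξ hξ _ (hS.conj_mem ξ' hξ')
    intro h
    apply hne'
    rw [h, conjFun_conjFun]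

end Basics

section Pair

variable {L : Type*} [Group L] [Fintype L] {G : Type*} [Group G] [Fintype G]
variable {S : Set (L → ℂ)} {τ : (L → ℂ) → (G → ℂ)} {R : (L → ℂ) → Finset (G → ℂ)}

/-- First half: the lower bound of (5.4) for `τ (ξ - ξ')` along `R ξ`. -/
theorem coh_pair_lower (hS : IsCoherenceSystem S τ R) {ξ ξ' : L → ℂ} (hξ : ξ ∈ S)
    (hξ' : ξ' ∈ S) (hne : ξ' ≠ ξ) (hne' : ξ' ≠ conjFun ξ) (hdeg : ξ 1 = ξ' 1) :
    (classInner ξ ξ).re ≤ ∑ α ∈ R ξ, ‖classInner (τ (ξ - ξ')) α‖ ^ 2 := by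
  have m1 : ξ - ξ' ∈ zspanOn S {1}ᶜ := coh_sub_mem hS hξ hξ' hdeg
  have m2 : ξ - conjFun ξ ∈ zspanOn S {1}ᶜ := coh_sub_conj_mem hS hξ
  have hsub : zspan {ξ - ξ', ξ - conjFun ξ} ⊆ zspanOn S {1}ᶜ := by
    apply zspan_le_zspanOn
    intro α hα
    rcases hα with rfl | rfl
    · exact m1
    · exact m2
  have hτ' := isLinearIsometryOn_mono hS.isometry hsub
  have h1 : classInner ξ ξ' = 0 := hS.orthogonal ξ hξ ξ' hξ' (fun h => hne h.symm)
  have h2 : classInner (conjFun ξ) ξ' = 0 :=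
    hS.orthogonal _ (hS.conj_mem ξ hξ) ξ' hξ' (fun h => hne' h.symm)
  exact (Cfsg.Agent.S1515.result S τ R hS ξ hξ ξ' (Submodule.subset_span hξ') h1 h2 τ hτ'
    (fun _ => rfl)).1

/-- The pair lemma. -/
theorem coh_pair (hS : IsCoherenceSystem S τ R) {ξ ξ' : L → ℂ} (hξ : ξ ∈ S)
    (hξ' : ξ' ∈ S) (hne : ξ' ≠ ξ) (hne' : ξ' ≠ conjFun ξ) (hdeg : ξ 1 = ξ' 1) :
    (∑ α ∈ R ξ, ‖classInner (τ (ξ - ξ')) α‖ ^ 2 = (classInner ξ ξ).re) ∧
    (∑ β ∈ R ξ', ‖classInner (τ (ξ - ξ')) β‖ ^ 2 = (classInner ξ' ξ').re) ∧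
    τ (ξ - ξ') = ∑ α ∈ R ξ, classInner (τ (ξ - ξ')) α • α
      + ∑ β ∈ R ξ', classInner (τ (ξ - ξ')) β • β := by
  classical
  set X := τ (ξ - ξ') with hX
  have m1 : ξ - ξ' ∈ zspanOn S {1}ᶜ := coh_sub_mem hS hξ hξ' hdeg
  have m1' : ξ' - ξ ∈ zspanOn S {1}ᶜ := coh_sub_mem hS hξ' hξ hdeg.symm
  have hA := coh_pair_lower hS hξ hξ' hne hne' hdeg
  have hne2 : ξ ≠ conjFun ξ' := by
    intro h
    apply hne'
    rw [h, conjFun_conjFun]
  have hB := coh_pair_lower hS hξ' hξ (fun h => hne h.symm) hne2 hdeg.symm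
  have hneg : τ (ξ' - ξ) = -X := by
    rw [hX, ← coh_tau_neg hS m1, neg_sub]
  rw [hneg] at hB
  have hB' : (classInner ξ' ξ').re ≤ ∑ β ∈ R ξ', ‖classInner X β‖ ^ 2 := by
    refine le_trans hB (le_of_eq ?_)
    apply Finset.sum_congr rfl
    intro β _
    rw [classInner_neg_left, norm_neg]
  -- norm of X
  have h1 : classInner ξ ξ' = 0 := hS.orthogonal ξ hξ ξ' hξ' (fun h => hne h.symm)
  have h1' : classInner ξ' ξ = 0 := hS.orthogonal ξ' hξ' ξ hξ hne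
  have hXX : classInner X X = classInner ξ ξ + classInner ξ' ξ' := by
    rw [hX, hS.isometry.2.2.1 _ m1 _ m1, classInner_sub_left, classInner_sub_right,
      classInner_sub_right, h1, h1']
    ring
  -- orthonormal union
  obtain ⟨hF, hdisj⟩ := orthonormal_union (R ξ) (R ξ') (hS.orthonormal ξ hξ)
    (hS.orthonormal ξ' hξ') (coh_R_orth hS hξ hξ' hne hne')
  have hbes := bessel_le (R ξ ∪ R ξ') hF X
  rw [Finset.sum_union hdisj, hXX, Complex.add_re] at hbes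
  have e1 : ∑ α ∈ R ξ, ‖classInner X α‖ ^ 2 = (classInner ξ ξ).re := by linarith
  have e2 : ∑ β ∈ R ξ', ‖classInner X β‖ ^ 2 = (classInner ξ' ξ').re := by linarith
  refine ⟨e1, e2, ?_⟩
  have hproj := eq_proj_of_bessel_eq (R ξ ∪ R ξ') hF X (by
    rw [Finset.sum_union hdisj, hXX, Complex.add_re, e1, e2])
  rw [Finset.sum_union hdisj] at hproj
  exact hproj

/-- Consequence: `τ (ξ - ξ')` is orthogonal to everything orthogonal to `R ξ ∪ R ξ'`. -/
theorem coh_pair_orth (hS : IsCoherenceSystem S τ R) {ξ ξ' : L → ℂ} (hξ : ξ ∈ S)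
    (hξ' : ξ' ∈ S) (hne : ξ' ≠ ξ) (hne' : ξ' ≠ conjFun ξ) (hdeg : ξ 1 = ξ' 1) (γ : G → ℂ)
    (h1 : ∀ α ∈ R ξ, classInner α γ = 0) (h2 : ∀ β ∈ R ξ', classInner β γ = 0) :
    classInner (τ (ξ - ξ')) γ = 0 := by
  obtain ⟨_, _, h⟩ := coh_pair hS hξ hξ' hne hne' hdeg
  rw [h, classInner_add_left, classInner_sum_left, classInner_sum_left]
  rw [Finset.sum_eq_zero, Finset.sum_eq_zero, add_zero]
  · intro β hβ
    rw [classInner_smul_left, h2 β hβ, mul_zero]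
  · intro α hα
    rw [classInner_smul_left, h1 α hα, mul_zero]

end Pair

section GenCharClosure

variable {G : Type*} [Group G]

theorem isGenChar_of_isChar {χ : G → ℂ} (h : IsCharacter G χ) : IsGeneralizedCharacter G χ :=
  ⟨χ, 0, h, isCharacter_zero, by simp⟩

theorem isGenChar_zero : IsGeneralizedCharacter G (0 : G → ℂ) :=
  ⟨0, 0, isCharacter_zero, isCharacter_zero, by simp⟩

theorem isGenChar_add {θ φ : G → ℂ} (hθ : IsGeneralizedCharacter G θ)
    (hφ : IsGeneralizedCharacter G φ) : IsGeneralizedCharacter G (θ + φ) := by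
  obtain ⟨a, b, ha, hb, rfl⟩ := hθ
  obtain ⟨c, d, hc, hd, rfl⟩ := hφ
  exact ⟨a + c, b + d, isCharacter_add ha hc, isCharacter_add hb hd, by ring⟩

theorem isGenChar_neg {θ : G → ℂ} (hθ : IsGeneralizedCharacter G θ) :
    IsGeneralizedCharacter G (-θ) := by
  obtain ⟨a, b, ha, hb, rfl⟩ := hθ
  exact ⟨b, a, hb, ha, by ring⟩

theorem isGenChar_sub {θ φ : G → ℂ} (hθ : IsGeneralizedCharacter G θ)
    (hφ : IsGeneralizedCharacter G φ) : IsGeneralizedCharacter G (θ - φ) := by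
  rw [sub_eq_add_neg]
  exact isGenChar_add hθ (isGenChar_neg hφ)

theorem isGenChar_nsmul (n : ℕ) {θ : G → ℂ} (hθ : IsGeneralizedCharacter G θ) :
    IsGeneralizedCharacter G (n • θ) := by
  obtain ⟨a, b, ha, hb, rfl⟩ := hθ
  exact ⟨n • a, n • b, isCharacter_nsmul n ha, isCharacter_nsmul n hb, by rw [smul_sub]⟩

theorem isGenChar_zsmul (n : ℤ) {θ : G → ℂ} (hθ : IsGeneralizedCharacter G θ) :
    IsGeneralizedCharacter G (n • θ) := by
  rcases Int.eq_nat_or_neg n with ⟨k, rfl | rfl⟩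
  · rw [natCast_zsmul]
    exact isGenChar_nsmul k hθ
  · rw [neg_smul, natCast_zsmul]
    exact isGenChar_neg (isGenChar_nsmul k hθ)

theorem isGenChar_intCast_smul (n : ℤ) {θ : G → ℂ} (hθ : IsGeneralizedCharacter G θ) :
    IsGeneralizedCharacter G ((n : ℂ) • θ) := by
  have : ((n : ℂ) • θ) = n • θ := by
    ext g; simp
  rw [this]
  exact isGenChar_zsmul n hθ

theorem isGenChar_sum {ι : Type*} (s : Finset ι) (f : ι → G → ℂ)
    (h : ∀ i ∈ s, IsGeneralizedCharacter G (f i)) : IsGeneralizedCharacter G (∑ i ∈ s, f i) := by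
  classical
  induction s using Finset.induction_on with
  | empty => simpa using isGenChar_zero
  | insert a s ha ih =>
    rw [Finset.sum_insert ha]
    exact isGenChar_add (h a (Finset.mem_insert_self a s))
      (ih fun i hi => h i (Finset.mem_insert_of_mem hi))

end GenCharClosure

section Finite

variable {L : Type*} [Group L] [Fintype L] {G : Type*} [Group G] [Fintype G]
variable {S : Set (L → ℂ)} {τ : (L → ℂ) → (G → ℂ)} {R : (L → ℂ) → Finset (G → ℂ)}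

theorem coh_finite (hS : IsCoherenceSystem S τ R) : S.Finite := by
  classical
  have hex : ∀ ξ : S, ∃ μ : IrrCharacter L, ∃ Ψ : L → ℂ, IsCharacter L Ψ ∧
      (ξ : L → ℂ) = (μ : L → ℂ) + Ψ :=
    fun ξ => exists_irr_add_of_ne_zero (hS.isCharacter ξ ξ.2) (coh_ne_zero hS ξ.2)
  choose m Ψ hΨ hm using hex
  have hinj : Function.Injective m := by
    intro ξ ξ' h
    by_contra hne
    have hne' : (ξ : L → ℂ) ≠ ξ' := fun h' => hne (Subtype.ext h')
    have h0 := hS.orthogonal ξ ξ.2 ξ' ξ'.2 hne'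
    rw [hm ξ, hm ξ', h, classInner_add_left, classInner_add_right, classInner_add_right,
      classInner_irrCharacter_self] at h0
    obtain ⟨a, ha⟩ := classInner_isCharacter_nat (IsIrrCharacter.isCharacter (m ξ').2) (hΨ ξ')
    obtain ⟨b, hb⟩ := classInner_isCharacter_nat (hΨ ξ) (IsIrrCharacter.isCharacter (m ξ').2)
    obtain ⟨c, hc⟩ := classInner_isCharacter_nat (hΨ ξ) (hΨ ξ')
    rw [ha, hb, hc] at h0
    have : (1 + a + (b + c) : ℕ) = 0 := by exact_mod_cast h0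
    omega
  have : Finite S := Finite.of_injective m hinj
  exact Set.toFinite S

end Finite

end Cfsg.Agent.Lib.Helper11
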