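import Cfsg.Agent.Lib.Helper11.Clifford4
import Cfsg.Agent.Lib.Helper11.Coherence
import Cfsg.Agent.Lib.Helper2.Regular
import Cfsg.Agent.Lib.Helper25.Kernel
import Cfsg.Agent.Lib.Helper2.NormalInduction
import Cfsg.Agent.Lib.Helper2.BurnsidePQ

/-!
The sets `inducedIrrAbove K A` (Peterfalvi §6: `S(A)`) for a normal subgroup `K` of `L`:
membership, conjugation, finiteness, degrees, norms and the weighted sum
`∑_{φ ∈ S(A)} φ(1)² / ⟨φ,φ⟩ = [L:K] ([K:A] - 1)`.
-/

set_option autoImplicit false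

namespace Cfsg.Agent.Lib.Helper11

open Cfsg
open Cfsg.Agent.Lib.Helper2
open scoped ComplexConjugate

section IndIrr
open Classical

variable {L : Type*} [Group L] [Fintype L] (K : Subgroup L)

theorem inducedIrrAbove_mono {A A' : Subgroup L} (h : A ≤ A') :
    inducedIrrAbove K A' ⊆ inducedIrrAbove K A := by
  rintro φ ⟨θ, hθ, hne, hker, rfl⟩
  exact ⟨θ, hθ, hne, fun a ha => hker a (h ha), rfl⟩

theorem inducedIrrAbove_subset_bot (A : Subgroup L) :
    inducedIrrAbove K A ⊆ inducedIrrAbove K ⊥ :=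
  inducedIrrAbove_mono K bot_le

omit [Fintype L] in
theorem conjFun_extendByZero (θ : K → ℂ) (g : L) :
    conj (extendByZero K θ g) = extendByZero K (conjFun θ) g := by
  by_cases hg : g ∈ K
  · rw [extendByZero_of_mem K θ hg, extendByZero_of_mem K _ hg]; rfl
  · rw [extendByZero_of_not_mem K θ hg, extendByZero_of_not_mem K _ hg, map_zero]

theorem conjFun_indFun (θ : K → ℂ) : conjFun (indFun K θ) = indFun K (conjFun θ) := by
  funext g
  simp only [conjFun, indFun, map_mul, map_inv₀, map_natCast, map_sum]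
  congr 1
  apply Finset.sum_congr rfl
  intro x _
  exact conjFun_extendByZero K θ _

theorem conjFun_mem_inducedIrrAbove {A : Subgroup L} {φ : L → ℂ}
    (h : φ ∈ inducedIrrAbove K A) : conjFun φ ∈ inducedIrrAbove K A := by
  obtain ⟨θ, hθ, hne, hker, rfl⟩ := h
  refine ⟨conjFun θ, isIrrCharacter_conj hθ, ?_, ?_, conjFun_indFun K θ⟩
  · intro h1
    apply hne
    have := congrArg conjFun h1
    rw [conjFun_conjFun] at this
    rw [this]
    funext x
    simp [conjFun]
  · intro a ha
    simp only [conjFun]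
    rw [hker a ha]

/-- The nonprincipal irreducible characters of `K` with `A ⊓ K` in the kernel. -/
noncomputable def irrAboveFinset [Fintype (IrrCharacter K)] (A : Subgroup L) :
    Finset (IrrCharacter K) :=
  Finset.univ.filter (fun θ : IrrCharacter K =>
    (θ : K → ℂ) ≠ (fun _ => 1) ∧ ∀ a : K, (a : L) ∈ A → (θ : K → ℂ) a = (θ : K → ℂ) 1)

/-- `S(A)` as a finite set. -/
noncomputable def inducedFinset [Fintype (IrrCharacter K)] (A : Subgroup L) : Finset (L → ℂ) :=
  (irrAboveFinset K A).image (fun θ : IrrCharacter K => indFun K (θ : K → ℂ))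

theorem mem_irrAboveFinset [Fintype (IrrCharacter K)] (A : Subgroup L) (θ : IrrCharacter K) :
    θ ∈ irrAboveFinset K A ↔
      (θ : K → ℂ) ≠ (fun _ => 1) ∧ ∀ a : K, (a : L) ∈ A → (θ : K → ℂ) a = (θ : K → ℂ) 1 := by
  unfold irrAboveFinset
  rw [Finset.mem_filter]
  exact ⟨fun h => h.2, fun h => ⟨Finset.mem_univ _, h⟩⟩

theorem coe_inducedFinset [Fintype (IrrCharacter K)] (A : Subgroup L) :
    (↑(inducedFinset K A) : Set (L → ℂ)) = inducedIrrAbove K A := by
  ext φ
  rw [Finset.mem_coe, inducedFinset, Finset.mem_image]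
  constructor
  · rintro ⟨θ, hθ, rfl⟩
    rw [mem_irrAboveFinset] at hθ
    exact ⟨θ.1, θ.2, hθ.1, hθ.2, rfl⟩
  · rintro ⟨θ, hθ, h1, h2, rfl⟩
    refine ⟨(⟨θ, hθ⟩ : IrrCharacter K), ?_, rfl⟩
    rw [mem_irrAboveFinset]
    exact ⟨h1, h2⟩

variable [hK : K.Normal]

/-- Inner products of functions induced from irreducible characters of a normal subgroup. -/
theorem card_mul_classInner_indFun_irr {θ' θ : K → ℂ} (hθ' : IsIrrCharacter K θ')
    (hθ : IsIrrCharacter K θ) :
    (Nat.card K : ℂ) * classInner (indFun K θ') (indFun K θ)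
      = ((Finset.univ.filter (fun g : L => conjFn K g θ = θ')).card : ℂ) := by
  rw [classInner_indFun_indFun, ← mul_assoc, mul_inv_cancel₀ (card_subgroup_ne_zero K), one_mul]
  have : ∀ g : L, classInner θ' (conjFn K g θ) = if conjFn K g θ = θ' then 1 else 0 := by
    intro g
    rw [classInner_irr_eq_ite hθ' (conjFn_isIrrCharacter K g hθ)]
    by_cases h : conjFn K g θ = θ'
    · rw [if_pos h, if_pos h.symm]
    · rw [if_neg h, if_neg (fun h' => h h'.symm)]
  simp only [this]
  rw [Finset.sum_boole]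

omit hK in
theorem indFun_ne_zero_of_irr {θ : K → ℂ} (hθ : IsIrrCharacter K θ) : indFun K θ ≠ 0 := by
  intro h
  have h1 := indFun_apply_one K θ
  rw [h, Pi.zero_apply] at h1
  have h5 : (K.index : ℂ) ≠ 0 := by exact_mod_cast Subgroup.index_ne_zero_of_finite
  exact (mul_ne_zero h5 (IsIrrCharacter.apply_one_ne_zero hθ)) h1.symm

omit hK in
theorem classInner_indFun_self_ne_zero {θ : K → ℂ} (hθ : IsIrrCharacter K θ) :
    classInner (indFun K θ) (indFun K θ) ≠ 0 := by
  intro h
  exact indFun_ne_zero_of_irr K hθ (eq_zero_of_classInner_self_eq_zero _ h)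

/-- If the induced functions agree, the characters are conjugate. -/
theorem exists_conjFn_eq_of_indFun_eq {θ' θ : K → ℂ} (hθ' : IsIrrCharacter K θ')
    (hθ : IsIrrCharacter K θ) (h : indFun K θ' = indFun K θ) : ∃ g : L, conjFn K g θ = θ' := by
  have h1 := card_mul_classInner_indFun_irr K hθ' hθ
  rw [h] at h1
  have h2 : ((Finset.univ.filter (fun g : L => conjFn K g θ = θ')).card : ℂ) ≠ 0 := by
    rw [← h1]
    exact mul_ne_zero (card_subgroup_ne_zero K) (classInner_indFun_self_ne_zero K hθ)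
  have h3 : (Finset.univ.filter (fun g : L => conjFn K g θ = θ')).card ≠ 0 := by
    exact_mod_cast h2
  obtain ⟨g, hg⟩ := Finset.card_ne_zero.1 h3
  exact ⟨g, (Finset.mem_filter.1 hg).2⟩

/-- The number of irreducible characters of `K` inducing the same function as `θ`. -/
theorem card_fiber_indFun [Fintype (IrrCharacter K)] (θ : IrrCharacter K) :
    ((Finset.univ.filter (fun θ' : IrrCharacter K =>
        indFun K (θ' : K → ℂ) = indFun K (θ : K → ℂ))).card : ℂ)
      * classInner (indFun K (θ : K → ℂ)) (indFun K (θ : K → ℂ)) = (K.index : ℂ) := by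
  have hcount : ∑ θ' : IrrCharacter K,
      ((Finset.univ.filter (fun g : L => conjFn K g (θ : K → ℂ) = (θ' : K → ℂ))).card : ℂ)
      = (Nat.card L : ℂ) := by
    rw [← Nat.cast_sum]
    congr 1
    have := Finset.card_eq_sum_card_fiberwise (s := (Finset.univ : Finset L))
      (t := (Finset.univ : Finset (IrrCharacter K)))
      (f := fun g => (⟨conjFn K g (θ : K → ℂ), conjFn_isIrrCharacter K g θ.2⟩ : IrrCharacter K))
      (fun g _ => Finset.mem_univ _)
    rw [Nat.card_eq_fintype_card, ← Finset.card_univ, this]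
    apply Finset.sum_congr rfl
    intro θ' _
    congr 1
    ext g
    simp only [Finset.mem_filter, Finset.mem_univ, true_and]
    constructor
    · intro h; exact Subtype.ext h
    · intro h; exact congrArg Subtype.val h
  have hterm : ∀ θ' : IrrCharacter K,
      ((Finset.univ.filter (fun g : L => conjFn K g (θ : K → ℂ) = (θ' : K → ℂ))).card : ℂ)
        = if indFun K (θ' : K → ℂ) = indFun K (θ : K → ℂ) then
          (Nat.card K : ℂ) * classInner (indFun K (θ : K → ℂ)) (indFun K (θ : K → ℂ)) else 0 := by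
    intro θ'
    by_cases h : indFun K (θ' : K → ℂ) = indFun K (θ : K → ℂ)
    · rw [if_pos h, ← card_mul_classInner_indFun_irr K θ'.2 θ.2, h]
    · rw [if_neg h]
      have : Finset.univ.filter (fun g : L => conjFn K g (θ : K → ℂ) = (θ' : K → ℂ)) = ∅ := by
        rw [Finset.eq_empty_iff_forall_notMem]
        intro g hg
        apply h
        rw [← (Finset.mem_filter.1 hg).2, indFun_conjFn]
      rw [this, Finset.card_empty, Nat.cast_zero]
  rw [Finset.sum_congr rfl (fun θ' _ => hterm θ'), ← Finset.sum_filter, Finset.sum_const,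
    nsmul_eq_mul] at hcount
  have hK0 : (Nat.card K : ℂ) ≠ 0 := card_subgroup_ne_zero K
  have hidx : (Nat.card L : ℂ) = (Nat.card K : ℂ) * (K.index : ℂ) := by
    rw [← Subgroup.card_mul_index K]; push_cast; ring
  rw [hidx] at hcount
  apply mul_left_cancel₀ hK0
  rw [← hcount]
  ring

/-- Sum of squares of degrees of the irreducible characters with `N` in the kernel. -/
theorem sum_degree_sq_of_ker {K' : Type*} [Group K'] [Fintype K'] [Fintype (IrrCharacter K')]
    (N : Subgroup K') [N.Normal] :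
    (Nat.card N : ℂ) * ∑ χ ∈ Finset.univ.filter (fun χ : IrrCharacter K' =>
      ∀ n ∈ N, (χ : K' → ℂ) n = (χ : K' → ℂ) 1), (χ : K' → ℂ) 1 ^ 2 = (Nat.card K' : ℂ) := by
  have : Fintype N := Fintype.ofFinite _
  have h1 : ∑ n : N, ∑ χ : IrrCharacter K', (χ : K' → ℂ) 1 * (χ : K' → ℂ) (n : K')
      = (Nat.card K' : ℂ) := by
    simp_rw [sum_irr_degree_mul]
    rw [Finset.sum_eq_single (1 : N)]
    · simp
    · intro n _ hn
      rw [if_neg]
      intro h
      exact hn (Subtype.ext h)
    · intro h; exact absurd (Finset.mem_univ _) h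
  rw [Finset.sum_comm] at h1
  rw [← h1, Finset.mul_sum, Finset.sum_filter]
  apply Finset.sum_congr rfl
  intro χ _
  rw [← Finset.mul_sum]
  rcases Cfsg.Agent.Lib.Helper25.sum_normal_char χ.2 N with h | h
  · rw [if_pos h]
    have : ∑ n : N, (χ : K' → ℂ) (n : K') = (Nat.card N : ℂ) * (χ : K' → ℂ) 1 := by
      rw [Finset.sum_congr rfl (fun (n : N) _ => h (n : K') n.2), Finset.sum_const, Finset.card_univ,
        nsmul_eq_mul, Nat.card_eq_fintype_card]
    rw [this]; ring
  · have h0 := h 1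
    simp only [one_mul] at h0
    rw [h0, mul_zero, if_neg]
    intro hall
    have : ∑ n : N, (χ : K' → ℂ) (n : K') = (Nat.card N : ℂ) * (χ : K' → ℂ) 1 := by
      rw [Finset.sum_congr rfl (fun (n : N) _ => hall (n : K') n.2), Finset.sum_const, Finset.card_univ,
        nsmul_eq_mul, Nat.card_eq_fintype_card]
    rw [h0] at this
    have hN0 : (Nat.card N : ℂ) ≠ 0 := by exact_mod_cast Nat.card_pos.ne'
    exact (mul_ne_zero hN0 (IsIrrCharacter.apply_one_ne_zero χ.2)) this.symm

/-- The degree of an irreducible character, as a natural number. -/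
noncomputable def irrDeg {K' : Type*} [Group K'] (θ : IrrCharacter K') : ℕ :=
  (IsIrrCharacter.apply_one θ.2).choose

theorem irrDeg_pos {K' : Type*} [Group K'] (θ : IrrCharacter K') : 0 < irrDeg θ :=
  (IsIrrCharacter.apply_one θ.2).choose_spec.1

theorem irrDeg_spec {K' : Type*} [Group K'] (θ : IrrCharacter K') :
    (θ : K' → ℂ) 1 = (irrDeg θ : ℂ) :=
  (IsIrrCharacter.apply_one θ.2).choose_spec.2

/-- Characters with the same induced function as a member of `irrAboveFinset K A` are again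
members, of the same degree. -/
theorem mem_irrAboveFinset_of_indFun_eq [Fintype (IrrCharacter K)] (A : Subgroup L) [hA : A.Normal]
    {θ θ' : IrrCharacter K} (hθ : θ ∈ irrAboveFinset K A)
    (h : indFun K (θ' : K → ℂ) = indFun K (θ : K → ℂ)) :
    θ' ∈ irrAboveFinset K A ∧ irrDeg θ' = irrDeg θ := by
  obtain ⟨g, hg⟩ := exists_conjFn_eq_of_indFun_eq K θ'.2 θ.2 h
  rw [mem_irrAboveFinset] at hθ ⊢
  have hval : ∀ a : K, (θ' : K → ℂ) a = (θ : K → ℂ) ⟨g * a * g⁻¹, hK.conj_mem a a.2 g⟩ := by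
    intro a
    rw [← hg, conjFn_apply]
  have hone : (θ' : K → ℂ) 1 = (θ : K → ℂ) 1 := by
    rw [hval]
    have h1 : (⟨g * ((1 : K) : L) * g⁻¹, hK.conj_mem _ (1 : K).2 g⟩ : K) = 1 := by
      apply Subtype.ext
      simp
    rw [h1]
  refine ⟨⟨?_, ?_⟩, ?_⟩
  · intro h1
    apply hθ.1
    have h2 : (θ : K → ℂ) = conjFn K g⁻¹ (θ' : K → ℂ) := by
      rw [← hg, conjFn_inv_conjFn]
    rw [h2, h1]
    rfl
  · intro a ha
    rw [hone, hval]
    exact hθ.2 _ (hA.conj_mem a ha g)
  · have := irrDeg_spec θ'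
    rw [hone, irrDeg_spec] at this
    exact_mod_cast this.symm

/-- `∑_{φ ∈ S(A)} φ(1)² / ⟨φ,φ⟩ = [L:K] ([K:A] - 1)`. -/
theorem sum_inducedFinset [Fintype (IrrCharacter K)] (A : Subgroup L) [hA : A.Normal]
    (d n : (L → ℂ) → ℕ)
    (hd : ∀ φ ∈ inducedIrrAbove K A, φ 1 = (d φ : ℂ))
    (hn : ∀ φ ∈ inducedIrrAbove K A, classInner φ φ = (n φ : ℂ)) :
    ∑ φ ∈ inducedFinset K A, ((d φ : ℝ) ^ 2 / (n φ : ℝ))
      = (K.index : ℝ) * ((A.relIndex K : ℝ) - 1) := by
  have hstep : ∑ φ ∈ inducedFinset K A, ((d φ : ℝ) ^ 2 / (n φ : ℝ))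
      = ∑ θ ∈ irrAboveFinset K A, ((K.index : ℝ) * (irrDeg θ : ℝ) ^ 2) := by
    unfold inducedFinset
    apply Finset.sum_image'
    intro θ hθ
    have hfib : (irrAboveFinset K A).filter
        (fun θ' : IrrCharacter K => indFun K (θ' : K → ℂ) = indFun K (θ : K → ℂ))
        = Finset.univ.filter
          (fun θ' : IrrCharacter K => indFun K (θ' : K → ℂ) = indFun K (θ : K → ℂ)) := by
      ext θ'
      simp only [Finset.mem_filter, Finset.mem_univ, true_and]
      exact ⟨fun h => h.2, fun h => ⟨(mem_irrAboveFinset_of_indFun_eq K A hθ h).1, h⟩⟩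
    have hconst : ∀ θ' ∈ (irrAboveFinset K A).filter
        (fun θ' : IrrCharacter K => indFun K (θ' : K → ℂ) = indFun K (θ : K → ℂ)),
        (K.index : ℝ) * (irrDeg θ' : ℝ) ^ 2 = (K.index : ℝ) * (irrDeg θ : ℝ) ^ 2 := by
      intro θ' hθ'
      rw [Finset.mem_filter] at hθ'
      rw [(mem_irrAboveFinset_of_indFun_eq K A hθ hθ'.2).2]
    rw [Finset.sum_congr rfl hconst, Finset.sum_const, nsmul_eq_mul, hfib]
    have hmem : indFun K (θ : K → ℂ) ∈ inducedIrrAbove K A := by
      rw [mem_irrAboveFinset] at hθ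
      exact ⟨θ.1, θ.2, hθ.1, hθ.2, rfl⟩
    have hdφ : d (indFun K (θ : K → ℂ)) = K.index * irrDeg θ := by
      have := hd _ hmem
      rw [indFun_apply_one, irrDeg_spec] at this
      exact_mod_cast this.symm
    have hnφ : (Finset.univ.filter (fun θ' : IrrCharacter K =>
        indFun K (θ' : K → ℂ) = indFun K (θ : K → ℂ))).card * n (indFun K (θ : K → ℂ))
        = K.index := by
      have := card_fiber_indFun K θ
      rw [hn _ hmem] at this
      exact_mod_cast this
    have hn0 : (n (indFun K (θ : K → ℂ)) : ℝ) ≠ 0 := by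
      intro h
      have h' : n (indFun K (θ : K → ℂ)) = 0 := by exact_mod_cast h
      rw [h', mul_zero] at hnφ
      exact Subgroup.index_ne_zero_of_finite hnφ.symm
    rw [hdφ, ← hnφ]
    push_cast
    field_simp
  rw [hstep, ← Finset.mul_sum]
  congr 1
  have hfilter : Finset.univ.filter (fun χ : IrrCharacter K =>
      ∀ x ∈ A.subgroupOf K, (χ : K → ℂ) x = (χ : K → ℂ) 1)
      = insert (trivialIrr K) (irrAboveFinset K A) := by
    ext θ
    rw [Finset.mem_filter, Finset.mem_insert, mem_irrAboveFinset]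
    constructor
    · rintro ⟨_, h⟩
      by_cases h1 : θ = trivialIrr K
      · left; exact h1
      · right
        exact ⟨fun h2 => h1 (Subtype.ext h2), fun a ha => h a (Subgroup.mem_subgroupOf.2 ha)⟩
    · rintro (h | h)
      · rw [h]; exact ⟨Finset.mem_univ _, fun _ _ => rfl⟩
      · exact ⟨Finset.mem_univ _, fun a ha => h.2 a (Subgroup.mem_subgroupOf.1 ha)⟩
  have hnotin : trivialIrr K ∉ irrAboveFinset K A := by
    rw [mem_irrAboveFinset]; intro h; exact h.1 rfl
  have h1 := sum_degree_sq_of_ker (K' := K) (A.subgroupOf K)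
  rw [hfilter, Finset.sum_insert hnotin] at h1
  have h2 : ((trivialIrr K : IrrCharacter K) : K → ℂ) 1 ^ 2 = 1 := by
    change (1 : ℂ) ^ 2 = 1
    rw [one_pow]
  rw [h2, Finset.sum_congr rfl (fun θ _ => by rw [irrDeg_spec])] at h1
  have h3 : Nat.card (A.subgroupOf K) * (1 + ∑ θ ∈ irrAboveFinset K A, irrDeg θ ^ 2) = Nat.card K := by
    exact_mod_cast h1
  have h4 : (A.subgroupOf K).index * Nat.card (A.subgroupOf K) = Nat.card K :=
    Subgroup.index_mul_card _
  have hpos : 0 < Nat.card (A.subgroupOf K) := Nat.card_pos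
  have h5 : 1 + ∑ θ ∈ irrAboveFinset K A, irrDeg θ ^ 2 = A.relIndex K := by
    rw [Subgroup.relIndex]
    apply Nat.eq_of_mul_eq_mul_left hpos
    rw [h3, ← h4, mul_comm]
  rw [← h5]
  push_cast
  ring

end IndIrr

section Solvable

/-- A proper normal subgroup of a finite solvable group lies in the kernel of a nontrivial
linear character. -/
theorem exists_linear_trivialOn_of_solvable {K' : Type*} [Group K'] [Finite K']
    [hs : Group.IsSolvable K'] (N : Subgroup K') [N.Normal] (hN : N ≠ ⊤) :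
    ∃ φ : K' →* ℂˣ, (∀ n ∈ N, φ n = 1) ∧ ∃ t, φ t ≠ 1 := by
  haveI : Nontrivial (K' ⧸ N) := QuotientGroup.nontrivial_iff.2 hN
  have hlt := Group.IsSolvable.commutator_lt_top_of_nontrivial (K' ⧸ N)
  set M := (commutator (K' ⧸ N)).comap (QuotientGroup.mk' N) with hM
  have hNM : N ≤ M := by
    intro n hn
    rw [hM, Subgroup.mem_comap, QuotientGroup.mk'_apply, (QuotientGroup.eq_one_iff n).2 hn]
    exact one_mem _
  have hab : ∀ x y : K', x * y * x⁻¹ * y⁻¹ ∈ M := by
    intro x y
    rw [hM, Subgroup.mem_comap]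
    simp only [map_mul, map_inv]
    exact Subgroup.commutator_mem_commutator (Subgroup.mem_top _) (Subgroup.mem_top _)
  obtain ⟨q, -, hq⟩ := SetLike.exists_of_lt hlt
  obtain ⟨t, rfl⟩ := QuotientGroup.mk_surjective q
  have ht : t ∉ M := hq
  obtain ⟨φ, hφ, hφt⟩ := exists_char_trivial_ne_one_of_abelian_quotient M hab ht
  exact ⟨φ, fun n hn => hφ n (hNM hn), t, hφt⟩

open Classical in
/-- For `K` solvable and `A < K`, there is a nonprincipal linear character of `K` trivial on
`A`. -/
theorem exists_linear_mem_irrAboveFinset {L : Type*} [Group L] [Fintype L] (K : Subgroup L)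
    [Fintype (IrrCharacter K)] (hs : Group.IsSolvable K) (A : Subgroup L) [A.Normal]
    (hAK : A < K) : ∃ θ : IrrCharacter K, θ ∈ irrAboveFinset K A ∧ irrDeg θ = 1 := by
  haveI := hs
  have hN : A.subgroupOf K ≠ ⊤ := by
    rw [Ne, Subgroup.subgroupOf_eq_top]
    exact not_le_of_gt hAK
  obtain ⟨φ, hφ, t, ht⟩ := exists_linear_trivialOn_of_solvable (A.subgroupOf K) hN
  refine ⟨⟨fun g => (φ g : ℂ), isIrrCharacter_of_monoidHom φ⟩, ?_, ?_⟩
  · rw [mem_irrAboveFinset]
    constructor
    · intro h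
      apply ht
      have := congrFun h t
      exact Units.ext this
    · intro a ha
      change (φ a : ℂ) = (φ 1 : ℂ)
      rw [hφ a (Subgroup.mem_subgroupOf.2 ha), map_one]
  · have h1 := irrDeg_spec (⟨fun g => (φ g : ℂ), isIrrCharacter_of_monoidHom φ⟩ : IrrCharacter K)
    change (φ 1 : ℂ) = _ at h1
    rw [map_one, Units.val_one] at h1
    exact_mod_cast h1.symm

end Solvable

end Cfsg.Agent.Lib.Helper11
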