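import Cfsg.Prelude.Def_OddOrderLocal
import Cfsg.Agent.S1514
import Cfsg.Agent.S1522
import Cfsg.Agent.Lib.Helper11.TIInduction
import Cfsg.Agent.Lib.Helper11.FrobBasic
import Cfsg.Agent.Lib.Helper11.Coherence4
import Cfsg.Agent.Lib.Helper2.FrobeniusGroup
import Cfsg.Agent.Lib.Helper2.Exceptional

/-!
Characters of a Frobenius group `L` with kernel `H` which is a TI-subset of `G` with normaliser
`L`: the coherence system given by induction, and a value formula for class functions of `L`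
whose multiplicities in the characters not containing `Z` in their kernel are proportional to
the degrees.
-/

set_option autoImplicit false

namespace Cfsg.Agent.Lib.Helper11

open Cfsg
open Cfsg.Agent.Lib.Helper2
open scoped ComplexConjugate

/-- Fusion of a TI-subgroup is controlled by its normaliser. -/
theorem ti_fusion {G : Type*} [Group G] (H L : Subgroup G) (hTI : IsTISubset (H : Set G))
    (hN : Subgroup.normalizer (H : Set G) = L) :
    ∀ a ∈ {g : G | g ∈ H ∧ g ≠ 1}, ∀ x : G, x⁻¹ * a * x ∈ {g : G | g ∈ H ∧ g ≠ 1} → x ∈ L := by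
  intro a ha x hx
  by_contra hxL
  have hx' : x⁻¹ ∉ Subgroup.normalizer (H : Set G) := by
    rw [hN]
    intro h
    exact hxL (by simpa using L.inv_mem h)
  have h1 : x⁻¹ * a * x⁻¹⁻¹ ∈ (H : Set G) := by
    rw [inv_inv]
    exact hx.1
  exact ha.2 (hTI x⁻¹ hx' a ha.1 h1)

/-- Integer combinations of functions induced from a normal subgroup `K` are class functions
vanishing off `K`, and are generalized characters. -/
theorem zspan_induced_props {Λ : Type*} [Group Λ] [Fintype Λ] (K : Subgroup Λ) [hK : K.Normal]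
    (A : Subgroup Λ) {α : Λ → ℂ} (hα : α ∈ zspan (inducedIrrAbove K A)) :
    IsClassFunction Λ α ∧ (∀ l : Λ, l ∉ K → α l = 0) ∧ IsGeneralizedCharacter Λ α := by
  have hα' : α ∈ Submodule.span ℤ (inducedIrrAbove K A) := hα
  clear hα
  induction hα' using Submodule.span_induction with
  | mem x hx =>
    obtain ⟨θ, hθ, -, -, rfl⟩ := hx
    exact ⟨Cfsg.Agent.Lib.Helper2.indFun_isClassFunction K θ,
      fun l hl => indFun_apply_not_mem K θ hl,
      isGenChar_of_isChar (indFun_isCharacter K θ (IsIrrCharacter.isCharacter hθ))⟩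
  | zero => exact ⟨fun _ _ => rfl, fun _ _ => rfl, isGenChar_zero⟩
  | add x y _ _ hx hy =>
    exact ⟨fun g h => by rw [Pi.add_apply, Pi.add_apply, hx.1 g h, hy.1 g h],
      fun l hl => by rw [Pi.add_apply, hx.2.1 l hl, hy.2.1 l hl, add_zero],
      isGenChar_add hx.2.2 hy.2.2⟩
  | smul n x _ hx =>
    exact ⟨fun g h => by rw [Pi.smul_apply, Pi.smul_apply, hx.1 g h],
      fun l hl => by rw [Pi.smul_apply, hx.2.1 l hl, smul_zero],
      isGenChar_zsmul n hx.2.2⟩

/-- Induction preserves generalized characters. -/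
theorem isGenChar_indFun {G : Type*} [Group G] [Fintype G] (L : Subgroup G) {α : L → ℂ}
    (hα : IsGeneralizedCharacter L α) : IsGeneralizedCharacter G (indFun L α) := by
  obtain ⟨χ, ψ, hχ, hψ, rfl⟩ := hα
  exact ⟨indFun L χ, indFun L ψ, indFun_isCharacter L χ hχ, indFun_isCharacter L ψ hψ,
    indFun_sub L χ ψ⟩

/-- Inner products of generalized characters are symmetric. -/
theorem classInner_comm_of_genChar {G : Type*} [Group G] [Fintype G] {a b : G → ℂ}
    (ha : IsGeneralizedCharacter G a) (hb : IsGeneralizedCharacter G b) :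
    classInner a b = classInner b a := by
  obtain ⟨k, hk⟩ := IsGeneralizedCharacter.inner_int ha hb
  rw [← classInner_conj_symm a b, hk, map_intCast]

section TI

variable {G : Type*} [Group G] [Fintype G] (H L : Subgroup G) [Fintype L]
  [hK : (H.subgroupOf L).Normal]

/-- Induction from `L` to `G` is an isometry on the integer combinations, vanishing at `1`,
of the characters of `L` induced from a TI-subgroup `H` with normaliser `L`. -/
theorem isLinearIsometryOn_indFun_of_TI (hTI : IsTISubset (H : Set G))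
    (hN : Subgroup.normalizer (H : Set G) = L) :
    IsLinearIsometryOn (zspanOn (inducedIrrAbove (H.subgroupOf L) ⊥) {1}ᶜ)
        (fun α : L → ℂ => indFun L α) ∧
      ∀ α ∈ zspanOn (inducedIrrAbove (H.subgroupOf L) ⊥) {1}ᶜ, indFun L α 1 = 0 := by
  have hfus := ti_fusion H L hTI hN
  have hvan : ∀ α ∈ zspanOn (inducedIrrAbove (H.subgroupOf L) ⊥) {1}ᶜ, ∀ l : L,
      (l : G) ∉ {g : G | g ∈ H ∧ g ≠ 1} → α l = 0 := by
    intro α hα l hl
    by_cases h1 : l = 1
    · rw [h1]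
      exact hα.2 1 (by simp)
    · apply (zspan_induced_props (H.subgroupOf L) ⊥ hα.1).2.1
      intro hlK
      apply hl
      refine ⟨Subgroup.mem_subgroupOf.1 hlK, ?_⟩
      intro h
      apply h1
      exact Subtype.ext h
  refine ⟨⟨?_, ?_, ?_, ?_⟩, ?_⟩
  · intro α _ β _
    exact indFun_add L α β
  · intro α _ n
    show indFun L (n • α) = n • indFun L α
    rw [zsmul_eq_complex_smul, zsmul_eq_complex_smul, indFun_smul]
  · intro α hα β hβ
    exact classInner_indFun_indFun_of_TI L _ hfus α β (hvan α hα)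
      (zspan_induced_props (H.subgroupOf L) ⊥ hβ.1).1 (hvan β hβ)
  · intro α hα
    exact isGenChar_indFun L (zspan_induced_props (H.subgroupOf L) ⊥ hα.1).2.2
  · intro α hα
    rw [indFun_apply_one, hα.2 1 (by simp), mul_zero]

end TI

/-- A Frobenius kernel has a complement acting without fixed points (Schur–Zassenhaus). -/
theorem exists_complement_of_frob {Λ : Type*} [Group Λ] [Finite Λ] (K : Subgroup Λ)
    [hK : K.Normal] (hF : ∀ k ∈ K, k ≠ 1 → ∀ x : Λ, x * k = k * x → x ∈ K) :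
    Nat.Coprime (Nat.card K) K.index ∧ ∃ W : Subgroup Λ, K ⊔ W = ⊤ ∧ K ⊓ W = ⊥ ∧
      ∀ w ∈ W, w ≠ 1 → ∀ k ∈ K, w * k = k * w → k = 1 := by
  have hdvd := index_dvd_card_sub_one_of_frob K hF K le_rfl
  have hcop : Nat.Coprime (Nat.card K) K.index := by
    obtain ⟨t, ht⟩ := hdvd
    have hpos : 0 < Nat.card K := Nat.card_pos
    have hcard : Nat.card K = K.index * t + 1 := by omega
    have key : ∀ g : ℕ, g ∣ Nat.card K → g ∣ K.index → g ∣ 1 := by
      intro g h1 h2
      have h2' : g ∣ K.index * t := h2.mul_right t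
      rw [hcard] at h1
      exact (Nat.dvd_add_right h2').1 h1
    exact Nat.dvd_one.1 (key _ (Nat.gcd_dvd_left _ _) (Nat.gcd_dvd_right _ _))
  obtain ⟨W, hW⟩ := Subgroup.exists_right_complement'_of_coprime hcop
  have hinf : K ⊓ W = ⊥ := disjoint_iff.1 hW.disjoint
  refine ⟨hcop, W, hW.sup_eq_top, hinf, ?_⟩
  intro w hw hw1 k hk hwk
  by_contra hk1
  have h1 : w ∈ K := hF k hk hk1 w hwk
  have h2 : w ∈ K ⊓ W := ⟨h1, hw⟩
  rw [hinf] at h2
  exact hw1 (Subgroup.mem_bot.1 h2)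

section System

variable {G : Type*} [Group G] [Fintype G] (H L : Subgroup G) [Fintype L]
  [hK : (H.subgroupOf L).Normal]

/-- The coherence system attached to a Frobenius group `L` of odd order whose kernel `H` is a
TI-subset of `G` with normaliser `L`. -/
theorem frob_coherence_system (hodd : Odd (Nat.card L)) (hK1 : H.subgroupOf L ≠ ⊥)
    (hF : ∀ k ∈ H.subgroupOf L, k ≠ 1 → ∀ x : L, x * k = k * x → x ∈ H.subgroupOf L)
    (hTI : IsTISubset (H : Set G)) (hN : Subgroup.normalizer (H : Set G) = L) :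
    (∀ χ ∈ inducedIrrAbove (H.subgroupOf L) ⊥, IsIrrCharacter L χ) ∧
    ∃ R : (L → ℂ) → Finset (G → ℂ),
      IsCoherenceSystem (inducedIrrAbove (H.subgroupOf L) ⊥) (fun α : L → ℂ => indFun L α) R := by
  obtain ⟨-, W, hsup, -, hfpf⟩ := exists_complement_of_frob (H.subgroupOf L) hF
  have hirr : ∀ χ ∈ inducedIrrAbove (H.subgroupOf L) ⊥, IsIrrCharacter L χ := by
    rintro χ ⟨θ, hθ, hθ1, -, rfl⟩
    exact isIrrCharacter_indFun_of_fpf (H.subgroupOf L) W hsup hfpf hθ hθ1
  refine ⟨hirr, ?_⟩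
  obtain ⟨hiso, hone⟩ := isLinearIsometryOn_indFun_of_TI H L hTI hN
  apply Cfsg.Agent.S1514.result (inducedIrrAbove (H.subgroupOf L) ⊥) ?_ hirr ?_ _ hiso hone
  · obtain ⟨θ, hθ⟩ := Cfsg.Agent.S1522.exists_irr_nontrivOn (H.subgroupOf L) (H.subgroupOf L)
      hK1 le_rfl
    refine ⟨indFun (H.subgroupOf L) (θ : (H.subgroupOf L) → ℂ), θ.1, θ.2, ?_, ?_, rfl⟩
    · intro h
      obtain ⟨z, -, hz⟩ := hθ
      rw [h] at hz
      exact hz rfl
    · intro a ha
      rw [Subgroup.mem_bot] at ha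
      have : a = 1 := Subtype.ext ha
      rw [this]
  · rintro χ ⟨θ, hθ, hθ1, hθA, rfl⟩
    refine ⟨conjFun_mem_inducedIrrAbove (H.subgroupOf L) ⟨θ, hθ, hθ1, hθA, rfl⟩, ?_⟩
    intro h
    have h0 := classInner_conj_indFun_indFun_of_odd (H.subgroupOf L) hodd hθ hθ1
    have h1 : (fun g => conj (indFun (H.subgroupOf L) θ g))
        = conjFun (indFun (H.subgroupOf L) θ) := rfl
    rw [h1, h] at h0
    have h2 := classInner_irrCharacter_self
      (⟨_, hirr _ ⟨θ, hθ, hθ1, hθA, rfl⟩⟩ : IrrCharacter L)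
    rw [h2] at h0
    exact one_ne_zero h0

/-- Multiplicities in the restriction to `L` of a class function of `G`, against a coherent
isometry extending induction. -/
theorem indFun_orth_prop (S₁ : Set (L → ℂ)) (τ₁ : (L → ℂ) → (G → ℂ))
    (hτ₁ : IsLinearIsometryOn (zspan S₁) τ₁)
    (hagree : ∀ α ∈ zspanOn S₁ {1}ᶜ, τ₁ α = indFun L α)
    (ξ : G → ℂ) (hξ : IsClassFunction G ξ)
    {ψ χ : L → ℂ} (hψ : ψ ∈ S₁) (hχ : χ ∈ S₁) (dψ dχ : ℕ) (hdψ : ψ 1 = (dψ : ℂ))
    (hdχ : χ 1 = (dχ : ℂ)) :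
    (dχ : ℂ) * classInner (τ₁ ψ) ξ - (dψ : ℂ) * classInner (τ₁ χ) ξ
      = (dχ : ℂ) * classInner ψ (fun l : L => ξ l)
        - (dψ : ℂ) * classInner χ (fun l : L => ξ l) := by
  set δ : L → ℂ := (dχ : ℤ) • ψ - (dψ : ℤ) • χ with hδ
  have hδC : δ = (dχ : ℂ) • ψ - (dψ : ℂ) • χ := by
    rw [hδ, zsmul_eq_complex_smul, zsmul_eq_complex_smul]
    push_cast
    rfl
  have hψm : ψ ∈ Submodule.span ℤ S₁ := Submodule.subset_span hψ
  have hχm : χ ∈ Submodule.span ℤ S₁ := Submodule.subset_span hχ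
  have hδmem : δ ∈ zspanOn S₁ {1}ᶜ := by
    refine ⟨Submodule.sub_mem _ (Submodule.smul_mem _ _ hψm) (Submodule.smul_mem _ _ hχm), ?_⟩
    intro x hx
    have hx1 : x = 1 := by simpa using hx
    subst hx1
    rw [hδC]
    simp only [Pi.sub_apply, Pi.smul_apply, smul_eq_mul]
    rw [hdψ, hdχ]
    ring
  have e1 : τ₁ δ = (dχ : ℂ) • τ₁ ψ - (dψ : ℂ) • τ₁ χ := by
    rw [hδ, isLinIso_sub (Submodule.span ℤ S₁) hτ₁ (Submodule.smul_mem _ _ hψm)
      (Submodule.smul_mem _ _ hχm), hτ₁.2.1 ψ hψm, hτ₁.2.1 χ hχm, zsmul_eq_complex_smul,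
      zsmul_eq_complex_smul]
    push_cast
    rfl
  have e2 : classInner (τ₁ δ) ξ = classInner δ (fun l : L => ξ l) := by
    rw [hagree δ hδmem, frobenius_reciprocity L δ ξ hξ]
  rw [e1, hδC] at e2
  simp only [classInner_sub_left, classInner_smul_left] at e2
  exact e2

end System

section Value

variable {Λ : Type*} [Group Λ] [Fintype Λ] (K : Subgroup Λ) [hK : K.Normal]
  (Z : Subgroup Λ) [hZ : Z.Normal]

/-- The value formula: if the multiplicities of `f` in the characters `ψ ∈ S ∖ S(Z)`, `ψ ≠ χ`,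
are `ψ(1) ((f,χ) - ν) / χ(1)`, then `f(1) - f(z)` is determined for `z ∈ Z`, `z ≠ 1`. -/
theorem restrict_value_formula (hZK : Z ≤ K)
    (hirr : ∀ χ ∈ inducedIrrAbove K ⊥ \ inducedIrrAbove K Z, IsIrrCharacter Λ χ)
    (f : Λ → ℂ) (hf : IsClassFunction Λ f) (χ : Λ → ℂ)
    (hχ : χ ∈ inducedIrrAbove K ⊥ \ inducedIrrAbove K Z) (ν : ℂ)
    (hprop : ∀ ψ ∈ inducedIrrAbove K ⊥ \ inducedIrrAbove K Z, ψ ≠ χ →
      χ 1 * classInner f ψ = ψ 1 * (classInner f χ - ν))
    (z : Λ) (hz : z ∈ Z) (hz1 : z ≠ 1) :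
    χ 1 * (f 1 - f z)
      = (classInner f χ - ν) * (Nat.card Λ : ℂ) + ν * χ 1 * (χ 1 - χ z) := by
  classical
  haveI : Fintype (IrrCharacter Λ) := Fintype.ofFinite _
  have hX := Cfsg.Agent.S1522.diff_eq_irr K Z hZK hirr
  set χ' : IrrCharacter Λ := ⟨χ, hirr χ hχ⟩ with hχ'
  have hexp := classFunction_expansion f hf
  have hval : ∀ g : Λ, f g
      = ∑ μ : IrrCharacter Λ, classInner f (μ : Λ → ℂ) * (μ : Λ → ℂ) g := by
    intro g
    have h := congrFun hexp g
    simp only [Finset.sum_apply, Pi.smul_apply, smul_eq_mul] at h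
    exact h
  have hterm : ∀ μ : IrrCharacter Λ,
      χ 1 * (classInner f (μ : Λ → ℂ) * ((μ : Λ → ℂ) 1 - (μ : Λ → ℂ) z))
      = (classInner f χ - ν) * ((μ : Λ → ℂ) 1 * ((μ : Λ → ℂ) 1 - (μ : Λ → ℂ) z))
        + (if μ = χ' then ν * χ 1 * (χ 1 - χ z) else 0) := by
    intro μ
    by_cases hμχ : μ = χ'
    · rw [if_pos hμχ, hμχ]
      show χ 1 * (classInner f χ * (χ 1 - χ z))
        = (classInner f χ - ν) * (χ 1 * (χ 1 - χ z)) + ν * χ 1 * (χ 1 - χ z)
      ring
    · rw [if_neg hμχ, add_zero]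
      have hne : (μ : Λ → ℂ) ≠ χ := fun h => hμχ (Subtype.ext h)
      by_cases hμX : (μ : Λ → ℂ) ∈ inducedIrrAbove K ⊥ \ inducedIrrAbove K Z
      · have h3 := hprop _ hμX hne
        linear_combination ((μ : Λ → ℂ) 1 - (μ : Λ → ℂ) z) * h3
      · have hμz : (μ : Λ → ℂ) z = (μ : Λ → ℂ) 1 := by
          by_contra hcon
          apply hμX
          rw [hX]
          exact ⟨μ.2, z, hz, hcon⟩
        rw [hμz, sub_self, mul_zero, mul_zero, mul_zero, mul_zero]
  have hsum : χ 1 * (f 1 - f z) = ∑ μ : IrrCharacter Λ,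
      χ 1 * (classInner f (μ : Λ → ℂ) * ((μ : Λ → ℂ) 1 - (μ : Λ → ℂ) z)) := by
    rw [hval 1, hval z, ← Finset.sum_sub_distrib, Finset.mul_sum]
    apply Finset.sum_congr rfl
    intro μ _
    ring
  have hcol : ∑ μ : IrrCharacter Λ, (μ : Λ → ℂ) 1 * ((μ : Λ → ℂ) 1 - (μ : Λ → ℂ) z)
      = (Nat.card Λ : ℂ) := by
    have h1 := sum_irr_degree_mul (G := Λ) z
    rw [if_neg hz1] at h1
    have h2 := sum_irr_degree_sq (G := Λ)
    rw [← h2, ← sub_zero (∑ μ : IrrCharacter Λ, (μ : Λ → ℂ) 1 ^ 2), ← h1,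
      ← Finset.sum_sub_distrib]
    apply Finset.sum_congr rfl
    intro μ _
    ring
  rw [hsum, Finset.sum_congr rfl (fun μ _ => hterm μ), Finset.sum_add_distrib, ← Finset.mul_sum,
    Finset.sum_ite_eq' Finset.univ χ', if_pos (Finset.mem_univ _), hcol]

end Value

end Cfsg.Agent.Lib.Helper11
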