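import Cfsg.Prelude.Def_OddOrderLocal
import Cfsg.Agent.Lib.Helper11.TIInduction
import Cfsg.Agent.Lib.Helper11.FrobTI
import Cfsg.Agent.Lib.Helper2.Induction

/-!
A finite group covered by the conjugates of TI-subgroups `H i` (with normalisers `L i`) of
pairwise coprime orders: inner products of class functions of `G` decompose as a sum of local
contributions.
-/

set_option autoImplicit false

namespace Cfsg.Agent.Lib.Helper11

open Cfsg
open Cfsg.Agent.Lib.Helper2
open scoped ComplexConjugate

section Cut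

variable {G : Type*} [Group G]

/-- The nonidentity elements of `H`. -/
def nonid (H : Subgroup G) : Set G := {g : G | g ∈ H ∧ g ≠ 1}

/-- The nonidentity elements of `L` lying in `H`. -/
def cutSet (H L : Subgroup G) : Set L := {l : L | (l : G) ∈ H ∧ (l : G) ≠ 1}

/-- The nonidentity elements of `G` conjugate to an element of `H`. -/
def conjSet (H : Subgroup G) : Set G := {y : G | y ≠ 1 ∧ ∃ x : G, x * y * x⁻¹ ∈ H}

theorem one_not_mem_conjSet (H : Subgroup G) : (1 : G) ∉ conjSet H := fun h => h.1 rfl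

theorem mem_conjSet_of_mem (H : Subgroup G) {k : G} (hk : k ∈ H) (hk1 : k ≠ 1) :
    k ∈ conjSet H := ⟨hk1, 1, by simpa using hk⟩

/-- Conjugates of subgroups of coprime orders meet trivially. -/
theorem conjSet_disjoint [Finite G] (H₁ H₂ : Subgroup G)
    (hcop : Nat.Coprime (Nat.card H₁) (Nat.card H₂)) {y : G} (h1 : y ∈ conjSet H₁)
    (h2 : y ∈ conjSet H₂) : False := by
  have key : ∀ H' : Subgroup G, y ∈ conjSet H' → orderOf y ∣ Nat.card H' := by
    intro H' hy
    obtain ⟨-, x, hx⟩ := hy
    apply orderOf_dvd_of_pow_eq_one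
    have h3 : (⟨x * y * x⁻¹, hx⟩ : H') ^ Nat.card H' = 1 := pow_card_eq_one'
    have h4 : (x * y * x⁻¹) ^ Nat.card H' = 1 := by
      have h6 : ((⟨x * y * x⁻¹, hx⟩ : H') : G) ^ Nat.card H' = 1 := by
        rw [← Subgroup.coe_pow, h3, Subgroup.coe_one]
      exact h6
    rw [conj_pow] at h4
    have h5 : y ^ Nat.card H' = x⁻¹ * (x * y ^ Nat.card H' * x⁻¹) * x := by group
    rw [h5, h4]
    group
  have hd : orderOf y ∣ 1 := by
    have := Nat.dvd_gcd (key H₁ h1) (key H₂ h2)
    rwa [hcop] at this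
  have : orderOf y = 1 := Nat.dvd_one.1 hd
  exact h1.1 (orderOf_eq_one_iff.1 this)

variable [Fintype G]

/-- Induced functions vanish outside the conjugates of the support. -/
theorem indFun_eq_zero_of_not_mem_conjSet (H L : Subgroup G) (α : L → ℂ)
    (hα : ∀ l : L, l ∉ cutSet H L → α l = 0) {y : G} (hy : y ∉ conjSet H) :
    indFun L α y = 0 := by
  rw [indFun_apply]
  have h0 : ∀ x : G, extendByZero L α (x⁻¹ * y * x) = 0 := by
    intro x
    by_cases hx : x⁻¹ * y * x ∈ L
    · rw [extendByZero_of_mem L α hx]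
      apply hα
      rintro ⟨h1, h2⟩
      apply hy
      refine ⟨?_, x⁻¹, ?_⟩
      · intro hy1
        apply h2
        show x⁻¹ * y * x = 1
        rw [hy1]
        group
      · rw [inv_inv]
        exact h1
    · exact extendByZero_of_not_mem L α hx
  rw [Finset.sum_eq_zero (fun x _ => h0 x), mul_zero]

omit [Fintype G] in
/-- Cutting a class function of `G` down to `H ∖ 1` gives a class function of `L`. -/
theorem cutIndicator_isClassFunction (H L : Subgroup G)
    (hHn : ∀ x ∈ L, ∀ h ∈ H, x * h * x⁻¹ ∈ H) (f : G → ℂ) (hf : IsClassFunction G f) :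
    IsClassFunction L (Set.indicator (cutSet H L) (fun l : L => f l)) := by
  intro g h
  have hiff : h * g * h⁻¹ ∈ cutSet H L ↔ g ∈ cutSet H L := by
    constructor
    · rintro ⟨h1, h2⟩
      refine ⟨?_, ?_⟩
      · have h3 := hHn (h⁻¹ : L) (h⁻¹ : L).2 _ h1
        have h4 : ((h⁻¹ : L) : G) * ((h * g * h⁻¹ : L) : G) * ((h⁻¹ : L) : G)⁻¹ = (g : G) := by
          simp only [Subgroup.coe_mul, Subgroup.coe_inv]
          group
        rwa [h4] at h3
      · intro hg1
        apply h2
        have : g = 1 := Subtype.ext hg1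
        rw [this]
        simp
    · rintro ⟨h1, h2⟩
      refine ⟨?_, ?_⟩
      · have h3 := hHn (h : G) h.2 _ h1
        simpa using h3
      · intro hc
        apply h2
        have h4 : ((h * g * h⁻¹ : L) : G) = (h : G) * g * (h : G)⁻¹ := by simp
        rw [h4] at hc
        have h5 : (g : G) = (h : G)⁻¹ * ((h : G) * g * (h : G)⁻¹) * h := by group
        rw [h5, hc]
        group
  by_cases hg : g ∈ cutSet H L
  · rw [Set.indicator_of_mem (hiff.2 hg), Set.indicator_of_mem hg]
    have h4 : ((h * g * h⁻¹ : L) : G) = (h : G) * g * (h : G)⁻¹ := by simp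
    show f ((h * g * h⁻¹ : L) : G) = f g
    rw [h4]
    exact hf g h
  · rw [Set.indicator_of_notMem (fun hc => hg (hiff.1 hc)), Set.indicator_of_notMem hg]

variable (H L : Subgroup G) [Fintype L]

open Classical in
/-- The function induced from the indicator of `H ∖ 1` is the indicator of the conjugates. -/
theorem indFun_cutIndicator (hHL : H ≤ L) (hHn : ∀ x ∈ L, ∀ h ∈ H, x * h * x⁻¹ ∈ H)
    (hTI : IsTISubset (H : Set G)) (hN : Subgroup.normalizer (H : Set G) = L) (y : G) :
    indFun L (Set.indicator (cutSet H L) (fun _ => (1 : ℂ))) y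
      = if y ∈ conjSet H then 1 else 0 := by
  classical
  set γ : L → ℂ := Set.indicator (cutSet H L) (fun _ => (1 : ℂ)) with hγ
  have hγclass : IsClassFunction L γ :=
    cutIndicator_isClassFunction H L hHn (fun _ => 1) (fun _ _ => rfl)
  have hγvan : ∀ l : L, l ∉ cutSet H L → γ l = 0 := fun l hl => Set.indicator_of_notMem hl _
  by_cases hy : y ∈ conjSet H
  · rw [if_pos hy]
    obtain ⟨hy1, x, hx⟩ := hy
    have hk1 : x * y * x⁻¹ ≠ 1 := by
      intro h
      apply hy1
      have h5 : y = x⁻¹ * (x * y * x⁻¹) * x := by group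
      rw [h5, h]
      group
    have hcl := Cfsg.Agent.Lib.Helper2.indFun_isClassFunction L γ y x
    rw [← hcl]
    have hfus := ti_fusion H L hTI hN
    have hmem : (⟨x * y * x⁻¹, hHL hx⟩ : L) ∈ cutSet H L := ⟨hx, hk1⟩
    have h6 := indFun_apply_of_TI L {g : G | g ∈ H ∧ g ≠ 1} hfus γ hγclass
      (fun l hl => hγvan l hl) ⟨x * y * x⁻¹, hHL hx⟩ ⟨hx, hk1⟩
    rw [h6, hγ, Set.indicator_of_mem hmem]
  · rw [if_neg hy]
    exact indFun_eq_zero_of_not_mem_conjSet H L γ hγvan hy

/-- The local contribution of the constant functions. -/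
theorem classInner_cutIndicator_one (hHL : H ≤ L) :
    classInner (Set.indicator (cutSet H L) (fun _ => (1 : ℂ))) (fun _ : L => (1 : ℂ))
      = (Nat.card L : ℂ)⁻¹ * ((Nat.card H : ℂ) - 1) := by
  classical
  rw [classInner_def]
  congr 1
  have h1 : ∀ l : L, Set.indicator (cutSet H L) (fun _ => (1 : ℂ)) l * conj ((fun _ : L => (1 : ℂ)) l)
      = if l ∈ cutSet H L then 1 else 0 := by
    intro l
    rw [Set.indicator_apply]
    simp
  rw [Finset.sum_congr rfl (fun l _ => h1 l), Finset.sum_boole]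
  have h2 : (Finset.univ.filter (fun l : L => l ∈ cutSet H L)).card = Nat.card H - 1 := by
    have h3 : cutSet H L = ((H.subgroupOf L : Subgroup L) : Set L) \ {1} := by
      ext l
      simp only [cutSet, Set.mem_ofPred_eq, Set.mem_sdiff, SetLike.mem_coe, Subgroup.mem_subgroupOf,
        Set.mem_singleton_iff]
      constructor
      · rintro ⟨h, h'⟩
        exact ⟨h, fun hc => h' (by rw [hc]; rfl)⟩
      · rintro ⟨h, h'⟩
        exact ⟨h, fun hc => h' (Subtype.ext hc)⟩
    have h4 : (Finset.univ.filter (fun l : L => l ∈ cutSet H L)).card = (cutSet H L).ncard := by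
      rw [← Nat.card_coe_set_eq, Nat.card_eq_fintype_card, Fintype.card_subtype]
    rw [h4, h3, Set.ncard_sdiff_singleton_of_mem (Subgroup.one_mem _), ← Nat.card_coe_set_eq]
    have h5 : Nat.card ↥((H.subgroupOf L : Subgroup L) : Set L) = Nat.card H :=
      Nat.card_congr (Subgroup.subgroupOfEquivOfLe hHL).toEquiv
    rw [h5]
  rw [h2]
  have hpos : 1 ≤ Nat.card H := Nat.card_pos
  push_cast [Nat.cast_sub hpos]
  ring

omit [Fintype G] in
/-- Local contributions only depend on the values on `H ∖ 1`. -/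
theorem classInner_cutIndicator_congr {f₁ f₂ f₁' f₂' : L → ℂ}
    (h1 : ∀ l ∈ cutSet H L, f₁ l = f₁' l) (h2 : ∀ l ∈ cutSet H L, f₂ l = f₂' l) :
    classInner (Set.indicator (cutSet H L) f₁) f₂
      = classInner (Set.indicator (cutSet H L) f₁') f₂' := by
  rw [classInner_def, classInner_def]
  congr 1
  apply Finset.sum_congr rfl
  intro l _
  by_cases hl : l ∈ cutSet H L
  · rw [Set.indicator_of_mem hl, Set.indicator_of_mem hl, h1 l hl, h2 l hl]
  · rw [Set.indicator_of_notMem hl, Set.indicator_of_notMem hl, zero_mul, zero_mul]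

/-- Local contribution of functions constant on `H ∖ 1`. -/
theorem classInner_cutIndicator_const (hHL : H ≤ L) {f₁ f₂ : L → ℂ} (c₁ c₂ : ℂ)
    (h1 : ∀ l ∈ cutSet H L, f₁ l = c₁) (h2 : ∀ l ∈ cutSet H L, f₂ l = c₂) :
    classInner (Set.indicator (cutSet H L) f₁) f₂
      = c₁ * conj c₂ * ((Nat.card L : ℂ)⁻¹ * ((Nat.card H : ℂ) - 1)) := by
  rw [classInner_cutIndicator_congr H L (f₁' := fun _ => c₁) (f₂' := fun _ => c₂) h1 h2,
    ← classInner_cutIndicator_one H L hHL]
  have e1 : Set.indicator (cutSet H L) (fun _ : L => c₁)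
      = c₁ • Set.indicator (cutSet H L) (fun _ : L => (1 : ℂ)) := by
    funext l
    by_cases hl : l ∈ cutSet H L
    · simp [Set.indicator_of_mem hl]
    · simp [Set.indicator_of_notMem hl]
  have e2 : (fun _ : L => c₂) = c₂ • (fun _ : L => (1 : ℂ)) := by
    funext l
    simp
  rw [e1, e2, classInner_smul_left, classInner_smul_right]
  ring

end Cut

section Cover

variable {G : Type*} [Group G] [Fintype G] {ι : Type*} [Fintype ι] (H L : ι → Subgroup G)
  [∀ i, Fintype (L i)]

/-- Decomposition of the inner product of two class functions of a group covered by the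
conjugates of TI-subgroups of pairwise coprime orders. -/
theorem classInner_eq_sum_cut (hHL : ∀ i, H i ≤ L i)
    (hHn : ∀ i, ∀ x ∈ L i, ∀ h ∈ H i, x * h * x⁻¹ ∈ H i)
    (hcop : ∀ i j, i ≠ j → Nat.Coprime (Nat.card (H i)) (Nat.card (H j)))
    (hTI : ∀ i, IsTISubset (H i : Set G) ∧ Subgroup.normalizer (H i : Set G) = L i)
    (hcover : ∀ g : G, g ≠ 1 → ∃ i, ∃ x : G, x * g * x⁻¹ ∈ H i)
    (F₁ F₂ : G → ℂ) (h₁ : IsClassFunction G F₁) (h₂ : IsClassFunction G F₂) :
    classInner F₁ F₂ = (Nat.card G : ℂ)⁻¹ * (F₁ 1 * conj (F₂ 1))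
      + ∑ i, classInner (Set.indicator (cutSet (H i) (L i)) (fun l : L i => F₁ l))
          (fun l : L i => F₂ l) := by
  classical
  set γ : ∀ i, L i → ℂ := fun i => Set.indicator (cutSet (H i) (L i)) (fun _ => (1 : ℂ)) with hγ
  have hInd : ∀ i y, indFun (L i) (γ i) y = if y ∈ conjSet (H i) then 1 else 0 := fun i y =>
    indFun_cutIndicator (H i) (L i) (hHL i) (hHn i) (hTI i).1 (hTI i).2 y
  have hunity : ∀ y : G, (if y = 1 then (1 : ℂ) else 0) + ∑ i, indFun (L i) (γ i) y = 1 := by
    intro y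
    by_cases hy : y = 1
    · rw [if_pos hy, Finset.sum_eq_zero, add_zero]
      intro i _
      rw [hInd, if_neg]
      rw [hy]
      exact one_not_mem_conjSet _
    · rw [if_neg hy, zero_add]
      obtain ⟨i₀, x, hx⟩ := hcover y hy
      rw [Finset.sum_eq_single i₀]
      · rw [hInd, if_pos]
        exact ⟨hy, x, hx⟩
      · intro j _ hj
        rw [hInd, if_neg]
        intro hyj
        exact conjSet_disjoint (H j) (H i₀) (hcop j i₀ hj) hyj ⟨hy, x, hx⟩
      · intro h
        exact absurd (Finset.mem_univ _) h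
  have hχclass : IsClassFunction G (fun y => conj (F₁ y) * F₂ y) := by
    intro g h
    show conj (F₁ (h * g * h⁻¹)) * F₂ (h * g * h⁻¹) = conj (F₁ g) * F₂ g
    rw [h₁ g h, h₂ g h]
  have hterm : ∀ i, classInner (indFun (L i) (γ i)) (fun y => conj (F₁ y) * F₂ y)
      = classInner (Set.indicator (cutSet (H i) (L i)) (fun l : L i => F₁ l))
          (fun l : L i => F₂ l) := by
    intro i
    rw [frobenius_reciprocity (L i) (γ i) _ hχclass, classInner_def, classInner_def]
    congr 1
    apply Finset.sum_congr rfl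
    intro l _
    by_cases hl : l ∈ cutSet (H i) (L i)
    · simp only [hγ, Set.indicator_of_mem hl, map_mul, Complex.conj_conj]
      ring
    · simp only [hγ, Set.indicator_of_notMem hl]
      ring
  have hterm' : ∀ i, (Nat.card G : ℂ)⁻¹ * ∑ y : G, F₁ y * conj (F₂ y) * indFun (L i) (γ i) y
      = classInner (Set.indicator (cutSet (H i) (L i)) (fun l : L i => F₁ l))
          (fun l : L i => F₂ l) := by
    intro i
    rw [← hterm i, classInner_def]
    congr 1
    apply Finset.sum_congr rfl
    intro y _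
    simp only [map_mul, Complex.conj_conj]
    ring
  rw [classInner_def]
  have hstep : ∑ y : G, F₁ y * conj (F₂ y)
      = F₁ 1 * conj (F₂ 1) + ∑ i, ∑ y : G, F₁ y * conj (F₂ y) * indFun (L i) (γ i) y := by
    rw [Finset.sum_comm]
    have h5 : ∀ y : G, F₁ y * conj (F₂ y)
        = F₁ y * conj (F₂ y) * (if y = 1 then (1 : ℂ) else 0)
          + ∑ i, F₁ y * conj (F₂ y) * indFun (L i) (γ i) y := by
      intro y
      rw [← Finset.mul_sum, ← mul_add, hunity y, mul_one]
    rw [Finset.sum_congr rfl (fun y _ => h5 y), Finset.sum_add_distrib]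
    congr 1
    rw [Finset.sum_eq_single (1 : G)]
    · rw [if_pos rfl, mul_one]
    · intro y _ hy
      rw [if_neg hy, mul_zero]
    · intro h
      exact absurd (Finset.mem_univ _) h
  rw [hstep, mul_add, Finset.mul_sum]
  congr 1
  apply Finset.sum_congr rfl
  intro i _
  exact hterm' i

end Cover

end Cfsg.Agent.Lib.Helper11
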