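import Cfsg.Agent.Lib.Helper11.CohExtend2
import Cfsg.Agent.Lib.Helper11.GenChar
import Cfsg.Agent.Lib.Helper11.SignedIrr
import Cfsg.Agent.Lib.Helper11.Coherence4

/-!
Sibley's gluing step for coherence: a coherent set `S₁` of irreducible characters whose degrees
are all multiples of the degree of some `χ ∈ S₁` can be enlarged by a character `φ` of *smaller*
degree (`χ(1) = a φ(1)`), provided that the multiplicities in `τ (a φ - χ)` of the irreducible
characters outside `τ₁(S₁)` are divisible by `a`, and `2 χ(1)² ≤ ∑_{ψ ∈ S₁} ψ(1)²`.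
-/

set_option autoImplicit false

namespace Cfsg.Agent.Lib.Helper11

open Cfsg
open Cfsg.Agent.Lib.Helper2
open scoped ComplexConjugate

section Sibley

variable {L : Type*} [Group L] [Fintype L] {G : Type*} [Group G] [Fintype G]
  {S : Set (L → ℂ)} {τ : (L → ℂ) → (G → ℂ)} {R : (L → ℂ) → Finset (G → ℂ)}

omit [Fintype L] in
/-- Values at `1` of integer combinations of functions whose values at `1` are multiples of `m`. -/
theorem apply_one_mem_of_dvd (d : (L → ℂ) → ℕ) (S₁ : Set (L → ℂ))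
    (hd : ∀ φ ∈ S₁, φ 1 = (d φ : ℂ)) (m : ℕ) (hm : ∀ ψ ∈ S₁, m ∣ d ψ) {β : L → ℂ}
    (hβ : β ∈ Submodule.span ℤ S₁) : ∃ k : ℤ, β 1 = (k : ℂ) * (m : ℂ) := by
  induction hβ using Submodule.span_induction with
  | mem x hx =>
    obtain ⟨c, hc⟩ := hm x hx
    exact ⟨c, by rw [hd x hx, hc]; push_cast; ring⟩
  | zero => exact ⟨0, by simp⟩
  | add x y _ _ hx hy =>
    obtain ⟨a, ha⟩ := hx
    obtain ⟨b, hb⟩ := hy
    exact ⟨a + b, by rw [Pi.add_apply, ha, hb]; push_cast; ring⟩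
  | smul n x _ hx =>
    obtain ⟨a, ha⟩ := hx
    exact ⟨n * a, by rw [Pi.smul_apply, ha, zsmul_eq_mul]; push_cast; ring⟩

/-- `τ (φ - conj φ)` is orthogonal to `τ₁ ψ` for `ψ` in a coherent set not containing `φ`,
`conj φ`. -/
theorem coh_T_orth (hS : IsCoherenceSystem S τ R) {S₁ : Set (L → ℂ)} (hS₁ : S₁ ⊆ S)
    (hS₁c : ∀ φ ∈ S₁, conjFun φ ∈ S₁) {τ₁ : (L → ℂ) → (G → ℂ)}
    (hτ₁ : IsLinearIsometryOn (zspan S₁) τ₁) (hagree : ∀ α ∈ zspanOn S₁ {1}ᶜ, τ₁ α = τ α)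
    {φ : L → ℂ} (hφ : φ ∈ S) {ψ : L → ℂ} (hψ : ψ ∈ S₁) (h1 : ψ ≠ φ) (h2 : ψ ≠ conjFun φ) :
    classInner (τ (φ - conjFun φ)) (τ₁ ψ) = 0 := by
  classical
  rw [hS.sum_eq φ hφ, classInner_sum_left]
  apply Finset.sum_eq_zero
  intro α hα
  rw [coh_tau1_mem_span hS hS₁ hS₁c hτ₁ hagree hψ, classInner_sum_right]
  apply Finset.sum_eq_zero
  intro β hβ
  rw [classInner_smul_right, coh_R_orth hS hφ (hS₁ hψ) h1 h2 α hα β hβ, mul_zero]

/-- Construction part of Sibley's step. -/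
theorem sibley_construct (hS : IsCoherenceSystem S τ R) (d : (L → ℂ) → ℕ)
    (hd : ∀ φ ∈ S, φ 1 = (d φ : ℂ)) (hn1 : ∀ φ ∈ S, classInner φ φ = 1)
    (S₁ : Finset (L → ℂ)) (hS₁ : ↑S₁ ⊆ S) (hS₁c : ∀ φ ∈ S₁, conjFun φ ∈ S₁)
    (τ₁ : (L → ℂ) → (G → ℂ)) (hτ₁ : IsLinearIsometryOn (zspan (↑S₁ : Set (L → ℂ))) τ₁)
    (hagree₁ : ∀ α ∈ zspanOn (↑S₁ : Set (L → ℂ)) {1}ᶜ, τ₁ α = τ α)
    (χ : L → ℂ) (hχ₁S : χ ∈ S₁) (hmin : ∀ ψ ∈ S₁, d χ ∣ d ψ)
    (φ : L → ℂ) (hφ : φ ∈ S) (hφ₁ : φ ∉ S₁) (hφ₂ : conjFun φ ∉ S₁)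
    (a : ℕ) (ha : d χ = a * d φ)
    (Γ' : G → ℂ) (hΓgen : IsGeneralizedCharacter G Γ') (hΓΓ : classInner Γ' Γ' = 1)
    (hΓorth : ∀ ψ ∈ S₁, classInner (τ₁ ψ) Γ' = 0)
    (hΓT : classInner Γ' (τ (φ - conjFun φ)) = 1)
    (hX : τ ((a : ℤ) • φ - χ) = (a : ℤ) • Γ' - τ₁ χ) :
    IsCoherent (↑S₁ ∪ {φ, conjFun φ} : Set (L → ℂ)) {1}ᶜ τ := by
  classical
  have hχS : χ ∈ S := hS₁ hχ₁S
  have hφc : conjFun φ ∈ S := hS.conj_mem φ hφ
  have hneφ : ∀ ψ ∈ S₁, ψ ≠ φ ∧ ψ ≠ conjFun φ := fun ψ hψ =>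
    ⟨fun h => hφ₁ (h ▸ hψ), fun h => hφ₂ (h ▸ hψ)⟩
  have hdφ : (d φ : ℂ) ≠ 0 := by rw [← hd φ hφ]; exact coh_apply_one_ne_zero hS hφ
  have hm2 : φ - conjFun φ ∈ zspanOn S {1}ᶜ := coh_sub_conj_mem hS hφ
  set Tφ := τ (φ - conjFun φ) with hTφ
  have hTgen : IsGeneralizedCharacter G Tφ := hS.isometry.2.2.2 _ hm2
  have hφφ : classInner φ φ = 1 := hn1 φ hφ
  have hφφc : classInner φ (conjFun φ) = 0 := coh_orth_conj hS hφ
  have hφcφ : classInner (conjFun φ) φ = 0 := by rw [← classInner_conj_symm, hφφc, map_zero]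
  have hφcφc : classInner (conjFun φ) (conjFun φ) = 1 := hn1 _ hφc
  have hTT : classInner Tφ Tφ = 2 := by
    rw [hTφ, hS.isometry.2.2.1 _ hm2 _ hm2, classInner_sub_left, classInner_sub_right,
      classInner_sub_right, hφφ, hφφc, hφcφ, hφcφc]
    ring
  have hTΓ : classInner Tφ Γ' = 1 := by
    rw [← classInner_conj_symm, hΓT, map_one]
  have hTψ : ∀ ψ ∈ S₁, classInner Tφ (τ₁ ψ) = 0 := fun ψ hψ =>
    coh_T_orth hS hS₁ hS₁c hτ₁ hagree₁ hφ (Finset.mem_coe.2 hψ) (hneφ ψ hψ).1 (hneφ ψ hψ).2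
  have hψT : ∀ ψ ∈ S₁, classInner (τ₁ ψ) Tφ = 0 := by
    intro ψ hψ
    rw [← classInner_conj_symm, hTψ ψ hψ, map_zero]
  set Xc := Γ' - Tφ with hXc
  have hXcgen : IsGeneralizedCharacter G Xc := isGenChar_sub hΓgen hTgen
  have hXcXc : classInner Xc Xc = 1 := by
    rw [hXc, classInner_sub_left, classInner_sub_right, classInner_sub_right, hΓΓ, hΓT, hTΓ, hTT]
    ring
  have hXcΓ : classInner Xc Γ' = 0 := by
    rw [hXc, classInner_sub_left, hΓΓ, hTΓ, sub_self]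
  have hψXc : ∀ ψ ∈ S₁, classInner (τ₁ ψ) Xc = 0 := by
    intro ψ hψ
    rw [hXc, classInner_sub_right, hΓorth ψ hψ, hψT ψ hψ, sub_zero]
  obtain ⟨τ', hτ', hext, hτ'φ, hτ'φc⟩ := isometry_extend_two (↑S₁ : Set (L → ℂ)) τ₁ hτ₁ φ
    (conjFun φ) 1 1 (by rw [hφφ]; simp) (by rw [hφcφc]; simp) one_ne_zero one_ne_zero hφcφ
    (fun ψ hψ => hS.orthogonal ψ (hS₁ hψ) φ hφ (hneφ ψ hψ).1)
    (fun ψ hψ => hS.orthogonal ψ (hS₁ hψ) _ hφc (hneφ ψ hψ).2)
    Γ' Xc hΓgen hXcgen (by rw [hΓΓ]; simp) (by rw [hXcXc]; simp) hXcΓ hΓorth hψXc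
  have hset : (↑S₁ ∪ {φ, conjFun φ} : Set (L → ℂ)) = insert φ (insert (conjFun φ) ↑S₁) := by
    ext x
    simp only [Set.mem_union, Set.mem_insert_iff, Set.mem_singleton_iff, Finset.mem_coe]
    tauto
  rw [hset]
  set S' : Set (L → ℂ) := insert φ (insert (conjFun φ) ↑S₁) with hS'
  have hS₁S' : (↑S₁ : Set (L → ℂ)) ⊆ S' := fun x hx => Or.inr (Or.inr hx)
  have hφS' : φ ∈ S' := Or.inl rfl
  have hφcS' : conjFun φ ∈ S' := Or.inr (Or.inl rfl)
  refine ⟨⟨φ - conjFun φ, ⟨Submodule.sub_mem _ (Submodule.subset_span hφS')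
    (Submodule.subset_span hφcS'), hm2.2⟩, ?_⟩, τ', hτ', ?_⟩
  · intro h
    exact hS.conj_ne φ hφ (sub_eq_zero.1 h).symm
  · intro α hα
    obtain ⟨hαspan, hαvan⟩ := hα
    obtain ⟨p, z, hz, rfl⟩ := Submodule.mem_span_insert.1 hαspan
    obtain ⟨q, β, hβ, rfl⟩ := Submodule.mem_span_insert.1 hz
    have hβS' : β ∈ Submodule.span ℤ S' := Submodule.span_mono hS₁S' hβ
    have hφm : φ ∈ Submodule.span ℤ S' := Submodule.subset_span hφS'
    have hφcm : conjFun φ ∈ Submodule.span ℤ S' := Submodule.subset_span hφcS'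
    have hα1 : (p • φ + (q • conjFun φ + β)) 1 = 0 := hαvan 1 (by simp)
    obtain ⟨k, hk⟩ := apply_one_mem_of_dvd d (↑S₁ : Set (L → ℂ))
      (fun ψ hψ => hd ψ (hS₁ hψ)) (d χ) (fun ψ hψ => hmin ψ hψ) hβ
    have hpq : p + q + k * (a : ℤ) = 0 := by
      rw [zsmul_eq_complex_smul p φ, zsmul_eq_complex_smul q (conjFun φ)] at hα1
      simp only [Pi.add_apply, Pi.smul_apply, smul_eq_mul] at hα1
      rw [coh_conj_apply_one hS hφ, hd φ hφ, hk, ha] at hα1
      push_cast at hα1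
      have h2 : ((p + q + k * (a : ℤ) : ℤ) : ℂ) * (d φ : ℂ) = 0 := by
        push_cast
        linear_combination hα1
      rcases mul_eq_zero.1 h2 with h3 | h3
      · exact_mod_cast h3
      · exact absurd h3 hdφ
    set m : ℤ := -k with hm
    have hp : p = m * (a : ℤ) - q := by rw [hm]; linarith
    set β' : L → ℂ := β + m • χ with hβ'
    have hχspan : χ ∈ zspan (↑S₁ : Set (L → ℂ)) := Submodule.subset_span hχ₁S
    have hβ'mem : β' ∈ zspanOn (↑S₁ : Set (L → ℂ)) {1}ᶜ := by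
      refine ⟨Submodule.add_mem _ hβ (Submodule.smul_mem _ _ hχspan), ?_⟩
      intro x hx
      have hx1 : x = 1 := by simpa using hx
      subst hx1
      rw [hβ', zsmul_eq_complex_smul m χ]
      simp only [Pi.add_apply, Pi.smul_apply, smul_eq_mul]
      rw [hk, hd χ hχS, hm]
      push_cast
      ring
    have hβ'S : β' ∈ zspanOn S {1}ᶜ := zspanOn_mono' hS₁ _ hβ'mem
    have hγ : (a : ℤ) • φ - χ ∈ zspanOn S {1}ᶜ := by
      refine ⟨Submodule.sub_mem _ (Submodule.smul_mem _ _ (Submodule.subset_span hφ))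
        (Submodule.subset_span hχS), ?_⟩
      intro x hx
      have hx1 : x = 1 := by simpa using hx
      subst hx1
      rw [zsmul_eq_complex_smul]
      simp only [Pi.sub_apply, Pi.smul_apply, smul_eq_mul]
      rw [hd φ hφ, hd χ hχS, ha]
      push_cast
      ring
    have eL : τ' (p • φ + (q • conjFun φ + β)) = p • Γ' + (q • Xc + τ₁ β) := by
      rw [hτ'.1 _ (Submodule.smul_mem _ p hφm) _
        (Submodule.add_mem _ (Submodule.smul_mem _ q hφcm) hβS'),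
        hτ'.1 _ (Submodule.smul_mem _ q hφcm) _ hβS', hτ'.2.1 φ hφm p, hτ'.2.1 _ hφcm q,
        hτ'φ, hτ'φc, hext β hβ]
    have eα : p • φ + (q • conjFun φ + β)
        = (m • ((a : ℤ) • φ - χ) - q • (φ - conjFun φ)) + β' := by
      rw [hβ', hp]
      module
    have mA : m • ((a : ℤ) • φ - χ) ∈ zspanOnSubmodule S {1}ᶜ :=
      (zspanOnSubmodule S {1}ᶜ).smul_mem _ hγ
    have mB : q • (φ - conjFun φ) ∈ zspanOnSubmodule S {1}ᶜ :=
      (zspanOnSubmodule S {1}ᶜ).smul_mem _ hm2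
    have eR : τ (p • φ + (q • conjFun φ + β))
        = (m • ((a : ℤ) • Γ' - τ₁ χ) - q • Tφ) + τ₁ β' := by
      rw [eα, hS.isometry.1 _ ((zspanOnSubmodule S {1}ᶜ).sub_mem mA mB) _ hβ'S,
        isLinIso_sub (zspanOnSubmodule S {1}ᶜ) hS.isometry mA mB, hS.isometry.2.1 _ hγ,
        hS.isometry.2.1 _ hm2, hagree₁ β' hβ'mem, hX]
    have eβ' : τ₁ β' = τ₁ β + m • τ₁ χ := by
      rw [hβ', hτ₁.1 β hβ _ (Submodule.smul_mem _ _ hχspan), hτ₁.2.1 χ hχspan]
    rw [eL, eR, eβ', hXc, hp]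
    module

set_option maxHeartbeats 4000000 in
/-- **Sibley's step**: enlarging a coherent set of irreducible characters by a character of
smaller degree. -/
theorem sibley_step (hS : IsCoherenceSystem S τ R) (d : (L → ℂ) → ℕ)
    (hd : ∀ φ ∈ S, φ 1 = (d φ : ℂ)) (hn1 : ∀ φ ∈ S, classInner φ φ = 1)
    (S₁ : Finset (L → ℂ)) (hS₁ : ↑S₁ ⊆ S) (hS₁c : ∀ φ ∈ S₁, conjFun φ ∈ S₁)
    (hcoh : IsCoherent (↑S₁ : Set (L → ℂ)) {1}ᶜ τ)
    (χ : L → ℂ) (hχ₁S : χ ∈ S₁) (hmin : ∀ ψ ∈ S₁, d χ ∣ d ψ)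
    (φ : L → ℂ) (hφ : φ ∈ S) (hφ₁ : φ ∉ S₁) (hφ₂ : conjFun φ ∉ S₁)
    (a : ℕ) (ha : d χ = a * d φ)
    (hdiv : ∀ τ₁ : (L → ℂ) → (G → ℂ), IsLinearIsometryOn (zspan (↑S₁ : Set (L → ℂ))) τ₁ →
      (∀ α ∈ zspanOn (↑S₁ : Set (L → ℂ)) {1}ᶜ, τ₁ α = τ α) →
      ∀ ξ : G → ℂ, IsIrrCharacter G ξ → (∀ ψ ∈ S₁, classInner (τ₁ ψ) ξ = 0) →
        ∃ m : ℤ, classInner (τ ((a : ℤ) • φ - χ)) ξ = (a : ℂ) * (m : ℂ))
    (hineq : 2 * d χ ^ 2 ≤ ∑ ψ ∈ S₁, d ψ ^ 2) :
    IsCoherent (↑S₁ ∪ {φ, conjFun φ} : Set (L → ℂ)) {1}ᶜ τ := by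
  classical
  haveI : Fintype (IrrCharacter G) := Fintype.ofFinite _
  obtain ⟨_, τ₁, hτ₁, hagree₁⟩ := hcoh
  have hχS : χ ∈ S := hS₁ hχ₁S
  have hφc : conjFun φ ∈ S := hS.conj_mem φ hφ
  have hχc : conjFun χ ∈ S := hS.conj_mem χ hχS
  have hχcS₁ : conjFun χ ∈ S₁ := hS₁c χ hχ₁S
  have hχne : χ ≠ conjFun χ := fun h => hS.conj_ne χ hχS h.symm
  have hneφ : ∀ ψ ∈ S₁, ψ ≠ φ ∧ ψ ≠ conjFun φ := fun ψ hψ =>
    ⟨fun h => hφ₁ (h ▸ hψ), fun h => hφ₂ (h ▸ hψ)⟩
  have hdpos : ∀ ψ ∈ S, 0 < d ψ := by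
    intro ψ hψ
    apply Nat.pos_of_ne_zero
    intro h
    have h1 := coh_apply_one_ne_zero hS hψ
    rw [hd ψ hψ, h] at h1
    simp at h1
  have hdχpos : 0 < d χ := hdpos χ hχS
  have hapos : 0 < a := by
    rcases Nat.eq_zero_or_pos a with h | h
    · rw [ha, h, zero_mul] at hdχpos
      omega
    · exact h
  have haC : (a : ℂ) ≠ 0 := by exact_mod_cast hapos.ne'
  have hγ : (a : ℤ) • φ - χ ∈ zspanOn S {1}ᶜ := by
    refine ⟨Submodule.sub_mem _ (Submodule.smul_mem _ _ (Submodule.subset_span hφ))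
      (Submodule.subset_span hχS), ?_⟩
    intro x hx
    have hx1 : x = 1 := by simpa using hx
    subst hx1
    rw [zsmul_eq_complex_smul]
    simp only [Pi.sub_apply, Pi.smul_apply, smul_eq_mul]
    rw [hd φ hφ, hd χ hχS, ha]
    push_cast
    ring
  have hγC : ((a : ℤ) • φ - χ : L → ℂ) = (a : ℂ) • φ - χ := by
    rw [zsmul_eq_complex_smul]
    push_cast
    rfl
  have hm2 : φ - conjFun φ ∈ zspanOn S {1}ᶜ := coh_sub_conj_mem hS hφ
  set X := τ ((a : ℤ) • φ - χ) with hX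
  have hXgen : IsGeneralizedCharacter G X := hS.isometry.2.2.2 _ hγ
  have hτ₁gen : ∀ ψ ∈ S₁, IsGeneralizedCharacter G (τ₁ ψ) := fun ψ hψ =>
    hτ₁.2.2.2 ψ (Submodule.subset_span hψ)
  have horthτ₁ : ∀ i ∈ S₁, ∀ j ∈ S₁, classInner (τ₁ i) (τ₁ j) = if i = j then 1 else 0 := by
    intro i hi j hj
    rw [hτ₁.2.2.1 i (Submodule.subset_span hi) j (Submodule.subset_span hj)]
    split_ifs with h
    · subst h
      exact hn1 i (hS₁ hi)
    · exact hS.orthogonal i (hS₁ hi) j (hS₁ hj) h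
  -- basic orthogonality relations
  have o2 : classInner φ χ = 0 := hS.orthogonal φ hφ χ hχS (fun h => (hneφ χ hχ₁S).1 h.symm)
  have o2' : classInner χ φ = 0 := hS.orthogonal χ hχS φ hφ (hneφ χ hχ₁S).1
  have o2c : classInner χ (conjFun φ) = 0 := hS.orthogonal χ hχS _ hφc (hneφ χ hχ₁S).2
  have o4 : classInner χ χ = 1 := hn1 χ hχS
  have hφφ : classInner φ φ = 1 := hn1 φ hφ
  -- the integers `b ψ`
  have hb' : ∀ ψ : L → ℂ, ∃ k : ℤ, ψ ∈ S₁ → classInner X (τ₁ ψ) = (k : ℂ) := by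
    intro ψ
    by_cases hψ : ψ ∈ S₁
    · obtain ⟨k, hk⟩ := IsGeneralizedCharacter.inner_int hXgen (hτ₁gen ψ hψ)
      exact ⟨k, fun _ => hk⟩
    · exact ⟨0, fun h => absurd h hψ⟩
  choose b hb using hb'
  set c : ℤ := 1 + b χ with hc
  have hrel : ∀ ψ ∈ S₁, ψ ≠ χ → (d χ : ℤ) * b ψ = (d ψ : ℤ) * c := by
    intro ψ hψ hne
    have hψS := hS₁ hψ
    set δ : L → ℂ := (d χ : ℤ) • ψ - (d ψ : ℤ) • χ with hδ
    have hδC : δ = (d χ : ℂ) • ψ - (d ψ : ℂ) • χ := by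
      rw [hδ, zsmul_eq_complex_smul, zsmul_eq_complex_smul]
      push_cast
      rfl
    have hδmem : δ ∈ zspanOn (↑S₁ : Set (L → ℂ)) {1}ᶜ := by
      refine ⟨Submodule.sub_mem _ (Submodule.smul_mem _ _ (Submodule.subset_span hψ))
        (Submodule.smul_mem _ _ (Submodule.subset_span hχ₁S)), ?_⟩
      intro x hx
      have hx1 : x = 1 := by simpa using hx
      subst hx1
      rw [hδC]
      simp only [Pi.sub_apply, Pi.smul_apply, smul_eq_mul]
      rw [hd ψ hψS, hd χ hχS]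
      ring
    have hδS : δ ∈ zspanOn S {1}ᶜ := zspanOn_mono' hS₁ _ hδmem
    have e1 : τ₁ δ = (d χ : ℂ) • τ₁ ψ - (d ψ : ℂ) • τ₁ χ := by
      rw [hδ, isLinIso_sub (Submodule.span ℤ (↑S₁ : Set (L → ℂ))) hτ₁
        (Submodule.smul_mem _ _ (Submodule.subset_span hψ))
        (Submodule.smul_mem _ _ (Submodule.subset_span hχ₁S)),
        hτ₁.2.1 ψ (Submodule.subset_span hψ), hτ₁.2.1 χ (Submodule.subset_span hχ₁S),
        zsmul_eq_complex_smul, zsmul_eq_complex_smul]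
      push_cast
      rfl
    have e2 : classInner X (τ₁ δ) = classInner ((a : ℤ) • φ - χ) δ := by
      rw [hagree₁ δ hδmem, hX, hS.isometry.2.2.1 _ hγ _ hδS]
    have o1 : classInner φ ψ = 0 := hS.orthogonal φ hφ ψ hψS (fun h => (hneφ ψ hψ).1 h.symm)
    have o3 : classInner χ ψ = 0 := hS.orthogonal χ hχS ψ hψS (fun h => hne h.symm)
    have eL : classInner X (τ₁ δ) = (d χ : ℂ) * (b ψ : ℂ) - (d ψ : ℂ) * (b χ : ℂ) := by
      rw [e1, classInner_sub_right, classInner_smul_right, classInner_smul_right, hb ψ hψ,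
        hb χ hχ₁S, Complex.conj_natCast, Complex.conj_natCast]
    have eR : classInner ((a : ℤ) • φ - χ) δ = (d ψ : ℂ) := by
      rw [hγC, hδC]
      simp only [classInner_sub_left, classInner_sub_right, classInner_smul_left,
        classInner_smul_right, o1, o2, o3, o4, Complex.conj_natCast]
      ring
    rw [eL, eR] at e2
    have e3 : (((d χ : ℤ) * b ψ : ℤ) : ℂ) = (((d ψ : ℤ) * c : ℤ) : ℂ) := by
      rw [hc]
      push_cast
      linear_combination e2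
    exact_mod_cast e3
  -- degrees as multiples of `d χ`
  have hmdef : ∀ ψ : L → ℂ, ∃ mψ : ℕ, ψ ∈ S₁ → d ψ = d χ * mψ := by
    intro ψ
    by_cases hψ : ψ ∈ S₁
    · obtain ⟨k, hk⟩ := hmin ψ hψ
      exact ⟨k, fun _ => hk⟩
    · exact ⟨0, fun h => absurd h hψ⟩
  choose mm hmm using hmdef
  have hmmpos : ∀ ψ ∈ S₁, 0 < mm ψ := by
    intro ψ hψ
    have h1 := hdpos ψ (hS₁ hψ)
    rw [hmm ψ hψ] at h1
    exact Nat.pos_of_mul_pos_left h1
  have hmmχ : mm χ = 1 := by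
    have h1 := hmm χ hχ₁S
    have h2 : d χ * mm χ = d χ * 1 := by rw [mul_one]; exact h1.symm
    exact Nat.eq_of_mul_eq_mul_left hdχpos h2
  have hdχc : d (conjFun χ) = d χ := by
    have h1 := hd _ hχc
    rw [coh_conj_apply_one hS hχS, hd χ hχS] at h1
    exact_mod_cast h1.symm
  have hmmχc : mm (conjFun χ) = 1 := by
    have h1 := hmm _ hχcS₁
    rw [hdχc] at h1
    have h2 : d χ * mm (conjFun χ) = d χ * 1 := by rw [mul_one]; exact h1.symm
    exact Nat.eq_of_mul_eq_mul_left hdχpos h2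
  have hdχZ : (d χ : ℤ) ≠ 0 := by exact_mod_cast hdχpos.ne'
  have hbval : ∀ ψ ∈ S₁, b ψ = c * (mm ψ : ℤ) - (if ψ = χ then 1 else 0) := by
    intro ψ hψ
    by_cases h : ψ = χ
    · subst h
      rw [if_pos rfl, hmmχ, hc]
      push_cast
      ring
    · rw [if_neg h, sub_zero]
      have h1 := hrel ψ hψ h
      rw [hmm ψ hψ] at h1
      push_cast at h1
      have h2 : (d χ : ℤ) * b ψ = (d χ : ℤ) * (c * (mm ψ : ℤ)) := by
        rw [h1]
        ring
      exact mul_left_cancel₀ hdχZ h2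
  -- the projection
  set Γ : G → ℂ := X - ∑ ψ ∈ S₁, (b ψ : ℂ) • τ₁ ψ with hΓ
  have hΓgen : IsGeneralizedCharacter G Γ := by
    apply isGenChar_sub hXgen
    apply isGenChar_sum
    intro ψ hψ
    exact isGenChar_intCast_smul (b ψ) (hτ₁gen ψ hψ)
  have hΓorth : ∀ ψ ∈ S₁, classInner Γ (τ₁ ψ) = 0 := by
    intro ψ hψ
    rw [hΓ, classInner_sub_left, classInner_sum_left, hb ψ hψ, Finset.sum_eq_single ψ]
    · rw [classInner_smul_left, horthτ₁ ψ hψ ψ hψ, if_pos rfl]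
      ring
    · intro j hj hne
      rw [classInner_smul_left, horthτ₁ j hj ψ hψ, if_neg hne, mul_zero]
    · intro h
      exact absurd hψ h
  have hdivΓ : ∀ μ : IrrCharacter G, ∃ m : ℤ,
      classInner Γ (μ : G → ℂ) = (a : ℂ) * (m : ℂ) := by
    intro μ
    by_cases hall : ∀ ψ ∈ S₁, classInner (τ₁ ψ) (μ : G → ℂ) = 0
    · obtain ⟨m, hm⟩ := hdiv τ₁ hτ₁ hagree₁ μ μ.2 hall
      refine ⟨m, ?_⟩
      rw [hΓ, classInner_sub_left, classInner_sum_left, Finset.sum_eq_zero, sub_zero]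
      · exact hm
      · intro ψ hψ
        rw [classInner_smul_left, hall ψ hψ, mul_zero]
    · push Not at hall
      obtain ⟨ψ₀, hψ₀, hne⟩ := hall
      have hs1 : IsSignedIrr (τ₁ ψ₀) :=
        IsGeneralizedCharacter.isSignedIrr_of_norm_one (hτ₁gen ψ₀ hψ₀)
          (by rw [horthτ₁ ψ₀ hψ₀ ψ₀ hψ₀, if_pos rfl])
      have hs2 : IsSignedIrr (μ : G → ℂ) := Or.inl μ.2
      refine ⟨0, ?_⟩
      rcases IsSignedIrr.inner_cases hs1 hs2 with h | h | h
      · exact absurd h.1 hne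
      · rw [← h.1, hΓorth ψ₀ hψ₀]
        simp
      · have h3 : (μ : G → ℂ) = -τ₁ ψ₀ := by rw [h.1]; simp
        rw [h3, classInner_neg_right, hΓorth ψ₀ hψ₀]
        simp
  obtain ⟨nΓ, hnΓ, hexpΓ, _⟩ := IsGeneralizedCharacter.exists_int_expansion hΓgen
  have hm'ex : ∀ μ : IrrCharacter G, ∃ m : ℤ, nΓ μ = (a : ℤ) * m := by
    intro μ
    obtain ⟨m, hm⟩ := hdivΓ μ
    refine ⟨m, ?_⟩
    rw [hnΓ μ] at hm
    exact_mod_cast hm
  choose m' hm' using hm'ex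
  set Γ' : G → ℂ := ∑ μ : IrrCharacter G, (m' μ : ℂ) • (μ : G → ℂ) with hΓ'
  have hΓ'gen : IsGeneralizedCharacter G Γ' := by
    apply isGenChar_sum
    intro μ _
    exact isGenChar_intCast_smul (m' μ) (isGenChar_of_isChar (IsIrrCharacter.isCharacter μ.2))
  have hΓeq : Γ = (a : ℂ) • Γ' := by
    calc Γ = ∑ μ : IrrCharacter G, (nΓ μ : ℂ) • (μ : G → ℂ) := hexpΓ
      _ = (a : ℂ) • Γ' := by
        rw [hΓ', Finset.smul_sum]
        apply Finset.sum_congr rfl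
        intro μ _
        rw [hm' μ, smul_smul]
        push_cast
        rfl
  have hΓ'orth : ∀ ψ ∈ S₁, classInner (τ₁ ψ) Γ' = 0 := by
    intro ψ hψ
    have h1 : classInner Γ (τ₁ ψ) = 0 := hΓorth ψ hψ
    rw [hΓeq, classInner_smul_left] at h1
    have h2 : classInner Γ' (τ₁ ψ) = 0 := (mul_eq_zero.1 h1).resolve_left haC
    rw [← classInner_conj_symm, h2, map_zero]
  have hXT : classInner X (τ (φ - conjFun φ)) = (a : ℂ) := by
    rw [hX, hS.isometry.2.2.1 _ hγ _ hm2, hγC]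
    simp only [classInner_sub_left, classInner_sub_right, classInner_smul_left, hφφ,
      coh_orth_conj hS hφ, o2', o2c]
    ring
  have hΓT : classInner Γ (τ (φ - conjFun φ)) = (a : ℂ) := by
    rw [hΓ, classInner_sub_left, hXT, classInner_sum_left, Finset.sum_eq_zero, sub_zero]
    intro ψ hψ
    rw [classInner_smul_left, ← classInner_conj_symm,
      coh_T_orth hS hS₁ hS₁c hτ₁ hagree₁ hφ (Finset.mem_coe.2 hψ) (hneφ ψ hψ).1 (hneφ ψ hψ).2,
      map_zero, mul_zero]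
  have hΓ'T : classInner Γ' (τ (φ - conjFun φ)) = 1 := by
    rw [hΓeq, classInner_smul_left] at hΓT
    exact mul_left_cancel₀ haC (by rw [hΓT, mul_one])
  obtain ⟨N', hN'⟩ := IsGeneralizedCharacter.norm_nat hΓ'gen
  have hN'pos : 1 ≤ N' := by
    by_contra h
    have h0 : N' = 0 := by omega
    have h1 : Γ' = 0 := by
      apply eq_zero_of_classInner_self_eq_zero
      rw [hN', h0, Nat.cast_zero]
    rw [h1, classInner_zero_left] at hΓ'T
    exact zero_ne_one hΓ'T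
  -- norms
  have hXX : classInner X X = (a : ℂ) ^ 2 + 1 := by
    rw [hX, hS.isometry.2.2.1 _ hγ _ hγ, hγC]
    simp only [classInner_sub_left, classInner_sub_right, classInner_smul_left,
      classInner_smul_right, hφφ, o2, o2', o4, Complex.conj_natCast]
    ring
  set Sb : G → ℂ := ∑ ψ ∈ S₁, (b ψ : ℂ) • τ₁ ψ with hSb
  have hXdecomp : X = (a : ℂ) • Γ' + Sb := by
    rw [← hΓeq, hΓ]
    abel
  have hsumnorm : classInner Sb Sb = ((∑ ψ ∈ S₁, b ψ ^ 2 : ℤ) : ℂ) := by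
    rw [hSb, classInner_sum_left]
    push_cast
    apply Finset.sum_congr rfl
    intro i hi
    rw [classInner_smul_left, classInner_sum_right, Finset.sum_eq_single i]
    · rw [classInner_smul_right, horthτ₁ i hi i hi, if_pos rfl, map_intCast]
      ring
    · intro j hj hne
      rw [classInner_smul_right, horthτ₁ i hi j hj, if_neg (Ne.symm hne), mul_zero]
    · intro h
      exact absurd hi h
  have hcross : classInner Γ' Sb = 0 := by
    rw [hSb, classInner_sum_right]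
    apply Finset.sum_eq_zero
    intro ψ hψ
    rw [classInner_smul_right, ← classInner_conj_symm, hΓ'orth ψ hψ, map_zero, mul_zero]
  have hcross' : classInner Sb Γ' = 0 := by
    rw [← classInner_conj_symm, hcross, map_zero]
  have hnormeq : (a : ℤ) ^ 2 + 1 = (a : ℤ) ^ 2 * (N' : ℤ) + ∑ ψ ∈ S₁, b ψ ^ 2 := by
    have h1 : classInner ((a : ℂ) • Γ' + Sb) ((a : ℂ) • Γ' + Sb) = (a : ℂ) ^ 2 + 1 := by
      rw [← hXdecomp]
      exact hXX
    rw [classInner_add_left, classInner_add_right, classInner_add_right, classInner_smul_left,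
      classInner_smul_right, classInner_smul_left, classInner_smul_right, hN', hcross, hcross',
      hsumnorm, Complex.conj_natCast] at h1
    have h2 : (((a : ℤ) ^ 2 + 1 : ℤ) : ℂ)
        = (((a : ℤ) ^ 2 * (N' : ℤ) + ∑ ψ ∈ S₁, b ψ ^ 2 : ℤ) : ℂ) := by
      push_cast
      push_cast at h1
      linear_combination -h1
    exact_mod_cast h2
  -- the sum of the `b ψ ^ 2`
  set M2 : ℤ := ∑ ψ ∈ S₁, (mm ψ : ℤ) ^ 2 with hM2
  have hsumb : ∑ ψ ∈ S₁, b ψ ^ 2 = c ^ 2 * M2 - 2 * c + 1 := by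
    have h1 : ∀ ψ ∈ S₁, b ψ ^ 2
        = c ^ 2 * (mm ψ : ℤ) ^ 2 - (if ψ = χ then 2 * c - 1 else 0) := by
      intro ψ hψ
      rw [hbval ψ hψ]
      by_cases h : ψ = χ
      · subst h
        rw [if_pos rfl, if_pos rfl, hmmχ]
        push_cast
        ring
      · rw [if_neg h, if_neg h]
        ring
    rw [Finset.sum_congr rfl h1, Finset.sum_sub_distrib, ← Finset.mul_sum,
      Finset.sum_ite_eq' S₁ χ, if_pos hχ₁S]
    ring
  have hM2ge : 2 ≤ M2 := by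
    have h1 : ∑ ψ ∈ S₁, d ψ ^ 2 = d χ ^ 2 * ∑ ψ ∈ S₁, mm ψ ^ 2 := by
      rw [Finset.mul_sum]
      apply Finset.sum_congr rfl
      intro ψ hψ
      rw [hmm ψ hψ, mul_pow]
    rw [h1, mul_comm 2 (d χ ^ 2)] at hineq
    have h2 : 2 ≤ ∑ ψ ∈ S₁, mm ψ ^ 2 :=
      Nat.le_of_mul_le_mul_left hineq (pow_pos hdχpos 2)
    rw [hM2]
    exact_mod_cast h2
  -- arithmetic
  have ha2 : (0 : ℤ) < (a : ℤ) ^ 2 := by positivity
  have hN'Z : (1 : ℤ) ≤ (N' : ℤ) := by exact_mod_cast hN'pos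
  have hmain : (a : ℤ) ^ 2 * ((N' : ℤ) - 1) + (c ^ 2 * M2 - 2 * c) = 0 := by
    rw [hsumb] at hnormeq
    linarith
  have hnn1 : 0 ≤ (a : ℤ) ^ 2 * ((N' : ℤ) - 1) := by
    apply mul_nonneg ha2.le
    linarith
  have hc2 : c ^ 2 * M2 - 2 * c ≤ 0 := by linarith
  have hc01 : c = 0 ∨ c = 1 := by
    have h1 : 2 * c ^ 2 ≤ c ^ 2 * M2 := by nlinarith [sq_nonneg c]
    have h2 : c * (c - 1) ≤ 0 := by nlinarith
    rcases lt_trichotomy c 0 with h | h | h
    · exfalso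
      nlinarith
    · left
      exact h
    · right
      by_contra h'
      have h3 : 2 ≤ c := by omega
      nlinarith
  have hN1 : N' = 1 := by
    rcases hc01 with h0 | h1
    · rw [h0] at hmain
      have h2 : (a : ℤ) ^ 2 * ((N' : ℤ) - 1) = 0 := by linarith
      rcases mul_eq_zero.1 h2 with h3 | h3
      · exact absurd h3 ha2.ne'
      · have : (N' : ℤ) = 1 := by linarith
        exact_mod_cast this
    · rw [h1] at hmain
      have h2 : (a : ℤ) ^ 2 * ((N' : ℤ) - 1) = 0 := by nlinarith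
      rcases mul_eq_zero.1 h2 with h3 | h3
      · exact absurd h3 ha2.ne'
      · have : (N' : ℤ) = 1 := by linarith
        exact_mod_cast this
  have hΓ'Γ' : classInner Γ' Γ' = 1 := by rw [hN', hN1]; simp
  rcases hc01 with h0 | h1
  · -- the generic case
    have hXfinal : X = (a : ℤ) • Γ' - τ₁ χ := by
      rw [hXdecomp, hSb, Finset.sum_eq_single χ]
      · rw [hbval χ hχ₁S, h0, if_pos rfl, zsmul_eq_complex_smul]
        push_cast
        simp [sub_eq_add_neg]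
      · intro ψ hψ hne
        rw [hbval ψ hψ, h0, if_neg hne]
        simp
      · intro h
        exact absurd hχ₁S h
    exact sibley_construct hS d hd hn1 S₁ hS₁ hS₁c τ₁ hτ₁ hagree₁ χ hχ₁S hmin φ hφ hφ₁ hφ₂ a ha
      Γ' hΓ'gen hΓ'Γ' hΓ'orth hΓ'T hXfinal
  · -- the exceptional case: `S₁ = {χ, conj χ}` and the isometry must be flipped
    have hM22 : M2 = 2 := by
      rw [h1, hN1] at hmain
      push_cast at hmain
      linarith
    have hcard : S₁.card ≤ 2 := by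
      have h2 : (S₁.card : ℤ) ≤ M2 := by
        rw [hM2]
        have h3 : (S₁.card : ℤ) = ∑ _ψ ∈ S₁, (1 : ℤ) := by simp
        rw [h3]
        apply Finset.sum_le_sum
        intro ψ hψ
        have h4 := hmmpos ψ hψ
        have h5 : (1 : ℤ) ≤ (mm ψ : ℤ) := by exact_mod_cast h4
        have h6 : (1 : ℤ) ^ 2 ≤ (mm ψ : ℤ) ^ 2 := pow_le_pow_left₀ (by norm_num) h5 2
        linarith
      rw [hM22] at h2
      exact_mod_cast h2
    have hpair : ({χ, conjFun χ} : Finset (L → ℂ)) ⊆ S₁ := by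
      intro x hx
      rw [Finset.mem_insert, Finset.mem_singleton] at hx
      rcases hx with rfl | rfl
      · exact hχ₁S
      · exact hχcS₁
    have hpaircard : ({χ, conjFun χ} : Finset (L → ℂ)).card = 2 := Finset.card_pair hχne
    have hS₁eq : S₁ = {χ, conjFun χ} :=
      (Finset.eq_of_subset_of_card_le hpair (by rw [hpaircard]; exact hcard)).symm
    have hS₁mem : ∀ ψ ∈ S₁, ψ = χ ∨ ψ = conjFun χ := by
      intro ψ hψ
      rw [hS₁eq, Finset.mem_insert, Finset.mem_singleton] at hψ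
      exact hψ
    have hS₁set : (↑S₁ : Set (L → ℂ)) = insert χ (insert (conjFun χ) ∅) := by
      ext x
      constructor
      · intro hx
        rcases hS₁mem x (Finset.mem_coe.1 hx) with rfl | rfl
        · exact Or.inl rfl
        · exact Or.inr (Or.inl rfl)
      · intro hx
        rcases hx with rfl | hx
        · exact Finset.mem_coe.2 hχ₁S
        · rcases hx with rfl | hx
          · exact Finset.mem_coe.2 hχcS₁
          · exact absurd hx (Set.notMem_empty _)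
    -- the flipped isometry
    have hmem0 : ∀ α ∈ zspan (∅ : Set (L → ℂ)), α = 0 := by
      intro α hα
      have h2 : α ∈ Submodule.span ℤ (∅ : Set (L → ℂ)) := hα
      rw [Submodule.span_empty, Submodule.mem_bot] at h2
      exact h2
    have h₀ : IsLinearIsometryOn (zspan (∅ : Set (L → ℂ))) (fun _ => (0 : G → ℂ)) := by
      refine ⟨fun α _ β _ => by simp, fun α _ n => by simp, ?_, fun α _ => isGenChar_zero⟩
      intro α hα β hβ
      rw [hmem0 α hα, hmem0 β hβ]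
      simp only [classInner_zero_left]
    obtain ⟨τ₂, hτ₂, -, hτ₂χ, hτ₂χc⟩ := isometry_extend_two (∅ : Set (L → ℂ))
      (fun _ => (0 : G → ℂ)) h₀ χ (conjFun χ) 1 1
      (by rw [o4]; simp) (by rw [hn1 _ hχc]; simp) one_ne_zero one_ne_zero
      (by rw [← classInner_conj_symm, coh_orth_conj hS hχS, map_zero])
      (fun ψ hψ => absurd hψ (Set.notMem_empty ψ)) (fun ψ hψ => absurd hψ (Set.notMem_empty ψ))
      (-τ₁ (conjFun χ)) (-τ₁ χ) (isGenChar_neg (hτ₁gen _ hχcS₁)) (isGenChar_neg (hτ₁gen _ hχ₁S))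
      (by rw [classInner_neg_left, classInner_neg_right, neg_neg, horthτ₁ _ hχcS₁ _ hχcS₁,
        if_pos rfl]; simp)
      (by rw [classInner_neg_left, classInner_neg_right, neg_neg, horthτ₁ _ hχ₁S _ hχ₁S,
        if_pos rfl]; simp)
      (by rw [classInner_neg_left, classInner_neg_right, neg_neg, horthτ₁ _ hχ₁S _ hχcS₁,
        if_neg hχne])
      (fun ψ hψ => absurd hψ (Set.notMem_empty ψ)) (fun ψ hψ => absurd hψ (Set.notMem_empty ψ))
    have hτ₂' : IsLinearIsometryOn (zspan (↑S₁ : Set (L → ℂ))) τ₂ := by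
      rw [hS₁set]
      exact hτ₂
    have hχm : χ ∈ zspan (↑S₁ : Set (L → ℂ)) := Submodule.subset_span hχ₁S
    have hχcm : conjFun χ ∈ zspan (↑S₁ : Set (L → ℂ)) := Submodule.subset_span hχcS₁
    have hagree₂ : ∀ α ∈ zspanOn (↑S₁ : Set (L → ℂ)) {1}ᶜ, τ₂ α = τ α := by
      intro α hα
      rw [← hagree₁ α hα]
      obtain ⟨hαspan, hαvan⟩ := hα
      have hαspan' : α ∈ Submodule.span ℤ (insert χ (insert (conjFun χ) (∅ : Set (L → ℂ)))) := by
        rw [← hS₁set]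
        exact hαspan
      obtain ⟨p, z, hz, rfl⟩ := Submodule.mem_span_insert.1 hαspan'
      obtain ⟨q, w, hw, rfl⟩ := Submodule.mem_span_insert.1 hz
      rw [Submodule.span_empty, Submodule.mem_bot] at hw
      subst hw
      have h2 : (p • χ + (q • conjFun χ + 0)) 1 = 0 := hαvan 1 (by simp)
      have hpq : p + q = 0 := by
        rw [zsmul_eq_complex_smul p χ, zsmul_eq_complex_smul q (conjFun χ)] at h2
        simp only [Pi.add_apply, Pi.smul_apply, smul_eq_mul, Pi.zero_apply, add_zero] at h2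
        rw [coh_conj_apply_one hS hχS, hd χ hχS] at h2
        have h3 : ((p + q : ℤ) : ℂ) * (d χ : ℂ) = 0 := by
          push_cast
          linear_combination h2
        rcases mul_eq_zero.1 h3 with h4 | h4
        · exact_mod_cast h4
        · exfalso
          have h5 : (d χ : ℂ) ≠ 0 := by exact_mod_cast hdχpos.ne'
          exact h5 h4
      have hq : q = -p := by omega
      rw [add_zero, hτ₂'.1 _ (Submodule.smul_mem _ p hχm) _ (Submodule.smul_mem _ q hχcm),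
        hτ₂'.2.1 χ hχm p, hτ₂'.2.1 _ hχcm q, hτ₂χ, hτ₂χc,
        hτ₁.1 _ (Submodule.smul_mem _ p hχm) _ (Submodule.smul_mem _ q hχcm),
        hτ₁.2.1 χ hχm p, hτ₁.2.1 _ hχcm q, hq]
      module
    have hΓorth₂ : ∀ ψ ∈ S₁, classInner (τ₂ ψ) Γ' = 0 := by
      intro ψ hψ
      rcases hS₁mem ψ hψ with rfl | rfl
      · rw [hτ₂χ, classInner_neg_left, hΓ'orth _ hχcS₁, neg_zero]
      · rw [hτ₂χc, classInner_neg_left, hΓ'orth _ hχ₁S, neg_zero]
    have hXfinal : X = (a : ℤ) • Γ' - τ₂ χ := by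
      rw [hXdecomp, hSb, hτ₂χ, Finset.sum_eq_single (conjFun χ)]
      · rw [hbval _ hχcS₁, h1, if_neg (hS.conj_ne χ hχS), hmmχc, zsmul_eq_complex_smul]
        push_cast
        simp
      · intro ψ hψ hne
        have h2 : ψ = χ := by
          rcases hS₁mem ψ hψ with h | h
          · exact h
          · exact absurd h hne
        rw [h2, hbval χ hχ₁S, h1, if_pos rfl, hmmχ]
        simp
      · intro h
        exact absurd hχcS₁ h
    exact sibley_construct hS d hd hn1 S₁ hS₁ hS₁c τ₂ hτ₂' hagree₂ χ hχ₁S hmin φ hφ hφ₁ hφ₂ a ha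
      Γ' hΓ'gen hΓ'Γ' hΓorth₂ hΓ'T hXfinal

end Sibley

end Cfsg.Agent.Lib.Helper11
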