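import Cfsg.Agent.S1523
import Cfsg.Agent.Lib.Helper11.FrobTI
import Cfsg.Agent.Lib.Helper11.SibleyStep

/-!
Coherence for a Frobenius group `L` of odd order whose nilpotent kernel `H` is a TI-subset of
`G` with normaliser `L` (Sibley; Peterfalvi (6.8)).
-/

set_option autoImplicit false

namespace Cfsg.Agent.Lib.Helper11

open Cfsg
open Cfsg.Agent.Lib.Helper2
open Cfsg.Agent.S1522
open scoped ComplexConjugate

section Div

variable {G : Type*} [Group G] [Fintype G] (H L : Subgroup G) [Fintype L]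
  [hK : (H.subgroupOf L).Normal]

/-- The divisibility needed for Sibley's step: for `ξ` orthogonal to `τ₁(S ∖ S(Z))`, the
multiplicity of `χ` in `ξ|_L` is divisible by `χ(1)/e`. -/
theorem frob_div (hHL : H ≤ L) (hodd : Odd (Nat.card L))
    (hcent : ∀ h ∈ H, h ≠ 1 → ∀ x ∈ L, x * h = h * x → x ∈ H)
    (hTI : IsTISubset (H : Set G)) (hN : Subgroup.normalizer (H : Set G) = L)
    (p : ℕ) (hp : p.Prime) (M : ℕ) (hcard : Nat.card H = p ^ M) (hpe : ¬ p ∣ H.relIndex L)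
    (Z : Subgroup L) [hZ : Z.Normal] (hZ1 : Z ≠ ⊥) (hZK : Z ≤ H.subgroupOf L)
    (hZc : ∀ z ∈ Z, ∀ k ∈ H.subgroupOf L, z * k = k * z)
    (hirr : ∀ χ ∈ inducedIrrAbove (H.subgroupOf L) ⊥ \ inducedIrrAbove (H.subgroupOf L) Z,
      IsIrrCharacter L χ)
    (τ₁ : (L → ℂ) → (G → ℂ))
    (hτ₁ : IsLinearIsometryOn
      (zspan (inducedIrrAbove (H.subgroupOf L) ⊥ \ inducedIrrAbove (H.subgroupOf L) Z)) τ₁)
    (hagree : ∀ α ∈ zspanOn
      (inducedIrrAbove (H.subgroupOf L) ⊥ \ inducedIrrAbove (H.subgroupOf L) Z) {1}ᶜ,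
      τ₁ α = indFun L α)
    (ξ : G → ℂ) (hξ : IsIrrCharacter G ξ)
    (horth : ∀ ψ ∈ inducedIrrAbove (H.subgroupOf L) ⊥ \ inducedIrrAbove (H.subgroupOf L) Z,
      classInner (τ₁ ψ) ξ = 0)
    (χ : L → ℂ)
    (hχ : χ ∈ inducedIrrAbove (H.subgroupOf L) ⊥ \ inducedIrrAbove (H.subgroupOf L) Z)
    (a : ℕ) (hχdeg : χ 1 = ((H.relIndex L * a : ℕ) : ℂ)) :
    ∃ t : ℤ, classInner χ (fun l : L => ξ l) = (a : ℂ) * (t : ℂ) := by
  classical
  haveI : Fact p.Prime := ⟨hp⟩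
  set X := inducedIrrAbove (H.subgroupOf L) ⊥ \ inducedIrrAbove (H.subgroupOf L) Z with hX
  set ξL : L → ℂ := fun l : L => ξ l with hξL
  have hξchar : IsCharacter G ξ := IsIrrCharacter.isCharacter hξ
  have hξLchar : IsCharacter L ξL := IsCharacter.restrict hξchar L
  have hξLclass : IsClassFunction L ξL := IsCharacter.isClassFunction hξLchar
  have hξclass : IsClassFunction G ξ := IsCharacter.isClassFunction hξchar
  have hχirr : IsIrrCharacter L χ := hirr χ hχ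
  have hχchar : IsCharacter L χ := IsIrrCharacter.isCharacter hχirr
  -- proportionality
  have hprop : ∀ ψ ∈ X, ψ ≠ χ → χ 1 * classInner ξL ψ = ψ 1 * (classInner ξL χ - 0) := by
    intro ψ hψ _
    have hψchar : IsCharacter L ψ := IsIrrCharacter.isCharacter (hirr ψ hψ)
    obtain ⟨dψ, hdψ⟩ := IsCharacter.apply_one hψchar
    have h1 := indFun_orth_prop L X τ₁ hτ₁ hagree ξ hξclass hψ hχ dψ (H.relIndex L * a) hdψ hχdeg
    rw [horth ψ hψ, horth χ hχ, mul_zero, mul_zero, sub_zero] at h1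
    rw [classInner_comm_of_genChar (isGenChar_of_isChar hξLchar) (isGenChar_of_isChar hψchar),
      classInner_comm_of_genChar (isGenChar_of_isChar hξLchar) (isGenChar_of_isChar hχchar),
      hdψ, hχdeg, sub_zero]
    linear_combination -h1
  -- the value formula
  have hval : ∀ z ∈ Z, z ≠ 1 → χ 1 * (ξL 1 - ξL z) = classInner ξL χ * (Nat.card L : ℂ) := by
    intro z hz hz1
    have h := restrict_value_formula (H.subgroupOf L) Z hZK hirr ξL hξLclass χ hχ 0 hprop z hz hz1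
    rw [h]
    ring
  have hχ1 : χ 1 ≠ 0 := IsIrrCharacter.apply_one_ne_zero hχirr
  -- the Sylow subgroup
  obtain ⟨P, hP⟩ := exists_sylow_eq_of_normalizer p H L M hcard hN hHL hpe
  set ZG : Subgroup G := Z.map L.subtype with hZG
  have hZGH : ∀ g ∈ ZG, g ∈ H := by
    intro g hg
    obtain ⟨z, hz, rfl⟩ := Subgroup.mem_map.1 hg
    exact Subgroup.mem_subgroupOf.1 (hZK hz)
  obtain ⟨⟨z₀, hz₀Z⟩, hz₀1'⟩ := Subgroup.ne_bot_iff_exists_ne_one.1 hZ1
  have hz₀1 : z₀ ≠ 1 := by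
    intro h
    apply hz₀1'
    apply Subtype.ext
    simpa using h
  have hz₀G : (z₀ : G) ≠ 1 := by
    intro h
    apply hz₀1
    apply Subtype.ext
    simpa using h
  have hz₀ZG : (z₀ : G) ∈ ZG := Subgroup.mem_map.2 ⟨z₀, hz₀Z, rfl⟩
  have hconst : ∀ z ∈ ZG, ∀ z' ∈ ZG, z ≠ 1 → z' ≠ 1 → ξ z = ξ z' := by
    intro z hz z' hz' hz1 hz'1
    obtain ⟨w, hw, rfl⟩ := Subgroup.mem_map.1 hz
    obtain ⟨w', hw', rfl⟩ := Subgroup.mem_map.1 hz'
    have hw1 : w ≠ 1 := fun h => hz1 (by rw [h, map_one])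
    have hw'1 : w' ≠ 1 := fun h => hz'1 (by rw [h, map_one])
    have e1 := hval w hw hw1
    have e2 := hval w' hw' hw'1
    have e3 : χ 1 * (ξL 1 - ξL w) = χ 1 * (ξL 1 - ξL w') := by rw [e1, e2]
    have e4 := mul_left_cancel₀ hχ1 e3
    have e5 : ξL w = ξL w' := by linear_combination -e4
    exact e5
  have hCL : ∀ z ∈ ZG, z ≠ 1 →
      (Subgroup.normalizer ((P : Subgroup G) : Set G) ⊓ Subgroup.centralizer ({z} : Set G))
        = H := by
    intro z hz hz1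
    rw [hP, hN]
    apply le_antisymm
    · intro x hx
      have hx' := Subgroup.mem_inf.1 hx
      have hxc := Subgroup.mem_centralizer_iff.1 hx'.2 z (Set.mem_singleton z)
      exact hcent z (hZGH z hz) hz1 x hx'.1 hxc.symm
    · intro x hx
      refine Subgroup.mem_inf.2 ⟨hHL hx, ?_⟩
      rw [Subgroup.mem_centralizer_iff]
      intro y hy
      rw [Set.mem_singleton_iff.1 hy]
      obtain ⟨w, hw, rfl⟩ := Subgroup.mem_map.1 hz
      have h1 := hZc w hw ⟨x, hHL hx⟩ (Subgroup.mem_subgroupOf.2 hx)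
      exact congrArg Subtype.val h1
  have hZG1 : ZG ≠ ⊥ := by
    intro h
    have h1 := hz₀ZG
    rw [h, Subgroup.mem_bot] at h1
    exact hz₀G h1
  have hZGP : ZG ≤ (P : Subgroup G) := by
    intro g hg
    rw [hP]
    exact hZGH g hg
  have hZGn : ∀ x ∈ Subgroup.normalizer ((P : Subgroup G) : Set G), ∀ z ∈ ZG,
      x * z * x⁻¹ ∈ ZG := by
    intro x hx z hz
    rw [hP, hN] at hx
    obtain ⟨w, hw, rfl⟩ := Subgroup.mem_map.1 hz
    refine Subgroup.mem_map.2 ⟨⟨x, hx⟩ * w * ⟨x, hx⟩⁻¹, hZ.conj_mem w hw ⟨x, hx⟩, ?_⟩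
    simp
  have hZGc : ∀ z ∈ ZG, ∀ y ∈ (P : Subgroup G), z * y = y * z := by
    intro z hz y hy
    rw [hP] at hy
    obtain ⟨w, hw, rfl⟩ := Subgroup.mem_map.1 hz
    have h1 := hZc w hw ⟨y, hHL hy⟩ (Subgroup.mem_subgroupOf.2 hy)
    exact congrArg Subtype.val h1
  have hCLcard : ∀ z ∈ ZG, ∀ z' ∈ ZG, z ≠ 1 → z' ≠ 1 →
      Nat.card ↥(Subgroup.normalizer ((P : Subgroup G) : Set G)
          ⊓ Subgroup.centralizer ({z} : Set G))
        = Nat.card ↥(Subgroup.normalizer ((P : Subgroup G) : Set G)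
          ⊓ Subgroup.centralizer ({z'} : Set G)) := by
    intro z hz z' hz' hz1 hz'1
    rw [hCL z hz hz1, hCL z' hz' hz'1]
  obtain ⟨n, d, hn, hd, hdvd⟩ := Cfsg.Agent.S1523.result p P (by rw [hP]; exact hTI)
    (by rw [hP, hN]; exact hodd) ZG hZG1 hZGP hZGn hZGc hCLcard ξ hξ hconst (z₀ : G) hz₀ZG hz₀G
  -- arithmetic
  obtain ⟨k, hk⟩ := classInner_isCharacter_nat hξLchar hχchar
  have e1 := hval z₀ hz₀Z hz₀1
  have h1 : ξL 1 = (d : ℂ) := by
    show ξ ((1 : L) : G) = d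
    rw [Subgroup.coe_one]
    exact hd
  have h2 : ξL z₀ = (n : ℂ) := hn
  rw [h1, h2, hk, hχdeg] at e1
  obtain ⟨t, ht⟩ := hdvd
  have hcardP : Nat.card (P : Subgroup G) = Nat.card H := by rw [hP]
  have hcardL : Nat.card L = H.relIndex L * Nat.card H := by
    have h5 := Subgroup.card_mul_index (H.subgroupOf L)
    rw [Nat.card_congr (Subgroup.subgroupOfEquivOfLe hHL).toEquiv] at h5
    rw [mul_comm]
    exact h5.symm
  have e2 : ((H.relIndex L * a : ℕ) : ℤ) * (d - n) = (k : ℤ) * (Nat.card L : ℤ) := by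
    exact_mod_cast e1
  rw [ht, hcardP, hcardL] at e2
  push_cast at e2
  have hne1 : (H.relIndex L : ℤ) ≠ 0 := by
    exact_mod_cast (Subgroup.index_ne_zero_of_finite : (H.subgroupOf L).index ≠ 0)
  have hne2 : (Nat.card H : ℤ) ≠ 0 := by exact_mod_cast Nat.card_pos.ne'
  have e3 : (k : ℤ) = (a : ℤ) * t := by
    apply mul_left_cancel₀ (mul_ne_zero hne1 hne2)
    linear_combination -e2
  refine ⟨t, ?_⟩
  rw [classInner_comm_of_genChar (isGenChar_of_isChar hχchar) (isGenChar_of_isChar hξLchar), hk]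
  exact_mod_cast e3

end Div

section PCase

variable {G : Type*} [Group G] [Fintype G] (H L : Subgroup G) [Fintype L]
  [hK : (H.subgroupOf L).Normal]

set_option maxHeartbeats 4000000 in
/-- The case of a non-abelian `p`-group kernel. -/
theorem frobenius_TI_coherent_pgroup (hHL : H ≤ L) (hodd : Odd (Nat.card L))
    (hcent : ∀ h ∈ H, h ≠ 1 → ∀ x ∈ L, x * h = h * x → x ∈ H)
    (hTI : IsTISubset (H : Set G)) (hN : Subgroup.normalizer (H : Set G) = L)
    (R : (L → ℂ) → Finset (G → ℂ))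
    (hS : IsCoherenceSystem (inducedIrrAbove (H.subgroupOf L) ⊥)
      (fun α : L → ℂ => indFun L α) R)
    (hirrS : ∀ χ ∈ inducedIrrAbove (H.subgroupOf L) ⊥, IsIrrCharacter L χ)
    (hF : ∀ k ∈ H.subgroupOf L, k ≠ 1 → ∀ x : L, x * k = k * x → x ∈ H.subgroupOf L)
    (hKtop : H.subgroupOf L < ⊤)
    (p : ℕ) (hp : p.Prime) (M : ℕ) (hcardK : Nat.card (H.subgroupOf L) = p ^ M)
    (hnonab : ¬ ⁅H.subgroupOf L, H.subgroupOf L⁆ ≤ ⊥) :
    IsCoherent (inducedIrrAbove (H.subgroupOf L) ⊥) {1}ᶜ (fun α : L → ℂ => indFun L α) := by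
  classical
  haveI : Fact p.Prime := ⟨hp⟩
  have hcardH : Nat.card H = p ^ M := by
    rw [← hcardK]
    exact (Nat.card_congr (Subgroup.subgroupOfEquivOfLe hHL).toEquiv).symm
  set K := H.subgroupOf L with hKdef
  haveI : Fintype (IrrCharacter K) := Fintype.ofFinite _
  set τ : (L → ℂ) → (G → ℂ) := fun α : L → ℂ => indFun L α with hτdef
  obtain ⟨e, he⟩ : ∃ e, e = K.index := ⟨_, rfl⟩
  have hepos : 0 < e := by
    rw [he]
    exact Nat.pos_of_ne_zero Subgroup.index_ne_zero_of_finite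
  -- group theory of `K`
  have hpK : IsPGroup p K := IsPGroup.of_card hcardK
  haveI hnilK : Group.IsNilpotent K := hpK.isNilpotent
  have hsolv : Group.IsSolvable K := inferInstance
  have hK1 : K ≠ ⊥ := by
    intro h
    apply hnonab
    rw [h, Subgroup.commutator_bot_left]
  have hH₁K : ⁅K, K⁆ < K := commutator_lt_of_solvable K hsolv hK1
  have hfrobq := frob_quotient K hF ⁅K, K⁆ hH₁K.le
  have hpe : ¬ p ∣ H.relIndex L := by
    intro hdvd
    have h1 := index_dvd_card_sub_one_of_frob K hF K le_rfl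
    rw [hcardK] at h1
    have hM0 : M ≠ 0 := by
      rintro rfl
      rw [pow_zero] at hcardK
      exact hK1 (Subgroup.card_eq_one.1 hcardK)
    have h3 : p ∣ p ^ M - 1 := hdvd.trans h1
    have h4 : p ∣ p ^ M := dvd_pow_self p hM0
    have h5 : 1 ≤ p ^ M := Nat.one_le_pow _ _ hp.pos
    have h6 : p ∣ 1 := by
      have := Nat.dvd_sub h4 h3
      rwa [Nat.sub_sub_self h5] at this
    exact hp.one_lt.ne' (Nat.dvd_one.1 h6)
  -- the centre
  obtain ⟨Z, hZdef⟩ : ∃ Z : Subgroup L, Z = K ⊓ Subgroup.centralizer (K : Set L) := ⟨_, rfl⟩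
  haveI hZn : Z.Normal := by
    rw [hZdef]
    infer_instance
  have hZK : Z ≤ K := by
    rw [hZdef]
    exact inf_le_left
  have hZc : ∀ z ∈ Z, ∀ k ∈ K, z * k = k * z := by
    intro z hz k hk
    rw [hZdef] at hz
    exact ((Subgroup.mem_centralizer_iff.1 (Subgroup.mem_inf.1 hz).2) k hk).symm
  have hZ1 : Z ≠ ⊥ := by
    haveI : Nontrivial K := (Subgroup.nontrivial_iff_ne_bot K).2 hK1
    haveI := hpK.center_nontrivial
    obtain ⟨⟨z, hz⟩, hz1⟩ := exists_ne (1 : Subgroup.center K)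
    have hzZ : (z : L) ∈ Z := by
      rw [hZdef]
      refine Subgroup.mem_inf.2 ⟨z.2, Subgroup.mem_centralizer_iff.2 ?_⟩
      intro k hk
      have h1 := Subgroup.mem_center_iff.1 hz ⟨k, hk⟩
      exact congrArg Subtype.val h1
    intro hbot
    rw [hbot, Subgroup.mem_bot] at hzZ
    apply hz1
    apply Subtype.ext
    apply Subtype.ext
    simpa using hzZ
  have hZneK : ¬ K ≤ Z := by
    intro h
    apply hnonab
    have h1 : K ≤ Subgroup.centralizer (K : Set L) := by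
      intro k hk
      have := h hk
      rw [hZdef] at this
      exact (Subgroup.mem_inf.1 this).2
    exact le_of_eq (Subgroup.commutator_eq_bot_iff_le_centralizer.2 h1)
  -- coherence of `X = S ∖ S(Z)`
  have hirrX : ∀ χ ∈ inducedIrrAbove K ⊥ \ inducedIrrAbove K Z, IsIrrCharacter L χ :=
    fun χ hχ => hirrS χ hχ.1
  obtain ⟨-, hXcoh⟩ := Cfsg.Agent.S1522.result K hsolv τ R hS hodd hnilK hH₁K hKtop hfrobq Z
    hZ1 hZK hZc hirrX
  -- degrees and norms
  have hd' : ∀ φ : L → ℂ, ∃ m : ℕ, φ ∈ inducedIrrAbove K ⊥ → φ 1 = (m : ℂ) := by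
    intro φ
    by_cases h : φ ∈ inducedIrrAbove K ⊥
    · obtain ⟨m, hm⟩ := IsCharacter.apply_one (hS.isCharacter φ h)
      exact ⟨m, fun _ => hm⟩
    · exact ⟨0, fun h' => absurd h' h⟩
  choose d hd using hd'
  have hn1 : ∀ φ ∈ inducedIrrAbove K ⊥, classInner φ φ = 1 := fun φ hφ =>
    classInner_irrCharacter_self (⟨φ, hirrS φ hφ⟩ : IrrCharacter L)
  obtain ⟨n, hndef⟩ : ∃ n : (L → ℂ) → ℕ, n = fun _ => 1 := ⟨_, rfl⟩
  have hn : ∀ φ ∈ inducedIrrAbove K ⊥, classInner φ φ = (n φ : ℂ) := by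
    intro φ hφ
    rw [hn1 φ hφ, hndef]
    simp
  -- the finite sets
  let T₀ : Finset (IrrCharacter K) :=
    Finset.univ.filter (fun θ : IrrCharacter K => NontrivOn K Z (θ : K → ℂ))
  let FX : Finset (L → ℂ) := T₀.image (fun θ : IrrCharacter K => indFun K (θ : K → ℂ))
  have hT₀mem : ∀ θ : IrrCharacter K, θ ∈ T₀ ↔ NontrivOn K Z (θ : K → ℂ) := by
    intro θ
    simp only [T₀, Finset.mem_filter, Finset.mem_univ, true_and]
  have hFXcoe : (↑FX : Set (L → ℂ)) = inducedIrrAbove K ⊥ \ inducedIrrAbove K Z := by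
    ext χ
    rw [mem_diff_iff K Z χ, Finset.mem_coe, Finset.mem_image]
    constructor
    · rintro ⟨θ, hθ, rfl⟩
      exact ⟨θ.1, θ.2, (hT₀mem θ).1 hθ, rfl⟩
    · rintro ⟨θ, hθ, hnt, rfl⟩
      exact ⟨⟨θ, hθ⟩, (hT₀mem _).2 hnt, rfl⟩
  have hFXS : (↑FX : Set (L → ℂ)) ⊆ inducedIrrAbove K ⊥ := by
    rw [hFXcoe]
    exact Set.sdiff_subset
  have hmemS : ∀ θ : IrrCharacter K, (θ : K → ℂ) ≠ (fun _ => 1) →
      indFun K (θ : K → ℂ) ∈ inducedIrrAbove K ⊥ := by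
    intro θ hne
    refine ⟨θ.1, θ.2, hne, ?_, rfl⟩
    intro a ha
    rw [Subgroup.mem_bot] at ha
    have : a = 1 := Subtype.ext ha
    rw [this]
  have hdeg : ∀ θ : IrrCharacter K, (θ : K → ℂ) ≠ (fun _ => 1) →
      d (indFun K (θ : K → ℂ)) = e * irrDeg θ := by
    intro θ hne
    have := hd _ (hmemS θ hne)
    rw [indFun_apply_one, irrDeg_spec, ← he] at this
    exact_mod_cast this.symm
  have hne1 : ∀ θ ∈ T₀, (θ : K → ℂ) ≠ fun _ => 1 := by
    intro θ hθ h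
    obtain ⟨z, -, hz⟩ := (hT₀mem θ).1 hθ
    rw [h] at hz
    exact hz rfl
  have hnorm : ∀ θ ∈ T₀,
      classInner (indFun K (θ : K → ℂ)) (indFun K (θ : K → ℂ)) = 1 := fun θ hθ =>
    hn1 _ (hmemS θ (hne1 θ hθ))
  have hclosed : ∀ θ ∈ T₀, ∀ θ' : IrrCharacter K,
      indFun K (θ' : K → ℂ) = indFun K (θ : K → ℂ) → θ' ∈ T₀ ∧ irrDeg θ' = irrDeg θ := by
    intro θ hθ θ' h
    have hmemb : θ ∈ irrAboveFinset K ⊥ := by
      rw [mem_irrAboveFinset]
      refine ⟨hne1 θ hθ, ?_⟩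
      intro a ha
      rw [Subgroup.mem_bot] at ha
      have : a = 1 := Subtype.ext ha
      rw [this]
    have hdeg' := (mem_irrAboveFinset_of_indFun_eq K ⊥ hmemb h).2
    obtain ⟨g, hg⟩ := exists_conjFn_eq_of_indFun_eq K θ'.2 θ.2 h
    refine ⟨(hT₀mem θ').2 ?_, hdeg'⟩
    rw [← hg]
    exact nontrivOn_conjFn K Z ((hT₀mem θ).1 hθ) g
  -- sums of squares
  let q : (L → ℂ) → ℕ := fun ψ => (d ψ / e) ^ 2
  have hq : ∀ θ ∈ T₀, q (indFun K (θ : K → ℂ)) = irrDeg θ ^ 2 := by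
    intro θ hθ
    show (d (indFun K (θ : K → ℂ)) / e) ^ 2 = _
    rw [hdeg θ (hne1 θ hθ), Nat.mul_div_cancel_left _ hepos]
  have hfib : ∑ θ ∈ T₀, irrDeg θ ^ 2 = e * ∑ ψ ∈ FX, q ψ := by
    rw [he]
    exact sum_irrDeg_sq_eq_index_mul K T₀ hclosed hnorm q hq
  have hsumd : ∑ ψ ∈ FX, d ψ ^ 2 = e ^ 2 * ∑ ψ ∈ FX, q ψ := by
    rw [Finset.mul_sum]
    apply Finset.sum_congr rfl
    intro ψ hψ
    obtain ⟨θ, hθ, rfl⟩ := Finset.mem_image.1 hψ
    rw [hq θ hθ, hdeg θ (hne1 θ hθ), mul_pow]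
  have hsumd' : ∑ ψ ∈ FX, d ψ ^ 2 = e * ∑ θ ∈ T₀, irrDeg θ ^ 2 := by
    rw [hsumd, hfib]
    ring
  obtain ⟨I, hI⟩ : ∃ I, I = (Z.subgroupOf K).index := ⟨_, rfl⟩
  have hall : ∑ θ : IrrCharacter K, irrDeg θ ^ 2 = Nat.card K := by
    have h := sum_irr_degree_sq (G := K)
    have h2 : ((∑ θ : IrrCharacter K, irrDeg θ ^ 2 : ℕ) : ℂ) = ((Nat.card K : ℕ) : ℂ) := by
      rw [← h]
      push_cast
      apply Finset.sum_congr rfl
      intro θ _
      rw [irrDeg_spec]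
    exact_mod_cast h2
  have hZ'mem : ∀ a : K, a ∈ Z.subgroupOf K ↔ (a : L) ∈ Z := fun a => Subgroup.mem_subgroupOf
  have hcompl : Finset.univ.filter (fun θ : IrrCharacter K =>
      ∀ a ∈ Z.subgroupOf K, (θ : K → ℂ) a = (θ : K → ℂ) 1) = T₀ᶜ := by
    ext θ
    simp only [Finset.mem_filter, Finset.mem_univ, true_and, Finset.mem_compl, hT₀mem,
      not_nontrivOn_iff]
    constructor
    · intro h a ha; exact h a ((hZ'mem a).2 ha)
    · intro h a ha; exact h a ((hZ'mem a).1 ha)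
  have hker : Nat.card (Z.subgroupOf K) * ∑ θ ∈ T₀ᶜ, irrDeg θ ^ 2 = Nat.card K := by
    rw [← hcompl, card_mul_sum_irrDeg_sq]
  have hsplit : ∑ θ ∈ T₀, irrDeg θ ^ 2 + ∑ θ ∈ T₀ᶜ, irrDeg θ ^ 2 = Nat.card K := by
    rw [← hall]
    exact Finset.sum_add_sum_compl T₀ _
  have hC'index : ∑ θ ∈ T₀ᶜ, irrDeg θ ^ 2 = I := by
    have h1 := Subgroup.card_mul_index (Z.subgroupOf K)
    rw [← hker, ← hI] at h1
    exact (Nat.eq_of_mul_eq_mul_left Nat.card_pos h1).symm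
  have hcentral : ∀ θ : IrrCharacter K, irrDeg θ ^ 2 ≤ I := by
    intro θ
    have h := Cfsg.Agent.Lib.Helper11.IsIrrCharacter.degree_sq_le_of_central θ.2 ⊤
      (Z.subgroupOf K) (by
        intro x hx y _
        have hxy : x * y = y * x := Subtype.ext (hZc x ((hZ'mem x).1 hx) y y.2)
        have h1 : x * y * x⁻¹ * y⁻¹ = 1 := by rw [hxy]; group
        rw [h1]) (irrDeg θ) (irrDeg_spec θ)
    rw [Subgroup.index_top, one_pow, one_mul, Subgroup.relIndex_top_right, ← hI] at h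
    exact h
  have hcardZ' : Nat.card (Z.subgroupOf K) = Nat.card Z :=
    Nat.card_congr (Subgroup.subgroupOfEquivOfLe hZK).toEquiv
  have hKZI : Nat.card K = Nat.card Z * I := by
    rw [← hcardZ', hI]
    exact (Subgroup.card_mul_index _).symm
  have hT₀sum : ∑ θ ∈ T₀, irrDeg θ ^ 2 = (Nat.card Z - 1) * I := by
    have h1 : (Nat.card Z - 1) * I = Nat.card Z * I - I := by rw [Nat.sub_mul, one_mul]
    rw [hC'index, hKZI] at hsplit
    omega
  have h2e : 2 * e ≤ Nat.card Z - 1 := by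
    have hdvd := index_dvd_card_sub_one_of_frob K hF Z hZK
    rw [← he] at hdvd
    have hZodd : Odd (Nat.card Z) := Odd.of_dvd_nat hodd (Subgroup.card_subgroup_dvd_card Z)
    have heodd : Odd e := by
      rw [he]
      exact Odd.of_dvd_nat hodd (Subgroup.index_dvd_card K)
    have hZne1 : Nat.card Z ≠ 1 := fun h => hZ1 (Subgroup.card_eq_one.1 h)
    have hZpos : 0 < Nat.card Z := Nat.card_pos
    obtain ⟨t, ht⟩ := hdvd
    obtain ⟨u, hu⟩ := hZodd
    have ht0 : t ≠ 0 := by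
      rintro rfl
      omega
    have hteven : Even t := by
      have h1 : Even (e * t) := by
        rw [← ht]
        exact ⟨u, by omega⟩
      exact (Nat.even_mul.1 h1).resolve_left (Nat.not_even_iff_odd.2 heodd)
    obtain ⟨s, hs⟩ := hteven
    have h2t : 2 ≤ t := by omega
    rw [ht]
    calc 2 * e = e * 2 := by ring
      _ ≤ e * t := Nat.mul_le_mul_left e h2t
  have hI0 : I ≠ 0 := by
    rw [hI]
    exact Subgroup.index_ne_zero_of_finite
  have h1I : 1 < I := by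
    have hI1 : I ≠ 1 := by
      rw [hI]
      intro h
      rw [Subgroup.index_eq_one, Subgroup.subgroupOf_eq_top] at h
      exact hZneK h
    omega
  have hkey : 2 * e ^ 2 * I ≤ ∑ ψ ∈ FX, d ψ ^ 2 := by
    rw [hsumd', hT₀sum]
    calc 2 * e ^ 2 * I = e * (2 * e * I) := by ring
      _ ≤ e * ((Nat.card Z - 1) * I) :=
        Nat.mul_le_mul_left e (Nat.mul_le_mul_right I h2e)
  -- degrees are powers of `p`
  have hpow : ∀ θ : IrrCharacter K, ∃ a, irrDeg θ = p ^ a := by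
    intro θ
    obtain ⟨dd, h1, h2⟩ := Cfsg.Agent.Lib.Helper11.IsIrrCharacter.exists_degree_dvd_card θ.2
    rw [irrDeg_spec] at h1
    have : irrDeg θ = dd := by exact_mod_cast h1
    rw [this]
    rw [hcardK] at h2
    obtain ⟨a, -, ha⟩ := (Nat.dvd_prime_pow hp).1 h2
    exact ⟨a, ha⟩
  -- the character `χ` of minimal degree in `X`
  have hT₀ne : T₀.Nonempty := by
    obtain ⟨θ, hθ⟩ := exists_irr_nontrivOn K Z hZ1 hZK
    exact ⟨θ, (hT₀mem θ).2 hθ⟩
  obtain ⟨θχ, hθχ, hθχmin⟩ := Finset.exists_min_image T₀ (fun θ => irrDeg θ) hT₀ne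
  obtain ⟨a, ha⟩ : ∃ a, a = irrDeg θχ := ⟨_, rfl⟩
  obtain ⟨χ, hχdef⟩ : ∃ χ, χ = indFun K (θχ : K → ℂ) := ⟨_, rfl⟩
  have hχFX : χ ∈ FX := by
    rw [hχdef]
    exact Finset.mem_image_of_mem _ hθχ
  have hdχ : d χ = e * a := by
    rw [hχdef, ha]
    exact hdeg θχ (hne1 θχ hθχ)
  have hadvd : ∀ θ ∈ T₀, a ∣ irrDeg θ := by
    intro θ hθ
    obtain ⟨i, hi⟩ := hpow θχ
    obtain ⟨j, hj⟩ := hpow θ
    have hle : irrDeg θχ ≤ irrDeg θ := hθχmin θ hθ
    rw [ha, hi, hj]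
    rw [hi, hj] at hle
    exact pow_dvd_pow p ((Nat.pow_le_pow_iff_right hp.one_lt).1 hle)
  have hmin : ∀ ψ ∈ FX, d χ ∣ d ψ := by
    intro ψ hψ
    obtain ⟨θ, hθ, rfl⟩ := Finset.mem_image.1 hψ
    rw [hdχ, hdeg θ (hne1 θ hθ)]
    exact Nat.mul_dvd_mul_left e (hadvd θ hθ)
  have hN1 : 2 * d χ ^ 2 ≤ ∑ ψ ∈ FX, d ψ ^ 2 := by
    refine le_trans ?_ hkey
    rw [hdχ]
    have h1 : a ^ 2 ≤ I := by
      rw [ha]
      exact hcentral θχ
    calc 2 * (e * a) ^ 2 = 2 * e ^ 2 * a ^ 2 := by ring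
      _ ≤ 2 * e ^ 2 * I := Nat.mul_le_mul_left _ h1
  -- the linear character
  obtain ⟨lam, hlam, hlamdeg⟩ := exists_linear_mem_irrAboveFinset K hsolv ⊥
    (bot_lt_iff_ne_bot.2 hK1)
  have hlamne : (lam : K → ℂ) ≠ fun _ => 1 := ((mem_irrAboveFinset K ⊥ lam).1 hlam).1
  obtain ⟨φ, hφdef⟩ : ∃ φ, φ = indFun K (lam : K → ℂ) := ⟨_, rfl⟩
  have hφS : φ ∈ inducedIrrAbove K ⊥ := by
    rw [hφdef]
    exact hmemS lam hlamne
  have hdφ : d φ = e := by
    rw [hφdef, hdeg lam hlamne, hlamdeg, mul_one]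
  -- `X` is closed under conjugation
  have hFXconj : ∀ ψ ∈ FX, conjFun ψ ∈ FX := by
    intro ψ hψ
    have h1 : ψ ∈ (↑FX : Set (L → ℂ)) := Finset.mem_coe.2 hψ
    rw [hFXcoe] at h1
    obtain ⟨θ, hθ, hnt, rfl⟩ := (mem_diff_iff K Z ψ).1 h1
    have h2 : conjFun (indFun K θ) ∈ (↑FX : Set (L → ℂ)) := by
      rw [hFXcoe, conjFun_indFun]
      refine (mem_diff_iff K Z _).2 ⟨conjFun θ, isIrrCharacter_conj hθ, ?_, rfl⟩
      obtain ⟨z, hz, hne⟩ := hnt
      refine ⟨z, hz, ?_⟩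
      change (starRingEnd ℂ) (θ z) ≠ (starRingEnd ℂ) (θ 1)
      intro h
      exact hne ((starRingEnd ℂ).injective h)
    exact Finset.mem_coe.1 h2
  have hXcoh' : IsCoherent (↑FX : Set (L → ℂ)) {1}ᶜ τ := by
    rw [hFXcoe]
    exact hXcoh
  -- the coherent set containing `φ`
  have hSA : ∃ S_A : Finset (L → ℂ), FX ⊆ S_A ∧
      (↑S_A : Set (L → ℂ)) ⊆ inducedIrrAbove K ⊥ ∧ (∀ ψ ∈ S_A, conjFun ψ ∈ S_A) ∧ φ ∈ S_A ∧
      IsCoherent (↑S_A : Set (L → ℂ)) {1}ᶜ τ := by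
    by_cases hφFX : φ ∈ FX
    · exact ⟨FX, Finset.Subset.refl _, hFXS, hFXconj, hφFX, hXcoh'⟩
    · have hφcFX : conjFun φ ∉ FX := by
        intro h
        have h1 := hFXconj _ h
        rw [conjFun_conjFun] at h1
        exact hφFX h1
      have hφcS : conjFun φ ∈ inducedIrrAbove K ⊥ := hS.conj_mem φ hφS
      have hdiv : ∀ τ₁ : (L → ℂ) → (G → ℂ),
          IsLinearIsometryOn (zspan (↑FX : Set (L → ℂ))) τ₁ →
          (∀ α ∈ zspanOn (↑FX : Set (L → ℂ)) {1}ᶜ, τ₁ α = τ α) →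
          ∀ ξ : G → ℂ, IsIrrCharacter G ξ → (∀ ψ ∈ FX, classInner (τ₁ ψ) ξ = 0) →
          ∃ m : ℤ, classInner (τ ((a : ℤ) • φ - χ)) ξ = (a : ℂ) * (m : ℂ) := by
        intro τ₁ hτ₁ hagree₁ ξ hξ horth
        rw [hFXcoe] at hτ₁ hagree₁
        have horth' : ∀ ψ ∈ inducedIrrAbove K ⊥ \ inducedIrrAbove K Z,
            classInner (τ₁ ψ) ξ = 0 := by
          intro ψ hψ
          rw [← hFXcoe] at hψ
          exact horth ψ (Finset.mem_coe.1 hψ)
        have hχX : χ ∈ inducedIrrAbove K ⊥ \ inducedIrrAbove K Z := by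
          rw [← hFXcoe]
          exact Finset.mem_coe.2 hχFX
        have hχ1 : χ 1 = ((H.relIndex L * a : ℕ) : ℂ) := by
          rw [hd χ hχX.1, hdχ, he]
          rfl
        obtain ⟨t, ht⟩ := frob_div H L hHL hodd hcent hTI hN p hp M hcardH hpe Z hZ1 hZK hZc
          hirrX τ₁ hτ₁ (fun α hα => hagree₁ α hα) ξ hξ horth' χ hχX a hχ1
        have hξLchar : IsCharacter L (fun l : L => ξ l) :=
          IsCharacter.restrict (IsIrrCharacter.isCharacter hξ) L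
        obtain ⟨nφ, hnφ⟩ := classInner_isCharacter_nat (hS.isCharacter φ hφS) hξLchar
        refine ⟨(nφ : ℤ) - t, ?_⟩
        show classInner (indFun L ((a : ℤ) • φ - χ)) ξ = _
        rw [frobenius_reciprocity L _ ξ
          (IsCharacter.isClassFunction (IsIrrCharacter.isCharacter hξ)), zsmul_eq_complex_smul,
          classInner_sub_left, classInner_smul_left, hnφ, ht]
        push_cast
        ring
      have hstep := sibley_step hS d hd hn1 FX hFXS hFXconj hXcoh' χ hχFX hmin φ hφS hφFX hφcFX a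
        (by rw [hdχ, hdφ, mul_comm]) hdiv hN1
      refine ⟨FX ∪ {φ, conjFun φ}, Finset.subset_union_left, ?_, ?_, ?_, ?_⟩
      · intro ψ hψ
        rw [Finset.mem_coe, Finset.mem_union, Finset.mem_insert, Finset.mem_singleton] at hψ
        rcases hψ with h | rfl | rfl
        · exact hFXS (Finset.mem_coe.2 h)
        · exact hφS
        · exact hφcS
      · intro ψ hψ
        rw [Finset.mem_union, Finset.mem_insert, Finset.mem_singleton] at hψ ⊢
        rcases hψ with h | rfl | rfl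
        · exact Or.inl (hFXconj ψ h)
        · exact Or.inr (Or.inr rfl)
        · exact Or.inr (Or.inl (conjFun_conjFun _))
      · rw [Finset.mem_union, Finset.mem_insert]
        exact Or.inr (Or.inl rfl)
      · rw [Finset.coe_union, Finset.coe_insert, Finset.coe_singleton]
        exact hstep
  obtain ⟨S_A, hFXA, hAS, hAc, hφA, hcohA⟩ := hSA
  have hFSne : (inducedFinset K ⊥).Nonempty :=
    ⟨φ, by rw [← Finset.mem_coe, coe_inducedFinset]; exact hφS⟩
  have hfinal := coherent_extend' hS d n hd hn S_A (inducedFinset K ⊥) hAS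
    (by rw [coe_inducedFinset]) hAc
    (fun ψ hψ => by
      rw [← Finset.mem_coe, coe_inducedFinset] at hψ ⊢
      exact conjFun_mem_inducedIrrAbove K hψ) hcohA hFSne φ hφA ?_ ?_
  · rw [coe_inducedFinset] at hfinal
    exact hfinal
  · intro ψ hψ _
    rw [← Finset.mem_coe, coe_inducedFinset] at hψ
    obtain ⟨θ, hθ, hθ1, -, rfl⟩ := hψ
    have h : d (indFun K θ) = e * irrDeg (⟨θ, hθ⟩ : IrrCharacter K) := hdeg ⟨θ, hθ⟩ hθ1
    rw [hdφ, h]
    exact Dvd.intro _ rfl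
  · intro ψ hψ _
    rw [← Finset.mem_coe, coe_inducedFinset] at hψ
    obtain ⟨θ, hθ, hθ1, -, rfl⟩ := hψ
    have h : d (indFun K θ) = e * irrDeg (⟨θ, hθ⟩ : IrrCharacter K) := hdeg ⟨θ, hθ⟩ hθ1
    have hsum : ∑ φ' ∈ S_A, ((d φ' : ℝ) ^ 2 / (n φ' : ℝ))
        = ((∑ φ' ∈ S_A, d φ' ^ 2 : ℕ) : ℝ) := by
      push_cast
      apply Finset.sum_congr rfl
      intro φ' _
      rw [hndef]
      simp
    rw [hsum, hdφ, h]
    obtain ⟨b, hb⟩ : ∃ b, b = irrDeg (⟨θ, hθ⟩ : IrrCharacter K) := ⟨_, rfl⟩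
    rw [← hb]
    have hbI : b < I := by
      have h1 := hcentral ⟨θ, hθ⟩
      have h2 := irrDeg_pos (⟨θ, hθ⟩ : IrrCharacter K)
      rw [← hb] at h1 h2
      by_contra hcon
      push Not at hcon
      have hb2 : 2 ≤ b := by omega
      have h3 : 2 * b ≤ b ^ 2 := by
        rw [sq]
        exact Nat.mul_le_mul_right b hb2
      linarith
    have hnat : 2 * (e * b) * e < ∑ φ' ∈ S_A, d φ' ^ 2 := by
      have he2 : 0 < 2 * e ^ 2 := by positivity
      calc 2 * (e * b) * e = 2 * e ^ 2 * b := by ring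
        _ < 2 * e ^ 2 * I := mul_lt_mul_of_pos_left hbI he2
        _ ≤ ∑ ψ ∈ FX, d ψ ^ 2 := hkey
        _ ≤ ∑ φ' ∈ S_A, d φ' ^ 2 := Finset.sum_le_sum_of_subset hFXA
    exact_mod_cast hnat

end PCase

section Main

variable {G : Type*} [Group G] [Fintype G] (H L : Subgroup G) [Fintype L]

/-- **Sibley's coherence theorem** for Frobenius groups of odd order with nilpotent TI kernel,
with the Frobenius condition given through centralisers. -/
theorem frobenius_TI_coherent (hodd : Odd (Nat.card L)) (hHL : H ≤ L) (hLH : ¬ L ≤ H)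
    (hH1 : H ≠ ⊥) (hnil : Group.IsNilpotent H) (hHn : ∀ x ∈ L, ∀ h ∈ H, x * h * x⁻¹ ∈ H)
    (hcent : ∀ h ∈ H, h ≠ 1 → ∀ x ∈ L, x * h = h * x → x ∈ H)
    (hTI : IsTISubset (H : Set G)) (hN : Subgroup.normalizer (H : Set G) = L) :
    IsCoherent (inducedIrrAbove (H.subgroupOf L) ⊥) {1}ᶜ (fun α : L → ℂ => indFun L α) := by
  classical
  haveI hKn : (H.subgroupOf L).Normal := ⟨fun n hn g => by
    rw [Subgroup.mem_subgroupOf] at hn ⊢
    have := hHn g g.2 n hn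
    simpa using this⟩
  have hF : ∀ k ∈ H.subgroupOf L, k ≠ 1 → ∀ x : L, x * k = k * x → x ∈ H.subgroupOf L := by
    intro k hk hk1 x hxk
    rw [Subgroup.mem_subgroupOf] at hk ⊢
    apply hcent k hk (fun h => hk1 (Subtype.ext h)) x x.2
    have := congrArg Subtype.val hxk
    simpa using this
  have hK1 : H.subgroupOf L ≠ ⊥ := by
    intro h
    apply hH1
    rw [Subgroup.subgroupOf_eq_bot] at h
    exact h.eq_bot_of_le hHL
  have hKtop : H.subgroupOf L < ⊤ :=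
    lt_top_iff_ne_top.2 (fun h => hLH (Subgroup.subgroupOf_eq_top.1 h))
  obtain ⟨hirrS, R, hS⟩ := frob_coherence_system H L hodd hK1 hF hTI hN
  haveI hnilK : Group.IsNilpotent (H.subgroupOf L) := by
    haveI := hnil
    exact Group.nilpotent_of_mulEquiv (Subgroup.subgroupOfEquivOfLe hHL).symm
  have hsolv : Group.IsSolvable (H.subgroupOf L) := inferInstance
  have hH₁K := commutator_lt_of_solvable (H.subgroupOf L) hsolv hK1
  have hfrobq := frob_quotient (H.subgroupOf L) hF ⁅H.subgroupOf L, H.subgroupOf L⁆ hH₁K.le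
  by_cases hcase : (∃ p M : ℕ, p.Prime ∧ Nat.card (H.subgroupOf L) = p ^ M) ∧
      ¬ ⁅H.subgroupOf L, H.subgroupOf L⁆ ≤ ⊥
  · obtain ⟨⟨p, M, hp, hcard⟩, hnonab⟩ := hcase
    exact frobenius_TI_coherent_pgroup H L hHL hodd hcent hTI hN R hS hirrS hF hKtop p hp M hcard
      hnonab
  · have hnilq : Group.IsNilpotent
        (↥(H.subgroupOf L) ⧸ (⊥ : Subgroup L).subgroupOf (H.subgroupOf L)) := inferInstance
    apply Cfsg.Agent.S1521.result (H.subgroupOf L) hsolv _ R hS hodd ⊥ bot_le hnilq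
      ⁅H.subgroupOf L, H.subgroupOf L⁆ (sup_bot_eq _).symm hH₁K hKtop hfrobq
    rw [Subgroup.relIndex_bot_left]
    by_cases h1 : ∃ p M : ℕ, p.Prime ∧ Nat.card (H.subgroupOf L) = p ^ M
    · right; right; right; left
      by_contra h2
      exact hcase ⟨h1, h2⟩
    · right; right; left
      exact h1

end Main

end Cfsg.Agent.Lib.Helper11
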