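import Cfsg.Agent.S0033
import Cfsg.Agent.Lib.Helper11.FrobCoh
import Cfsg.Agent.Lib.Helper11.CoverSum
import Cfsg.Agent.Lib.Helper2.BurnsidePQ

/-!
A Frobenius group `L` with TI kernel `H` in `G`, together with a coherent isometry `τ₁`
extending induction: basic properties of the characters `τ₁ ψ`.
-/

set_option autoImplicit false

namespace Cfsg.Agent.Lib.Helper11

open Cfsg
open Cfsg.Agent.Lib.Helper2
open Cfsg.Agent.S1522
open scoped ComplexConjugate

/-- A Frobenius kernel (given by the centraliser condition) is nilpotent, by Thompson's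
theorem. -/
theorem frob_kernel_nilpotent {Λ : Type*} [Group Λ] [Finite Λ] (K : Subgroup Λ) [hK : K.Normal]
    (hF : ∀ k ∈ K, k ≠ 1 → ∀ x : Λ, x * k = k * x → x ∈ K) (hKtop : K ≠ ⊤) :
    Group.IsNilpotent K := by
  classical
  obtain ⟨-, W, hsup, -, hfpf⟩ := exists_complement_of_frob K hF
  have hW1 : W ≠ ⊥ := by
    intro h
    apply hKtop
    rw [← hsup, h, sup_bot_eq]
  have hcard1 : Nat.card W ≠ 1 := by
    rw [Ne, Subgroup.card_eq_one]
    exact hW1
  obtain ⟨r, hr, hrdvd⟩ := Nat.exists_prime_and_dvd hcard1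
  haveI hrf : Fact r.Prime := ⟨hr⟩
  obtain ⟨w, hw⟩ := exists_prime_orderOf_dvd_card' r hrdvd
  have hwΛ : orderOf (w : Λ) = r := by rw [Subgroup.orderOf_coe, hw]
  have hw1 : (w : Λ) ≠ 1 := by
    intro h1
    rw [h1, orderOf_one] at hwΛ
    exact hr.one_lt.ne hwΛ
  let φ : MulAut K := MulAut.conjNormal (w : Λ)
  have hφval : ∀ n : K, ((φ n : K) : Λ) = w * n * (w : Λ)⁻¹ := fun n =>
    MulAut.conjNormal_apply _ n
  have hfpf' : MonoidHom.FixedPointFree ((φ : K ≃* K) : K →* K) := by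
    intro n hn
    have h1 : (w : Λ) * n * (w : Λ)⁻¹ = n := by
      rw [← hφval]
      exact congrArg Subtype.val hn
    have h2 : (w : Λ) * n = n * w := by
      calc (w : Λ) * n = (w : Λ) * n * (w : Λ)⁻¹ * w := by group
        _ = n * w := by rw [h1]
    exact Subtype.ext (hfpf w w.2 hw1 n n.2 h2)
  have hpow : φ ^ r = 1 := by
    show (MulAut.conjNormal (w : Λ) : MulAut K) ^ r = 1
    rw [← map_pow, ← hwΛ, pow_orderOf_eq_one, map_one]
  have hdvd : orderOf φ ∣ r := orderOf_dvd_of_pow_eq_one hpow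
  rcases (Nat.dvd_prime hr).1 hdvd with h1 | h1
  · rw [orderOf_eq_one_iff] at h1
    have hsub : Subsingleton K := by
      constructor
      intro a b
      have ha : a = 1 := hfpf' a (by
        show φ a = a
        rw [h1]; rfl)
      have hb : b = 1 := hfpf' b (by
        show φ b = b
        rw [h1]; rfl)
      rw [ha, hb]
    exact Group.isNilpotent_of_subsingleton
  · exact Cfsg.Agent.S0033.result φ hfpf' r hr h1

section Misc

variable {G : Type*} [Group G]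

/-- The value at `1` of a generalized character is an integer. -/
theorem IsGeneralizedCharacter.apply_one_int {ξ : G → ℂ} (h : IsGeneralizedCharacter G ξ) :
    ∃ m : ℤ, ξ 1 = (m : ℂ) := by
  obtain ⟨χ, ψ, hχ, hψ, rfl⟩ := h
  obtain ⟨n, hn⟩ := IsCharacter.apply_one hχ
  obtain ⟨m, hm⟩ := IsCharacter.apply_one hψ
  exact ⟨(n : ℤ) - m, by rw [Pi.sub_apply, hn, hm]; push_cast; ring⟩

/-- Restriction of a generalized character to a subgroup. -/
theorem IsGeneralizedCharacter.restrict {ξ : G → ℂ} (h : IsGeneralizedCharacter G ξ)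
    (L : Subgroup G) : IsGeneralizedCharacter L (fun l : L => ξ l) := by
  obtain ⟨χ, ψ, hχ, hψ, rfl⟩ := h
  exact ⟨fun l : L => χ l, fun l : L => ψ l, IsCharacter.restrict hχ L, IsCharacter.restrict hψ L,
    rfl⟩

/-- The conjugate of a signed irreducible character is a signed irreducible character. -/
theorem IsSignedIrr.conj [Finite G] {a : G → ℂ} (ha : IsSignedIrr a) :
    IsSignedIrr (conjFun a) := by
  rcases ha with h | h
  · exact Or.inl (isIrrCharacter_conj h)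
  · right
    have h1 := isIrrCharacter_conj h
    have h2 : (fun g => (starRingEnd ℂ) ((-a) g)) = -conjFun a := by
      funext g
      simp [conjFun]
    rw [h2] at h1
    exact h1

end Misc

/-- The context: a Frobenius group `L` with TI kernel `H` in `G` and a coherent isometry. -/
structure FrobCtx {G : Type*} [Group G] [Fintype G] (H L : Subgroup G) [Fintype L]
    (τ₁ : (L → ℂ) → (G → ℂ)) : Prop where
  hHL : H ≤ L
  normal : (H.subgroupOf L).Normal
  hHn : ∀ x ∈ L, ∀ h ∈ H, x * h * x⁻¹ ∈ H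
  hTI : IsTISubset (H : Set G)
  hN : Subgroup.normalizer (H : Set G) = L
  irr : ∀ χ ∈ inducedIrrAbove (H.subgroupOf L) ⊥, IsIrrCharacter L χ
  conj_ne : ∀ χ ∈ inducedIrrAbove (H.subgroupOf L) ⊥, conjFun χ ≠ χ
  iso : IsLinearIsometryOn (zspan (inducedIrrAbove (H.subgroupOf L) ⊥)) τ₁
  agree : ∀ α ∈ zspanOn (inducedIrrAbove (H.subgroupOf L) ⊥) {1}ᶜ, τ₁ α = indFun L α

namespace FrobCtx

variable {G : Type*} [Group G] [Fintype G] {H L : Subgroup G} [Fintype L]
  {τ₁ : (L → ℂ) → (G → ℂ)}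

theorem tau_gen (C : FrobCtx H L τ₁) {ψ : L → ℂ}
    (hψ : ψ ∈ inducedIrrAbove (H.subgroupOf L) ⊥) : IsGeneralizedCharacter G (τ₁ ψ) :=
  C.iso.2.2.2 ψ (Submodule.subset_span hψ)

open Classical in
theorem tau_inner (C : FrobCtx H L τ₁) {ψ ψ' : L → ℂ}
    (hψ : ψ ∈ inducedIrrAbove (H.subgroupOf L) ⊥)
    (hψ' : ψ' ∈ inducedIrrAbove (H.subgroupOf L) ⊥) :
    classInner (τ₁ ψ) (τ₁ ψ') = if ψ = ψ' then 1 else 0 := by
  rw [C.iso.2.2.1 ψ (Submodule.subset_span hψ) ψ' (Submodule.subset_span hψ')]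
  exact classInner_irr_eq_ite (C.irr ψ hψ) (C.irr ψ' hψ')

theorem tau_signed (C : FrobCtx H L τ₁) {ψ : L → ℂ}
    (hψ : ψ ∈ inducedIrrAbove (H.subgroupOf L) ⊥) : IsSignedIrr (τ₁ ψ) := by
  classical
  exact IsGeneralizedCharacter.isSignedIrr_of_norm_one (C.tau_gen hψ)
    (by rw [C.tau_inner hψ hψ, if_pos rfl])

theorem tau_injective (C : FrobCtx H L τ₁) {ψ ψ' : L → ℂ}
    (hψ : ψ ∈ inducedIrrAbove (H.subgroupOf L) ⊥)
    (hψ' : ψ' ∈ inducedIrrAbove (H.subgroupOf L) ⊥) (h : τ₁ ψ = τ₁ ψ') : ψ = ψ' := by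
  classical
  by_contra hne
  have h1 := C.tau_inner hψ hψ'
  rw [if_neg hne, h, C.tau_inner hψ' hψ', if_pos rfl] at h1
  exact one_ne_zero h1

theorem classFun (C : FrobCtx H L τ₁) {α : L → ℂ}
    (hα : α ∈ zspan (inducedIrrAbove (H.subgroupOf L) ⊥)) : IsClassFunction L α := by
  haveI := C.normal
  exact (zspan_induced_props (H.subgroupOf L) ⊥ hα).1

theorem vanish (C : FrobCtx H L τ₁) {α : L → ℂ}
    (hα : α ∈ zspanOn (inducedIrrAbove (H.subgroupOf L) ⊥) {1}ᶜ) :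
    ∀ l : L, l ∉ cutSet H L → α l = 0 := by
  haveI := C.normal
  intro l hl
  by_cases h1 : l = 1
  · rw [h1]
    exact hα.2 1 (by simp)
  · apply (zspan_induced_props (H.subgroupOf L) ⊥ hα.1).2.1
    intro hlK
    apply hl
    exact ⟨Subgroup.mem_subgroupOf.1 hlK, fun h => h1 (Subtype.ext h)⟩

theorem ind_supp (C : FrobCtx H L τ₁) {α : L → ℂ}
    (hα : α ∈ zspanOn (inducedIrrAbove (H.subgroupOf L) ⊥) {1}ᶜ) {y : G}
    (hy : y ∉ conjSet H) : indFun L α y = 0 :=
  indFun_eq_zero_of_not_mem_conjSet H L α (C.vanish hα) hy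

theorem ind_apply (C : FrobCtx H L τ₁) {α : L → ℂ}
    (hα : α ∈ zspanOn (inducedIrrAbove (H.subgroupOf L) ⊥) {1}ᶜ) (l : L)
    (hl : l ∈ cutSet H L) : indFun L α (l : G) = α l :=
  indFun_apply_of_TI L {g : G | g ∈ H ∧ g ≠ 1} (ti_fusion H L C.hTI C.hN) α (C.classFun hα.1)
    (fun l hl => C.vanish hα l hl) l hl

theorem conj_mem (C : FrobCtx H L τ₁) {ψ : L → ℂ}
    (hψ : ψ ∈ inducedIrrAbove (H.subgroupOf L) ⊥) :
    conjFun ψ ∈ inducedIrrAbove (H.subgroupOf L) ⊥ := by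
  haveI := C.normal
  exact conjFun_mem_inducedIrrAbove _ hψ

theorem sub_conj_mem (C : FrobCtx H L τ₁) {ψ : L → ℂ}
    (hψ : ψ ∈ inducedIrrAbove (H.subgroupOf L) ⊥) :
    ψ - conjFun ψ ∈ zspanOn (inducedIrrAbove (H.subgroupOf L) ⊥) {1}ᶜ := by
  refine ⟨Submodule.sub_mem _ (Submodule.subset_span hψ)
    (Submodule.subset_span (C.conj_mem hψ)), ?_⟩
  intro x hx
  have hx1 : x = 1 := by simpa using hx
  subst hx1
  simp only [Pi.sub_apply, conjFun]
  rw [IsCharacter.conj_apply_one (IsIrrCharacter.isCharacter (C.irr ψ hψ)), sub_self]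

theorem tau_sub_conj (C : FrobCtx H L τ₁) {ψ : L → ℂ}
    (hψ : ψ ∈ inducedIrrAbove (H.subgroupOf L) ⊥) :
    τ₁ ψ - τ₁ (conjFun ψ) = indFun L (ψ - conjFun ψ) := by
  rw [← C.agree _ (C.sub_conj_mem hψ)]
  exact (isLinIso_sub (Submodule.span ℤ (inducedIrrAbove (H.subgroupOf L) ⊥)) C.iso
    (Submodule.subset_span hψ) (Submodule.subset_span (C.conj_mem hψ))).symm

/-- Members of `S` are orthogonal to the principal character of `L`. -/
theorem inner_one (C : FrobCtx H L τ₁) {φ : L → ℂ}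
    (hφ : φ ∈ inducedIrrAbove (H.subgroupOf L) ⊥) :
    classInner φ (fun _ : L => (1 : ℂ)) = 0 := by
  classical
  obtain ⟨θ, hθ, hθ1, -, rfl⟩ := hφ
  rw [frobenius_reciprocity (H.subgroupOf L) θ _ (fun _ _ => rfl)]
  have h := classInner_irr_eq_ite hθ (isIrrCharacter_one (G := H.subgroupOf L))
  rw [h, if_neg hθ1]

/-- `τ₁ ψ` is orthogonal to the principal character of `G`. -/
theorem tau_one_orth (C : FrobCtx H L τ₁) {ψ : L → ℂ}
    (hψ : ψ ∈ inducedIrrAbove (H.subgroupOf L) ⊥) :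
    classInner (τ₁ ψ) (fun _ : G => (1 : ℂ)) = 0 := by
  have hcψ := C.conj_mem hψ
  have h1 : classInner (τ₁ ψ) (fun _ : G => (1 : ℂ))
      - classInner (τ₁ (conjFun ψ)) (fun _ : G => (1 : ℂ)) = 0 := by
    rw [← classInner_sub_left, C.tau_sub_conj hψ,
      frobenius_reciprocity L _ _ (fun _ _ => rfl), classInner_sub_left, C.inner_one hψ,
      C.inner_one hcψ, sub_zero]
  by_contra hne
  have hs := C.tau_signed hψ
  have hsc := C.tau_signed hcψ
  have hone : IsSignedIrr (fun _ : G => (1 : ℂ)) := Or.inl isIrrCharacter_one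
  have heq : classInner (τ₁ (conjFun ψ)) (fun _ : G => (1 : ℂ))
      = classInner (τ₁ ψ) (fun _ : G => (1 : ℂ)) := by linear_combination -h1
  have key : τ₁ ψ = τ₁ (conjFun ψ) := by
    rcases IsSignedIrr.inner_cases hs hone with h | h | h
    · exact absurd h.1 hne
    · rcases IsSignedIrr.inner_cases hsc hone with h' | h' | h'
      · have h2 := h'.1
        rw [heq, h.2] at h2
        exact absurd h2 one_ne_zero
      · rw [h.1, h'.1]
      · have h2 := h'.2
        rw [heq, h.2] at h2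
        exfalso
        norm_num at h2
    · rcases IsSignedIrr.inner_cases hsc hone with h' | h' | h'
      · have h2 := h'.1
        rw [heq, h.2] at h2
        exfalso
        norm_num at h2
      · have h2 := h'.2
        rw [heq, h.2] at h2
        exfalso
        norm_num at h2
      · rw [h.1, h'.1]
  exact C.conj_ne ψ hψ (C.tau_injective hψ hcψ key).symm

/-- `τ₁` commutes with complex conjugation. -/
theorem tau_conj (C : FrobCtx H L τ₁) {ψ : L → ℂ}
    (hψ : ψ ∈ inducedIrrAbove (H.subgroupOf L) ⊥) :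
    conjFun (τ₁ ψ) = τ₁ (conjFun ψ) := by
  classical
  have hcψ := C.conj_mem hψ
  have hs := C.tau_signed hψ
  have hsc := C.tau_signed hcψ
  have hconjdiff : conjFun (τ₁ ψ) - conjFun (τ₁ (conjFun ψ)) = τ₁ (conjFun ψ) - τ₁ ψ := by
    have h1 : conjFun (τ₁ ψ) - conjFun (τ₁ (conjFun ψ)) = conjFun (τ₁ ψ - τ₁ (conjFun ψ)) := by
      funext x
      simp [conjFun]
    have h2 : conjFun (ψ - conjFun ψ) = (-1 : ℂ) • (ψ - conjFun ψ) := by
      funext x
      simp [conjFun]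
    rw [h1, C.tau_sub_conj hψ, conjFun_indFun, h2, indFun_smul, ← C.tau_sub_conj hψ]
    funext x
    simp
  -- inner products with `v = τ₁ (conj ψ)`
  have huv : classInner (τ₁ ψ) (τ₁ (conjFun ψ)) = 0 := by
    rw [C.tau_inner hψ hcψ, if_neg (fun h => C.conj_ne ψ hψ h.symm)]
  have hvv : classInner (τ₁ (conjFun ψ)) (τ₁ (conjFun ψ)) = 1 := by
    rw [C.tau_inner hcψ hcψ, if_pos rfl]
  have hrel : classInner (conjFun (τ₁ ψ)) (τ₁ (conjFun ψ))
      - classInner (conjFun (τ₁ (conjFun ψ))) (τ₁ (conjFun ψ)) = 1 := by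
    rw [← classInner_sub_left, hconjdiff, classInner_sub_left, hvv, huv, sub_zero]
  rcases IsSignedIrr.inner_cases hsc.conj hsc with h | h | h
  · rw [h.1, sub_zero] at hrel
    rcases IsSignedIrr.inner_cases hs.conj hsc with h' | h' | h'
    · rw [h'.1] at hrel
      exact absurd hrel zero_ne_one
    · exact h'.1
    · rw [h'.2] at hrel
      exfalso
      norm_num at hrel
  · rw [h.2] at hrel
    rcases IsSignedIrr.inner_cases hs.conj hsc with h' | h' | h'
    · rw [h'.1] at hrel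
      exfalso
      norm_num at hrel
    · rw [h'.2] at hrel
      exfalso
      norm_num at hrel
    · rw [h'.2] at hrel
      exfalso
      norm_num at hrel
  · exfalso
    obtain ⟨m, hm⟩ := IsGeneralizedCharacter.apply_one_int (C.tau_gen hcψ)
    have h1 := congrFun h.1 1
    simp only [conjFun, Pi.neg_apply] at h1
    rw [hm, map_intCast] at h1
    have h2 : (m : ℂ) = 0 := by linear_combination h1 / 2
    rw [← hm] at h2
    exact hsc.apply_one_ne_zero h2

/-- Degrees of members of `S`. -/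
theorem deg (C : FrobCtx H L τ₁) {ψ : L → ℂ}
    (hψ : ψ ∈ inducedIrrAbove (H.subgroupOf L) ⊥) :
    ∃ aψ : ℕ, 0 < aψ ∧ ψ 1 = (((H.subgroupOf L).index * aψ : ℕ) : ℂ) := by
  obtain ⟨θ, hθ, -, -, rfl⟩ := hψ
  obtain ⟨n, hnpos, hn⟩ := IsIrrCharacter.apply_one hθ
  exact ⟨n, hnpos, by rw [indFun_apply_one, hn]; push_cast; ring⟩

/-- The basic degree-zero combinations and their images. -/
theorem combo (C : FrobCtx H L τ₁) {ψ χ : L → ℂ}
    (hψ : ψ ∈ inducedIrrAbove (H.subgroupOf L) ⊥)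
    (hχ : χ ∈ inducedIrrAbove (H.subgroupOf L) ⊥) (dψ dχ : ℕ) (hdψ : ψ 1 = (dψ : ℂ))
    (hdχ : χ 1 = (dχ : ℂ)) :
    (dχ : ℂ) • ψ - (dψ : ℂ) • χ ∈ zspanOn (inducedIrrAbove (H.subgroupOf L) ⊥) {1}ᶜ ∧
      (dχ : ℂ) • τ₁ ψ - (dψ : ℂ) • τ₁ χ = indFun L ((dχ : ℂ) • ψ - (dψ : ℂ) • χ) := by
  set δ : L → ℂ := (dχ : ℤ) • ψ - (dψ : ℤ) • χ with hδ
  have hδC : δ = (dχ : ℂ) • ψ - (dψ : ℂ) • χ := by
    rw [hδ, zsmul_eq_complex_smul, zsmul_eq_complex_smul]
    push_cast
    rfl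
  have hψm : ψ ∈ Submodule.span ℤ (inducedIrrAbove (H.subgroupOf L) ⊥) :=
    Submodule.subset_span hψ
  have hχm : χ ∈ Submodule.span ℤ (inducedIrrAbove (H.subgroupOf L) ⊥) :=
    Submodule.subset_span hχ
  have hδmem : δ ∈ zspanOn (inducedIrrAbove (H.subgroupOf L) ⊥) {1}ᶜ := by
    refine ⟨Submodule.sub_mem _ (Submodule.smul_mem _ _ hψm) (Submodule.smul_mem _ _ hχm), ?_⟩
    intro x hx
    have hx1 : x = 1 := by simpa using hx
    subst hx1
    rw [hδC]
    simp only [Pi.sub_apply, Pi.smul_apply, smul_eq_mul]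
    rw [hdψ, hdχ]
    ring
  have e1 : τ₁ δ = (dχ : ℂ) • τ₁ ψ - (dψ : ℂ) • τ₁ χ := by
    rw [hδ, isLinIso_sub (Submodule.span ℤ (inducedIrrAbove (H.subgroupOf L) ⊥)) C.iso
      (Submodule.smul_mem _ _ hψm) (Submodule.smul_mem _ _ hχm), C.iso.2.1 ψ hψm,
      C.iso.2.1 χ hχm, zsmul_eq_complex_smul, zsmul_eq_complex_smul]
    push_cast
    rfl
  rw [← hδC]
  exact ⟨hδmem, by rw [← e1, C.agree δ hδmem]⟩

end FrobCtx

end Cfsg.Agent.Lib.Helper11
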