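import Cfsg.Agent.Lib.Helper11.FrobExc1

/-!
The exceptional character `ζ = τ₁ χ` attached to a Frobenius group with TI kernel: its values
on the kernel, and the auxiliary generalized character `B = Ind (Ind 1 - χ)`.
-/

set_option autoImplicit false

namespace Cfsg.Agent.Lib.Helper11

open Cfsg
open Cfsg.Agent.Lib.Helper2
open Cfsg.Agent.S1522
open scoped ComplexConjugate

section Aux

variable {Λ : Type*} [Group Λ] [Fintype Λ]

/-- Inner products with a function supported on `A` only see the values on `A`. -/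
theorem classInner_congr_of_support {β f₁ f₂ : Λ → ℂ} (A : Set Λ)
    (hβ : ∀ l : Λ, l ∉ A → β l = 0) (h : ∀ l ∈ A, f₁ l = f₂ l) :
    classInner β f₁ = classInner β f₂ := by
  classical
  rw [classInner_def, classInner_def]
  congr 1
  apply Finset.sum_congr rfl
  intro l _
  by_cases hl : l ∈ A
  · rw [h l hl]
  · rw [hβ l hl, zero_mul, zero_mul]

/-- Moving an indicator across the inner product. -/
theorem classInner_indicator_comm (A : Set Λ) (f g : Λ → ℂ) :
    classInner (Set.indicator A f) g = classInner f (Set.indicator A g) := by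
  classical
  rw [classInner_def, classInner_def]
  congr 1
  apply Finset.sum_congr rfl
  intro l _
  by_cases hl : l ∈ A
  · rw [Set.indicator_of_mem hl, Set.indicator_of_mem hl]
  · rw [Set.indicator_of_notMem hl, Set.indicator_of_notMem hl, zero_mul, map_zero, mul_zero]

/-- The inner product with the delta function at `1`. -/
theorem classInner_single_one (f : Λ → ℂ) :
    classInner (Set.indicator ({1} : Set Λ) (fun _ => (1 : ℂ))) f
      = (Nat.card Λ : ℂ)⁻¹ * conj (f 1) := by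
  classical
  rw [classInner_def]
  congr 1
  rw [Finset.sum_eq_single (1 : Λ)]
  · rw [Set.indicator_of_mem (Set.mem_singleton _), one_mul]
  · intro l _ hl
    rw [Set.indicator_of_notMem (by simpa using hl), zero_mul]
  · intro h
    exact absurd (Finset.mem_univ _) h

/-- No member of `S(K)` exists: a nonprincipal irreducible character is not constant. -/
theorem not_mem_inducedIrrAbove_self (K : Subgroup Λ) (φ : Λ → ℂ) :
    φ ∉ inducedIrrAbove K K := by
  classical
  rintro ⟨θ, hθ, hθ1, htriv, -⟩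
  apply hθ1
  have hconst : θ = fun _ => θ 1 := by
    funext a
    exact htriv a a.2
  have h1 : classInner θ (fun _ : K => (1 : ℂ)) ≠ 0 := by
    rw [classInner_def]
    have h2 : ∀ k : K, θ k * conj ((fun _ : K => (1 : ℂ)) k) = θ 1 := by
      intro k
      rw [hconst]
      simp
    rw [Finset.sum_congr rfl (fun k _ => h2 k), Finset.sum_const, Finset.card_univ,
      nsmul_eq_mul, ← Nat.card_eq_fintype_card, ← mul_assoc,
      inv_mul_cancel₀ (by exact_mod_cast (Nat.card_pos (α := K)).ne'), one_mul]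
    exact IsIrrCharacter.apply_one_ne_zero hθ
  exact eq_of_irr_of_classInner_ne_zero hθ isIrrCharacter_one h1

end Aux

namespace FrobCtx

variable {G : Type*} [Group G] [Fintype G] {H L : Subgroup G} [Fintype L]
  {τ₁ : (L → ℂ) → (G → ℂ)}

/-- The orders. -/
theorem card_L (C : FrobCtx H L τ₁) :
    Nat.card L = (H.subgroupOf L).index * Nat.card H := by
  have h5 := Subgroup.card_mul_index (H.subgroupOf L)
  rw [Nat.card_congr (Subgroup.subgroupOfEquivOfLe C.hHL).toEquiv] at h5
  rw [mul_comm]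
  exact h5.symm

/-- Members of `S` lie in `S ∖ S(K)`. -/
theorem mem_diff (C : FrobCtx H L τ₁) {ψ : L → ℂ}
    (hψ : ψ ∈ inducedIrrAbove (H.subgroupOf L) ⊥) :
    ψ ∈ inducedIrrAbove (H.subgroupOf L) ⊥ \ inducedIrrAbove (H.subgroupOf L) (H.subgroupOf L) :=
  ⟨hψ, not_mem_inducedIrrAbove_self _ ψ⟩

/-- Values of `ζ = τ₁ χ` on `H ∖ 1`. -/
theorem zeta_value (C : FrobCtx H L τ₁) {χ : L → ℂ}
    (hχ : χ ∈ inducedIrrAbove (H.subgroupOf L) ⊥) (hχ1 : χ 1 = ((H.subgroupOf L).index : ℂ)) :
    ∃ t : ℤ, ∀ l ∈ cutSet H L, τ₁ χ l = χ l + (t : ℂ) := by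
  classical
  haveI := C.normal
  set e := (H.subgroupOf L).index with he
  have hepos : 0 < e := Nat.pos_of_ne_zero Subgroup.index_ne_zero_of_finite
  have heC : (e : ℂ) ≠ 0 := by exact_mod_cast hepos.ne'
  set ζ := τ₁ χ with hζ
  have hζgen : IsGeneralizedCharacter G ζ := C.tau_gen hχ
  have hζclass : IsClassFunction G ζ := IsGeneralizedCharacter.isClassFunction hζgen
  set ζL : L → ℂ := fun l : L => ζ l with hζL
  have hζLgen : IsGeneralizedCharacter L ζL := IsGeneralizedCharacter.restrict hζgen L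
  have hζLclass : IsClassFunction L ζL := IsGeneralizedCharacter.isClassFunction hζLgen
  have hχchar : IsCharacter L χ := IsIrrCharacter.isCharacter (C.irr χ hχ)
  obtain ⟨cc, hcc⟩ := IsGeneralizedCharacter.inner_int hζLgen (isGenChar_of_isChar hχchar)
  obtain ⟨A, hA⟩ := IsGeneralizedCharacter.apply_one_int hζgen
  have hirr' : ∀ ψ ∈ inducedIrrAbove (H.subgroupOf L) ⊥
      \ inducedIrrAbove (H.subgroupOf L) (H.subgroupOf L), IsIrrCharacter L ψ :=
    fun ψ hψ => C.irr ψ hψ.1
  have hprop : ∀ ψ ∈ inducedIrrAbove (H.subgroupOf L) ⊥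
      \ inducedIrrAbove (H.subgroupOf L) (H.subgroupOf L), ψ ≠ χ →
      χ 1 * classInner ζL ψ = ψ 1 * (classInner ζL χ - 1) := by
    intro ψ hψ hne
    have hψchar : IsCharacter L ψ := IsIrrCharacter.isCharacter (C.irr ψ hψ.1)
    obtain ⟨dψ, hdψ⟩ := IsCharacter.apply_one hψchar
    have h1 := indFun_orth_prop L (inducedIrrAbove (H.subgroupOf L) ⊥) τ₁ C.iso C.agree ζ hζclass
      hψ.1 hχ dψ e hdψ hχ1
    rw [hζ, C.tau_inner hψ.1 hχ, if_neg hne, C.tau_inner hχ hχ, if_pos rfl, ← hζ] at h1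
    rw [classInner_comm_of_genChar hζLgen (isGenChar_of_isChar hψchar),
      classInner_comm_of_genChar hζLgen (isGenChar_of_isChar hχchar), hdψ, hχ1]
    linear_combination -h1
  have hcardL : (Nat.card L : ℂ) = (e : ℂ) * (Nat.card H : ℂ) := by
    rw [C.card_L]
    push_cast
    rfl
  refine ⟨A - e - (cc - 1) * (Nat.card H : ℤ), ?_⟩
  intro l hl
  have hlK : l ∈ H.subgroupOf L := Subgroup.mem_subgroupOf.2 hl.1
  have hl1 : l ≠ 1 := by
    intro h
    apply hl.2
    rw [h]
    rfl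
  have hv := restrict_value_formula (H.subgroupOf L) (H.subgroupOf L) le_rfl hirr' ζL hζLclass χ
    (C.mem_diff hχ) 1 hprop l hlK hl1
  have hζ1 : ζL 1 = (A : ℂ) := by
    show ζ ((1 : L) : G) = A
    rw [Subgroup.coe_one]
    exact hA
  rw [hζ1, hcc, hχ1, hcardL] at hv
  have h3 : (e : ℂ) * ζL l = (e : ℂ) * (χ l + ((A - e - (cc - 1) * (Nat.card H : ℤ) : ℤ) : ℂ)) := by
    push_cast
    linear_combination -hv
  exact mul_left_cancel₀ heC h3

/-- Values of `τ₁ ψ` on `H ∖ 1` and off the conjugates of `H`. -/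
theorem tau_value (C : FrobCtx H L τ₁) {χ : L → ℂ}
    (hχ : χ ∈ inducedIrrAbove (H.subgroupOf L) ⊥) (e : ℕ) (he0 : e ≠ 0) (hχ1 : χ 1 = (e : ℂ))
    (t : ℂ) (ht : ∀ l ∈ cutSet H L, τ₁ χ l = χ l + t) {ψ : L → ℂ}
    (hψ : ψ ∈ inducedIrrAbove (H.subgroupOf L) ⊥) (aψ : ℕ) (hψ1 : ψ 1 = ((e * aψ : ℕ) : ℂ)) :
    (∀ l ∈ cutSet H L, τ₁ ψ l = ψ l + (aψ : ℂ) * t) ∧
      ∀ y : G, y ∉ conjSet H → τ₁ ψ y = (aψ : ℂ) * τ₁ χ y := by
  have heC : (e : ℂ) ≠ 0 := by exact_mod_cast he0
  obtain ⟨hmem, hcombo⟩ := C.combo hψ hχ (e * aψ) e hψ1 hχ1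
  constructor
  · intro l hl
    have h1 := congrFun hcombo (l : G)
    rw [C.ind_apply hmem l hl] at h1
    simp only [Pi.sub_apply, Pi.smul_apply, smul_eq_mul] at h1
    rw [ht l hl] at h1
    apply mul_left_cancel₀ heC
    push_cast at h1
    linear_combination h1
  · intro y hy
    have h1 := congrFun hcombo y
    rw [C.ind_supp hmem hy] at h1
    simp only [Pi.sub_apply, Pi.smul_apply, smul_eq_mul] at h1
    apply mul_left_cancel₀ heC
    push_cast at h1
    linear_combination h1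

end FrobCtx

end Cfsg.Agent.Lib.Helper11
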