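import Cfsg.Agent.Lib.Helper11.EqualDegree
import Cfsg.Agent.Lib.Helper11.FrobCoh
import Cfsg.Agent.Lib.Helper11.FrobExc2

/-!
Coherence for a Frobenius group `L` whose kernel `H` is a TI-subset with normaliser `L`, with the
set of characters given as the irreducible characters of `L` not trivial on `H` (or on a central
subgroup `Z`), including the case of even index.
-/

set_option autoImplicit false

namespace Cfsg.Agent.Lib.Helper11

open Cfsg
open Cfsg.Agent.Lib.Helper2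
open Cfsg.Agent.S1522
open scoped ComplexConjugate

section Main

variable {G : Type*} [Group G] [Fintype G] (H L : Subgroup G) [Fintype L]

omit [Fintype G] [Fintype L] in
/-- The kernel is normal. -/
theorem subgroupOf_normal_of_conj (hHn : ∀ x ∈ L, ∀ h ∈ H, x * h * x⁻¹ ∈ H) :
    (H.subgroupOf L).Normal := ⟨fun n hn g => by
    rw [Subgroup.mem_subgroupOf] at hn ⊢
    have := hHn g g.2 n hn
    simpa using this⟩

omit [Fintype G] [Fintype L] in
/-- The Frobenius condition inside `L`. -/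
theorem frob_cond_subgroupOf (hcent : ∀ h ∈ H, h ≠ 1 → ∀ x ∈ L, x * h = h * x → x ∈ H) :
    ∀ k ∈ H.subgroupOf L, k ≠ 1 → ∀ x : L, x * k = k * x → x ∈ H.subgroupOf L := by
  intro k hk hk1 x hxk
  rw [Subgroup.mem_subgroupOf] at hk ⊢
  apply hcent k hk (fun h => hk1 (Subtype.ext h)) x x.2
  have := congrArg Subtype.val hxk
  simpa using this

omit [Fintype G] in
/-- The irreducible characters of `L` not trivial on `H` are the characters induced from the
nonprincipal irreducible characters of `H`. -/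
theorem irr_nontriv_eq_induced [hK : (H.subgroupOf L).Normal]
    (hirr : ∀ χ ∈ inducedIrrAbove (H.subgroupOf L) ⊥, IsIrrCharacter L χ) :
    {χ : L → ℂ | IsIrrCharacter L χ ∧ ∃ x : L, (x : G) ∈ H ∧ χ x ≠ χ 1}
      = inducedIrrAbove (H.subgroupOf L) ⊥ := by
  have h1 := diff_eq_irr (H.subgroupOf L) (H.subgroupOf L) le_rfl (fun χ hχ => hirr χ hχ.1)
  have h2 : inducedIrrAbove (H.subgroupOf L) ⊥ \ inducedIrrAbove (H.subgroupOf L) (H.subgroupOf L)
      = inducedIrrAbove (H.subgroupOf L) ⊥ := by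
    ext χ
    constructor
    · exact fun h => h.1
    · exact fun h => ⟨h, not_mem_inducedIrrAbove_self _ χ⟩
  rw [← h2, h1]
  ext χ
  constructor
  · rintro ⟨hχ, x, hx, hne⟩
    exact ⟨hχ, x, Subgroup.mem_subgroupOf.2 hx, hne⟩
  · rintro ⟨hχ, x, hx, hne⟩
    exact ⟨hχ, x, Subgroup.mem_subgroupOf.1 hx, hne⟩

omit [Fintype G] [Fintype L] in
/-- Oddness of `|L|` from oddness of `|H|` and of the index. -/
theorem odd_card_of_odd_index (hHL : H ≤ L) (hHodd : Odd (Nat.card H))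
    (hidx : ¬ Even (H.subgroupOf L).index) : Odd (Nat.card L) := by
  have h1 := Subgroup.card_mul_index (H.subgroupOf L)
  rw [Nat.card_congr (Subgroup.subgroupOfEquivOfLe hHL).toEquiv] at h1
  rw [← h1]
  exact hHodd.mul (Nat.not_even_iff_odd.1 hidx)

/-- Coherence of the characters nontrivial on a central subgroup `Z` normalised by `L`. -/
theorem sibley_Z_coherent (hodd : Odd (Nat.card L)) (hHL : H ≤ L) (hLH : ¬ L ≤ H)
    (hnil : Group.IsNilpotent H)
    (hHn : ∀ x ∈ L, ∀ h ∈ H, x * h * x⁻¹ ∈ H)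
    (hcent : ∀ h ∈ H, h ≠ 1 → ∀ x ∈ L, x * h = h * x → x ∈ H)
    (hTI : IsTISubset (H : Set G)) (hN : Subgroup.normalizer (H : Set G) = L)
    (Z : Subgroup G) (hZ1 : Z ≠ ⊥) (hZH : ∀ z ∈ Z, z ∈ H ∧ ∀ y ∈ H, z * y = y * z)
    (hZn : ∀ x ∈ L, ∀ z ∈ Z, x * z * x⁻¹ ∈ Z) :
    IsCoherent {χ : L → ℂ | IsIrrCharacter L χ ∧ ∃ z : L, (z : G) ∈ Z ∧ χ z ≠ χ 1} {1}ᶜ
      (fun α : L → ℂ => indFun L α) := by
  classical
  haveI hKn : (H.subgroupOf L).Normal := subgroupOf_normal_of_conj H L hHn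
  have hF := frob_cond_subgroupOf H L hcent
  have hZleH : Z ≤ H := fun z hz => (hZH z hz).1
  have hH1 : H ≠ ⊥ := by
    intro h
    apply hZ1
    rw [eq_bot_iff, ← h]
    exact hZleH
  have hK1 : H.subgroupOf L ≠ ⊥ := by
    intro h
    apply hH1
    rw [Subgroup.subgroupOf_eq_bot] at h
    exact h.eq_bot_of_le hHL
  have hKtop : H.subgroupOf L < ⊤ :=
    lt_top_iff_ne_top.2 (fun h => hLH (Subgroup.subgroupOf_eq_top.1 h))
  obtain ⟨hirrS, R, hS⟩ := frob_coherence_system H L hodd hK1 hF hTI hN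
  haveI hnilK : Group.IsNilpotent (H.subgroupOf L) := by
    haveI := hnil
    exact Group.nilpotent_of_mulEquiv (Subgroup.subgroupOfEquivOfLe hHL).symm
  have hsolv : Group.IsSolvable (H.subgroupOf L) := inferInstance
  have hH₁K := commutator_lt_of_solvable (H.subgroupOf L) hsolv hK1
  have hfrobq := frob_quotient (H.subgroupOf L) hF ⁅H.subgroupOf L, H.subgroupOf L⁆ hH₁K.le
  haveI hZ'n : (Z.subgroupOf L).Normal := subgroupOf_normal_of_conj Z L hZn
  have hZ'1 : Z.subgroupOf L ≠ ⊥ := by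
    intro h
    apply hZ1
    rw [Subgroup.subgroupOf_eq_bot] at h
    exact h.eq_bot_of_le (hZleH.trans hHL)
  have hZ'K : Z.subgroupOf L ≤ H.subgroupOf L := fun z hz =>
    Subgroup.mem_subgroupOf.2 (hZleH (Subgroup.mem_subgroupOf.1 hz))
  have hZ'c : ∀ z ∈ Z.subgroupOf L, ∀ k ∈ H.subgroupOf L, z * k = k * z := by
    intro z hz k hk
    apply Subtype.ext
    exact (hZH z (Subgroup.mem_subgroupOf.1 hz)).2 k (Subgroup.mem_subgroupOf.1 hk)
  have hirrX : ∀ χ ∈ inducedIrrAbove (H.subgroupOf L) ⊥ \ inducedIrrAbove (H.subgroupOf L)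
      (Z.subgroupOf L), IsIrrCharacter L χ := fun χ hχ => hirrS χ hχ.1
  obtain ⟨hset, hcoh⟩ := Cfsg.Agent.S1522.result (H.subgroupOf L) hsolv
    (fun α : L → ℂ => indFun L α) R hS hodd hnilK hH₁K hKtop hfrobq (Z.subgroupOf L) hZ'1 hZ'K
    hZ'c hirrX
  rw [hset] at hcoh
  have hseteq : {χ : L → ℂ | IsIrrCharacter L χ ∧ ∃ z : L, (z : G) ∈ Z ∧ χ z ≠ χ 1}
      = {χ : L → ℂ | IsIrrCharacter L χ ∧ ∃ z ∈ Z.subgroupOf L, χ z ≠ χ 1} := by
    ext χ
    constructor
    · rintro ⟨hχ, x, hx, hne⟩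
      exact ⟨hχ, x, Subgroup.mem_subgroupOf.2 hx, hne⟩
    · rintro ⟨hχ, x, hx, hne⟩
      exact ⟨hχ, x, Subgroup.mem_subgroupOf.1 hx, hne⟩
  rw [hseteq]
  exact hcoh

/-- Sibley's theorem for odd `|L|`, with the set of characters in intrinsic form. -/
theorem frobenius_TI_coherent_irr (hodd : Odd (Nat.card L)) (hHL : H ≤ L) (hLH : ¬ L ≤ H)
    (hH1 : H ≠ ⊥) (hnil : Group.IsNilpotent H) (hHn : ∀ x ∈ L, ∀ h ∈ H, x * h * x⁻¹ ∈ H)
    (hcent : ∀ h ∈ H, h ≠ 1 → ∀ x ∈ L, x * h = h * x → x ∈ H)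
    (hTI : IsTISubset (H : Set G)) (hN : Subgroup.normalizer (H : Set G) = L) :
    IsCoherent {χ : L → ℂ | IsIrrCharacter L χ ∧ ∃ x : L, (x : G) ∈ H ∧ χ x ≠ χ 1} {1}ᶜ
      (fun α : L → ℂ => indFun L α) := by
  haveI hKn : (H.subgroupOf L).Normal := subgroupOf_normal_of_conj H L hHn
  have hF := frob_cond_subgroupOf H L hcent
  have hK1 : H.subgroupOf L ≠ ⊥ := by
    intro h
    apply hH1
    rw [Subgroup.subgroupOf_eq_bot] at h
    exact h.eq_bot_of_le hHL
  obtain ⟨hirrS, -⟩ := frob_coherence_system H L hodd hK1 hF hTI hN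
  rw [irr_nontriv_eq_induced H L hirrS]
  exact frobenius_TI_coherent H L hodd hHL hLH hH1 hnil hHn hcent hTI hN

set_option maxHeartbeats 1000000 in
/-- The case of even index: the kernel is abelian, all characters have the same degree. -/
theorem frobenius_TI_coherent_even (hHL : H ≤ L) (hH1 : H ≠ ⊥)
    (hHn : ∀ x ∈ L, ∀ h ∈ H, x * h * x⁻¹ ∈ H)
    (hcent : ∀ h ∈ H, h ≠ 1 → ∀ x ∈ L, x * h = h * x → x ∈ H)
    (hTI : IsTISubset (H : Set G)) (hN : Subgroup.normalizer (H : Set G) = L)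
    (heven : Even (H.subgroupOf L).index) :
    (Nat.card {χ : L → ℂ // IsIrrCharacter L χ ∧ ∃ x : L, (x : G) ∈ H ∧ χ x ≠ χ 1} = 1 ∧
      (∀ a ∈ H, ∀ b ∈ H, a * b = b * a) ∧ Nat.card H = (H.subgroupOf L).index + 1 ∧
      ∀ r : ℕ, r.Prime → r ∣ Nat.card H → ∀ a ∈ H, a ^ r = 1) ∨
    IsCoherent {χ : L → ℂ | IsIrrCharacter L χ ∧ ∃ x : L, (x : G) ∈ H ∧ χ x ≠ χ 1} {1}ᶜ
      (fun α : L → ℂ => indFun L α) := by
  classical
  haveI hKn : (H.subgroupOf L).Normal := subgroupOf_normal_of_conj H L hHn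
  haveI : Fintype (IrrCharacter (H.subgroupOf L)) := Fintype.ofFinite _
  have hF := frob_cond_subgroupOf H L hcent
  have hK1 : H.subgroupOf L ≠ ⊥ := by
    intro h
    apply hH1
    rw [Subgroup.subgroupOf_eq_bot] at h
    exact h.eq_bot_of_le hHL
  obtain ⟨-, W, hsup, -, hfpf⟩ := exists_complement_of_frob (H.subgroupOf L) hF
  have hirrS : ∀ χ ∈ inducedIrrAbove (H.subgroupOf L) ⊥, IsIrrCharacter L χ := by
    rintro χ ⟨θ, hθ, hθ1, -, rfl⟩
    exact isIrrCharacter_indFun_of_fpf (H.subgroupOf L) W hsup hfpf hθ hθ1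
  have hset := irr_nontriv_eq_induced H L hirrS
  have hKab := frob_kernel_comm_of_even (H.subgroupOf L) hF heven
  have hcardK : Nat.card (H.subgroupOf L) = Nat.card H :=
    Nat.card_congr (Subgroup.subgroupOfEquivOfLe hHL).toEquiv
  obtain ⟨e, he⟩ : ∃ e, e = (H.subgroupOf L).index := ⟨_, rfl⟩
  have hepos : 0 < e := by
    rw [he]
    exact Nat.pos_of_ne_zero Subgroup.index_ne_zero_of_finite
  -- all degrees equal `e`
  have hcomm_bot : ⁅H.subgroupOf L, H.subgroupOf L⁆ ≤ (⊥ : Subgroup L) := by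
    rw [le_bot_iff, Subgroup.commutator_eq_bot_iff_le_centralizer]
    intro k hk
    rw [Subgroup.mem_centralizer_iff]
    intro y hy
    exact hKab y hy k hk
  have hdegS : ∀ χ ∈ inducedIrrAbove (H.subgroupOf L) ⊥, χ 1 = (e : ℂ) := by
    rintro χ ⟨θ, hθ, hθ1, htriv, rfl⟩
    have h1 := irrDeg_eq_one_of_commutator_le (H.subgroupOf L) ⊥ hcomm_bot
      (⟨θ, hθ⟩ : IrrCharacter (H.subgroupOf L)) htriv
    have h2 := irrDeg_spec (⟨θ, hθ⟩ : IrrCharacter (H.subgroupOf L))
    rw [h1] at h2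
    have h3 : θ 1 = 1 := by
      simpa using h2
    rw [indFun_apply_one, h3, mul_one, he]
  -- counting
  obtain ⟨FS, hFSdef⟩ : ∃ FS, FS = inducedFinset (H.subgroupOf L) ⊥ := ⟨_, rfl⟩
  have hFScoe : (↑FS : Set (L → ℂ)) = inducedIrrAbove (H.subgroupOf L) ⊥ := by
    rw [hFSdef]
    exact coe_inducedFinset (H.subgroupOf L) ⊥
  have hcount : FS.card * e + 1 = Nat.card H := by
    have hd : ∀ φ ∈ inducedIrrAbove (H.subgroupOf L) ⊥,
        φ 1 = (((fun _ : L → ℂ => e) φ : ℕ) : ℂ) := fun φ hφ => hdegS φ hφ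
    have hn : ∀ φ ∈ inducedIrrAbove (H.subgroupOf L) ⊥,
        classInner φ φ = (((fun _ : L → ℂ => 1) φ : ℕ) : ℂ) := by
      intro φ hφ
      rw [classInner_irrCharacter_self (⟨φ, hirrS φ hφ⟩ : IrrCharacter L)]
      simp
    have hs := sum_inducedFinset (H.subgroupOf L) ⊥ (fun _ : L → ℂ => e)
      (fun _ : L → ℂ => 1) hd hn
    rw [Subgroup.relIndex_bot_left, hcardK, ← he, ← hFSdef, Finset.sum_const, nsmul_eq_mul] at hs
    have heR : (e : ℝ) ≠ 0 := by exact_mod_cast hepos.ne'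
    have h2 : (FS.card : ℝ) * (e : ℝ) = (Nat.card H : ℝ) - 1 := by
      apply mul_left_cancel₀ heR
      have h3 : ((1 : ℕ) : ℝ) = 1 := Nat.cast_one
      rw [h3, div_one] at hs
      linear_combination hs
    have h3 : ((FS.card * e + 1 : ℕ) : ℝ) = ((Nat.card H : ℕ) : ℝ) := by
      push_cast
      linarith
    exact_mod_cast h3
  rcases Nat.lt_or_ge 1 FS.card with hbig | hsmall
  · -- at least two characters: coherent
    right
    obtain ⟨χ₁, hχ₁, χ₂, hχ₂, h12⟩ := Finset.one_lt_card.1 hbig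
    rw [hset]
    obtain ⟨hiso, hone⟩ := isLinearIsometryOn_indFun_of_TI H L hTI hN
    apply coherent_of_equal_degree (inducedIrrAbove (H.subgroupOf L) ⊥) _ hirrS _ _ _ hiso hone
    · rw [← hFScoe]
      exact FS.finite_toSet
    · intro φ hφ ψ hψ
      rw [hdegS φ hφ, hdegS ψ hψ]
    · refine ⟨χ₁, ?_, χ₂, ?_, h12⟩
      · rw [← hFScoe]
        exact hχ₁
      · rw [← hFScoe]
        exact hχ₂
  · left
    have hcard1 : FS.card = 1 := by
      rcases Nat.eq_zero_or_pos FS.card with h0 | h0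
      · exfalso
        rw [h0, zero_mul, zero_add] at hcount
        rw [← hcardK] at hcount
        exact hK1 (Subgroup.card_eq_one.1 hcount.symm)
      · omega
    rw [hcard1, one_mul] at hcount
    have hcomm : ∀ a ∈ H, ∀ b ∈ H, a * b = b * a := by
      intro a ha b hb
      have := hKab ⟨a, hHL ha⟩ (Subgroup.mem_subgroupOf.2 ha) ⟨b, hHL hb⟩
        (Subgroup.mem_subgroupOf.2 hb)
      exact congrArg Subtype.val this
    refine ⟨?_, hcomm, ?_, ?_⟩
    · have h1 : Nat.card ↥({χ : L → ℂ | IsIrrCharacter L χ ∧ ∃ x : L, (x : G) ∈ H ∧ χ x ≠ χ 1})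
          = 1 := by
        rw [hset, ← hFScoe, Nat.card_coe_set_eq, Set.ncard_coe_finset, hcard1]
      exact h1
    · rw [← hcount, he]
    · intro r hr hrdvd a ha
      haveI : Fact r.Prime := ⟨hr⟩
      -- the subgroup of elements of order dividing `r`
      let Ω : Subgroup L :=
        { carrier := {x : L | x ∈ H.subgroupOf L ∧ x ^ r = 1}
          mul_mem' := by
            rintro x y ⟨hx, hx1⟩ ⟨hy, hy1⟩
            refine ⟨Subgroup.mul_mem _ hx hy, ?_⟩
            have hc : Commute x y := hKab x hx y hy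
            rw [hc.mul_pow, hx1, hy1, one_mul]
          one_mem' := ⟨Subgroup.one_mem _, one_pow r⟩
          inv_mem' := by
            rintro x ⟨hx, hx1⟩
            exact ⟨Subgroup.inv_mem _ hx, by rw [inv_pow, hx1, inv_one]⟩ }
      have hΩmem : ∀ x : L, x ∈ Ω ↔ x ∈ H.subgroupOf L ∧ x ^ r = 1 := fun x => Iff.rfl
      haveI hΩn : Ω.Normal := ⟨fun n hn g => by
        rw [hΩmem] at hn ⊢
        refine ⟨hKn.conj_mem n hn.1 g, ?_⟩
        rw [conj_pow, hn.2]
        group⟩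
      have hΩK : Ω ≤ H.subgroupOf L := fun x hx => ((hΩmem x).1 hx).1
      have hrK : r ∣ Nat.card (H.subgroupOf L) := by
        rw [hcardK]
        exact hrdvd
      obtain ⟨k, hk⟩ := exists_prime_orderOf_dvd_card' r hrK
      have hkΩ : (k : L) ∈ Ω := by
        rw [hΩmem]
        refine ⟨k.2, ?_⟩
        have h1 : k ^ r = 1 := by
          rw [← hk]
          exact pow_orderOf_eq_one k
        have h2 := congrArg Subtype.val h1
        simpa using h2
      have hk1 : (k : L) ≠ 1 := by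
        intro h1
        have h2 : k = 1 := Subtype.ext h1
        rw [h2, orderOf_one] at hk
        exact hr.one_lt.ne hk
      have hΩ1 : 1 < Nat.card Ω := by
        haveI : Nontrivial Ω := ⟨⟨⟨(k : L), hkΩ⟩, 1, fun h => hk1 (congrArg Subtype.val h)⟩⟩
        exact Finite.one_lt_card
      have hdvd := index_dvd_card_sub_one_of_frob (H.subgroupOf L) hF Ω hΩK
      rw [← he] at hdvd
      have hge : e ≤ Nat.card Ω - 1 := Nat.le_of_dvd (by omega) hdvd
      have hΩeq : Ω = H.subgroupOf L := by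
        apply Subgroup.eq_of_le_of_card_ge hΩK
        rw [hcardK, ← hcount]
        omega
      have haΩ : (⟨a, hHL ha⟩ : L) ∈ Ω := by
        rw [hΩeq]
        exact Subgroup.mem_subgroupOf.2 ha
      have h1 := ((hΩmem _).1 haΩ).2
      have h2 := congrArg Subtype.val h1
      simpa using h2

end Main

end Cfsg.Agent.Lib.Helper11
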