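import Cfsg.Agent.Lib.Helper11.FeitNonP
import Cfsg.Agent.Lib.Helper11.FrobSylow
import Cfsg.Agent.Lib.Helper11.FrobExc1

/-!
Feit's coherence theorem for a Frobenius group `L` with kernel `K` (any parity): the set of
irreducible characters of `L` not containing `K` in their kernel is coherent for every linear
isometry `τ` with values vanishing at `1`, unless `|K| = [L:K] + 1` or `K` is a non-abelian
`p`-group with `[K:K'] ≤ 4[L:K]² + 1`.  Also the TI version for an abelian kernel.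
-/

set_option autoImplicit false

namespace Cfsg.Agent.Lib.Helper11

open Cfsg
open Cfsg.Agent.Lib.Helper2
open Cfsg.Agent.S1522
open scoped ComplexConjugate

section FeitFrob

variable {L : Type*} [Group L] [Fintype L] {G : Type*} [Group G] [Fintype G]

/-- **Feit's coherence theorem** for Frobenius groups. -/
theorem feit_frobenius (K : Subgroup L) [hK : K.Normal] (hK1 : K ≠ ⊥) (hK2 : K ≠ ⊤)
    (hF : ∀ k ∈ K, k ≠ 1 → ∀ x : L, x * k = k * x → x ∈ K)
    (he : Nat.card K ≠ K.index + 1)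
    (τ : (L → ℂ) → (G → ℂ)) (hτ : IsLinearIsometryOn (zspanOn (inducedIrrAbove K ⊥) {1}ᶜ) τ)
    (hτ1 : ∀ α ∈ zspanOn (inducedIrrAbove K ⊥) {1}ᶜ, τ α 1 = 0) :
    IsCoherent (inducedIrrAbove K ⊥) {1}ᶜ τ ∨
      ∃ p : ℕ, p.Prime ∧ (∃ m : ℕ, Nat.card K = p ^ m) ∧ ¬ ⁅K, K⁆ ≤ ⊥ ∧
        ⁅K, K⁆.relIndex K ≤ 4 * K.index ^ 2 + 1 := by
  classical
  obtain ⟨-, W, hsup, -, hfpf⟩ := exists_complement_of_frob K hF
  have hirr : ∀ χ ∈ inducedIrrAbove K ⊥, IsIrrCharacter L χ := by
    rintro χ ⟨θ, hθ, hθ1, -, rfl⟩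
    exact isIrrCharacter_indFun_of_fpf K W hsup hfpf hθ hθ1
  have hnil : Group.IsNilpotent K := frob_kernel_nilpotent K hF hK2
  haveI := hnil
  have hsolv : Group.IsSolvable K := inferInstance
  have hepos : 0 < K.index := Nat.pos_of_ne_zero Subgroup.index_ne_zero_of_finite
  have hediv : K.index ∣ Nat.card K - 1 := index_dvd_card_sub_one_of_frob K hF K le_rfl
  by_cases hab : ⁅K, K⁆ ≤ ⊥
  · left
    apply feit_base K hirr τ hτ hτ1 ⊥ hab
    rw [Subgroup.relIndex_bot_left]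
    obtain ⟨m, hm⟩ := hediv
    have hcard1 : Nat.card K ≠ 1 := fun h => hK1 (Subgroup.card_eq_one.1 h)
    have hpos : 0 < Nat.card K := Nat.card_pos
    have hm0 : m ≠ 0 := by
      rintro rfl
      omega
    have hm1 : m ≠ 1 := by
      rintro rfl
      omega
    have h2 : 2 ≤ m := by omega
    have h3 : K.index * 2 ≤ K.index * m := Nat.mul_le_mul_left _ h2
    omega
  · by_cases hbig : 4 * K.index ^ 2 + 1 < ⁅K, K⁆.relIndex K
    · left
      have hbase : IsCoherent (inducedIrrAbove K ⁅K, K⁆) {1}ᶜ τ := by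
        apply feit_base K hirr τ hτ hτ1 ⁅K, K⁆ le_rfl
        nlinarith [Nat.mul_le_mul_left K.index hepos]
      have hnilq : Group.IsNilpotent (↥K ⧸ (⊥ : Subgroup L).subgroupOf K) := inferInstance
      exact feit_chain K hsolv hirr τ hτ hτ1 ⊥ ⁅K, K⁆ bot_le (Subgroup.commutator_le_left K K)
        hnilq hbase hbig
    · by_cases hp : ∃ p m : ℕ, p.Prime ∧ Nat.card K = p ^ m
      · right
        obtain ⟨p, m, hpp, hm⟩ := hp
        exact ⟨p, hpp, ⟨m, hm⟩, hab, not_lt.1 hbig⟩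
      · left
        exact feit_nonp K hnil hF hirr τ hτ hτ1 hp

end FeitFrob

section Main

variable {G : Type*} [Group G] [Fintype G] (H L : Subgroup G) [Fintype L]

set_option maxHeartbeats 1000000 in
/-- The case of an abelian kernel: all characters have the same degree. -/
theorem frobenius_TI_coherent_comm (hHL : H ≤ L) (hH1 : H ≠ ⊥)
    (hHn : ∀ x ∈ L, ∀ h ∈ H, x * h * x⁻¹ ∈ H)
    (hcent : ∀ h ∈ H, h ≠ 1 → ∀ x ∈ L, x * h = h * x → x ∈ H)
    (hTI : IsTISubset (H : Set G)) (hN : Subgroup.normalizer (H : Set G) = L)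
    (hKab : ∀ a ∈ H.subgroupOf L, ∀ b ∈ H.subgroupOf L, a * b = b * a) :
    (Nat.card {χ : L → ℂ // IsIrrCharacter L χ ∧ ∃ x : L, (x : G) ∈ H ∧ χ x ≠ χ 1} = 1 ∧
      (∀ a ∈ H, ∀ b ∈ H, a * b = b * a) ∧ Nat.card H = (H.subgroupOf L).index + 1 ∧
      ∀ r : ℕ, r.Prime → r ∣ Nat.card H → ∀ a ∈ H, a ^ r = 1) ∨
    IsCoherent {χ : L → ℂ | IsIrrCharacter L χ ∧ ∃ x : L, (x : G) ∈ H ∧ χ x ≠ χ 1} {1}ᶜ
      (fun α : L → ℂ => indFun L α) := by
  classical
  haveI hKn : (H.subgroupOf L).Normal := subgroupOf_normal_of_conj H L hHn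
  haveI : Fintype (IrrCharacter (H.subgroupOf L)) := Fintype.ofFinite _
  have hF := frob_cond_subgroupOf H L hcent
  have hK1 : H.subgroupOf L ≠ ⊥ := by
    intro h
    apply hH1
    rw [Subgroup.subgroupOf_eq_bot] at h
    exact h.eq_bot_of_le hHL
  obtain ⟨-, W, hsup, -, hfpf⟩ := exists_complement_of_frob (H.subgroupOf L) hF
  have hirrS : ∀ χ ∈ inducedIrrAbove (H.subgroupOf L) ⊥, IsIrrCharacter L χ := by
    rintro χ ⟨θ, hθ, hθ1, -, rfl⟩
    exact isIrrCharacter_indFun_of_fpf (H.subgroupOf L) W hsup hfpf hθ hθ1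
  have hset := irr_nontriv_eq_induced H L hirrS
  have hcardK : Nat.card (H.subgroupOf L) = Nat.card H :=
    Nat.card_congr (Subgroup.subgroupOfEquivOfLe hHL).toEquiv
  obtain ⟨e, he⟩ : ∃ e, e = (H.subgroupOf L).index := ⟨_, rfl⟩
  have hepos : 0 < e := by
    rw [he]
    exact Nat.pos_of_ne_zero Subgroup.index_ne_zero_of_finite
  -- all degrees equal `e`
  have hcomm_bot : ⁅H.subgroupOf L, H.subgroupOf L⁆ ≤ (⊥ : Subgroup L) := by
    rw [le_bot_iff, Subgroup.commutator_eq_bot_iff_le_centralizer]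
    intro k hk
    rw [Subgroup.mem_centralizer_iff]
    intro y hy
    exact hKab y hy k hk
  have hdegS : ∀ χ ∈ inducedIrrAbove (H.subgroupOf L) ⊥, χ 1 = (e : ℂ) := by
    rintro χ ⟨θ, hθ, hθ1, htriv, rfl⟩
    have h1 := irrDeg_eq_one_of_commutator_le (H.subgroupOf L) ⊥ hcomm_bot
      (⟨θ, hθ⟩ : IrrCharacter (H.subgroupOf L)) htriv
    have h2 := irrDeg_spec (⟨θ, hθ⟩ : IrrCharacter (H.subgroupOf L))
    rw [h1] at h2
    have h3 : θ 1 = 1 := by
      simpa using h2
    rw [indFun_apply_one, h3, mul_one, he]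
  -- counting
  obtain ⟨FS, hFSdef⟩ : ∃ FS, FS = inducedFinset (H.subgroupOf L) ⊥ := ⟨_, rfl⟩
  have hFScoe : (↑FS : Set (L → ℂ)) = inducedIrrAbove (H.subgroupOf L) ⊥ := by
    rw [hFSdef]
    exact coe_inducedFinset (H.subgroupOf L) ⊥
  have hcount : FS.card * e + 1 = Nat.card H := by
    have hd : ∀ φ ∈ inducedIrrAbove (H.subgroupOf L) ⊥,
        φ 1 = (((fun _ : L → ℂ => e) φ : ℕ) : ℂ) := fun φ hφ => hdegS φ hφ
    have hn : ∀ φ ∈ inducedIrrAbove (H.subgroupOf L) ⊥,
        classInner φ φ = (((fun _ : L → ℂ => 1) φ : ℕ) : ℂ) := by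
      intro φ hφ
      rw [classInner_irrCharacter_self (⟨φ, hirrS φ hφ⟩ : IrrCharacter L)]
      simp
    have hs := sum_inducedFinset (H.subgroupOf L) ⊥ (fun _ : L → ℂ => e)
      (fun _ : L → ℂ => 1) hd hn
    rw [Subgroup.relIndex_bot_left, hcardK, ← he, ← hFSdef, Finset.sum_const, nsmul_eq_mul] at hs
    have heR : (e : ℝ) ≠ 0 := by exact_mod_cast hepos.ne'
    have h2 : (FS.card : ℝ) * (e : ℝ) = (Nat.card H : ℝ) - 1 := by
      apply mul_left_cancel₀ heR
      have h3 : ((1 : ℕ) : ℝ) = 1 := Nat.cast_one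
      rw [h3, div_one] at hs
      linear_combination hs
    have h3 : ((FS.card * e + 1 : ℕ) : ℝ) = ((Nat.card H : ℕ) : ℝ) := by
      push_cast
      linarith
    exact_mod_cast h3
  rcases Nat.lt_or_ge 1 FS.card with hbig | hsmall
  · -- at least two characters: coherent
    right
    obtain ⟨χ₁, hχ₁, χ₂, hχ₂, h12⟩ := Finset.one_lt_card.1 hbig
    rw [hset]
    obtain ⟨hiso, hone⟩ := isLinearIsometryOn_indFun_of_TI H L hTI hN
    apply coherent_of_equal_degree (inducedIrrAbove (H.subgroupOf L) ⊥) _ hirrS _ _ _ hiso hone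
    · rw [← hFScoe]
      exact FS.finite_toSet
    · intro φ hφ ψ hψ
      rw [hdegS φ hφ, hdegS ψ hψ]
    · refine ⟨χ₁, ?_, χ₂, ?_, h12⟩
      · rw [← hFScoe]
        exact hχ₁
      · rw [← hFScoe]
        exact hχ₂
  · left
    have hcard1 : FS.card = 1 := by
      rcases Nat.eq_zero_or_pos FS.card with h0 | h0
      · exfalso
        rw [h0, zero_mul, zero_add] at hcount
        rw [← hcardK] at hcount
        exact hK1 (Subgroup.card_eq_one.1 hcount.symm)
      · omega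
    rw [hcard1, one_mul] at hcount
    have hcomm : ∀ a ∈ H, ∀ b ∈ H, a * b = b * a := by
      intro a ha b hb
      have := hKab ⟨a, hHL ha⟩ (Subgroup.mem_subgroupOf.2 ha) ⟨b, hHL hb⟩
        (Subgroup.mem_subgroupOf.2 hb)
      exact congrArg Subtype.val this
    refine ⟨?_, hcomm, ?_, ?_⟩
    · have h1 : Nat.card ↥({χ : L → ℂ | IsIrrCharacter L χ ∧ ∃ x : L, (x : G) ∈ H ∧ χ x ≠ χ 1})
          = 1 := by
        rw [hset, ← hFScoe, Nat.card_coe_set_eq, Set.ncard_coe_finset, hcard1]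
      exact h1
    · rw [← hcount, he]
    · intro r hr hrdvd a ha
      haveI : Fact r.Prime := ⟨hr⟩
      -- the subgroup of elements of order dividing `r`
      let Ω : Subgroup L :=
        { carrier := {x : L | x ∈ H.subgroupOf L ∧ x ^ r = 1}
          mul_mem' := by
            rintro x y ⟨hx, hx1⟩ ⟨hy, hy1⟩
            refine ⟨Subgroup.mul_mem _ hx hy, ?_⟩
            have hc : Commute x y := hKab x hx y hy
            rw [hc.mul_pow, hx1, hy1, one_mul]
          one_mem' := ⟨Subgroup.one_mem _, one_pow r⟩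
          inv_mem' := by
            rintro x ⟨hx, hx1⟩
            exact ⟨Subgroup.inv_mem _ hx, by rw [inv_pow, hx1, inv_one]⟩ }
      have hΩmem : ∀ x : L, x ∈ Ω ↔ x ∈ H.subgroupOf L ∧ x ^ r = 1 := fun x => Iff.rfl
      haveI hΩn : Ω.Normal := ⟨fun n hn g => by
        rw [hΩmem] at hn ⊢
        refine ⟨hKn.conj_mem n hn.1 g, ?_⟩
        rw [conj_pow, hn.2]
        group⟩
      have hΩK : Ω ≤ H.subgroupOf L := fun x hx => ((hΩmem x).1 hx).1
      have hrK : r ∣ Nat.card (H.subgroupOf L) := by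
        rw [hcardK]
        exact hrdvd
      obtain ⟨k, hk⟩ := exists_prime_orderOf_dvd_card' r hrK
      have hkΩ : (k : L) ∈ Ω := by
        rw [hΩmem]
        refine ⟨k.2, ?_⟩
        have h1 : k ^ r = 1 := by
          rw [← hk]
          exact pow_orderOf_eq_one k
        have h2 := congrArg Subtype.val h1
        simpa using h2
      have hk1 : (k : L) ≠ 1 := by
        intro h1
        have h2 : k = 1 := Subtype.ext h1
        rw [h2, orderOf_one] at hk
        exact hr.one_lt.ne hk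
      have hΩ1 : 1 < Nat.card Ω := by
        haveI : Nontrivial Ω := ⟨⟨⟨(k : L), hkΩ⟩, 1, fun h => hk1 (congrArg Subtype.val h)⟩⟩
        exact Finite.one_lt_card
      have hdvd := index_dvd_card_sub_one_of_frob (H.subgroupOf L) hF Ω hΩK
      rw [← he] at hdvd
      have hge : e ≤ Nat.card Ω - 1 := Nat.le_of_dvd (by omega) hdvd
      have hΩeq : Ω = H.subgroupOf L := by
        apply Subgroup.eq_of_le_of_card_ge hΩK
        rw [hcardK, ← hcount]
        omega
      have haΩ : (⟨a, hHL ha⟩ : L) ∈ Ω := by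
        rw [hΩeq]
        exact Subgroup.mem_subgroupOf.2 ha
      have h1 := ((hΩmem _).1 haΩ).2
      have h2 := congrArg Subtype.val h1
      simpa using h2

end Main

end Cfsg.Agent.Lib.Helper11
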