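import Mathlib
import Cfsg.Prelude.Def_LieExceptional
import Cfsg.Agent.Lib.Helper3.Zass3
import Cfsg.Agent.Lib.Helper7.Orbits2
import Cfsg.Agent.Lib.Helper7.ClassCount

/-!
# Counting in Zassenhaus groups

Orders of point stabilizers, the group order `n (n-1) e`, Burnside sums and the number of
fixed-point-free elements.
-/

set_option autoImplicit false

namespace Cfsg.Agent.Lib.Helper11

open Cfsg MulAction
open Cfsg.Agent.Lib.Helper3.Zass

section ZassCount

variable {G Ω : Type*} [Group G] [MulAction G Ω]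

/-- Conjugation identifies two-point stabilizers. -/
theorem zc_card_stab_inf_conj (g : G) (c d : Ω) :
    Nat.card ↥(stabilizer G (g • c) ⊓ stabilizer G (g • d) : Subgroup G) =
      Nat.card ↥(stabilizer G c ⊓ stabilizer G d : Subgroup G) := by
  apply Nat.card_congr
  refine
    { toFun := fun x => ⟨g⁻¹ * x.1 * g, ?_⟩
      invFun := fun y => ⟨g * y.1 * g⁻¹, ?_⟩
      left_inv := fun x => by apply Subtype.ext; simp [mul_assoc]
      right_inv := fun y => by apply Subtype.ext; simp [mul_assoc] }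
  · have hx := x.2
    rw [Subgroup.mem_inf, mem_stabilizer_iff, mem_stabilizer_iff] at hx ⊢
    constructor
    · rw [mul_smul, mul_smul, hx.1, inv_smul_smul]
    · rw [mul_smul, mul_smul, hx.2, inv_smul_smul]
  · have hy := y.2
    rw [Subgroup.mem_inf, mem_stabilizer_iff, mem_stabilizer_iff] at hy ⊢
    constructor
    · rw [mul_smul, mul_smul, inv_smul_smul, hy.1]
    · rw [mul_smul, mul_smul, inv_smul_smul, hy.2]

/-- All two-point stabilizers of a Zassenhaus group have the same order. -/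
theorem zc_card_stab_inf_eq (hZ : IsZassenhausGroup G Ω) {a b c d : Ω} (hab : a ≠ b)
    (hcd : c ≠ d) :
    Nat.card ↥(stabilizer G c ⊓ stabilizer G d : Subgroup G) =
      Nat.card ↥(stabilizer G a ⊓ stabilizer G b : Subgroup G) := by
  obtain ⟨g, rfl, rfl⟩ := two_trans hZ hab hcd
  exact zc_card_stab_inf_conj g a b

theorem zc_pretransitive (hZ : IsZassenhausGroup G Ω) : IsPretransitive G Ω := by
  haveI := hZ.2.1
  exact MulAction.isPretransitive_of_is_two_pretransitive (G := G) (α := Ω)

/-- `n * |G_c| = |G|`. -/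
theorem zc_card_stab_mul [Finite G] [Fintype Ω] (hZ : IsZassenhausGroup G Ω) (c : Ω) :
    Fintype.card Ω * Nat.card (stabilizer G c) = Nat.card G := by
  haveI := zc_pretransitive hZ
  rw [← Cfsg.Agent.Lib.Helper7.card_orbit_mul_card_stabilizer (P := G) c, orbit_eq_univ,
    Nat.card_coe_set_eq, Set.ncard_univ, Nat.card_eq_fintype_card (α := Ω)]

/-- The two point stabilizer has order at least `2`. -/
theorem zc_one_lt_card [Finite G] (hZ : IsZassenhausGroup G Ω) {a b : Ω} (hab : a ≠ b) :
    1 < Nat.card ↥(stabilizer G a ⊓ stabilizer G b : Subgroup G) := by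
  obtain ⟨g, hg, hga, hgb⟩ := exists_fix2 hZ hab
  rw [Subgroup.one_lt_card_iff_ne_bot]
  intro h
  have hmem : g ∈ (stabilizer G a ⊓ stabilizer G b : Subgroup G) :=
    Subgroup.mem_inf.mpr ⟨hga, hgb⟩
  rw [h, Subgroup.mem_bot] at hmem
  exact hg hmem

/-- At least three points. -/
theorem zc_three_le_card [Fintype Ω] (hZ : IsZassenhausGroup G Ω) {a b : Ω} (hab : a ≠ b) :
    3 ≤ Fintype.card Ω := by
  classical
  obtain ⟨c, hca, hcb⟩ := exists_third hZ hab
  have h1 : ({a, b, c} : Finset Ω).card = 3 := by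
    rw [Finset.card_insert_of_notMem, Finset.card_insert_of_notMem, Finset.card_singleton]
    · simp only [Finset.mem_singleton]; exact fun h => hcb h.symm
    · simp only [Finset.mem_insert, Finset.mem_singleton, not_or]
      exact ⟨hab, fun h => hca h.symm⟩
  rw [← h1]
  exact Finset.card_le_univ _

/-- `|G_a| = (n - 1) e`. -/
theorem zc_card_stab_eq [Finite G] [Fintype Ω] (hZ : IsZassenhausGroup G Ω) {a b : Ω}
    (hab : a ≠ b) :
    Nat.card (stabilizer G a) =
      (Fintype.card Ω - 1) * Nat.card ↥(stabilizer G a ⊓ stabilizer G b : Subgroup G) := by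
  classical
  rw [← Cfsg.Agent.Lib.Helper7.card_orbit_mul_card_stabilizer (P := stabilizer G a) b]
  congr 1
  · have h1 : orbit (stabilizer G a) b = {c : Ω | c ≠ a} := by
      ext c
      rw [mem_orbit_iff, Set.mem_ofPred_eq]
      constructor
      · rintro ⟨x, rfl⟩
        exact smul_ne_of_stab hab x.1 x.2
      · intro hca
        obtain ⟨g, hga, hgb⟩ := two_trans hZ hab (Ne.symm hca)
        exact ⟨⟨g, hga⟩, hgb⟩
    rw [h1]
    have h2 : ({c : Ω | c ≠ a} : Set Ω) = ({a} : Set Ω)ᶜ := by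
      ext c; simp
    rw [h2, Nat.card_coe_set_eq, Set.ncard_compl, Set.ncard_singleton,
      Nat.card_eq_fintype_card (α := Ω)]
  · apply Nat.card_congr
    refine
      { toFun := fun x => ⟨x.1.1, Subgroup.mem_inf.mpr ⟨x.1.2, x.2⟩⟩
        invFun := fun y => ⟨⟨y.1, (Subgroup.mem_inf.mp y.2).1⟩, (Subgroup.mem_inf.mp y.2).2⟩
        left_inv := fun x => rfl
        right_inv := fun y => rfl }

/-- `|G| = n ((n-1) e)`. -/
theorem zc_card_group [Finite G] [Fintype Ω] (hZ : IsZassenhausGroup G Ω) {a b : Ω}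
    (hab : a ≠ b) :
    Nat.card G = Fintype.card Ω * ((Fintype.card Ω - 1) *
      Nat.card ↥(stabilizer G a ⊓ stabilizer G b : Subgroup G)) := by
  rw [← zc_card_stab_eq hZ hab, zc_card_stab_mul hZ a]

end ZassCount

section ZassSums

attribute [local instance] Classical.propDecidable

/-- Number of fixed points of `g` on `Ω`. -/
noncomputable def zfix {G : Type*} [Group G] (Ω : Type*) [MulAction G Ω] [Fintype Ω] (g : G) : ℕ :=
  (Finset.univ.filter (fun c : Ω => g • c = c)).card

theorem zc_card_subtype {α : Type*} [Fintype α] (p : α → Prop) [DecidablePred p] :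
    Nat.card {x // p x} = (Finset.univ.filter p).card := by
  rw [Nat.card_eq_fintype_card, Fintype.card_subtype]

variable {G Ω : Type*} [Group G] [MulAction G Ω] [Fintype Ω]

theorem zfix_one : zfix Ω (1 : G) = Fintype.card Ω := by
  simp [zfix]

theorem zfix_eq_sum (g : G) : zfix Ω g = ∑ c : Ω, if g • c = c then 1 else 0 := by
  classical
  unfold zfix
  rw [Finset.card_filter]

theorem zfix_le_two (hZ : IsZassenhausGroup G Ω) {g : G} (hg : g ≠ 1) : zfix Ω g ≤ 2 := by
  classical
  by_contra h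
  push Not at h
  unfold zfix at h
  obtain ⟨a, b, c, ha, hb, hc, hab, hac, hbc⟩ := Finset.two_lt_card_iff.mp h
  simp only [Finset.mem_filter, Finset.mem_univ, true_and] at ha hb hc
  exact hg (fix3 hZ g hab hbc hac ha hb hc)

theorem zfix_eq_zero_iff (g : G) : zfix Ω g = 0 ↔ ∀ c : Ω, g • c ≠ c := by
  classical
  unfold zfix
  rw [Finset.card_eq_zero, Finset.filter_eq_empty_iff]
  simp

omit [Fintype Ω] in
theorem zc_card_stab_filter [Fintype G] (c : Ω) :
    Nat.card (stabilizer G c) = ∑ g : G, if g • c = c then 1 else 0 := by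
  classical
  show Nat.card {g : G // g ∈ stabilizer G c} = _
  rw [zc_card_subtype, Finset.card_filter]
  apply Finset.sum_congr rfl
  intro g _
  simp only [mem_stabilizer_iff]

omit [Fintype Ω] in
theorem zc_card_stab_inf_filter [Fintype G] (c d : Ω) :
    Nat.card ↥(stabilizer G c ⊓ stabilizer G d : Subgroup G) =
      ∑ g : G, if (g • c = c ∧ g • d = d) then 1 else 0 := by
  classical
  show Nat.card {g : G // g ∈ (stabilizer G c ⊓ stabilizer G d : Subgroup G)} = _
  rw [zc_card_subtype, Finset.card_filter]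
  apply Finset.sum_congr rfl
  intro g _
  simp only [Subgroup.mem_inf, mem_stabilizer_iff]

theorem zc_sum_fix_eq [Fintype G] :
    ∑ g : G, zfix Ω g = ∑ c : Ω, Nat.card (stabilizer G c) := by
  classical
  simp only [zfix_eq_sum, zc_card_stab_filter]
  rw [Finset.sum_comm]

theorem zc_sum_fix_sq_eq [Fintype G] :
    ∑ g : G, (zfix Ω g) ^ 2 =
      ∑ c : Ω, ∑ d : Ω, Nat.card ↥(stabilizer G c ⊓ stabilizer G d : Subgroup G) := by
  classical
  have h1 : ∀ g : G, (zfix Ω g) ^ 2 =
      ∑ c : Ω, ∑ d : Ω, if (g • c = c ∧ g • d = d) then 1 else 0 := by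
    intro g
    rw [sq, zfix_eq_sum, Finset.sum_mul_sum]
    apply Finset.sum_congr rfl
    intro c _
    apply Finset.sum_congr rfl
    intro d _
    by_cases hc : g • c = c <;> by_cases hd : g • d = d <;> simp [hc, hd]
  simp only [h1, zc_card_stab_inf_filter]
  rw [Finset.sum_comm]
  apply Finset.sum_congr rfl
  intro c _
  rw [Finset.sum_comm]

/-- Burnside: `∑ fix = |G|`. -/
theorem zc_sum_fix [Fintype G] (hZ : IsZassenhausGroup G Ω) :
    ∑ g : G, zfix Ω g = Fintype.card G := by
  classical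
  rw [zc_sum_fix_eq]
  have hn : 0 < Fintype.card Ω := by
    obtain ⟨g, -, a, -⟩ := hZ.2.2.2.1
    exact Fintype.card_pos_iff.mpr ⟨a⟩
  apply Nat.eq_of_mul_eq_mul_left hn
  rw [Finset.mul_sum]
  have h1 : ∀ c ∈ (Finset.univ : Finset Ω),
      Fintype.card Ω * Nat.card (stabilizer G c) = Fintype.card G := by
    intro c _
    rw [zc_card_stab_mul hZ c, Nat.card_eq_fintype_card]
  rw [Finset.sum_congr rfl h1, Finset.sum_const, Finset.card_univ, smul_eq_mul]

/-- Burnside on pairs: `∑ fix² = 2 |G|`. -/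
theorem zc_sum_fix_sq [Fintype G] (hZ : IsZassenhausGroup G Ω) {a b : Ω} (hab : a ≠ b) :
    ∑ g : G, (zfix Ω g) ^ 2 = 2 * Fintype.card G := by
  classical
  rw [zc_sum_fix_sq_eq]
  set e := Nat.card ↥(stabilizer G a ⊓ stabilizer G b : Subgroup G) with he
  set n := Fintype.card Ω with hn
  have hn3 : 3 ≤ n := zc_three_le_card hZ hab
  have h1 : ∀ c d : Ω, Nat.card ↥(stabilizer G c ⊓ stabilizer G d : Subgroup G) =
      e + if c = d then (n - 2) * e else 0 := by
    intro c d
    by_cases hcd : c = d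
    · subst hcd
      rw [if_pos rfl, inf_idem]
      obtain ⟨d', hd'⟩ : ∃ d' : Ω, c ≠ d' := by
        by_cases h : c = a
        · exact ⟨b, h ▸ hab⟩
        · exact ⟨a, h⟩
      rw [zc_card_stab_eq hZ hd', zc_card_stab_inf_eq hZ hab hd']
      have h2 : n - 1 = (n - 2) + 1 := by omega
      rw [h2]
      ring
    · rw [if_neg hcd, add_zero]
      exact zc_card_stab_inf_eq hZ hab hcd
  have h2 : ∀ c : Ω, ∑ d : Ω, Nat.card ↥(stabilizer G c ⊓ stabilizer G d : Subgroup G) =
      n * e + (n - 2) * e := by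
    intro c
    simp only [h1]
    rw [Finset.sum_add_distrib, Finset.sum_const, Finset.card_univ, smul_eq_mul,
      Finset.sum_ite_eq]
    simp [hn]
  simp only [h2]
  rw [Finset.sum_const, Finset.card_univ, smul_eq_mul, ← Nat.card_eq_fintype_card (α := G),
    zc_card_group hZ hab]
  obtain ⟨m, hm⟩ : ∃ m, n = m + 3 := ⟨n - 3, by omega⟩
  rw [← hn, hm]
  have e1 : m + 3 - 2 = m + 1 := by omega
  have e2 : m + 3 - 1 = m + 2 := by omega
  rw [e1, e2]
  ring

/-- `2 F + (n-1)(n-2) = |G|` where `F` is the number of fixed-point-free elements. -/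
theorem zc_fpf_count [Fintype G] (hZ : IsZassenhausGroup G Ω) {a b : Ω} (hab : a ≠ b) :
    2 * Nat.card {g : G // ∀ c : Ω, g • c ≠ c} +
      (Fintype.card Ω - 1) * (Fintype.card Ω - 2) = Fintype.card G := by
  classical
  set n := Fintype.card Ω with hn
  have hn3 : 3 ≤ n := zc_three_le_card hZ hab
  have hpt : ∀ g : G, (zfix Ω g) ^ 2 + 2 = 3 * zfix Ω g +
      ((if g = 1 then (n - 1) * (n - 2) else 0) +
        2 * (if (∀ c : Ω, g • c ≠ c) then 1 else 0)) := by
    intro g
    by_cases hg : g = 1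
    · subst hg
      have hnf : ¬ (∀ c : Ω, (1 : G) • c ≠ c) := by
        intro h; exact h a (one_smul _ _)
      rw [if_pos rfl, if_neg hnf, zfix_one, ← hn]
      obtain ⟨m, hm⟩ : ∃ m, n = m + 3 := ⟨n - 3, by omega⟩
      rw [hm]
      have e1 : m + 3 - 2 = m + 1 := by omega
      have e2 : m + 3 - 1 = m + 2 := by omega
      rw [e1, e2]; ring
    · rw [if_neg hg, zero_add]
      have h2 := zfix_le_two hZ hg
      by_cases hf : ∀ c : Ω, g • c ≠ c
      · rw [if_pos hf, (zfix_eq_zero_iff g).mpr hf]; norm_num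
      · rw [if_neg hf]
        have h0 : zfix Ω g ≠ 0 := fun h => hf ((zfix_eq_zero_iff g).mp h)
        have h12 : zfix Ω g = 1 ∨ zfix Ω g = 2 := by omega
        rcases h12 with h | h <;> rw [h] <;> norm_num
  have hsum : ∑ g : G, ((zfix Ω g) ^ 2 + 2) = ∑ g : G, (3 * zfix Ω g +
      ((if g = 1 then (n - 1) * (n - 2) else 0) +
        2 * (if (∀ c : Ω, g • c ≠ c) then 1 else 0))) :=
    Finset.sum_congr rfl (fun g _ => hpt g)
  simp only [Finset.sum_add_distrib, ← Finset.mul_sum] at hsum
  rw [zc_sum_fix_sq hZ hab, zc_sum_fix hZ, Finset.sum_const, Finset.card_univ, smul_eq_mul,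
    Finset.sum_ite_eq', if_pos (Finset.mem_univ _), ← Finset.card_filter,
    ← zc_card_subtype] at hsum
  omega

end ZassSums

end Cfsg.Agent.Lib.Helper11
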