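import Mathlib
import Cfsg.Prelude.Def_LieExceptional
import Cfsg.Agent.Lib.Helper11.ZassCount
import Cfsg.Agent.Lib.Helper1.Frobenius
import Cfsg.Agent.Lib.Helper1.FrobConj

/-!
# Frobenius structure of the point stabilizer of a Zassenhaus group
-/

set_option autoImplicit false

namespace Cfsg.Agent.Lib.Helper11

open Cfsg MulAction
open Cfsg.Agent.Lib.Helper3.Zass

section ZassFrob

variable {G Ω : Type*} [Group G] [MulAction G Ω]

/-- The stabilizer of `b` inside `G_a` has the order of `G_a ⊓ G_b`. -/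
theorem zc_card_stab_stab (a b : Ω) :
    Nat.card (stabilizer (stabilizer G a) b) =
      Nat.card ↥(stabilizer G a ⊓ stabilizer G b : Subgroup G) := by
  apply Nat.card_congr
  exact
    { toFun := fun x => ⟨x.1.1, Subgroup.mem_inf.mpr ⟨x.1.2, x.2⟩⟩
      invFun := fun y => ⟨⟨y.1, (Subgroup.mem_inf.mp y.2).1⟩, (Subgroup.mem_inf.mp y.2).2⟩
      left_inv := fun x => rfl
      right_inv := fun y => rfl }

/-- The orbit of `b` under `G_a` has `n - 1` points. -/
theorem zc_card_orbit_stab [Fintype Ω] (hZ : IsZassenhausGroup G Ω) {a b : Ω} (hab : a ≠ b) :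
    Nat.card (orbit (stabilizer G a) b) = Fintype.card Ω - 1 := by
  classical
  have h1 : orbit (stabilizer G a) b = {c : Ω | c ≠ a} := by
    ext c
    rw [mem_orbit_iff, Set.mem_ofPred_eq]
    constructor
    · rintro ⟨x, rfl⟩
      exact smul_ne_of_stab hab x.1 x.2
    · intro hca
      obtain ⟨g, hga, hgb⟩ := two_trans hZ hab (Ne.symm hca)
      exact ⟨⟨g, hga⟩, hgb⟩
  rw [h1]
  have h2 : ({c : Ω | c ≠ a} : Set Ω) = ({a} : Set Ω)ᶜ := by
    ext c; simp
  rw [h2, Nat.card_coe_set_eq, Set.ncard_compl, Set.ncard_singleton,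
    Nat.card_eq_fintype_card (α := Ω)]

/-- `e ∣ n - 2`. -/
theorem zc_e_dvd [Finite G] [Fintype Ω] (hZ : IsZassenhausGroup G Ω) {a b : Ω} (hab : a ≠ b) :
    Nat.card ↥(stabilizer G a ⊓ stabilizer G b : Subgroup G) ∣ Fintype.card Ω - 2 := by
  obtain ⟨K, hFD, -, -⟩ := exists_point_kernel hZ hab
  have h1 := Cfsg.Agent.Lib.Helper1.IsFrobeniusComplement.index_mod_card hFD.frob
  have hC := zc_card_stab_stab (G := G) a b
  have hn3 := zc_three_le_card hZ hab
  have he := zc_one_lt_card hZ hab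
  have hidx : (stabilizer (stabilizer G a) b).index = Fintype.card Ω - 1 := by
    have h2 := Subgroup.index_mul_card (stabilizer (stabilizer G a) b)
    rw [hC, zc_card_stab_eq hZ hab] at h2
    exact Nat.eq_of_mul_eq_mul_right (by omega) h2
  rw [hidx, hC] at h1
  have h3 : (1 : ℕ) ≡ Fintype.card Ω - 1
      [MOD Nat.card ↥(stabilizer G a ⊓ stabilizer G b : Subgroup G)] := h1.symm
  have h4 := (Nat.modEq_iff_dvd' (by omega : 1 ≤ Fintype.card Ω - 1)).mp h3
  have h5 : Fintype.card Ω - 1 - 1 = Fintype.card Ω - 2 := by omega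
  rwa [h5] at h4

/-- Index of the two-point stabilizer. -/
theorem zc_index_stab_inf [Finite G] [Fintype Ω] (hZ : IsZassenhausGroup G Ω) {a b : Ω}
    (hab : a ≠ b) :
    (stabilizer G a ⊓ stabilizer G b : Subgroup G).index =
      Fintype.card Ω * (Fintype.card Ω - 1) := by
  have h2 := Subgroup.index_mul_card (stabilizer G a ⊓ stabilizer G b : Subgroup G)
  have he := zc_one_lt_card hZ hab
  rw [zc_card_group hZ hab, ← mul_assoc] at h2
  exact Nat.eq_of_mul_eq_mul_right (by omega) h2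

/-- For `e` odd, `e` is coprime to the index `n (n-1)`. -/
theorem zc_coprime_index [Finite G] [Fintype Ω] (hZ : IsZassenhausGroup G Ω) {a b : Ω}
    (hab : a ≠ b)
    (hodd : Odd (Nat.card ↥(stabilizer G a ⊓ stabilizer G b : Subgroup G))) :
    (Nat.card ↥(stabilizer G a ⊓ stabilizer G b : Subgroup G)).Coprime
      (stabilizer G a ⊓ stabilizer G b : Subgroup G).index := by
  rw [zc_index_stab_inf hZ hab]
  have hdvd := zc_e_dvd hZ hab
  have hn3 := zc_three_le_card hZ hab
  set e := Nat.card ↥(stabilizer G a ⊓ stabilizer G b : Subgroup G) with he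
  set n := Fintype.card Ω with hn
  apply Nat.Coprime.mul_right
  · -- gcd(e, n) = 1
    have hd1 : Nat.gcd e n ∣ n - 2 := (Nat.gcd_dvd_left e n).trans hdvd
    have hd2 : Nat.gcd e n ∣ n := Nat.gcd_dvd_right e n
    have hd3 : Nat.gcd e n ∣ 2 := by
      have := Nat.dvd_sub hd2 hd1
      have h2 : n - (n - 2) = 2 := by omega
      rwa [h2] at this
    have hle : Nat.gcd e n ≤ 2 := Nat.le_of_dvd (by norm_num) hd3
    have hpos : 0 < Nat.gcd e n := Nat.gcd_pos_of_pos_right _ (by omega)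
    rcases Nat.lt_or_ge (Nat.gcd e n) 2 with h | h
    · show Nat.gcd e n = 1
      omega
    · exfalso
      have h2 : Nat.gcd e n = 2 := by omega
      have h3 : 2 ∣ e := h2 ▸ Nat.gcd_dvd_left e n
      obtain ⟨k, hk⟩ := hodd
      omega
  · have h1 : Nat.Coprime (n - 2) (n - 1) := by
      have h2 : n - 1 = (n - 2) + 1 := by omega
      rw [h2]
      simp
    exact Nat.Coprime.coprime_dvd_left hdvd h1

/-- A simple Zassenhaus group is perfect. -/
theorem zc_commutator_eq_top (hZ : IsZassenhausGroup G Ω) [IsSimpleGroup G] {a b : Ω}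
    (hab : a ≠ b) : commutator G = ⊤ := by
  have hn : (commutator G).Normal := inferInstance
  rcases hn.eq_bot_or_eq_top with h | h
  · exfalso
    rw [commutator_eq_bot_iff_center_eq_top] at h
    obtain ⟨y, hy1, hya, hyb⟩ := exists_fix2 hZ hab
    obtain ⟨d, hda, hdb⟩ := exists_third hZ hab
    obtain ⟨t, hta, -⟩ := two_trans hZ hab hda
    have hcomm : t * y = y * t := by
      have hyc : y ∈ Subgroup.center G := by rw [h]; trivial
      exact Subgroup.mem_center_iff.mp hyc t
    have hyd : y • d = d := by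
      rw [← hta, ← mul_smul, ← hcomm, mul_smul, hya]
    exact hy1 (fix3 hZ y hab (Ne.symm hdb) (Ne.symm hda) hya hyb hyd)
  · exact h

/-- `G_a = H (G_a ∩ G_c)` for the Frobenius kernel `H` of `G_a`. -/
theorem zc_stab_eq_mul [Finite G] [Fintype Ω] (hZ : IsZassenhausGroup G Ω) {a c : Ω}
    (hac : a ≠ c) (H : Subgroup G) (hHa : H ≤ stabilizer G a)
    (hHcard : Nat.card H + 1 = Fintype.card Ω)
    (hHfix : ∀ u ∈ H, u ≠ 1 → ∀ d : Ω, u • d = d → d = a) :
    ∀ k ∈ stabilizer G a, ∃ u ∈ H, ∃ s ∈ (stabilizer G a ⊓ stabilizer G c : Subgroup G),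
      k = u * s := by
  obtain ⟨K, hFD, hK, hcard⟩ := exists_point_kernel hZ hac
  have hle : H.subgroupOf (stabilizer G a) ≤ K := by
    intro x hx
    rw [Subgroup.mem_subgroupOf] at hx
    rw [hK]
    by_cases hx1 : x = 1
    · exact Or.inl hx1
    · right
      intro d hda hfix
      apply hda
      have hx1' : (x : G) ≠ 1 := fun h => hx1 (Subtype.ext h)
      exact hHfix x.1 hx hx1' d hfix
  have hcardH : Nat.card (H.subgroupOf (stabilizer G a)) = Nat.card H :=
    Nat.card_congr (Subgroup.subgroupOfEquivOfLe hHa).toEquiv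
  have hKH : H.subgroupOf (stabilizer G a) = K := by
    apply Subgroup.eq_of_le_of_card_ge hle
    rw [hcardH, hcard, zc_card_orbit_stab hZ hac]
    omega
  intro k hk
  obtain ⟨⟨⟨u', hu'⟩, ⟨s', hs'⟩⟩, hus, -⟩ := hFD.compl.existsUnique ⟨k, hk⟩
  rw [← hKH, SetLike.mem_coe, Subgroup.mem_subgroupOf] at hu'
  refine ⟨u'.1, hu', s'.1, Subgroup.mem_inf.mpr ⟨s'.2, hs'⟩, ?_⟩
  have := congrArg Subtype.val hus
  simpa using this.symm

end ZassFrob

end Cfsg.Agent.Lib.Helper11
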