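import Mathlib
import Cfsg.Prelude.Def_LieExceptional
import Cfsg.Agent.Lib.Helper11.ZassCount
import Cfsg.Agent.Lib.Helper11.ZassFrob

/-!
# Involutions in Zassenhaus groups
-/

set_option autoImplicit false

namespace Cfsg.Agent.Lib.Helper11

open Cfsg MulAction
open Cfsg.Agent.Lib.Helper3.Zass

section ZassInvol

attribute [local instance] Classical.propDecidable

/-- `t` is an involution. -/
def zinv {G : Type*} [Group G] (t : G) : Prop := t ≠ 1 ∧ t * t = 1

theorem zinv_iff_orderOf {G : Type*} [Group G] (t : G) : orderOf t = 2 ↔ zinv t := by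
  haveI : Fact (Nat.Prime 2) := ⟨Nat.prime_two⟩
  rw [orderOf_eq_prime_iff, zinv, pow_two]
  exact and_comm

theorem zinv_conj {G : Type*} [Group G] {t : G} (ht : zinv t) (g : G) : zinv (g * t * g⁻¹) := by
  constructor
  · intro h
    apply ht.1
    have h2 : t = g⁻¹ * (g * t * g⁻¹) * g := by group
    rw [h2, h]; group
  · have h2 : g * t * g⁻¹ * (g * t * g⁻¹) = g * (t * t) * g⁻¹ := by group
    rw [h2, ht.2]; group

/-- Number of involutions mapping `c` to `d`. -/
noncomputable def zJ (G : Type*) [Group G] {Ω : Type*} [MulAction G Ω] (c d : Ω) : ℕ :=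
  Nat.card {t : G // zinv t ∧ t • c = d}

variable {G Ω : Type*} [Group G] [MulAction G Ω]

theorem zJ_conj (g : G) (c d : Ω) : zJ G (g • c) (g • d) = zJ G c d := by
  unfold zJ
  apply Nat.card_congr
  refine
    { toFun := fun t => ⟨g⁻¹ * t.1 * g, ?_, ?_⟩
      invFun := fun t => ⟨g * t.1 * g⁻¹, zinv_conj t.2.1 g, ?_⟩
      left_inv := fun t => by apply Subtype.ext; simp [mul_assoc]
      right_inv := fun t => by apply Subtype.ext; simp [mul_assoc] }
  · have := zinv_conj t.2.1 g⁻¹
    rwa [inv_inv] at this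
  · rw [mul_smul, mul_smul, t.2.2, inv_smul_smul]
  · rw [mul_smul, mul_smul, inv_smul_smul, t.2.2]

theorem zJ_le [Finite G] (hZ : IsZassenhausGroup G Ω) {a b : Ω} (hab : a ≠ b) :
    zJ G a b ≤ Nat.card ↥(stabilizer G a ⊓ stabilizer G b : Subgroup G) := by
  obtain ⟨w, hwa, hwb⟩ := two_trans hZ hab hab.symm
  unfold zJ
  have hwa' : w⁻¹ • b = a := by rw [inv_smul_eq_iff, hwa]
  have hwb' : w⁻¹ • a = b := by rw [inv_smul_eq_iff, hwb]
  let f : {t : G // zinv t ∧ t • a = b} → ↥(stabilizer G a ⊓ stabilizer G b : Subgroup G) :=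
    fun t => ⟨w⁻¹ * t.1, by
      rw [Subgroup.mem_inf, mem_stabilizer_iff, mem_stabilizer_iff]
      have htb : t.1 • b = a := by
        have h1 : t.1 • b = t.1 • (t.1 • a) := by rw [t.2.2]
        rw [h1, ← mul_smul, t.2.1.2, one_smul]
      constructor
      · rw [mul_smul, t.2.2, hwa']
      · rw [mul_smul, htb, hwb']⟩
  apply Nat.card_le_card_of_injective f
  intro t t' htt
  have h1 := congrArg Subtype.val htt
  simp only [f] at h1
  exact Subtype.ext (mul_left_cancel h1)

section Fin

variable [Fintype Ω]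

theorem zfix_modEq (t : G) (ht2 : t * t = 1) : zfix Ω t ≡ Fintype.card Ω [MOD 2] := by
  have : Fact (Nat.Prime 2) := ⟨Nat.prime_two⟩
  set σ : Equiv.Perm Ω := MulAction.toPerm t with hσ
  have hσ2 : σ ^ 2 ^ 1 = 1 := by
    rw [pow_one, pow_two]
    ext c
    simp only [hσ, Equiv.Perm.coe_mul, Function.comp_apply, MulAction.toPerm_apply,
      Equiv.Perm.coe_one, id_eq]
    rw [← mul_smul, ht2, one_smul]
  have hmod := Equiv.Perm.card_compl_support_modEq hσ2
  have heq : zfix Ω t = σ.supportᶜ.card := by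
    unfold zfix
    congr 1
    ext c
    simp [hσ, Equiv.Perm.mem_support]
  rw [heq]
  exact hmod

/-- For `n` odd, every involution has exactly one fixed point. -/
theorem zi_zfix_eq_one (hZ : IsZassenhausGroup G Ω) (hodd : Odd (Fintype.card Ω)) {t : G}
    (ht : zinv t) : zfix Ω t = 1 := by
  have h1 := zfix_modEq (Ω := Ω) t ht.2
  have h2 := zfix_le_two hZ ht.1
  rw [Nat.odd_iff] at hodd
  have h3 : zfix Ω t % 2 = 1 := by rw [← hodd]; exact h1
  omega

/-- For `n` even and `e` odd, involutions are fixed point free. -/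
theorem zi_fpf_of_even [Finite G] (hZ : IsZassenhausGroup G Ω) {a b : Ω} (hab : a ≠ b)
    (hodd : Odd (Nat.card ↥(stabilizer G a ⊓ stabilizer G b : Subgroup G)))
    (heven : Even (Fintype.card Ω)) {t : G} (ht : zinv t) : ∀ c : Ω, t • c ≠ c := by
  intro c hc
  have h1 := zfix_modEq (Ω := Ω) t ht.2
  have h2 := zfix_le_two hZ ht.1
  rw [Nat.even_iff] at heven
  have h3 : zfix Ω t % 2 = 0 := by rw [← heven]; exact h1
  have h0 : zfix Ω t ≠ 0 := fun h => (zfix_eq_zero_iff t).mp h c hc
  have h4 : 1 < zfix Ω t := by omega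
  unfold zfix at h4
  obtain ⟨c1, hc1, c2, hc2, hne⟩ := Finset.one_lt_card.mp h4
  simp only [Finset.mem_filter, Finset.mem_univ, true_and] at hc1 hc2
  have hmem : t ∈ (stabilizer G c1 ⊓ stabilizer G c2 : Subgroup G) :=
    Subgroup.mem_inf.mpr ⟨hc1, hc2⟩
  have hord : orderOf t = 2 := (zinv_iff_orderOf t).mpr ht
  have hdvd : orderOf (⟨t, hmem⟩ : ↥(stabilizer G c1 ⊓ stabilizer G c2 : Subgroup G)) ∣
      Nat.card ↥(stabilizer G c1 ⊓ stabilizer G c2 : Subgroup G) := orderOf_dvd_natCard _
  rw [Subgroup.orderOf_mk, hord, zc_card_stab_inf_eq hZ hab hne] at hdvd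
  obtain ⟨k, hk⟩ := hodd
  omega

end Fin

section Count

variable [Fintype G] [Fintype Ω]

omit [Fintype Ω] in
theorem zJ_eq_card (c d : Ω) :
    zJ G c d = (Finset.univ.filter (fun t : G => zinv t ∧ t • c = d)).card := by
  unfold zJ; rw [zc_card_subtype]

/-- Fibre decomposition of the set of involutions by the image of `a`. -/
theorem zi_card_eq_sum (a : Ω) : Nat.card {t : G // zinv t} = ∑ d : Ω, zJ G a d := by
  rw [zc_card_subtype,
    Finset.card_eq_sum_card_fiberwise (f := fun t : G => t • a) (t := Finset.univ)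
      (fun _ _ => Finset.mem_univ _)]
  apply Finset.sum_congr rfl
  intro d _
  rw [Finset.filter_filter, zJ_eq_card]

/-- Sum of the numbers of fixed points over the involutions. -/
theorem zi_sum_zfix :
    ∑ t ∈ Finset.univ.filter (fun t : G => zinv t), zfix Ω t = ∑ c : Ω, zJ G c c := by
  simp only [zfix_eq_sum]
  rw [Finset.sum_comm]
  apply Finset.sum_congr rfl
  intro c _
  rw [← Finset.card_filter, Finset.filter_filter, zJ_eq_card]

omit [Fintype G] [Fintype Ω] in
theorem zJ_self_eq (hZ : IsZassenhausGroup G Ω) (a c : Ω) : zJ G c c = zJ G a a := by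
  haveI := zc_pretransitive hZ
  obtain ⟨g, rfl⟩ := MulAction.exists_smul_eq G a c
  exact zJ_conj g a a

omit [Fintype G] [Fintype Ω] in
theorem zJ_ne_eq (hZ : IsZassenhausGroup G Ω) {a b d : Ω} (hab : a ≠ b) (had : a ≠ d) :
    zJ G a d = zJ G a b := by
  obtain ⟨g, hga, hgb⟩ := two_trans hZ hab had
  have := zJ_conj g a b
  rwa [hga, hgb] at this

/-- Decomposition of the number of involutions at the point `a`. -/
theorem zi_card_eq_add (hZ : IsZassenhausGroup G Ω) {a b : Ω} (hab : a ≠ b) :
    Nat.card {t : G // zinv t} = zJ G a a + (Fintype.card Ω - 1) * zJ G a b := by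
  rw [zi_card_eq_sum a, ← Finset.add_sum_erase Finset.univ _ (Finset.mem_univ a)]
  congr 1
  have h1 : ∀ d ∈ (Finset.univ : Finset Ω).erase a, zJ G a d = zJ G a b := by
    intro d hd
    exact zJ_ne_eq hZ hab (Ne.symm (Finset.ne_of_mem_erase hd))
  rw [Finset.sum_congr rfl h1, Finset.sum_const, Finset.card_erase_of_mem (Finset.mem_univ a),
    Finset.card_univ, smul_eq_mul]

/-- For `n` odd: `I = n * i_a` and `i_a = j`. -/
theorem zi_stab_eq_swap (hZ : IsZassenhausGroup G Ω) (hodd : Odd (Fintype.card Ω)) {a b : Ω}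
    (hab : a ≠ b) :
    zJ G a a = zJ G a b ∧ Nat.card {t : G // zinv t} = Fintype.card Ω * zJ G a a := by
  have hn3 := zc_three_le_card hZ hab
  have hI1 : Nat.card {t : G // zinv t} = ∑ c : Ω, zJ G c c := by
    rw [← zi_sum_zfix, zc_card_subtype, Finset.card_eq_sum_ones]
    apply Finset.sum_congr rfl
    intro t ht
    rw [Finset.mem_filter] at ht
    exact (zi_zfix_eq_one hZ hodd ht.2).symm
  have hI1' : Nat.card {t : G // zinv t} = Fintype.card Ω * zJ G a a := by
    rw [hI1, Finset.sum_congr rfl (fun c _ => zJ_self_eq hZ a c), Finset.sum_const,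
      Finset.card_univ, smul_eq_mul]
  have hI2 := zi_card_eq_add hZ hab
  refine ⟨?_, hI1'⟩
  rw [hI1'] at hI2
  obtain ⟨m, hm⟩ : ∃ m, Fintype.card Ω = m + 3 := ⟨Fintype.card Ω - 3, by omega⟩
  rw [hm] at hI2
  have e2 : m + 3 - 1 = m + 2 := by omega
  rw [e2] at hI2
  have h3 : (m + 2) * zJ G a a = (m + 2) * zJ G a b := by linarith
  exact Nat.eq_of_mul_eq_mul_left (by omega) h3

/-- For `n` odd, the centralizer in `G_a` of an involution of `G_a` is the Frobenius kernel. -/
theorem zi_centralizer_eq (hZ : IsZassenhausGroup G Ω) (hodd : Odd (Fintype.card Ω)) {a b : Ω}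
    (hab : a ≠ b) (K : Subgroup (stabilizer G a))
    (hK : ∀ x : stabilizer G a, x ∈ K ↔ x = 1 ∨ ∀ c : Ω, c ≠ a → (x : G) • c ≠ c)
    (hcard : Nat.card K = Fintype.card Ω - 1)
    (z : stabilizer G a) (hz : zinv (z : G)) :
    Subgroup.centralizer ({z} : Set (stabilizer G a)) = K ∧
      Nat.card {y : stabilizer G a // IsConj z y} =
        Nat.card ↥(stabilizer G a ⊓ stabilizer G b : Subgroup G) ∧
      Nat.card ↥(stabilizer G a ⊓ stabilizer G b : Subgroup G) ≤ zJ G a a := by
  have hn3 := zc_three_le_card hZ hab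
  have he := zc_one_lt_card hZ hab
  have hzfix : ∀ d : Ω, (z : G) • d = d → d = a := by
    obtain ⟨c, hc, hcu⟩ := invol_fix hZ hodd z.1 hz.1 hz.2
    intro d hd
    rw [hcu d hd, hcu a z.2]
  have hCle : Subgroup.centralizer ({z} : Set (stabilizer G a)) ≤ K := by
    intro x hx
    have hxz : z * x = x * z := Subgroup.mem_centralizer_iff.mp hx z rfl
    rw [hK]
    by_cases hx1 : x = 1
    · exact Or.inl hx1
    · right
      intro c hca hxc
      apply hx1
      apply Subtype.ext
      have hzc : (z : G) • c ≠ c := fun h => hca (hzfix c h)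
      have hzca : (z : G) • c ≠ a := by
        intro h
        apply hca
        have h2 : (z : G) • ((z : G) • c) = (z : G) • a := by rw [h]
        rw [← mul_smul, hz.2, one_smul] at h2
        rw [h2]; exact z.2
      have hxzc : (x : G) • ((z : G) • c) = (z : G) • c := by
        have h3 : (x : G) * (z : G) = (z : G) * (x : G) := by
          have := congrArg Subtype.val hxz
          simpa using this.symm
        rw [← mul_smul, h3, mul_smul, hxc]
      exact fix3 hZ x.1 (Ne.symm hca) (Ne.symm hzc) (Ne.symm hzca) x.2 hxc hxzc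
  have hclass : Nat.card {y : stabilizer G a // IsConj z y} ≤ zJ G a a := by
    unfold zJ
    let f : {y : stabilizer G a // IsConj z y} → {t : G // zinv t ∧ t • a = a} :=
      fun y => ⟨y.1.1, by
        obtain ⟨g, hg⟩ := isConj_iff.mp y.2
        have h1 : (y.1 : G) = (g : G) * (z : G) * (g : G)⁻¹ := by
          rw [← hg]; simp
        rw [h1]
        exact zinv_conj hz _, y.1.2⟩
    apply Nat.card_le_card_of_injective f
    intro y y' hyy
    have h1 := congrArg Subtype.val hyy
    exact Subtype.ext (Subtype.ext h1)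
  have hcl := Cfsg.Agent.Lib.Helper7.card_isConj_mul_card_centralizer z
  rw [zc_card_stab_eq hZ hab] at hcl
  have hij := (zi_stab_eq_swap hZ hodd hab).1
  have hje := zJ_le hZ hab
  have hCcard : Nat.card (Subgroup.centralizer ({z} : Set (stabilizer G a))) ≤
      Fintype.card Ω - 1 := by
    rw [← hcard]
    exact Subgroup.card_le_of_le hCle
  set e := Nat.card ↥(stabilizer G a ⊓ stabilizer G b : Subgroup G) with he'
  set cl := Nat.card {y : stabilizer G a // IsConj z y} with hcl'
  set C := Nat.card (Subgroup.centralizer ({z} : Set (stabilizer G a))) with hC'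
  have hcle : cl ≤ e := by omega
  have h1 : cl * C ≤ e * C := Nat.mul_le_mul_right _ hcle
  have h2 : e * C ≤ e * (Fintype.card Ω - 1) := Nat.mul_le_mul_left _ hCcard
  have h3 : e * C = e * (Fintype.card Ω - 1) := by
    have : (Fintype.card Ω - 1) * e = e * (Fintype.card Ω - 1) := mul_comm _ _
    omega
  have hCeq : C = Fintype.card Ω - 1 := Nat.eq_of_mul_eq_mul_left (by omega) h3
  have hcleq : cl = e := by
    have hcl2 : cl * (Fintype.card Ω - 1) = e * (Fintype.card Ω - 1) := by
      rw [hCeq] at hcl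
      linarith
    have hpos : 0 < Fintype.card Ω - 1 := by omega
    exact Nat.eq_of_mul_eq_mul_right hpos hcl2
  refine ⟨?_, hcleq, ?_⟩
  · apply Subgroup.eq_of_le_of_card_ge hCle
    rw [hcard, ← hCeq]
  · rw [← hcleq]; exact hclass

end Count

end ZassInvol

end Cfsg.Agent.Lib.Helper11
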