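import Mathlib
import Cfsg.Prelude.Def_LieExceptional
import Cfsg.Agent.Lib.Helper11.ZassInvol

/-!
# Zassenhaus groups in which the swapping elements invert the two point stabilizer
-/

set_option autoImplicit false

namespace Cfsg.Agent.Lib.Helper11

open Cfsg MulAction
open Cfsg.Agent.Lib.Helper3.Zass

section ZassInvol2

attribute [local instance] Classical.propDecidable

/-- Every element swapping `a` and `b` inverts the two point stabilizer elementwise. -/
def ZInv (G : Type*) [Group G] {Ω : Type*} [MulAction G Ω] (a b : Ω) : Prop :=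
  ∀ v : G, v • a = b → v • b = a →
    ∀ x ∈ (stabilizer G a ⊓ stabilizer G b : Subgroup G), v * x * v⁻¹ = x⁻¹

variable {G Ω : Type*} [Group G] [MulAction G Ω]

/-- The swapping elements form a coset of the two point stabilizer. -/
theorem zc_card_swappers [Finite G] (hZ : IsZassenhausGroup G Ω) {a b : Ω} (hab : a ≠ b) :
    Nat.card {t : G // t • a = b ∧ t • b = a} =
      Nat.card ↥(stabilizer G a ⊓ stabilizer G b : Subgroup G) := by
  obtain ⟨w, hwa, hwb⟩ := two_trans hZ hab hab.symm
  have hwa' : w⁻¹ • b = a := by rw [inv_smul_eq_iff, hwa]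
  have hwb' : w⁻¹ • a = b := by rw [inv_smul_eq_iff, hwb]
  apply Nat.card_congr
  refine
    { toFun := fun t => ⟨w⁻¹ * t.1, ?_⟩
      invFun := fun s => ⟨w * s.1, ?_, ?_⟩
      left_inv := fun t => by apply Subtype.ext; simp
      right_inv := fun s => by apply Subtype.ext; simp }
  · rw [Subgroup.mem_inf, mem_stabilizer_iff, mem_stabilizer_iff]
    constructor
    · rw [mul_smul, t.2.1, hwa']
    · rw [mul_smul, t.2.2, hwb']
  · have := (Subgroup.mem_inf.mp s.2).1
    rw [mem_stabilizer_iff] at this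
    rw [mul_smul, this, hwa]
  · have := (Subgroup.mem_inf.mp s.2).2
    rw [mem_stabilizer_iff] at this
    rw [mul_smul, this, hwb]

theorem zinv_swap {t : G} (ht : zinv t) {a b : Ω} (hta : t • a = b) : t • b = a := by
  rw [← hta, ← mul_smul, ht.2, one_smul]

theorem zinv_of_swap [Finite G] {a b : Ω} (hab : a ≠ b) (hI : ZInv G a b)
    (hodd : Odd (Nat.card ↥(stabilizer G a ⊓ stabilizer G b : Subgroup G))) {t : G}
    (hta : t • a = b) (htb : t • b = a) : zinv t := by
  constructor
  · rintro rfl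
    rw [one_smul] at hta
    exact hab hta
  · have hsE : t * t ∈ (stabilizer G a ⊓ stabilizer G b : Subgroup G) := by
      rw [Subgroup.mem_inf, mem_stabilizer_iff, mem_stabilizer_iff]
      constructor
      · rw [mul_smul, hta, htb]
      · rw [mul_smul, htb, hta]
    have h1 := hI t hta htb (t * t) hsE
    have h2 : t * (t * t) * t⁻¹ = t * t := by group
    rw [h2] at h1
    have h3 : (t * t) ^ 2 = 1 := by
      rw [pow_two]
      exact mul_eq_one_iff_eq_inv.mpr h1
    have h4 : orderOf (t * t) ∣ 2 := orderOf_dvd_of_pow_eq_one h3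
    have h5 : orderOf (⟨t * t, hsE⟩ : ↥(stabilizer G a ⊓ stabilizer G b : Subgroup G)) ∣
        Nat.card ↥(stabilizer G a ⊓ stabilizer G b : Subgroup G) := orderOf_dvd_natCard _
    rw [Subgroup.orderOf_mk] at h5
    have h6 : orderOf (t * t) ∣ Nat.gcd 2
        (Nat.card ↥(stabilizer G a ⊓ stabilizer G b : Subgroup G)) := Nat.dvd_gcd h4 h5
    have h7 : Nat.gcd 2 (Nat.card ↥(stabilizer G a ⊓ stabilizer G b : Subgroup G)) = 1 :=
      Nat.coprime_two_left.mpr hodd
    rw [h7, Nat.dvd_one] at h6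
    exact orderOf_eq_one_iff.mp h6

theorem zJ_eq_of_ZInv [Finite G] (hZ : IsZassenhausGroup G Ω) {a b : Ω} (hab : a ≠ b)
    (hI : ZInv G a b)
    (hodd : Odd (Nat.card ↥(stabilizer G a ⊓ stabilizer G b : Subgroup G))) :
    zJ G a b = Nat.card ↥(stabilizer G a ⊓ stabilizer G b : Subgroup G) := by
  rw [← zc_card_swappers hZ hab]
  unfold zJ
  apply Nat.card_congr
  refine Equiv.subtypeEquivRight ?_
  intro t
  constructor
  · intro h; exact ⟨h.2, zinv_swap h.1 h.2⟩
  · intro h; exact ⟨zinv_of_swap hab hI hodd h.1 h.2, h.1⟩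

theorem ZInv_of_zJ [Finite G] (hZ : IsZassenhausGroup G Ω) {a b : Ω} (hab : a ≠ b)
    (hj : zJ G a b = Nat.card ↥(stabilizer G a ⊓ stabilizer G b : Subgroup G)) :
    ZInv G a b := by
  -- every swapper is an involution
  have hall : ∀ t : G, t • a = b → t • b = a → zinv t := by
    let f : {t : G // zinv t ∧ t • a = b} → {t : G // t • a = b ∧ t • b = a} :=
      fun t => ⟨t.1, t.2.2, zinv_swap t.2.1 t.2.2⟩
    have hinj : Function.Injective f := by
      intro t t' htt
      have h1 : (f t).1 = (f t').1 := congrArg Subtype.val htt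
      exact Subtype.ext h1
    have hbij : Function.Bijective f := by
      apply Function.Injective.bijective_of_nat_card_le hinj
      rw [zc_card_swappers hZ hab, ← hj]
      rfl
    intro t hta htb
    obtain ⟨t', ht'⟩ := hbij.2 ⟨t, hta, htb⟩
    have h1 : t'.1 = t := congrArg Subtype.val ht'
    rw [← h1]
    exact t'.2.1
  intro v hva hvb x hx
  rw [Subgroup.mem_inf, mem_stabilizer_iff, mem_stabilizer_iff] at hx
  have hv := hall v hva hvb
  have hvx := hall (v * x) (by rw [mul_smul, hx.1, hva]) (by rw [mul_smul, hx.2, hvb])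
  have hvinv : v⁻¹ = v := inv_eq_of_mul_eq_one_right hv.2
  rw [hvinv]
  have h1 : v * x * (v * x) = 1 := hvx.2
  have h2 : v * x * v = (v * x * (v * x)) * x⁻¹ := by group
  rw [h2, h1, one_mul]

/-- For `n` odd the inversion property always holds. -/
theorem ZInv_of_odd [Fintype G] [Fintype Ω] (hZ : IsZassenhausGroup G Ω)
    (hodd : Odd (Fintype.card Ω)) {a b : Ω} (hab : a ≠ b) :
    ZInv G a b ∧ zJ G a a = Nat.card ↥(stabilizer G a ⊓ stabilizer G b : Subgroup G) := by
  obtain ⟨K, hFD, hK, hcard⟩ := exists_point_kernel hZ hab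
  rw [zc_card_orbit_stab hZ hab] at hcard
  have hn3 := zc_three_le_card hZ hab
  have h2dvd : 2 ∣ Nat.card (stabilizer G a) := by
    rw [zc_card_stab_eq hZ hab]
    obtain ⟨k, hk⟩ := hodd
    exact Dvd.dvd.mul_right ⟨k, by omega⟩ _
  haveI : Fact (Nat.Prime 2) := ⟨Nat.prime_two⟩
  obtain ⟨z, hz⟩ := exists_prime_orderOf_dvd_card' 2 h2dvd
  have hzi : zinv (z : G) := by
    rw [← zinv_iff_orderOf, Subgroup.orderOf_coe]; exact hz
  obtain ⟨-, -, hle⟩ := zi_centralizer_eq hZ hodd hab K hK hcard z hzi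
  obtain ⟨hij, -⟩ := zi_stab_eq_swap hZ hodd hab
  have hje := zJ_le hZ hab
  have hj : zJ G a b = Nat.card ↥(stabilizer G a ⊓ stabilizer G b : Subgroup G) := by omega
  exact ⟨ZInv_of_zJ hZ hab hj, by omega⟩

/-- Under the inversion property the two point stabilizer is abelian. -/
theorem ZInv.comm {a b : Ω} (hI : ZInv G a b) (v : G) (hva : v • a = b) (hvb : v • b = a)
    {x y : G} (hx : x ∈ (stabilizer G a ⊓ stabilizer G b : Subgroup G))
    (hy : y ∈ (stabilizer G a ⊓ stabilizer G b : Subgroup G)) : x * y = y * x := by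
  have h1 := hI v hva hvb x hx
  have h2 := hI v hva hvb y hy
  have h3 := hI v hva hvb (y * x) (Subgroup.mul_mem _ hy hx)
  have h4 : v * (y * x) * v⁻¹ = (v * y * v⁻¹) * (v * x * v⁻¹) := by group
  rw [h4, h1, h2, mul_inv_rev] at h3
  have h5 := congrArg (·⁻¹) h3
  simp only [mul_inv_rev, inv_inv] at h5
  exact h5

end ZassInvol2

end Cfsg.Agent.Lib.Helper11
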