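import Mathlib
import Cfsg.Prelude.Def_LieExceptional
import Cfsg.Agent.Lib.Helper11.ZassInvol2
import Cfsg.Agent.S0739

/-!
# Simple Zassenhaus groups with odd two point stabilizer: the swappers invert it
-/

set_option autoImplicit false

namespace Cfsg.Agent.Lib.Helper11

open Cfsg MulAction
open Cfsg.Agent.Lib.Helper3.Zass

section ZassSimple

variable {G Ω : Type*} [Group G] [MulAction G Ω]

theorem prime_dvd_of_dvd_prime_pow {q k m : ℕ} (hq : q.Prime) (hm : m ∣ q ^ k) (h1 : 1 < m) :
    q ∣ m := by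
  obtain ⟨p, hp, hpm⟩ := Nat.exists_prime_and_dvd (by omega : m ≠ 1)
  have h2 : p ∣ q := hp.dvd_of_dvd_pow (hpm.trans hm)
  have h3 : p = q := (Nat.prime_dvd_prime_iff_eq hp hq).mp h2
  rw [← h3]; exact hpm

/-- A simple Zassenhaus group has no normal `q`-complement. -/
theorem zc_no_normal_compl [Finite G] [Fintype Ω] (hZ : IsZassenhausGroup G Ω) {a b : Ω}
    (hab : a ≠ b) [IsSimpleGroup G] (q : ℕ) (hq : q.Prime)
    (hqe : q ∣ Nat.card ↥(stabilizer G a ⊓ stabilizer G b : Subgroup G)) :
    ¬ ∃ N : Subgroup G, N.Normal ∧ N.index = q ^ (Nat.card G).factorization q := by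
  rintro ⟨N, hN, hidx⟩
  have hqG : q ∣ Nat.card G := hqe.trans (Subgroup.card_subgroup_dvd_card _)
  have hk : 0 < (Nat.card G).factorization q :=
    hq.factorization_pos_of_dvd Nat.card_pos.ne' hqG
  have hn3 := zc_three_le_card hZ hab
  rcases hN.eq_bot_or_eq_top with h | h
  · subst h
    rw [Subgroup.index_bot] at hidx
    have hG := zc_card_group hZ hab
    rw [hidx] at hG
    have h1 : q ∣ Fintype.card Ω :=
      prime_dvd_of_dvd_prime_pow hq ⟨_, hG⟩ (by omega)
    have h2 : q ∣ Fintype.card Ω - 1 := by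
      apply prime_dvd_of_dvd_prime_pow hq (k := (Nat.card G).factorization q) _ (by omega)
      rw [hG]
      exact Dvd.dvd.mul_left (Dvd.intro _ rfl) _
    have h3 : q ∣ 1 := by
      have := Nat.dvd_sub h1 h2
      have h4 : Fintype.card Ω - (Fintype.card Ω - 1) = 1 := by omega
      rwa [h4] at this
    exact hq.one_lt.ne' (Nat.dvd_one.mp h3)
  · subst h
    rw [Subgroup.index_top] at hidx
    have := Nat.one_lt_pow hk.ne' hq.one_lt
    omega

/-- In a simple Zassenhaus group with `e` odd, the swappers invert the two point stabilizer. -/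
theorem ZInv_of_simple [Finite G] [Fintype Ω] (hZ : IsZassenhausGroup G Ω) {a b : Ω}
    (hab : a ≠ b) [IsSimpleGroup G]
    (hodd : Odd (Nat.card ↥(stabilizer G a ⊓ stabilizer G b : Subgroup G))) :
    ZInv G a b := by
  have h := Cfsg.Agent.S0739.result hZ hab hodd
    (fun q hq hqe => zc_no_normal_compl hZ hab q hq hqe)
  intro v hva hvb x hx
  exact h.2.2 v hva hvb x hx

end ZassSimple

end Cfsg.Agent.Lib.Helper11
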