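import Cfsg.Agent.Lib.Helper11.ZassFeitB
import Cfsg.Agent.Lib.Helper11.FeitFrob
import Cfsg.Agent.Lib.Helper11.ZassSimple
import Cfsg.Agent.Lib.Helper3.Zass7

/-!
# Feit's theorem on Zassenhaus groups with `e` odd

`zf_core`: the theorem when `G` has no normal `q`-complements for the primes `q ∣ e`;
`zf_main`: the general case, by induction on `|G|`.
-/

set_option autoImplicit false

namespace Cfsg.Agent.Lib.Helper11

open Cfsg MulAction
open Cfsg.Agent.Lib.Helper2 Cfsg.Agent.Lib.Helper3.Zass

section ZassFeitC

/-- Transport of the conclusion along an isomorphism. -/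
theorem zf_transport {A B : Type*} [Group A] [Group B] (φ : A ≃* B) {e' e : ℕ} (hle : e' ≤ e)
    (h : IsPGroup 2 A ∧ (∃ u v : A, u * v ≠ v * u) ∧ (commutator A).index ≤ 4 * e' ^ 2 + 1) :
    IsPGroup 2 B ∧ (∃ u v : B, u * v ≠ v * u) ∧ (commutator B).index ≤ 4 * e ^ 2 + 1 := by
  obtain ⟨h1, ⟨u, v, huv⟩, h3⟩ := h
  refine ⟨h1.of_equiv φ, ⟨φ u, φ v, ?_⟩, ?_⟩
  · intro h
    apply huv
    apply φ.injective
    rw [map_mul, map_mul]
    exact h
  · have hidx : (commutator B).index = (commutator A).index := by
      rw [Subgroup.index_eq_card, Subgroup.index_eq_card]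
      exact (Nat.card_congr (MulEquiv.abelianizationCongr φ).toEquiv).symm
    rw [hidx]
    have h4 : e' ^ 2 ≤ e ^ 2 := Nat.pow_le_pow_left hle 2
    omega

variable {G Ω : Type*} [Group G] [MulAction G Ω]

set_option maxHeartbeats 1000000 in
/-- Feit's theorem when there are no normal `q`-complements. -/
theorem zf_core [Finite G] [Fintype Ω] (hZ : IsZassenhausGroup G Ω) {a b : Ω} (hab : a ≠ b)
    (h e : ℕ) (hh : Fintype.card Ω = h + 1)
    (he : Nat.card ↥(stabilizer G a ⊓ stabilizer G b : Subgroup G) = e) (hodd : Odd e)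
    (hnil : ∀ q : ℕ, q.Prime → q ∣ e →
      ¬ ∃ N : Subgroup G, N.Normal ∧ N.index = q ^ (Nat.card G).factorization q)
    (H : Subgroup G) (hHa : H ≤ stabilizer G a)
    (hHcard : Nat.card H + 1 = Fintype.card Ω)
    (hHfix : ∀ u ∈ H, u ≠ 1 → ∀ c : Ω, u • c = c → c = a) :
    h - 1 ≤ 2 * e ∨ (IsPGroup 2 H ∧ (∃ u v : H, u * v ≠ v * u) ∧
      (commutator H).index ≤ 4 * e ^ 2 + 1) := by
  classical
  haveI : Fintype G := Fintype.ofFinite G
  haveI : Fintype (stabilizer G a) := Fintype.ofFinite _
  by_cases hsmall : h - 1 ≤ 2 * e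
  · exact Or.inl hsmall
  push Not at hsmall
  subst he
  obtain ⟨hHn, hTI, hN, hH1, hLH, hidx⟩ := zf_frob_data hZ hab H hHa hHcard hHfix
  have hcent := zf_cent hZ hab H hHa hHcard hHfix
  have hepos : 0 < Nat.card ↥(stabilizer G a ⊓ stabilizer G b : Subgroup G) := hodd.pos
  have hlt : Nat.card ↥(stabilizer G a ⊓ stabilizer G b : Subgroup G) < Fintype.card Ω - 2 := by
    omega
  have hcohcase : IsCoherent {χ : stabilizer G a → ℂ | IsIrrCharacter (stabilizer G a) χ ∧
      ∃ x : stabilizer G a, (x : G) ∈ H ∧ χ x ≠ χ 1} {1}ᶜ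
      (fun α : stabilizer G a → ℂ => indFun (stabilizer G a) α) → False := by
    intro hcoh
    have hdvd := zf_coherent_dvd hZ hab hodd hnil hlt H hHa hHcard hHfix hcoh
    have hle := Nat.le_of_dvd (by omega) hdvd
    omega
  haveI hKn : (H.subgroupOf (stabilizer G a)).Normal :=
    subgroupOf_normal_of_conj H (stabilizer G a) hHn
  have hF := frob_cond_subgroupOf H (stabilizer G a) hcent
  have hK1 : H.subgroupOf (stabilizer G a) ≠ ⊥ := by
    intro h0
    apply hH1
    rw [Subgroup.subgroupOf_eq_bot] at h0
    exact h0.eq_bot_of_le hHa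
  have hKtop : H.subgroupOf (stabilizer G a) ≠ ⊤ :=
    fun h0 => hLH (Subgroup.subgroupOf_eq_top.1 h0)
  have hcardK : Nat.card (H.subgroupOf (stabilizer G a)) = Nat.card H :=
    Nat.card_congr (Subgroup.subgroupOfEquivOfLe hHa).toEquiv
  by_cases hab' : ∀ x ∈ H.subgroupOf (stabilizer G a), ∀ y ∈ H.subgroupOf (stabilizer G a),
      x * y = y * x
  · exfalso
    rcases frobenius_TI_coherent_comm H (stabilizer G a) hHa hH1 hHn hcent hTI hN hab' with
      ⟨-, -, hcard, -⟩ | hcoh
    · rw [hidx] at hcard
      omega
    · exact hcohcase hcoh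
  · have hne : Nat.card (H.subgroupOf (stabilizer G a)) ≠
        (H.subgroupOf (stabilizer G a)).index + 1 := by
      rw [hcardK, hidx]
      omega
    obtain ⟨hiso, hone⟩ := isLinearIsometryOn_indFun_of_TI H (stabilizer G a) hTI hN
    have hirrS := frob_irr_of_cent H (stabilizer G a) hcent
    rcases feit_frobenius (H.subgroupOf (stabilizer G a)) hK1 hKtop hF hne
      (fun α : stabilizer G a → ℂ => indFun (stabilizer G a) α) hiso hone with
      hcoh | ⟨p, hp, ⟨m, hm⟩, hnab, hidx'⟩
    · exfalso
      rw [← irr_nontriv_eq_induced H (stabilizer G a) hirrS] at hcoh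
      exact hcohcase hcoh
    · rcases hp.eq_two_or_odd' with h2 | hpodd
      · right
        subst h2
        refine ⟨IsPGroup.of_card (n := m) (by rw [← hcardK, hm]), ?_, ?_⟩
        · by_contra hall
          push Not at hall
          apply hnab
          rw [Subgroup.commutator_le]
          intro k₁ hk₁ k₂ hk₂
          rw [Subgroup.mem_bot, commutatorElement_eq_one_iff_commute]
          have h1 := hall ⟨k₁.1, Subgroup.mem_subgroupOf.mp hk₁⟩
            ⟨k₂.1, Subgroup.mem_subgroupOf.mp hk₂⟩
          have h2 := congrArg Subtype.val h1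
          apply Subtype.ext
          simpa using h2
        · have hrel : ⁅H, H⁆.relIndex H =
              ⁅H.subgroupOf (stabilizer G a), H.subgroupOf (stabilizer G a)⁆.relIndex
                (H.subgroupOf (stabilizer G a)) := by
            have h1 := Subgroup.relIndex_map_map_of_injective
              ⁅H.subgroupOf (stabilizer G a), H.subgroupOf (stabilizer G a)⁆
              (H.subgroupOf (stabilizer G a))
              (Subgroup.subtype_injective (stabilizer G a))
            rw [Subgroup.map_commutator, Subgroup.map_subgroupOf_eq_of_le hHa] at h1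
            exact h1
          have hcomm : (commutator H).index = ⁅H, H⁆.relIndex H := by
            unfold Subgroup.relIndex
            rw [← Subgroup.map_subtype_commutator H]
            congr 1
            exact (Subgroup.comap_map_eq_self_of_injective (Subgroup.subtype_injective H) _).symm
          rw [hcomm, hrel]
          rw [hidx] at hidx'
          exact hidx'
      · exfalso
        have hKodd : Odd (Nat.card H) := by
          rw [← hcardK, hm]
          exact hpodd.pow
        have hLodd : Odd (Nat.card (stabilizer G a)) := by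
          rw [zc_card_stab_eq hZ hab]
          have h1 : Fintype.card Ω - 1 = Nat.card H := by omega
          rw [h1]
          exact hKodd.mul hodd
        have hnilH : Group.IsNilpotent H := by
          haveI := frob_kernel_nilpotent (H.subgroupOf (stabilizer G a)) hF hKtop
          exact Group.nilpotent_of_mulEquiv (Subgroup.subgroupOfEquivOfLe hHa)
        exact hcohcase (frobenius_TI_coherent_irr H (stabilizer G a) hLodd hHa hLH hH1 hnilH
          hHn hcent hTI hN)

end ZassFeitC

section ZassFeitMain

set_option maxHeartbeats 1000000 in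
/-- Feit's theorem on Zassenhaus groups with `e` odd, by induction on the order of `G`. -/
theorem zf_main.{u, v} (Ω : Type v) [Fintype Ω] : ∀ (n : ℕ) (G : Type u) [Group G] [Finite G]
    [MulAction G Ω] (_hZ : IsZassenhausGroup G Ω) (a b : Ω) (_hab : a ≠ b) (h e : ℕ)
    (_hh : Fintype.card Ω = h + 1)
    (_he : Nat.card ↥(stabilizer G a ⊓ stabilizer G b : Subgroup G) = e) (_hodd : Odd e)
    (H : Subgroup G) (_hHa : H ≤ stabilizer G a) (_hHcard : Nat.card H + 1 = Fintype.card Ω)
    (_hHfix : ∀ u ∈ H, u ≠ 1 → ∀ c : Ω, u • c = c → c = a), Nat.card G = n →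
    h - 1 ≤ 2 * e ∨ (IsPGroup 2 H ∧ (∃ u v : H, u * v ≠ v * u) ∧
      (commutator H).index ≤ 4 * e ^ 2 + 1) := by
  intro n
  induction n using Nat.strong_induction_on with
  | _ n ih =>
    intro G _ _ _ hZ a b hab h e hh he hodd H hHa hHcard hHfix hn
    by_cases hnil : ∀ q : ℕ, q.Prime → q ∣ e →
        ¬ ∃ N : Subgroup G, N.Normal ∧ N.index = q ^ (Nat.card G).factorization q
    · exact zf_core hZ hab h e hh he hodd hnil H hHa hHcard hHfix
    · push Not at hnil
      obtain ⟨q, hq, hqe, M, hM, hidx⟩ := hnil
      haveI := hM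
      have hn3 := zc_three_le_card hZ hab
      have hG := zc_card_group hZ hab
      have hedvd := zc_e_dvd hZ hab
      rw [he] at hG hedvd
      have hqG : q ∣ Nat.card G := hqe.trans (by rw [hG]; exact Dvd.dvd.mul_left (Dvd.intro_left _ rfl) _)
      have hk : 0 < (Nat.card G).factorization q :=
        hq.factorization_pos_of_dvd Nat.card_pos.ne' hqG
      -- `M ≠ ⊥`
      have hMbot : M ≠ ⊥ := by
        intro h0
        rw [h0, Subgroup.index_bot] at hidx
        rw [hidx] at hG
        have h1 : q ∣ Fintype.card Ω :=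
          prime_dvd_of_dvd_prime_pow hq ⟨_, hG⟩ (by omega)
        have h2 : q ∣ Fintype.card Ω - 1 := by
          apply prime_dvd_of_dvd_prime_pow hq (k := (Nat.card G).factorization q) _ (by omega)
          rw [hG]
          exact Dvd.dvd.mul_left (Dvd.intro _ rfl) _
        have h3 : q ∣ 1 := by
          have := Nat.dvd_sub h1 h2
          have h4 : Fintype.card Ω - (Fintype.card Ω - 1) = 1 := by omega
          rwa [h4] at this
        exact hq.one_lt.ne' (Nat.dvd_one.mp h3)
      -- `|M| < |G|`
      have hMlt : Nat.card M < n := by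
        rw [← hn, ← Subgroup.card_mul_index M, hidx]
        have h1 : 2 ≤ q ^ (Nat.card G).factorization q := by
          calc 2 ≤ q := hq.two_le
            _ = q ^ 1 := (pow_one q).symm
            _ ≤ q ^ (Nat.card G).factorization q := Nat.pow_le_pow_right hq.pos hk
        have h2 : 0 < Nat.card M := Nat.card_pos
        nlinarith
      have hZM : IsZassenhausGroup M Ω := zass_of_normal hZ M hMbot
      -- the two point stabilizer of `M`
      have hdvdM : Nat.card ↥(stabilizer M a ⊓ stabilizer M b : Subgroup M) ∣ e := by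
        have hle : (stabilizer M a ⊓ stabilizer M b : Subgroup M).map M.subtype ≤
            (stabilizer G a ⊓ stabilizer G b : Subgroup G) := by
          rintro _ ⟨y, hy, rfl⟩
          obtain ⟨hya, hyb⟩ := Subgroup.mem_inf.mp hy
          exact Subgroup.mem_inf.mpr ⟨hya, hyb⟩
        have h1 := Subgroup.card_dvd_of_le hle
        rw [he] at h1
        rw [Nat.card_congr ((stabilizer M a ⊓ stabilizer M b : Subgroup M).equivMapOfInjective
          M.subtype (Subgroup.subtype_injective M)).toEquiv]
        exact h1
      have hoddM : Odd (Nat.card ↥(stabilizer M a ⊓ stabilizer M b : Subgroup M)) :=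
        Odd.of_dvd_nat hodd hdvdM
      have hleM : Nat.card ↥(stabilizer M a ⊓ stabilizer M b : Subgroup M) ≤ e :=
        Nat.le_of_dvd hodd.pos hdvdM
      -- `H ≤ M`
      have hqH : ¬ q ∣ Nat.card H := by
        intro h1
        have h2 : q ∣ Fintype.card Ω - 2 := hqe.trans hedvd
        have h3 : Nat.card H = (Fintype.card Ω - 2) + 1 := by omega
        rw [h3] at h1
        have h4 : q ∣ 1 := (Nat.dvd_add_right h2).mp h1
        exact hq.one_lt.ne' (Nat.dvd_one.mp h4)
      have hHM : H ≤ M := by
        intro u hu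
        have h1 : orderOf (QuotientGroup.mk' M u) ∣ orderOf u := orderOf_map_dvd _ u
        have h2 : orderOf u ∣ Nat.card H := by
          have := orderOf_dvd_natCard (⟨u, hu⟩ : H)
          rwa [Subgroup.orderOf_mk] at this
        have h3 : orderOf (QuotientGroup.mk' M u) ∣ Nat.card (G ⧸ M) := orderOf_dvd_natCard _
        rw [← Subgroup.index_eq_card, hidx] at h3
        have hcop : Nat.Coprime (Nat.card H) (q ^ (Nat.card G).factorization q) :=
          Nat.Coprime.pow_right _ ((Nat.Prime.coprime_iff_not_dvd hq).mpr hqH).symm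
        have h4 : orderOf (QuotientGroup.mk' M u) ∣ 1 := by
          have := Nat.dvd_gcd (h1.trans h2) h3
          rwa [hcop] at this
        have h5 : QuotientGroup.mk' M u = 1 := orderOf_eq_one_iff.mp (Nat.dvd_one.mp h4)
        exact (QuotientGroup.eq_one_iff u).mp h5
      -- apply the induction hypothesis to `M`
      have hHaM : H.subgroupOf M ≤ stabilizer M a := by
        intro x hx
        rw [Subgroup.mem_subgroupOf] at hx
        exact mem_stabilizer_iff.mpr (mem_stabilizer_iff.mp (hHa hx))
      have hcardHM : Nat.card (H.subgroupOf M) = Nat.card H :=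
        Nat.card_congr (Subgroup.subgroupOfEquivOfLe hHM).toEquiv
      have hHfixM : ∀ u ∈ H.subgroupOf M, u ≠ 1 → ∀ c : Ω, u • c = c → c = a := by
        intro u hu hu1 c hc
        exact hHfix u.1 (Subgroup.mem_subgroupOf.mp hu) (fun h0 => hu1 (Subtype.ext h0)) c hc
      rcases ih (Nat.card M) hMlt M hZM a b hab h _ hh rfl hoddM (H.subgroupOf M) hHaM
        (by rw [hcardHM]; exact hHcard) hHfixM rfl with h1 | h1
      · left
        omega
      · right
        exact zf_transport (Subgroup.subgroupOfEquivOfLe hHM) hleM h1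

end ZassFeitMain

end Cfsg.Agent.Lib.Helper11
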