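import Mathlib
import Cfsg.Prelude
import Cfsg.Agent.Lib.Helper1.BGStubs2
import Cfsg.Agent.Lib.Helper1.BGFcons
import Cfsg.Agent.Lib.Helper1.BGCount
import Cfsg.Agent.Lib.Helper3.BG14M
import Cfsg.Agent.Lib.Helper3.BG14H
import Cfsg.Agent.Lib.Helper3.BG14E
import Cfsg.Agent.Lib.Helper9.BGHallFus
import Cfsg.Agent.S1414
import Cfsg.Agent.S1421

/-!
# Bender--Glauberman: maximal subgroups of type `𝒫₂` (frozen row S1372), relative to S1430
(helper11)

If `M = K U M_σ` with `K ≠ 1` and `U ≠ 1` then `K` has prime order, `M_σ ≤ F(M)` and `F(M)` is a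
TI-subset of `G`.

Proof.  `M_σ` is nilpotent (Thompson, `U₀` regular); some prime `q` of `|M_σ|` lies in `β(M)`:
otherwise `M' = U M_σ` has a normal `q`-complement for every `q ∣ |M_σ|`, so `U` centralizes every
Sylow subgroup of `M_σ`, `U ⊴ M`, and a Sylow subgroup of `U` would put a prime of `U` in `σ(M)`.
Then `O_q(M_σ)` is a normal Sylow subgroup of `M_σ` with `q ∈ β(M)` and `F(M)` is TI.
-/

set_option autoImplicit false
set_option linter.style.haveILetI false
open Cfsg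
open Cfsg.Agent.Lib.Helper10.BG Cfsg.Agent.Lib.Helper10
open Cfsg.Agent.Lib.Helper9.BGExc
open Cfsg.Agent.Lib.Helper1.BGStubs2

namespace Cfsg.Agent.Lib.Helper11.BG15

variable {G : Type*} [Group G] [Finite G]

/-- a normal `q`-complement of `D`, as a subgroup of the ambient group. -/
theorem exists_normal_compl {q : ℕ} [Fact q.Prime] {D : Subgroup G}
    (h : HasNormalPComplement q ↥D) :
    ∃ N : Subgroup G, N ≤ D ∧ D ≤ Subgroup.normalizer (N : Set G) ∧ ¬ q ∣ Nat.card N ∧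
      ∀ V : Subgroup G, V ≤ D → ¬ q ∣ Nat.card V → V ≤ N := by
  obtain ⟨P, N, hNn, hNP⟩ := h
  haveI := hNn
  have hrel : (N.map D.subtype).relIndex D = N.index :=
    Cfsg.Agent.Lib.Helper1.BGFthm.relIndex_map_subtype N
  have hidx : N.index = Nat.card (P : Subgroup ↥D) := hNP.symm.index_eq_card
  have hcardN : Nat.card N = (P : Subgroup ↥D).index := hNP.index_eq_card.symm
  obtain ⟨k, hk⟩ := IsPGroup.iff_card.mp P.isPGroup'
  refine ⟨N.map D.subtype, Subgroup.map_subtype_le N, le_normalizer_map_subtype_of_normal N, ?_, ?_⟩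
  · rw [Subgroup.card_map_of_injective (Subgroup.subtype_injective D), hcardN]
    exact P.not_dvd_index
  · intro V hVD hqV
    apply Cfsg.Agent.Lib.Helper3.BG14.le_of_coprime_relIndex
      (le_normalizer_map_subtype_of_normal N) hVD
    rw [hrel, hidx, hk]
    apply Nat.Coprime.pow_right
    exact (Nat.Coprime.symm ((Nat.Prime.coprime_iff_not_dvd Fact.out).mpr hqV))

open scoped IsMulCommutative in
theorem isNilpotent_of_comm {A : Type*} [Group A] [IsMulCommutative A] :
    Group.IsNilpotent A := inferInstance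

/-- in a maximal subgroup `M = K U M_σ` with `U ≠ 1` abelian and `M_σ` nilpotent, some prime
divisor of `|M_σ|` lies in `β(M)`. -/
theorem exists_beta_prime (hG : IsMinSimpleOddOrder G) {M K U : Subgroup G} (hM : IsCoatom M)
    (hKU : IsSigmaDecomposition M K U) (hU1 : U ≠ ⊥) (hUab : IsMulCommutative U)
    (hD : ⁅M, M⁆ = U ⊔ sigmaCore M) (hnil : Group.IsNilpotent (sigmaCore M)) :
    ∃ q : ℕ, q.Prime ∧ q ∣ Nat.card (sigmaCore M) ∧ q ∈ beta M := by
  classical
  by_contra hcon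
  push Not at hcon
  have hUM : U ≤ M := hKU.compl.1
  have hUD : U ≤ ⁅M, M⁆ := by rw [hD]; exact le_sup_left
  have hSD : sigmaCore M ≤ ⁅M, M⁆ := by rw [hD]; exact le_sup_right
  have hDM : ⁅M, M⁆ ≤ M := by rw [hD]; exact sup_le hUM (sigmaCore_le M)
  -- `M_σ` centralizes `U`
  have hcent : sigmaCore M ≤ Subgroup.centralizer (U : Set G) := by
    apply le_of_forall_sylow_le
    intro q hq
    haveI : Fact q.Prime := ⟨hq⟩
    refine ⟨pCoreOf q (sigmaCore M), Cfsg.Agent.Lib.Helper9.BG10.isSylowIn_pCoreOf hnil hq, ?_⟩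
    by_cases hqd : q ∣ Nat.card (sigmaCore M)
    · have hqσ : q ∈ sigma M := mem_sigma_of_dvd_card_sigmaCore hG hM hq hqd
      have hqM : q ∣ Nat.card M := hqd.trans (Subgroup.card_dvd_of_le (sigmaCore_le M))
      have hnpc := ((Cfsg.Agent.S1414.result hG M hM).2.2.2.2 q hq hqM (hcon q hq hqd)).1
      obtain ⟨N, hND, hDN, hqN, hV⟩ := exists_normal_compl hnpc
      have hUN : U ≤ N := hV U hUD (fun h =>
        Cfsg.Agent.Lib.Helper1.BGSigmaDecomp.not_mem_sigma_of_dvd_card_U hG hM hKU hq h hqσ)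
      have hnormS : ⁅M, M⁆ ≤ Subgroup.normalizer (pCoreOf q (sigmaCore M) : Set G) :=
        (hDM.trans (le_normalizer_sigmaCore M)).trans
          (normalizer_le_normalizer_pCoreOf q (sigmaCore M))
      intro s hs
      rw [Subgroup.mem_centralizer_iff]
      intro u hu
      have hsD : s ∈ ⁅M, M⁆ := hSD (pCoreOf_le q _ hs)
      have huN : u ∈ N := hUN hu
      have h1 : u * s⁻¹ * u⁻¹ ∈ pCoreOf q (sigmaCore M) :=
        (Subgroup.mem_normalizer_iff.mp (hnormS (hND huN)) s⁻¹).mp (inv_mem hs)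
      have h2 : s * u * s⁻¹ ∈ N := (Subgroup.mem_normalizer_iff.mp (hDN hsD) u).mp huN
      have h3 : s * u * s⁻¹ * u⁻¹ ∈ pCoreOf q (sigmaCore M) := by
        have : s * u * s⁻¹ * u⁻¹ = s * (u * s⁻¹ * u⁻¹) := by group
        rw [this]; exact mul_mem hs h1
      have h4 : s * u * s⁻¹ * u⁻¹ ∈ N := mul_mem h2 (inv_mem huN)
      have h5 : s * u * s⁻¹ * u⁻¹ = 1 := by
        by_contra hne
        have hpg := isPGroup_pCoreOf q (sigmaCore M)
        obtain ⟨k, hk⟩ := (IsPGroup.iff_orderOf.mp hpg) ⟨_, h3⟩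
        rw [Subgroup.orderOf_mk] at hk
        have hdvd : orderOf (s * u * s⁻¹ * u⁻¹) ∣ Nat.card N := Subgroup.orderOf_dvd_natCard _ h4
        rw [hk] at hdvd
        rcases Nat.eq_zero_or_pos k with h0 | h0
        · rw [h0, pow_zero] at hk
          exact hne (orderOf_eq_one_iff.mp hk)
        · exact hqN ((dvd_pow_self q h0.ne').trans hdvd)
      have h6 : s * u * s⁻¹ = u := mul_inv_eq_one.mp h5
      have h7 : s * u = u * s := mul_inv_eq_iff_eq_mul.mp h6
      exact h7.symm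
    · have hbot : pCoreOf q (sigmaCore M) = ⊥ :=
        eq_bot_of_isPGroup_of_not_dvd_card (isPGroup_pCoreOf q _)
          (fun h => hqd (h.trans (Subgroup.card_dvd_of_le (pCoreOf_le q _))))
      rw [hbot]; exact bot_le
  -- `U` is normal in `M`
  have hnormU : M ≤ Subgroup.normalizer (U : Set G) := by
    intro m hm
    obtain ⟨u, hu, b, hb, rfl⟩ := hKU.compl.2.2.2 m hm
    have hb' : b ∈ Subgroup.normalizer (U : Set G) := by
      have : K ⊔ sigmaCore M ≤ Subgroup.normalizer (U : Set G) :=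
        sup_le hKU.normal (hcent.trans (Subgroup.centralizer_le_normalizer _))
      exact this hb
    exact mul_mem (Subgroup.le_normalizer hu) hb'
  -- a Sylow subgroup of `U`
  obtain ⟨r, hr, hrU⟩ := Nat.exists_prime_and_dvd
    (fun h1 : Nat.card U = 1 => hU1 (Subgroup.card_eq_one.mp h1))
  haveI : Fact r.Prime := ⟨hr⟩
  have hrσ := Cfsg.Agent.Lib.Helper1.BGSigmaDecomp.not_mem_sigma_of_dvd_card_U hG hM hKU hr hrU
  have hrκ := Cfsg.Agent.Lib.Helper1.BGSigmaDecomp.not_mem_kappa_of_dvd_card_U hG hM hKU hr hrU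
  have hUnil : Group.IsNilpotent ↥U := by
    haveI := hUab
    exact isNilpotent_of_comm
  have hRU : IsSylowIn r (pCoreOf r U) U :=
    Cfsg.Agent.Lib.Helper9.BG10.isSylowIn_pCoreOf hUnil hr
  have hcardM := Cfsg.Agent.Lib.Helper1.BGSigmaDecomp.card_eq hG hM hKU
  have hrel : ¬ r ∣ U.relIndex M := by
    intro hd
    have h1 := Cfsg.Agent.Lib.Helper12.card_mul_relIndex_eq hUM
    rw [hcardM, mul_assoc] at h1
    have h2 : U.relIndex M = Nat.card K * Nat.card (sigmaCore M) :=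
      Nat.eq_of_mul_eq_mul_left Nat.card_pos h1
    rw [h2] at hd
    rcases (Nat.Prime.dvd_mul hr).mp hd with h | h
    · exact hrκ (hKU.hall.2.1 r hr h)
    · exact hrσ (mem_sigma_of_dvd_card_sigmaCore hG hM hr h)
  have hRM : IsSylowIn r (pCoreOf r U) M := hRU.of_not_dvd_relIndex hUM hrel
  have hR1 : pCoreOf r U ≠ ⊥ := hRU.ne_bot_of_dvd hrU
  have hMR : M ≤ Subgroup.normalizer (pCoreOf r U : Set G) :=
    hnormU.trans (normalizer_le_normalizer_pCoreOf r U)
  have hNR : Subgroup.normalizer (pCoreOf r U : Set G) = M :=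
    normalizer_eq_of_isCoatom' hG hM hR1 hRM.le hMR
  apply hrσ
  refine ⟨hr, hrU.trans (Subgroup.card_dvd_of_le hUM), hRM.toSylow, ?_⟩
  have h1 : ((hRM.toSylow : Sylow r ↥M) : Subgroup M).map M.subtype = pCoreOf r U := by
    rw [hRM.coe_toSylow, Subgroup.subgroupOf_map_subtype]
    exact inf_eq_left.mpr hRM.le
  rw [h1, hNR]

/-- **S1372** relative to S1430. -/
theorem s1372_of (hG : IsMinSimpleOddOrder G) (h30 : P1430 G) : P1372 G := by
  intro M hM K U hKU hK1 hU1
  have h30' : Cfsg.Agent.Lib.Helper3.BGStubs.P1430 G := fun M hM K hK hK1 => h30 M hM K hK hK1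
  have h21 : Cfsg.Agent.Lib.Helper3.BGStubs.P1421 G :=
    fun M hM E hE h => Cfsg.Agent.S1421.result hG M hM E hE h
  have hfree := Cfsg.Agent.Lib.Helper3.BG14.s1353_of hG h30' M hM K U hKU
  have hprime : (Nat.card K).Prime :=
    Cfsg.Agent.Lib.Helper1.BGCount.card_K_prime_of_U_ne_bot hG
      (fun M hM K hK hK1 => (h30 M hM K hK hK1).1) hM hKU hfree hK1 hU1
  have hnil : Group.IsNilpotent (sigmaCore M) :=
    Cfsg.Agent.Lib.Helper3.BG14.sigmaCore_isNilpotent_of_U_ne_bot hG h30' h21 hM hKU hU1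
  have hUab : IsMulCommutative U := Cfsg.Agent.Lib.Helper3.BG14.s1363a_of hG h30' M hM K U hKU hK1
  have hD := (Cfsg.Agent.Lib.Helper3.BG14.s1365_of hG h30' M hM K U hKU hK1).1
  obtain ⟨q, hq, hqd, hqβ⟩ := exists_beta_prime hG hM hKU hU1 hUab hD hnil
  haveI : Fact q.Prime := ⟨hq⟩
  have hQ : IsSylowIn q (pCoreOf q (sigmaCore M)) (sigmaCore M) :=
    Cfsg.Agent.Lib.Helper9.BG10.isSylowIn_pCoreOf hnil hq
  refine ⟨hprime, ?_, le_fittingOf (sigmaCore_le M) (le_normalizer_sigmaCore M) hnil⟩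
  exact Cfsg.Agent.Lib.Helper1.BGFcons.isTISubset_fittingOf hG hM hq hqβ (hQ.ne_bot_of_dvd hqd)
    (pCoreOf_le q _)
    ((le_normalizer_sigmaCore M).trans (normalizer_le_normalizer_pCoreOf q (sigmaCore M)))
    (isPGroup_pCoreOf q _) hQ.not_dvd_relIndex

end Cfsg.Agent.Lib.Helper11.BG15
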