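import Cfsg.Agent.Lib.Helper10.E8CC.Defs
import Cfsg.Agent.Lib.Helper20.F4CCFT1

set_option autoImplicit false

/-! S2107 farm (architect helper10), piece [E8-T1]: the Part A table of type `E₈`
(kernel-checked certificate: per root `r` a pair `(a, b)` with `r = a + b` and the sign of the
structure constant). -/

namespace Cfsg.Agent.Lib.Helper10.E8CC

open Cfsg.Lie Cfsg.Agent.Lib.Helper8.Chev Cfsg.Agent.Lib.Helper14.StCC

namespace Helper11

/-- the roots `lo ≤ r < lo + n` have a checked certificate -/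
def checkCD1R (D : ChevalleyDatum) (tab : List (ℕ × ℕ × ℤ)) (lo n : ℕ) : Bool :=
  (List.range n).all fun i =>
    Cfsg.Agent.Lib.Helper16.F4CC.Helper20.cd1B D (lo + i) (tab.getD (lo + i) (0, 0, 0)).1
      (tab.getD (lo + i) (0, 0, 0)).2.1 (tab.getD (lo + i) (0, 0, 0)).2.2

theorem checkCD1R_spec {D : ChevalleyDatum} {tab : List (ℕ × ℕ × ℤ)} {lo n : ℕ}
    (h : checkCD1R D tab lo n = true) {r : ℕ} (h1 : lo ≤ r) (h2 : r < lo + n) :
    Cfsg.Agent.Lib.Helper16.F4CC.CommData1 D r := by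
  simp only [checkCD1R, List.all_eq_true, List.mem_range] at h
  have h3 := h (r - lo) (by omega)
  rw [Nat.add_sub_cancel' h1] at h3
  exact Cfsg.Agent.Lib.Helper16.F4CC.Helper20.cd1B_spec h3

/-- the certificate `(a, b, ε)` per root of `E₈` -/
def tabE8 : List (ℕ × ℕ × ℤ) :=
  [(1, 119, 1), (0, 120, 1), (0, 122, 1), (0, 125, 1), (0, 129, 1), (0, 134, 1), (0, 140, 1),
   (0, 146, 1), (0, 151, -1), (0, 155, 1), (0, 158, -1), (0, 160, 1), (0, 161, -1), (1, 161, -1),
   (0, 168, 1), (0, 173, -1), (0, 177, 1), (0, 180, -1), (0, 182, 1), (0, 183, -1), (1, 183, -1),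
   (0, 187, -1), (0, 190, 1), (0, 192, -1), (0, 193, 1), (1, 193, 1), (0, 196, -1), (0, 198, 1),
   (0, 199, -1), (1, 199, -1), (0, 201, -1), (0, 202, 1), (1, 202, 1), (0, 203, -1), (1, 203, -1),
   (2, 203, -1), (0, 206, 1), (0, 208, -1), (0, 209, 1), (1, 209, 1), (0, 211, 1), (0, 212, -1),
   (1, 212, -1), (0, 213, 1), (1, 213, 1), (2, 213, 1), (0, 215, -1), (0, 216, 1), (1, 216, 1),
   (0, 217, -1), (1, 217, -1), (2, 217, -1), (0, 218, 1), (1, 218, 1), (2, 218, 1), (3, 218, 1),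
   (0, 220, 1), (0, 221, -1), (1, 221, -1), (0, 222, 1), (1, 222, 1), (2, 222, 1), (0, 223, -1),
   (1, 223, -1), (2, 223, -1), (3, 223, -1), (0, 224, 1), (1, 224, 1), (2, 224, 1), (3, 224, 1),
   (4, 224, 1), (0, 225, -1), (1, 225, -1), (2, 225, -1), (3, 225, -1), (4, 225, -1), (5, 225, -1),
   (6, 225, -1), (0, 227, 1), (0, 228, -1), (1, 228, -1), (0, 229, 1), (1, 229, 1), (2, 229, 1),
   (0, 230, -1), (1, 230, -1), (2, 230, -1), (3, 230, -1), (0, 231, 1), (1, 231, 1), (2, 231, 1),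
   (3, 231, 1), (4, 231, 1), (0, 232, -1), (1, 232, -1), (2, 232, -1), (3, 232, -1), (4, 232, -1),
   (5, 232, -1), (0, 233, -1), (1, 233, -1), (2, 233, -1), (3, 233, -1), (4, 233, -1),
   (5, 233, -1), (0, 234, -1), (1, 234, -1), (2, 234, -1), (3, 234, -1), (4, 234, -1),
   (0, 235, -1), (1, 235, -1), (2, 235, -1), (3, 235, -1), (0, 236, -1), (1, 236, -1),
   (2, 236, -1), (0, 237, -1), (1, 237, -1), (0, 238, -1), (1, 239, -1), (2, 238, -1),
   (2, 239, -1), (3, 237, -1), (3, 238, -1), (3, 239, -1), (4, 236, -1), (4, 237, -1),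
   (4, 238, -1), (4, 239, -1), (5, 235, -1), (5, 236, -1), (5, 237, -1), (5, 238, -1),
   (5, 239, -1), (6, 234, -1), (6, 235, -1), (6, 236, -1), (6, 237, -1), (6, 238, -1),
   (6, 239, -1), (7, 234, -1), (7, 235, -1), (7, 236, -1), (7, 237, -1), (7, 238, -1),
   (7, 239, -1), (8, 235, 1), (8, 236, 1), (8, 237, 1), (8, 238, 1), (8, 239, 1), (9, 236, -1),
   (9, 237, -1), (9, 238, -1), (9, 239, -1), (10, 237, 1), (10, 238, 1), (10, 239, 1),
   (11, 238, -1), (11, 239, -1), (12, 239, 1), (14, 233, -1), (14, 234, -1), (14, 235, -1),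
   (14, 236, -1), (14, 237, -1), (14, 238, -1), (14, 239, -1), (15, 235, 1), (15, 236, 1),
   (15, 237, 1), (15, 238, 1), (15, 239, 1), (16, 236, -1), (16, 237, -1), (16, 238, -1),
   (16, 239, -1), (17, 237, 1), (17, 238, 1), (17, 239, 1), (18, 238, -1), (18, 239, -1),
   (19, 239, 1), (21, 236, 1), (21, 237, 1), (21, 238, 1), (21, 239, 1), (22, 237, -1),
   (22, 238, -1), (22, 239, -1), (23, 238, 1), (23, 239, 1), (24, 239, -1), (26, 237, 1),
   (26, 238, 1), (26, 239, 1), (27, 238, -1), (27, 239, -1), (28, 239, 1), (30, 238, 1),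
   (30, 239, 1), (31, 239, -1), (33, 239, 1), (36, 237, -1), (36, 238, -1), (36, 239, -1),
   (37, 238, 1), (37, 239, 1), (38, 239, -1), (40, 238, -1), (40, 239, -1), (41, 239, 1),
   (43, 239, -1), (46, 238, 1), (46, 239, 1), (47, 239, -1), (49, 239, 1), (52, 239, -1),
   (56, 238, -1), (56, 239, -1), (57, 239, 1), (59, 239, -1), (62, 239, 1), (66, 239, -1),
   (71, 239, 1), (78, 238, -1), (78, 239, -1), (79, 239, 1), (81, 239, -1), (84, 239, 1),
   (88, 239, -1), (93, 239, 1), (99, 239, 1), (105, 239, 1), (110, 239, 1), (114, 239, 1),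
   (117, 239, 1), (119, 239, 1), (120, 238, 1)]

set_option maxRecDepth 1000000 in
theorem check_E8_0 : checkCD1R chevE8 tabE8 0 60 = true := by decide +kernel

set_option maxRecDepth 1000000 in
theorem check_E8_1 : checkCD1R chevE8 tabE8 60 60 = true := by decide +kernel

set_option maxRecDepth 1000000 in
theorem check_E8_2 : checkCD1R chevE8 tabE8 120 60 = true := by decide +kernel

set_option maxRecDepth 1000000 in
theorem check_E8_3 : checkCD1R chevE8 tabE8 180 60 = true := by decide +kernel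

end Helper11

/-- [E8-T1] table for Part A (`|K| ≥ 3`), type `E₈` (240 roots) -/
theorem commData1_E8 {r : ℕ} (hr : r < chevE8.nroots) :
    (∃ m : ℕ → ℤ, wt chevE8 m r = 1) ∧ Cfsg.Agent.Lib.Helper16.F4CC.CommData1 chevE8 r := by
  refine ⟨?_, ?_⟩
  · refine Cfsg.Agent.Lib.Helper14.StCC.A.Helper27.exists_wt_one (by simp) hr ?_
    intro h
    exact absurd (congrArg ChevalleyDatum.nroots h) (by decide)
  · have hr' : r < 240 := hr
    by_cases h1 : r < 60
    · exact Helper11.checkCD1R_spec Helper11.check_E8_0 (Nat.zero_le r) (by omega)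
    by_cases h2 : r < 120
    · exact Helper11.checkCD1R_spec Helper11.check_E8_1 (by omega) (by omega)
    by_cases h3 : r < 180
    · exact Helper11.checkCD1R_spec Helper11.check_E8_2 (by omega) (by omega)
    · exact Helper11.checkCD1R_spec Helper11.check_E8_3 (by omega) (by omega)

end Cfsg.Agent.Lib.Helper10.E8CC
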