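import Mathlib

/-!
# S2398/S2100 (Steinberg's Theorem 10), generic pairing lemmas (P0) — helper11, for helper14/helper26

For a homomorphism `ψ : E →* Γ` with central kernel, the commutator `⁅a, b⁆` of two lifts depends only
on `ψ a`, `ψ b`; for `ψ` surjective this defines `pr x y ∈ E` for `x y : Γ`.  Pure Mathlib.
-/

set_option autoImplicit false

namespace Cfsg.Agent.Lib.Helper11.StCCPairing

open scoped commutatorElement

variable {E : Type*} [Group E] {Γ : Type*} [Group Γ]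

theorem comm_mul_central_left {z : E} (hz : z ∈ Subgroup.center E) (a b : E) :
    ⁅a * z, b⁆ = ⁅a, b⁆ := by
  rw [commutatorElement_def, commutatorElement_def, mul_inv_rev]
  have h1 : z * b = b * z := (Subgroup.mem_center_iff.mp hz b).symm
  calc a * z * b * (z⁻¹ * a⁻¹) * b⁻¹ = a * (z * b) * z⁻¹ * a⁻¹ * b⁻¹ := by group
    _ = a * (b * z) * z⁻¹ * a⁻¹ * b⁻¹ := by rw [h1]
    _ = a * b * a⁻¹ * b⁻¹ := by group

theorem comm_mul_central_right {z : E} (hz : z ∈ Subgroup.center E) (a b : E) :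
    ⁅a, b * z⁆ = ⁅a, b⁆ := by
  rw [commutatorElement_def, commutatorElement_def, mul_inv_rev]
  have h1 : z * a⁻¹ = a⁻¹ * z := (Subgroup.mem_center_iff.mp hz a⁻¹).symm
  calc a * (b * z) * a⁻¹ * (z⁻¹ * b⁻¹) = a * b * (z * a⁻¹) * z⁻¹ * b⁻¹ := by group
    _ = a * b * (a⁻¹ * z) * z⁻¹ * b⁻¹ := by rw [h1]
    _ = a * b * a⁻¹ * b⁻¹ := by group

/-- the commutator of two lifts depends only on the images -/
theorem comm_lift_eq (ψ : E →* Γ) (hc : ψ.ker ≤ Subgroup.center E) {a a' b b' : E}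
    (ha : ψ a = ψ a') (hb : ψ b = ψ b') : ⁅a, b⁆ = ⁅a', b'⁆ := by
  have hz : a⁻¹ * a' ∈ Subgroup.center E := hc (by
    rw [MonoidHom.mem_ker, map_mul, map_inv, ha, inv_mul_cancel])
  have hw : b⁻¹ * b' ∈ Subgroup.center E := hc (by
    rw [MonoidHom.mem_ker, map_mul, map_inv, hb, inv_mul_cancel])
  have e1 : a' = a * (a⁻¹ * a') := by group
  have e2 : b' = b * (b⁻¹ * b') := by group
  rw [e1, e2, comm_mul_central_left hz, comm_mul_central_right hw]

/-- the pairing `pr x y = ⁅x̃, ỹ⁆` -/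
noncomputable def pr (ψ : E →* Γ) (hψ : Function.Surjective ψ) (x y : Γ) : E :=
  ⁅Function.surjInv hψ x, Function.surjInv hψ y⁆

section

variable (ψ : E →* Γ) (hψ : Function.Surjective ψ) (hc : ψ.ker ≤ Subgroup.center E)

include hc in
/-- `pr` may be computed with any lifts -/
theorem pr_eq {x y : Γ} {a b : E} (ha : ψ a = x) (hb : ψ b = y) : pr ψ hψ x y = ⁅a, b⁆ := by
  unfold pr
  apply comm_lift_eq ψ hc
  · rw [Function.surjInv_eq hψ, ha]
  · rw [Function.surjInv_eq hψ, hb]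

theorem map_pr (x y : Γ) : ψ (pr ψ hψ x y) = ⁅x, y⁆ := by
  unfold pr
  rw [map_commutatorElement, Function.surjInv_eq hψ, Function.surjInv_eq hψ]

include hc in
theorem conj_pr (g : E) (x y : Γ) :
    g * pr ψ hψ x y * g⁻¹ = pr ψ hψ (ψ g * x * (ψ g)⁻¹) (ψ g * y * (ψ g)⁻¹) := by
  obtain ⟨a, rfl⟩ := hψ x
  obtain ⟨b, rfl⟩ := hψ y
  rw [pr_eq ψ hψ hc rfl rfl,
    pr_eq ψ hψ hc (a := g * a * g⁻¹) (b := g * b * g⁻¹) (by simp) (by simp)]
  simp only [commutatorElement_def]
  group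

include hc in
theorem pr_symm (x y : Γ) : pr ψ hψ y x = (pr ψ hψ x y)⁻¹ := by
  obtain ⟨a, rfl⟩ := hψ x
  obtain ⟨b, rfl⟩ := hψ y
  rw [pr_eq ψ hψ hc rfl rfl, pr_eq ψ hψ hc rfl rfl, commutatorElement_inv]

theorem pr_mem_ker {x y : Γ} (h : Commute x y) : pr ψ hψ x y ∈ ψ.ker := by
  rw [MonoidHom.mem_ker, map_pr, commutatorElement_eq_one_iff_commute]
  exact h

include hc in
theorem pr_mem_center {x y : Γ} (h : Commute x y) : pr ψ hψ x y ∈ Subgroup.center E :=
  hc (pr_mem_ker ψ hψ h)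

include hc in
theorem pr_one_left (y : Γ) : pr ψ hψ 1 y = 1 := by
  obtain ⟨b, rfl⟩ := hψ y
  rw [pr_eq ψ hψ hc (a := 1) (map_one ψ) rfl, commutatorElement_one_left]

include hc in
theorem pr_one_right (x : Γ) : pr ψ hψ x 1 = 1 := by
  obtain ⟨a, rfl⟩ := hψ x
  rw [pr_eq ψ hψ hc (b := 1) rfl (map_one ψ), commutatorElement_one_right]

include hc in
theorem pr_self (x : Γ) : pr ψ hψ x x = 1 := by
  obtain ⟨a, rfl⟩ := hψ x
  rw [pr_eq ψ hψ hc rfl rfl, commutatorElement_self]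

include hc in
/-- general product rule on the right, with any lift `b` of `y` -/
theorem pr_mul_right' (x y y' : Γ) {b : E} (hb : ψ b = y) :
    pr ψ hψ x (y * y') = pr ψ hψ x y * (b * pr ψ hψ x y' * b⁻¹) := by
  obtain ⟨a, rfl⟩ := hψ x
  obtain ⟨b', rfl⟩ := hψ y'
  subst hb
  rw [pr_eq ψ hψ hc (a := a) (b := b * b') rfl (map_mul ψ b b'), pr_eq ψ hψ hc rfl rfl,
    pr_eq ψ hψ hc rfl rfl]
  simp only [commutatorElement_def]
  group

include hc in
/-- general product rule on the left, with any lift `a` of `x` -/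
theorem pr_mul_left' (x x' y : Γ) {a : E} (ha : ψ a = x) :
    pr ψ hψ (x * x') y = a * pr ψ hψ x' y * a⁻¹ * pr ψ hψ x y := by
  obtain ⟨a', rfl⟩ := hψ x'
  obtain ⟨b, rfl⟩ := hψ y
  subst ha
  rw [pr_eq ψ hψ hc (a := a * a') (b := b) (map_mul ψ a a') rfl, pr_eq ψ hψ hc rfl rfl,
    pr_eq ψ hψ hc rfl rfl]
  simp only [commutatorElement_def]
  group

include hc in
/-- `y ↦ pr x y` is multiplicative as soon as `x` commutes with the second factor -/
theorem pr_mul_right {x y y' : Γ} (h : Commute x y') :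
    pr ψ hψ x (y * y') = pr ψ hψ x y * pr ψ hψ x y' := by
  obtain ⟨b, hb⟩ := hψ y
  rw [pr_mul_right' ψ hψ hc x y y' hb]
  have hz := pr_mem_center ψ hψ hc h
  rw [Subgroup.mem_center_iff.mp hz b, mul_inv_cancel_right]

include hc in
/-- `x ↦ pr x y` is multiplicative as soon as the second factor commutes with `y` -/
theorem pr_mul_left {x x' y : Γ} (h : Commute x' y) :
    pr ψ hψ (x * x') y = pr ψ hψ x y * pr ψ hψ x' y := by
  obtain ⟨a, ha⟩ := hψ x
  rw [pr_mul_left' ψ hψ hc x x' y ha]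
  have hz := pr_mem_center ψ hψ hc h
  rw [Subgroup.mem_center_iff.mp hz a, mul_inv_cancel_right]
  exact (Subgroup.mem_center_iff.mp hz _).symm

include hc in
theorem pr_inv_right {x y : Γ} (h : Commute x y) : pr ψ hψ x y⁻¹ = (pr ψ hψ x y)⁻¹ := by
  have h1 := pr_mul_right ψ hψ hc (x := x) (y := y⁻¹) (y' := y) h
  rw [inv_mul_cancel, pr_one_right ψ hψ hc] at h1
  exact eq_inv_of_mul_eq_one_left h1.symm

include hc in
theorem pr_inv_left {x y : Γ} (h : Commute x y) : pr ψ hψ x⁻¹ y = (pr ψ hψ x y)⁻¹ := by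
  have h1 := pr_mul_left ψ hψ hc (x := x⁻¹) (x' := x) (y := y) h
  rw [inv_mul_cancel, pr_one_left ψ hψ hc] at h1
  exact eq_inv_of_mul_eq_one_left h1.symm

include hc in
/-- two values of `pr` on commuting pairs commute (they are central) -/
theorem pr_commute {x y : Γ} (h : Commute x y) (e : E) : Commute (pr ψ hψ x y) e :=
  (Subgroup.mem_center_iff.mp (pr_mem_center ψ hψ hc h) e).symm

include hc in
/-- for `Γ` perfect, central elements pair trivially with everything -/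
theorem pr_center_left (hperf : commutator Γ = ⊤) {z : Γ} (hz : z ∈ Subgroup.center Γ) (y : Γ) :
    pr ψ hψ z y = 1 := by
  have hzc : ∀ y : Γ, Commute z y := fun y => (Subgroup.mem_center_iff.mp hz y).symm
  let f : Γ →* E :=
    { toFun := fun y => pr ψ hψ z y
      map_one' := pr_one_right ψ hψ hc z
      map_mul' := fun y y' => pr_mul_right ψ hψ hc (hzc y') }
  have hle : commutator Γ ≤ f.ker := by
    rw [commutator_eq_closure, Subgroup.closure_le]
    rintro _ ⟨g₁, g₂, rfl⟩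
    rw [SetLike.mem_coe, MonoidHom.mem_ker, map_commutatorElement,
      commutatorElement_eq_one_iff_commute]
    exact pr_commute ψ hψ hc (hzc g₁) _
  have hy : y ∈ f.ker := hle (by rw [hperf]; exact Subgroup.mem_top y)
  exact hy

include hc in
theorem pr_center_right (hperf : commutator Γ = ⊤) {z : Γ} (hz : z ∈ Subgroup.center Γ) (x : Γ) :
    pr ψ hψ x z = 1 := by
  rw [pr_symm ψ hψ hc z x, pr_center_left ψ hψ hc hperf hz, inv_one]

include hc in
theorem pr_mul_center_left (hperf : commutator Γ = ⊤) {z : Γ} (hz : z ∈ Subgroup.center Γ)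
    (x y : Γ) : pr ψ hψ (x * z) y = pr ψ hψ x y := by
  rw [pr_mul_left ψ hψ hc ((Subgroup.mem_center_iff.mp hz y).symm),
    pr_center_left ψ hψ hc hperf hz, mul_one]

include hc in
theorem pr_mul_center_right (hperf : commutator Γ = ⊤) {z : Γ} (hz : z ∈ Subgroup.center Γ)
    (x y : Γ) : pr ψ hψ x (y * z) = pr ψ hψ x y := by
  rw [pr_mul_right ψ hψ hc (Subgroup.mem_center_iff.mp hz x),
    pr_center_right ψ hψ hc hperf hz, mul_one]

end

end Cfsg.Agent.Lib.Helper11.StCCPairing
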