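import Mathlib
import Cfsg.Agent.S2117
import Cfsg.Agent.Lib.Helper12.SchurMore
import Cfsg.Agent.Lib.Helper21.StemExt

/-!
Two general lemmas on finite stem extensions `σ : Γ → G`:
* if `r ^ 2 ∤ #G` then `r ∤ #ker σ` (cyclic Sylow subgroups);
* if `#G = 8 m`, `m` odd, and `G` has commuting involutions `a, b, c` generating a group of order `8`
  cyclically permuted by `t` (`t c t⁻¹ = a b`), then `2 ∤ #ker σ`.
-/

set_option autoImplicit false
set_option linter.style.haveILetI false

namespace Cfsg.Agent.Lib.Helper11.SchurJ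

open Cfsg
open scoped commutatorElement
open Cfsg.Agent.S2117 (comm_congr comm_conj comm_mul_left' comm_mul_right' sylow_stem
  not_dvd_of_sylow_trivial ker_eq_bot_of_cyclic)

theorem not_dvd_of_sq_not_dvd {Γ G : Type*} [Group Γ] [Finite Γ] [Group G] [Finite G]
    (σ : Γ →* G) (hσ : IsStemExtension σ) (r : ℕ) [Fact r.Prime]
    (hr : ¬ r ^ 2 ∣ Nat.card G) : ¬ r ∣ Nat.card σ.ker := by
  apply not_dvd_of_sylow_trivial σ r
  intro R a haR haK
  have hQp : IsPGroup r ((R : Subgroup Γ).map σ) := R.isPGroup'.map σ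
  have hcyc : IsCyclic ((R : Subgroup Γ).map σ) := by
    obtain ⟨k, hk⟩ := hQp.exists_card_eq
    have hdvd : Nat.card ((R : Subgroup Γ).map σ) ∣ Nat.card G :=
      Subgroup.card_subgroup_dvd_card _
    rw [hk] at hdvd
    have hk1 : k ≤ 1 := by
      by_contra hcon
      push Not at hcon
      exact hr ((pow_dvd_pow r hcon).trans hdvd)
    interval_cases k
    · rw [pow_zero] at hk
      haveI : Subsingleton ((R : Subgroup Γ).map σ) :=
        (Nat.card_eq_one_iff_unique.mp hk).1
      exact isCyclic_of_subsingleton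
    · rw [pow_one] at hk
      exact isCyclic_of_prime_card (p := r) hk
  obtain ⟨τ, hτ, hker⟩ := sylow_stem σ hσ r R (MulEquiv.refl ((R : Subgroup Γ).map σ))
  haveI := hcyc
  have hbot := ker_eq_bot_of_cyclic τ hτ
  have h1 : (⟨a, haR⟩ : (R : Subgroup Γ)) ∈ τ.ker := (hker ⟨a, haR⟩).mpr haK
  rw [hbot, Subgroup.mem_bot] at h1
  exact congrArg Subtype.val h1

section two
variable {Γ G : Type*} [Group Γ] [Group G]

/-- the commutator of two lifts is central when the images commute -/
theorem comm_lift_central (σ : Γ →* G) (hcen : σ.ker ≤ Subgroup.center Γ) {u v : Γ}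
    (h : σ u * σ v = σ v * σ u) : ⁅u, v⁆ ∈ Subgroup.center Γ := by
  apply hcen
  rw [MonoidHom.mem_ker, map_commutatorElement, commutatorElement_eq_one_iff_commute]
  exact h

/-- the key commutator computation: lifts of `a, b, c` commute -/
theorem lifts_commute (σ : Γ →* G) (hcen : σ.ker ≤ Subgroup.center Γ)
    (a b c t : G) (ha : a * a = 1) (hab : a * b = b * a) (hac : a * c = c * a)
    (hbc : b * c = c * b) (hta : t * a = b * t) (htb : t * b = c * t) (htc : t * c = a * b * t)
    (a' b' c' t' : Γ) (ea : σ a' = a) (eb : σ b' = b) (ec : σ c' = c) (et : σ t' = t) :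
    ⁅a', b'⁆ = 1 ∧ ⁅b', c'⁆ = 1 ∧ ⁅c', a'⁆ = 1 := by
  have cab : ⁅a', b'⁆ ∈ Subgroup.center Γ := comm_lift_central σ hcen (by rw [ea, eb]; exact hab)
  have cbc : ⁅b', c'⁆ ∈ Subgroup.center Γ := comm_lift_central σ hcen (by rw [eb, ec]; exact hbc)
  have cca : ⁅c', a'⁆ ∈ Subgroup.center Γ :=
    comm_lift_central σ hcen (by rw [ea, ec]; exact hac.symm)
  have ccb : ⁅c', b'⁆ ∈ Subgroup.center Γ :=
    comm_lift_central σ hcen (by rw [eb, ec]; exact hbc.symm)
  have cbb : ⁅b', b'⁆ ∈ Subgroup.center Γ := comm_lift_central σ hcen rfl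
  -- images of conjugates
  have sa : σ (t' * a' * t'⁻¹) = σ b' := by
    rw [map_mul, map_mul, map_inv, ea, eb, et, hta, mul_inv_cancel_right]
  have sb : σ (t' * b' * t'⁻¹) = σ c' := by
    rw [map_mul, map_mul, map_inv, eb, ec, et, htb, mul_inv_cancel_right]
  have sc : σ (t' * c' * t'⁻¹) = σ (a' * b') := by
    rw [map_mul, map_mul, map_inv, map_mul, ea, eb, ec, et, htc, mul_inv_cancel_right]
  -- step 1: [b', c'] = [a', b']
  have h1 : ⁅b', c'⁆ = ⁅a', b'⁆ := by
    rw [← comm_congr σ hcen sa sb, comm_conj cab]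
  -- step 2: [c', a' b'] = [b', c']
  have h2 : ⁅c', a' * b'⁆ = ⁅b', c'⁆ := by
    rw [← comm_congr σ hcen sb sc, comm_conj cbc]
  have h2' : ⁅c', a' * b'⁆ = ⁅c', a'⁆ * ⁅c', b'⁆ := comm_mul_right' ccb
  have hinv : ⁅c', b'⁆ = (⁅b', c'⁆)⁻¹ := (commutatorElement_inv b' c').symm
  -- [a', b']^2 = 1
  have hsq : ⁅a', b'⁆ * ⁅a', b'⁆ = 1 := by
    have e1 : ⁅a' * a', b'⁆ = ⁅a', b'⁆ * ⁅a', b'⁆ := comm_mul_left' cab
    have e2 : a' * a' ∈ Subgroup.center Γ :=
      hcen (by rw [MonoidHom.mem_ker, map_mul, ea, ha])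
    have e3 : ⁅a' * a', b'⁆ = 1 := by
      rw [commutatorElement_eq_one_iff_commute]
      exact (Subgroup.mem_center_iff.mp e2 b').symm
    rw [← e1, e3]
  -- hence [c', a'] = 1
  have h3 : ⁅c', a'⁆ = 1 := by
    have e : ⁅c', a'⁆ * (⁅b', c'⁆)⁻¹ = ⁅b', c'⁆ := by rw [← hinv, ← h2', h2]
    have e' : ⁅c', a'⁆ = ⁅b', c'⁆ * ⁅b', c'⁆ := mul_inv_eq_iff_eq_mul.mp e
    rw [e', h1, hsq]
  -- step 3: [a' b', b'] = [c', a'] = 1
  have h4 : ⁅a' * b', b'⁆ = ⁅c', a'⁆ := by
    rw [← comm_congr σ hcen sc sa, comm_conj cca]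
  have h4' : ⁅a' * b', b'⁆ = ⁅a', b'⁆ * ⁅b', b'⁆ := comm_mul_left' cbb
  have hbb : ⁅b', b'⁆ = 1 := commutatorElement_self b'
  have h5 : ⁅a', b'⁆ = 1 := by
    rw [h4', hbb, mul_one] at h4
    rw [h4, h3]
  exact ⟨h5, by rw [h1, h5], h3⟩

end two

theorem two_not_dvd {Γ G : Type*} [Group Γ] [Finite Γ] [Group G] [Finite G]
    (σ : Γ →* G) (hσ : IsStemExtension σ) (m : ℕ) (hm : Odd m) (hG : Nat.card G = 8 * m)
    (a b c t : G) (ha : a * a = 1) (hb : b * b = 1) (hc : c * c = 1)
    (hab : a * b = b * a) (hac : a * c = c * a) (hbc : b * c = c * b)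
    (hta : t * a = b * t) (htb : t * b = c * t) (htc : t * c = a * b * t)
    (n1 : a ≠ 1) (n2 : b ≠ 1) (n3 : c ≠ 1) (n4 : a * b ≠ 1) (n5 : a * c ≠ 1) (n6 : b * c ≠ 1)
    (n7 : a * b * c ≠ 1) : ¬ 2 ∣ Nat.card σ.ker := by
  classical
  obtain ⟨hsurj, hcen, hcomm⟩ := hσ
  haveI : Fact (Nat.Prime 2) := ⟨Nat.prime_two⟩
  -- the subgroup P
  set P : Subgroup G := Subgroup.closure {a, b, c} with hP
  have hgen : ∀ x ∈ ({a, b, c} : Set G), ∀ y ∈ ({a, b, c} : Set G), x * y = y * x := by
    intro x hx y hy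
    simp only [Set.mem_insert_iff, Set.mem_singleton_iff] at hx hy
    rcases hx with rfl | rfl | rfl <;> rcases hy with rfl | rfl | rfl <;>
      first | rfl | assumption | (symm; assumption)
  haveI hPc : IsMulCommutative ↥P := Subgroup.isMulCommutative_closure hgen
  have hPcomm : ∀ x ∈ P, ∀ y ∈ P, x * y = y * x := fun x hx y hy => setLike_mul_comm hx hy
  have hsq : ∀ x ∈ P, x * x = 1 := by
    intro x hx
    induction hx using Subgroup.closure_induction with
    | mem x hx =>
      simp only [Set.mem_insert_iff, Set.mem_singleton_iff] at hx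
      rcases hx with rfl | rfl | rfl <;> assumption
    | one => simp
    | mul x y hx hy ihx ihy =>
      calc x * y * (x * y) = x * (y * x) * y := by group
        _ = x * (x * y) * y := by rw [hPcomm y hy x hx]
        _ = (x * x) * (y * y) := by group
        _ = 1 := by rw [ihx, ihy, one_mul]
    | inv x hx ih =>
      calc x⁻¹ * x⁻¹ = (x * x)⁻¹ := by group
        _ = 1 := by rw [ih, inv_one]
  have hPp : IsPGroup 2 P := by
    intro g
    refine ⟨1, Subtype.ext ?_⟩
    rw [pow_one, pow_two, Subgroup.coe_mul, Subgroup.coe_one]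
    exact hsq g g.2
  obtain ⟨k, hk⟩ := hPp.exists_card_eq
  -- five distinct elements
  have haP : a ∈ P := Subgroup.subset_closure (by simp)
  have hbP : b ∈ P := Subgroup.subset_closure (by simp)
  have hcP : c ∈ P := Subgroup.subset_closure (by simp)
  have h5 : 5 ≤ Nat.card P := by
    have hsub : ((({1, a, b, c, a * b} : Finset G)) : Set G) ⊆ (P : Set G) := by
      intro x hx
      simp only [Finset.coe_insert, Finset.coe_singleton, Set.mem_insert_iff,
        Set.mem_singleton_iff] at hx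
      rcases hx with rfl | rfl | rfl | rfl | rfl
      · exact P.one_mem
      · exact haP
      · exact hbP
      · exact hcP
      · exact P.mul_mem haP hbP
    have hcard : ({1, a, b, c, a * b} : Finset G).card = 5 := by
      have d1 : (1 : G) ∉ ({a, b, c, a * b} : Finset G) := by
        simp only [Finset.mem_insert, Finset.mem_singleton, not_or]
        exact ⟨fun h => n1 h.symm, fun h => n2 h.symm, fun h => n3 h.symm, fun h => n4 h.symm⟩
      have d2 : a ∉ ({b, c, a * b} : Finset G) := by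
        simp only [Finset.mem_insert, Finset.mem_singleton, not_or]
        refine ⟨fun h => n4 (by rw [← h]; exact ha), fun h => n5 (by rw [← h]; exact ha), fun h => n2 ?_⟩
        have : a * 1 = a * b := by rw [mul_one]; exact h
        exact (mul_left_cancel this).symm
      have d3 : b ∉ ({c, a * b} : Finset G) := by
        simp only [Finset.mem_insert, Finset.mem_singleton, not_or]
        refine ⟨fun h => n6 (by rw [← h]; exact hb), fun h => n1 ?_⟩
        have : 1 * b = a * b := by rw [one_mul]; exact h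
        exact (mul_right_cancel this).symm
      have d4 : c ∉ ({a * b} : Finset G) := by
        simp only [Finset.mem_singleton]
        intro h
        exact n7 (by rw [← h]; exact hc)
      rw [Finset.card_insert_of_notMem d1, Finset.card_insert_of_notMem d2,
        Finset.card_insert_of_notMem d3, Finset.card_insert_of_notMem d4, Finset.card_singleton]
    have h1 := Set.ncard_le_ncard hsub (Set.toFinite _)
    rw [Set.ncard_coe_finset, hcard] at h1
    have h2 : Nat.card P = (P : Set G).ncard := by rw [← Nat.card_coe_set_eq]; rfl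
    rw [h2]; exact h1
  have h8 : 8 ∣ Nat.card P := by
    rw [hk] at h5 ⊢
    have hk3 : 3 ≤ k := by
      by_contra hcon
      push Not at hcon
      interval_cases k <;> omega
    exact (pow_dvd_pow 2 hk3)
  have hidx : Odd P.index := by
    obtain ⟨j, hj⟩ := h8
    have h1 := P.card_mul_index
    rw [hG, hj] at h1
    have h2 : j * P.index = m := by
      have : 8 * (j * P.index) = 8 * m := by rw [← h1]; ring
      exact Nat.eq_of_mul_eq_mul_left (by norm_num) this
    rw [← h2] at hm
    exact (Nat.odd_mul.mp hm).2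
  -- lifts
  obtain ⟨a', ea⟩ := hsurj a
  obtain ⟨b', eb⟩ := hsurj b
  obtain ⟨c', ec⟩ := hsurj c
  obtain ⟨t', et⟩ := hsurj t
  obtain ⟨k1, k2, k3⟩ := lifts_commute σ hcen a b c t ha hab hac hbc hta htb htc a' b' c' t'
    ea eb ec et
  have cab : a' * b' = b' * a' := (commutatorElement_eq_one_iff_commute.mp k1).eq
  have cbc : b' * c' = c' * b' := (commutatorElement_eq_one_iff_commute.mp k2).eq
  have cca : c' * a' = a' * c' := (commutatorElement_eq_one_iff_commute.mp k3).eq
  -- the preimage H of P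
  set H : Subgroup Γ := P.comap σ with hH
  have hHeq : H = Subgroup.closure (({a', b', c'} : Set Γ) ∪ (σ.ker : Set Γ)) := by
    have hmap : (Subgroup.closure ({a', b', c'} : Set Γ)).map σ = P := by
      rw [MonoidHom.map_closure, hP]
      congr 1
      simp [Set.image_insert_eq, ea, eb, ec]
    rw [hH, ← hmap, Subgroup.comap_map_eq, Subgroup.closure_union, Subgroup.closure_eq]
  have hHc : ∀ x ∈ H, ∀ y ∈ H, x * y = y * x := by
    have hgen' : ∀ x ∈ (({a', b', c'} : Set Γ) ∪ (σ.ker : Set Γ)),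
        ∀ y ∈ (({a', b', c'} : Set Γ) ∪ (σ.ker : Set Γ)), x * y = y * x := by
      intro x hx y hy
      rcases hx with hx | hx
      · rcases hy with hy | hy
        · simp only [Set.mem_insert_iff, Set.mem_singleton_iff] at hx hy
          rcases hx with rfl | rfl | rfl <;> rcases hy with rfl | rfl | rfl <;>
            first | rfl | assumption | (symm; assumption)
        · exact Subgroup.mem_center_iff.mp (hcen hy) x
      · exact (Subgroup.mem_center_iff.mp (hcen hx) y).symm
    haveI : IsMulCommutative ↥(Subgroup.closure (({a', b', c'} : Set Γ) ∪ (σ.ker : Set Γ))) :=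
      Subgroup.isMulCommutative_closure hgen'
    intro x hx y hy
    rw [hHeq] at hx hy
    exact setLike_mul_comm hx hy
  have hHidx : H.index = P.index := Subgroup.index_comap_of_surjective P hsurj
  -- transfer
  intro hdvd
  obtain ⟨z, hz⟩ := exists_prime_orderOf_dvd_card' 2 hdvd
  have hzo : orderOf (z : Γ) = 2 := by rw [Subgroup.orderOf_coe]; exact hz
  obtain ⟨hmem, hcm⟩ := Cfsg.Agent.Lib.Helper12.Schur.pow_index_mem_commutator H (hcen z.2)
    (hcomm z.2)
  have hbot : commutator ↥H = ⊥ := by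
    rw [commutator_def, Subgroup.commutator_eq_bot_iff_le_centralizer]
    intro u _
    rw [Subgroup.mem_centralizer_iff]
    intro v _
    exact Subtype.ext (hHc v v.2 u u.2)
  rw [hbot, Subgroup.mem_bot] at hcm
  have hpow : (z : Γ) ^ H.index = 1 := congrArg Subtype.val hcm
  have h2 : 2 ∣ H.index := by rw [← hzo]; exact orderOf_dvd_of_pow_eq_one hpow
  rw [hHidx] at h2
  exact (Nat.not_even_iff_odd.mpr hidx) (even_iff_two_dvd.mpr h2)

end Cfsg.Agent.Lib.Helper11.SchurJ
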