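import Mathlib
import Cfsg.Agent.Lib.Helper10.Ord7920L

/-!
# Simple groups of order 7920: the Sylow 11-subgroups

`n₁₁ = 144`, `|N(P₁₁)| = 55`, `C(P₁₁) = P₁₁`.
-/

set_option autoImplicit false
open scoped Pointwise

namespace Cfsg.Agent.Lib.Helper11.M11

open Cfsg.Agent.Lib.Helper10.Ord7920

section

variable {G : Type*} [Group G] [Finite G]

/-- a normal subgroup of a simple group of order 7920 whose order is not 1 or 7920 does not exist -/
theorem normal_card_cases [IsSimpleGroup G] (hord : Nat.card G = 7920) (N : Subgroup G)
    [hN : N.Normal] : Nat.card N = 1 ∨ Nat.card N = 7920 := by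
  rcases hN.eq_bot_or_eq_top with h | h
  · left; rw [h, Subgroup.card_bot]
  · right; rw [h, Subgroup.card_top, hord]

theorem ker11_eq_bot [IsSimpleGroup G] (hord : Nat.card G = 7920) : ker11 G = ⊥ := by
  have : Fact (Nat.Prime 11) := ⟨by norm_num⟩
  rcases (ker11_normal (G := G)).eq_bot_or_eq_top with h | h
  · exact h
  · exfalso
    have R : Sylow 11 G := default
    have hRn : (R : Subgroup G).Normal := by
      rw [← Subgroup.normalizer_eq_top_iff]
      rw [eq_top_iff]
      intro g _
      have hg : g ∈ ker11 G := by rw [h]; trivial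
      exact Sylow.smul_eq_iff_mem_normalizer.mp (mem_ker11_iff.mp hg R)
    have := normal_card_cases hord (R : Subgroup G)
    rw [card_sylow_eleven hord R] at this
    omega

theorem sylow_eleven_not_normal [IsSimpleGroup G] (hord : Nat.card G = 7920) (R : Sylow 11 G) :
    ¬ (R : Subgroup G).Normal := by
  intro hRn
  have := normal_card_cases hord (R : Subgroup G)
  rw [card_sylow_eleven hord R] at this
  omega

/-- the centralizer of a Sylow 11-subgroup has order prime to 3, when it equals the normalizer -/
theorem normalizer_ne_centralizer_eleven (hord : Nat.card G = 7920) (R : Sylow 11 G)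
    (h3 : ¬ 3 ∣ Nat.card (Subgroup.normalizer ((R : Subgroup G) : Set G))) :
    Nat.card (Subgroup.centralizer ((R : Subgroup G) : Set G)) ≠
      Nat.card (Subgroup.normalizer ((R : Subgroup G) : Set G)) := by
  have : Fact (Nat.Prime 11) := ⟨by norm_num⟩
  have : Fact (Nat.Prime 3) := ⟨by norm_num⟩
  intro hcard
  obtain ⟨x, hxR, hxo, hxZ⟩ := exists_generator hord R
  have hCH : Subgroup.centralizer ((R : Subgroup G) : Set G) =
      Subgroup.normalizer ((R : Subgroup G) : Set G) :=
    Subgroup.eq_of_le_of_card_ge (centralizer_le_normalizer' _) (by rw [hcard])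
  have hNC : Subgroup.normalizer ((R : Subgroup G) : Set G) ≤
      Subgroup.centralizer ((R : Subgroup G) : Set G) := by rw [hCH]
  obtain ⟨g, hgo, hgc⟩ := exists_commute_of_normalizer_le_centralizer R x hxo hNC
    (p := 3) (by norm_num) (by rw [hord]; norm_num)
    (fun k hk hkd => arith11 (by norm_num) (by norm_num) hk (by rwa [hord] at hkd))
  have hgC : g ∈ Subgroup.centralizer ((R : Subgroup G) : Set G) :=
    mem_centralizer_of_commute hxZ hgc.symm
  apply h3
  rw [← hcard, ← hgo]
  exact orderOf_dvd_card_of_mem hgC

theorem card_sylow_eleven_eq [IsSimpleGroup G] (hord : Nat.card G = 7920) :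
    Nat.card (Sylow 11 G) = 144 := by
  have : Fact (Nat.Prime 11) := ⟨by norm_num⟩
  have R : Sylow 11 G := default
  obtain ⟨x, hxR, hxo, hxZ⟩ := exists_generator hord R
  have hRcard := card_sylow_eleven hord R
  have hKbot := ker11_eq_bot (G := G) hord
  have hmulN := card_normalizer_mul_card_sylow hord R
  have hrel := relIndex_dvd_pred_of_card_prime (R : Subgroup G) (p := 11) (by norm_num) hRcard
  have hmul := card_mul_relIndex' (centralizer_le_normalizer' (R : Subgroup G))
  rcases card_sylow_eleven_cases hord with h | h | h | h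
  · exfalso
    apply sylow_eleven_not_normal hord R
    have : Subsingleton (Sylow 11 G) := (Nat.card_eq_one_iff_unique.mp h).1
    exact Sylow.normal_of_subsingleton R
  · exfalso
    have hH : Nat.card (Subgroup.normalizer ((R : Subgroup G) : Set G)) = 660 := by
      rw [h] at hmulN; omega
    have hle := card_centralizer_le_12 hord h R hxZ
    rw [hKbot, Subgroup.card_bot] at hle
    rw [hH] at hmul
    have hj : (Subgroup.centralizer ((R : Subgroup G) : Set G)).relIndex
        (Subgroup.normalizer ((R : Subgroup G) : Set G)) ≤ 10 := Nat.le_of_dvd (by norm_num) hrel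
    nlinarith
  · exfalso
    have hH : Nat.card (Subgroup.normalizer ((R : Subgroup G) : Set G)) = 176 := by
      rw [h] at hmulN; omega
    have hne := normalizer_ne_centralizer_eleven hord R (by rw [hH]; norm_num)
    rw [hH] at hmul hne
    set C := Subgroup.centralizer ((R : Subgroup G) : Set G) with hCdef
    set j := C.relIndex (Subgroup.normalizer ((R : Subgroup G) : Set G)) with hj
    have hj12 : j = 1 ∨ j = 2 := by
      have h1 : j ∣ 176 := Dvd.intro_left _ hmul
      have h2 : j ∣ Nat.gcd 10 176 := Nat.dvd_gcd hrel h1
      have h3 : Nat.gcd 10 176 = 2 := by norm_num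
      rw [h3] at h2
      rcases (Nat.dvd_prime Nat.prime_two).mp h2 with h | h
      · exact Or.inl h
      · exact Or.inr h
    have hC88 : Nat.card C = 88 := by
      rcases hj12 with h | h
      · rw [h, mul_one] at hmul; exact absurd hmul hne
      · rw [h] at hmul; omega
    obtain ⟨T, t, hto, htT, hiso⟩ := exists_isolated_involution hord h hKbot R hC88
    obtain ⟨N, hN, hodd, hcomm⟩ := Cfsg.Agent.S0215.result T t hto htT hiso
    have hNbot : N = ⊥ := by
      rcases hN.eq_bot_or_eq_top with h' | h'
      · exact h'
      · exfalso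
        rw [h', Subgroup.card_top, hord] at hodd
        exact absurd hodd (by decide)
    have htcen : ∀ g : G, Commute t g := by
      intro g
      have h1 := hcomm g
      rw [hNbot, Subgroup.mem_bot] at h1
      have h2 : t * g = (t * g * t⁻¹ * g⁻¹) * (g * t) := by group
      rw [h1, one_mul] at h2
      exact h2
    have hZn : (Subgroup.zpowers t).Normal := by
      constructor
      intro n hn g
      obtain ⟨k, rfl⟩ := Subgroup.mem_zpowers_iff.mp hn
      have : g * t ^ k * g⁻¹ = t ^ k := by
        have hc : Commute (t ^ k) g := (htcen g).zpow_left k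
        rw [← hc.eq, mul_inv_cancel_right]
      rw [this]
      exact Subgroup.zpow_mem_zpowers t k
    have := normal_card_cases hord (Subgroup.zpowers t)
    rw [Nat.card_zpowers, hto] at this
    omega
  · exact h

theorem card_normalizer_eleven [IsSimpleGroup G] (hord : Nat.card G = 7920) (R : Sylow 11 G) :
    Nat.card (Subgroup.normalizer ((R : Subgroup G) : Set G)) = 55 := by
  have hmulN := card_normalizer_mul_card_sylow hord R
  rw [card_sylow_eleven_eq hord] at hmulN
  omega

theorem card_centralizer_eleven [IsSimpleGroup G] (hord : Nat.card G = 7920) (R : Sylow 11 G) :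
    Nat.card (Subgroup.centralizer ((R : Subgroup G) : Set G)) = 11 := by
  have : Fact (Nat.Prime 11) := ⟨by norm_num⟩
  have hRcard := card_sylow_eleven hord R
  have hH := card_normalizer_eleven hord R
  have hrel := relIndex_dvd_pred_of_card_prime (R : Subgroup G) (p := 11) (by norm_num) hRcard
  have hmul := card_mul_relIndex' (centralizer_le_normalizer' (R : Subgroup G))
  have hne := normalizer_ne_centralizer_eleven hord R (by rw [hH]; norm_num)
  rw [hH] at hmul hne
  set C := Subgroup.centralizer ((R : Subgroup G) : Set G) with hCdef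
  set j := C.relIndex (Subgroup.normalizer ((R : Subgroup G) : Set G)) with hj
  have h1 : j ∣ 55 := Dvd.intro_left _ hmul
  have h2 : j ∣ Nat.gcd 10 55 := Nat.dvd_gcd hrel h1
  have h3 : Nat.gcd 10 55 = 5 := by norm_num
  rw [h3] at h2
  rcases (Nat.dvd_prime (by norm_num : Nat.Prime 5)).mp h2 with h | h
  · rw [h, mul_one] at hmul; exact absurd hmul hne
  · rw [h] at hmul; omega

theorem centralizer_eleven [IsSimpleGroup G] (hord : Nat.card G = 7920) (R : Sylow 11 G) :
    Subgroup.centralizer ((R : Subgroup G) : Set G) = (R : Subgroup G) := by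
  obtain ⟨x, hxR, hxo, hxZ⟩ := exists_generator hord R
  symm
  apply Subgroup.eq_of_le_of_card_ge (le_centralizer_of_zpowers hxZ)
  rw [card_centralizer_eleven hord R, card_sylow_eleven hord R]

/-- no element of order 11 commutes with a nonidentity element of order prime to 11 -/
theorem orderOf_eq_of_commute_eleven [IsSimpleGroup G] (hord : Nat.card G = 7920) {x c : G}
    (hx : orderOf x = 11) (hc : Commute c x) : c ∈ Subgroup.zpowers x := by
  have : Fact (Nat.Prime 11) := ⟨by norm_num⟩
  have hZp : IsPGroup 11 (Subgroup.zpowers x) := by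
    apply IsPGroup.of_card (n := 1)
    rw [Nat.card_zpowers, hx, pow_one]
  obtain ⟨R, hR⟩ := hZp.exists_le_sylow
  have hZR : Subgroup.zpowers x = (R : Subgroup G) :=
    Subgroup.eq_of_le_of_card_ge hR (by rw [Nat.card_zpowers, hx, card_sylow_eleven hord R])
  have := mem_centralizer_of_commute hZR hc
  rw [centralizer_eleven hord R] at this
  rw [hZR]; exact this

end

end Cfsg.Agent.Lib.Helper11.M11
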