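import Mathlib
import Cfsg.Prelude.Def_Characters
import Cfsg.Agent.Lib.Helper11.CoverSum
import Cfsg.Agent.Lib.Helper11.SignedIrr

/-!
Definitions for the Brauer–Suzuki–Wall theorem in abstract form (S3282).
`H = C(t) = K⟨s⟩`, `K` abelian, inverted by the involution `s`, `K ∩ K^g = 1` off `H`,
one class of involutions.
-/

set_option autoImplicit false

namespace Cfsg.Agent.Lib.Helper11.S3282

open scoped ComplexConjugate

universe u

variable {G : Type u} [Group G]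

/-- The hypotheses of the abstract Brauer–Suzuki–Wall theorem. -/
structure Hyp (t s : G) (K : Subgroup G) : Prop where
  ht : orderOf t = 2
  comm : ∀ x ∈ K, ∀ y ∈ K, x * y = y * x
  hKH : K ≤ Subgroup.centralizer ({t} : Set G)
  htK : t ∈ K
  hs : orderOf s = 2
  hsH : s ∈ Subgroup.centralizer ({t} : Set G)
  hsK : s ∉ K
  hH : K ⊔ Subgroup.zpowers s = Subgroup.centralizer ({t} : Set G)
  hCK : K ⊓ Subgroup.centralizer ({s} : Set G) = Subgroup.zpowers t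
  hinv : ∀ x ∈ K, s * x * s⁻¹ = x⁻¹
  hTI : ∀ g : G, g ∉ Subgroup.centralizer ({t} : Set G) →
    K ⊓ K.map (MulAut.conj g).toMonoidHom = ⊥
  hconj : ∀ x y : G, orderOf x = 2 → orderOf y = 2 → IsConj x y

/-- The number of ways of writing `x` as a product of two involutions. -/
noncomputable def beta (x : G) : ℕ :=
  Nat.card {p : G × G // orderOf p.1 = 2 ∧ orderOf p.2 = 2 ∧ p.1 * p.2 = x}

/-- `x` is inverted by an involution. -/
def SReal (x : G) : Prop := ∃ u : G, orderOf u = 2 ∧ u * x * u⁻¹ = x⁻¹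

/-- Strongly real elements outside the conjugates of `K` ("odd type"). -/
def RO (K : Subgroup G) : Set G := {x | x ≠ 1 ∧ x ∉ conjSet K ∧ SReal x}

/-- Elements outside the conjugates of `K` that are not inverted by an involution. -/
def NR (K : Subgroup G) : Set G := {x | x ≠ 1 ∧ x ∉ conjSet K ∧ ¬ SReal x}

/-- Complex conjugate of a function. -/
def cj {A : Type*} (f : A → ℂ) : A → ℂ := fun a => conj (f a)

/-- `Δ_μ = Ind_K^G (1_K - μ)`. -/
noncomputable def Del [Fintype G] (K : Subgroup G) (μ : K → ℂ) : G → ℂ :=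
  Cfsg.indFun K (fun y => 1 - μ y)

/-- The linear functional `θ ↦ ∑_χ ⟨θ, χ⟩ F(χ)` on class functions. -/
noncomputable def evalF [Fintype G] [Fintype (Cfsg.IrrCharacter G)] (F : (G → ℂ) → ℂ)
    (θ : G → ℂ) : ℂ :=
  ∑ χ : Cfsg.IrrCharacter G, Cfsg.classInner θ (χ : G → ℂ) * F (χ : G → ℂ)

/-- The generic decomposition `Δ_μ = 1 + X - Λ_μ`, `Δ_σ = 1 + X - Y - Z` (signed irreducibles). -/
structure Gen [Fintype G] (K : Subgroup G) [Fintype K] (σ : K → ℂ) (X Y Z : G → ℂ)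
    (Lam : (K → ℂ) → G → ℂ) : Prop where
  hσ : Cfsg.IsIrrCharacter K σ
  hσ1 : σ ≠ fun _ => 1
  hσr : cj σ = σ
  hσu : ∀ μ : K → ℂ, Cfsg.IsIrrCharacter K μ → cj μ = μ → μ = (fun _ => 1) ∨ μ = σ
  hX : IsSignedIrr X
  hY : IsSignedIrr Y
  hZ : IsSignedIrr Z
  hL : ∀ μ : K → ℂ, Cfsg.IsIrrCharacter K μ → cj μ ≠ μ → IsSignedIrr (Lam μ)
  hDel : ∀ μ : K → ℂ, Cfsg.IsIrrCharacter K μ → cj μ ≠ μ →
    Del K μ = (fun _ => 1) + X - Lam μ
  hDelσ : Del K σ = (fun _ => 1) + X - Y - Z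
  hXK : ∀ y : K, y ≠ 1 → X y = 1
  hYK : ∀ y : K, y ≠ 1 → Y y = σ y
  hZK : ∀ y : K, y ≠ 1 → Z y = σ y
  hLK : ∀ μ : K → ℂ, Cfsg.IsIrrCharacter K μ → cj μ ≠ μ → ∀ y : K, y ≠ 1 →
    Lam μ y = μ y + conj (μ y)

/-- The conclusion of S3282. -/
def Concl (G : Type u) [Group G] : Prop :=
  ∃ Q D : Subgroup G, 2 * Nat.card G = Nat.card ↥Q * (Nat.card ↥Q + 1) * (Nat.card ↥Q - 1) ∧
    (∀ x ∈ Q, x ≠ 1 → Subgroup.centralizer ({x} : Set G) = Q) ∧
    IsMulCommutative ↥D ∧ 2 * Nat.card ↥D + 1 = Nat.card ↥Q ∧ Q ⊓ D = ⊥ ∧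
    Subgroup.normalizer (Q : Set G) = Q ⊔ D ∧
    ∀ X : Subgroup G, X ≤ D → X ≠ ⊥ →
      Subgroup.normalizer (X : Set G) = Subgroup.normalizer (D : Set G) ∧
      ∃ u : G, orderOf u = 2 ∧ u ∉ D ∧ (∀ d ∈ D, u * d * u⁻¹ = d⁻¹) ∧
        Subgroup.normalizer (D : Set G) = D ⊔ Subgroup.zpowers u

end Cfsg.Agent.Lib.Helper11.S3282
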