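import Mathlib
import Cfsg.Agent.Lib.Helper1.SZ

/-!
Coprime cosets: if `g` normalises `H` and has order coprime to `|H|`, every element of the coset
`H g` is `H`-conjugate to an element of `C_H(g) g`.
-/

set_option autoImplicit false

namespace Cfsg.Agent.Lib.Helper11

open Pointwise

universe u

/-- Abstract version: `N` normal in `K`, `K = N ⟨g⟩`, `|g|` coprime to `|N|`. -/
theorem coset_conj_abstract {K : Type u} [Group K] [Finite K] (N : Subgroup K) [hN : N.Normal]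
    (g : K) (hcop : Nat.Coprime (orderOf g) (Nat.card N))
    (htop : ∀ k : K, ∃ ν ∈ N, ∃ i : ℤ, k = ν * g ^ i) (h : K) (hh : h ∈ N) :
    ∃ x ∈ N, ∃ c ∈ N, c * g = g * c ∧ x * (h * g) * x⁻¹ = c * g := by
  classical
  set n := orderOf g with hn
  set m := Nat.card N with hm
  set π := QuotientGroup.mk' N with hπ
  have hπN : ∀ z : K, π z = 1 ↔ z ∈ N := fun z => QuotientGroup.eq_one_iff z
  have hdisj : N ⊓ Subgroup.zpowers g = ⊥ := by
    apply disjoint_iff.1
    apply Subgroup.disjoint_of_coprime_natCard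
    rw [Nat.card_zpowers]
    exact hcop.symm
  -- the quotient is commutative
  have hquot : ∀ q : K ⧸ N, ∃ i : ℤ, q = (π g) ^ i := by
    intro q
    obtain ⟨k, rfl⟩ := QuotientGroup.mk'_surjective N q
    obtain ⟨ν, hν, i, rfl⟩ := htop k
    refine ⟨i, ?_⟩
    rw [map_mul, map_zpow, (hπN ν).2 hν, one_mul]
  have hsolv : Group.IsSolvable (K ⧸ N) := by
    have hcomm : ∀ a b : K ⧸ N, a * b = b * a := by
      intro a b
      obtain ⟨i, rfl⟩ := hquot a
      obtain ⟨j, rfl⟩ := hquot b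
      rw [← zpow_add, ← zpow_add, add_comm]
    exact Group.isSolvable_of_comm (fun a b => hcomm a b)
  set y := h * g with hy
  have hπy : π y = π g := by
    rw [hy, map_mul, (hπN h).2 hh, one_mul]
  -- the exponent e
  obtain ⟨e, he1, he0⟩ := Nat.chineseRemainder hcop 1 0
  have hme : m ∣ e := (Nat.modEq_zero_iff_dvd).1 he0
  have hge : g ^ e = g := by
    have : g ^ e = g ^ 1 := pow_eq_pow_iff_modEq.2 he1
    simpa using this
  set a := y ^ e with ha
  have hπa : π a = π g := by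
    rw [ha, map_pow, hπy, ← map_pow, hge]
  -- y ^ n ∈ N
  have hyn : y ^ n ∈ N := by
    rw [← hπN, map_pow, hπy, ← map_pow, hn, pow_orderOf_eq_one, map_one]
  have hynm : (y ^ n) ^ m = 1 := by
    exact orderOf_dvd_iff_pow_eq_one.1 (Subgroup.orderOf_dvd_natCard N hyn)
  have han : a ^ n = 1 := by
    obtain ⟨e', he'⟩ := hme
    rw [ha, ← pow_mul, mul_comm, pow_mul, he', pow_mul, hynm, one_pow]
  have hordA : orderOf a ∣ n := orderOf_dvd_of_pow_eq_one han
  have hdisjA : Disjoint N (Subgroup.zpowers a) := by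
    apply Subgroup.disjoint_of_coprime_natCard
    rw [Nat.card_zpowers]
    exact (Nat.Coprime.coprime_dvd_left hordA hcop).symm
  -- complements
  have hC1 : Subgroup.IsComplement' N (Subgroup.zpowers g) := by
    apply Subgroup.isComplement'_of_disjoint_and_mul_eq_univ (disjoint_iff.2 hdisj)
    rw [Set.eq_univ_iff_forall]
    intro k
    obtain ⟨ν, hν, i, rfl⟩ := htop k
    exact ⟨ν, hν, g ^ i, ⟨i, rfl⟩, rfl⟩
  have hC2 : Subgroup.IsComplement' N (Subgroup.zpowers a) := by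
    apply Subgroup.isComplement'_of_disjoint_and_mul_eq_univ hdisjA
    rw [Set.eq_univ_iff_forall]
    intro k
    obtain ⟨ν, hν, i, rfl⟩ := htop k
    refine ⟨ν * (g ^ i * (a ^ i)⁻¹), ?_, a ^ i, ⟨i, rfl⟩, ?_⟩
    · apply N.mul_mem hν
      rw [← hπN, map_mul, map_inv, map_zpow, map_zpow, hπa, mul_inv_cancel]
    · simp only [mul_assoc, inv_mul_cancel, mul_one]
  have hcopN : (Nat.card N).Coprime N.index := by
    have h1 := hC1.card_mul_card
    have h2 := Subgroup.card_mul_index N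
    have hNpos : 0 < Nat.card N := Nat.card_pos
    have : N.index = Nat.card (Subgroup.zpowers g) := by
      apply Nat.eq_of_mul_eq_mul_left hNpos
      rw [h2, h1]
    rw [this, Nat.card_zpowers]
    exact hcop.symm
  obtain ⟨k, hk⟩ := Cfsg.Agent.Lib.Helper1.sz_conj N hcopN (Or.inr hsolv)
    (Subgroup.zpowers g) (Subgroup.zpowers a) hC1 hC2
  -- k g k⁻¹ ∈ zpowers a
  have hkg : k * g * k⁻¹ ∈ Subgroup.zpowers a := by
    rw [← hk]
    rw [Subgroup.mem_pointwise_smul_iff_inv_smul_mem]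
    simp only [MulAut.smul_def, MulAut.inv_apply, MulAut.conj_symm_apply]
    have : k⁻¹ * (k * g * k⁻¹) * k = g := by group
    rw [this]
    exact Subgroup.mem_zpowers g
  obtain ⟨ν, hν, i, hki⟩ := htop k
  obtain ⟨j, hj⟩ := Subgroup.mem_zpowers_iff.1 hkg
  have hνg : ν * g * ν⁻¹ = a ^ j := by
    rw [hj, hki]
    have : g ^ i * g * (g ^ i)⁻¹ = g := by
      rw [← zpow_add_one, ← zpow_neg, ← zpow_add]
      simp
    calc ν * g * ν⁻¹ = ν * (g ^ i * g * (g ^ i)⁻¹) * ν⁻¹ := by rw [this]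
      _ = ν * g ^ i * g * (ν * g ^ i)⁻¹ := by group
  -- a ^ (j - 1) = 1
  have hπ1 : π (a ^ (j - 1)) = 1 := by
    have h1 : π (ν * g * ν⁻¹) = π g := by
      rw [map_mul, map_mul, map_inv, (hπN ν).2 hν]
      simp
    rw [hνg, map_zpow, hπa] at h1
    rw [map_zpow, hπa, zpow_sub_one, h1, mul_inv_cancel]
  have haj : a ^ (j - 1) = 1 := by
    have : a ^ (j - 1) ∈ N ⊓ Subgroup.zpowers a := ⟨(hπN _).1 hπ1, ⟨j - 1, rfl⟩⟩
    rw [disjoint_iff.1 hdisjA, Subgroup.mem_bot] at this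
    exact this
  have haj' : a ^ j = a := by
    have : a ^ j = a ^ (j - 1) * a := by rw [← zpow_add_one]; simp
    rw [this, haj, one_mul]
  rw [haj'] at hνg
  -- now x = ν⁻¹
  have hxa : ν⁻¹ * a * (ν⁻¹)⁻¹ = g := by
    rw [← hνg]; group
  have hay : a * y = y * a := by
    rw [ha, ← pow_succ, ← pow_succ']
  set z := ν⁻¹ * y * (ν⁻¹)⁻¹ with hz
  have h1 : z * g = g * z := by
    conv_lhs => rw [← hxa]
    conv_rhs => rw [← hxa]
    have e1 : z * (ν⁻¹ * a * (ν⁻¹)⁻¹) = ν⁻¹ * (y * a) * (ν⁻¹)⁻¹ := by rw [hz]; group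
    have e2 : (ν⁻¹ * a * (ν⁻¹)⁻¹) * z = ν⁻¹ * (a * y) * (ν⁻¹)⁻¹ := by rw [hz]; group
    rw [e1, e2, hay]
  have hzN : π z = π g := by
    rw [hz]
    simp only [map_mul, map_inv, inv_inv, (hπN ν).2 hν, hπy]
    simp
  refine ⟨ν⁻¹, N.inv_mem hν, g⁻¹ * z, ?_, ?_, ?_⟩
  · rw [← hπN, map_mul, map_inv, hzN, inv_mul_cancel]
  · rw [mul_assoc, h1]
    group
  · have e3 : g⁻¹ * z * g = z := by
      rw [mul_assoc, h1]; group
    rw [e3]


/-- If `g` normalises the subgroup `H` of the finite group `G` and has order coprime to `|H|`, then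
every element of the coset `H g` is conjugate under `H` to an element `c g` with `c ∈ C_H(g)`. -/
theorem coset_conj {G : Type u} [Group G] [Finite G] (H : Subgroup G) (g : G)
    (hg : g ∈ Subgroup.normalizer (H : Set G)) (hcop : Nat.Coprime (orderOf g) (Nat.card H))
    (h : G) (hh : h ∈ H) : ∃ x ∈ H, ∃ c ∈ H, c * g = g * c ∧ x * (h * g) * x⁻¹ = c * g := by
  have hzle : Subgroup.zpowers g ≤ Subgroup.normalizer (H : Set G) := by
    rw [Subgroup.zpowers_le]; exact hg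
  have hHK : H ≤ H ⊔ Subgroup.zpowers g := le_sup_left
  have hnormal : (H.subgroupOf (H ⊔ Subgroup.zpowers g)).Normal := by
    rw [Subgroup.normal_subgroupOf_iff_le_normalizer hHK]
    exact sup_le Subgroup.le_normalizer hzle
  have hgK : g ∈ H ⊔ Subgroup.zpowers g := Subgroup.mem_sup_right (Subgroup.mem_zpowers g)
  have hhK : h ∈ H ⊔ Subgroup.zpowers g := Subgroup.mem_sup_left hh
  have hcard : Nat.card (H.subgroupOf (H ⊔ Subgroup.zpowers g)) = Nat.card H :=
    Nat.card_congr (Subgroup.subgroupOfEquivOfLe hHK).toEquiv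
  have hcop' : Nat.Coprime (orderOf (⟨g, hgK⟩ : ↥(H ⊔ Subgroup.zpowers g)))
      (Nat.card (H.subgroupOf (H ⊔ Subgroup.zpowers g))) := by
    rw [hcard, Subgroup.orderOf_mk]; exact hcop
  have htop : ∀ k : ↥(H ⊔ Subgroup.zpowers g), ∃ ν ∈ H.subgroupOf (H ⊔ Subgroup.zpowers g),
      ∃ i : ℤ, k = ν * (⟨g, hgK⟩ : ↥(H ⊔ Subgroup.zpowers g)) ^ i := by
    intro k
    have hk : (k : G) ∈ ((H ⊔ Subgroup.zpowers g : Subgroup G) : Set G) := k.2
    rw [Subgroup.coe_mul_of_right_le_normalizer_left H (Subgroup.zpowers g) hzle] at hk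
    obtain ⟨ν, hν, w, hw, hνw⟩ := hk
    obtain ⟨i, rfl⟩ := Subgroup.mem_zpowers_iff.1 hw
    refine ⟨⟨ν, Subgroup.mem_sup_left hν⟩, ?_, i, ?_⟩
    · rw [Subgroup.mem_subgroupOf]; exact hν
    · apply Subtype.ext
      simp only [Subgroup.coe_mul, Subgroup.coe_zpow]
      exact hνw.symm
  obtain ⟨x, hx, c, hc, h1, h2⟩ := @coset_conj_abstract _ _ _ (H.subgroupOf (H ⊔ Subgroup.zpowers g))
    hnormal ⟨g, hgK⟩ hcop' htop ⟨h, hhK⟩ (by rw [Subgroup.mem_subgroupOf]; exact hh)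
  refine ⟨x.1, Subgroup.mem_subgroupOf.1 hx, c.1, Subgroup.mem_subgroupOf.1 hc, ?_, ?_⟩
  · have := congrArg Subtype.val h1
    simpa using this
  · have := congrArg Subtype.val h2
    simpa using this

end Cfsg.Agent.Lib.Helper11
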