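import Cfsg.Agent.Lib.Helper11.Clifford
import Cfsg.Agent.Lib.Helper11.CoprimeCoset

/-!
Fixed irreducible characters versus fixed classes of a normal subgroup under conjugation by an
element of the ambient group (Brauer's permutation lemma), and the Hall-subgroup case
(Glauberman-type argument).
-/

set_option autoImplicit false

namespace Cfsg.Agent.Lib.Helper11

open Cfsg.Agent.Lib.Helper2
open scoped ComplexConjugate

section BrauerFix

variable {G : Type*} [Group G] [Finite G] (H : Subgroup G) [hN : H.Normal]

theorem isIrrCharacter_const_one {K : Type*} [Group K] : Cfsg.IsIrrCharacter K (fun _ => (1 : ℂ)) := by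
  have := isIrrCharacter_of_monoidHom (1 : K →* ℂˣ)
  simpa using this

/-- Some nonprincipal irreducible character of `H` is fixed by `x` iff some nontrivial class of
`H` is fixed by `x`. -/
theorem exists_fixed_nonprincipal_iff (x : G) :
    (∃ θ : H → ℂ, Cfsg.IsIrrCharacter H θ ∧ θ ≠ (fun _ => 1) ∧ conjFn H x θ = θ) ↔
      ∃ k : H, k ≠ 1 ∧ IsConj ((MulAut.conjNormal x : H ≃* H) k) k := by
  classical
  have : Fintype H := Fintype.ofFinite H
  set α : H ≃* H := MulAut.conjNormal x with hα
  have hbr := brauer_permutation α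
  have htriv : Cfsg.IsIrrCharacter H (fun _ => (1 : ℂ)) := isIrrCharacter_const_one
  have e1 : ((⟨fun _ => 1, htriv⟩ : Cfsg.IrrCharacter H) : H → ℂ) ∘ α = fun _ => 1 := rfl
  constructor
  · rintro ⟨θ, hθ, hne, hfix⟩
    by_contra hno
    have key : ∀ C : ConjClasses H, ConjClasses.map α.toMonoidHom C = C → C = 1 := by
      intro C hCfix
      obtain ⟨k, rfl⟩ := ConjClasses.mk_surjective C
      have h1 : ConjClasses.mk (α k) = ConjClasses.mk k := hCfix
      rw [ConjClasses.mk_eq_mk_iff_isConj] at h1
      by_contra hk1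
      apply hno
      refine ⟨k, ?_, h1⟩
      intro h
      apply hk1
      rw [h]; rfl
    have hsub : Subsingleton {C : ConjClasses H // ConjClasses.map α.toMonoidHom C = C} := by
      constructor
      intro a b
      apply Subtype.ext
      rw [key a.1 a.2, key b.1 b.2]
    have hcard : Nat.card {C : ConjClasses H // ConjClasses.map α.toMonoidHom C = C} ≤ 1 :=
      Finite.card_le_one_iff_subsingleton.2 hsub
    rw [hbr] at hcard
    have hsub2 := Finite.card_le_one_iff_subsingleton.1 hcard
    have e2 : ((⟨θ, hθ⟩ : Cfsg.IrrCharacter H) : H → ℂ) ∘ α = θ := by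
      rw [← conjFn_eq_comp]; exact hfix
    have := hsub2.elim ⟨⟨fun _ => 1, htriv⟩, e1⟩ ⟨⟨θ, hθ⟩, e2⟩
    apply hne
    have h3 := congrArg (fun z => (z.1 : H → ℂ)) this
    exact h3.symm
  · rintro ⟨k, hk1, hconj⟩
    have hnt : Nontrivial {C : ConjClasses H // ConjClasses.map α.toMonoidHom C = C} := by
      refine ⟨⟨⟨ConjClasses.mk 1, ?_⟩, ⟨ConjClasses.mk k, ?_⟩, ?_⟩⟩
      · change ConjClasses.mk (α 1) = ConjClasses.mk 1
        rw [map_one]
      · change ConjClasses.mk (α k) = ConjClasses.mk k
        rw [ConjClasses.mk_eq_mk_iff_isConj]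
        exact hconj
      · intro h
        have h2 := congrArg Subtype.val h
        simp only at h2
        rw [ConjClasses.mk_eq_mk_iff_isConj, isConj_iff] at h2
        obtain ⟨c, hc⟩ := h2
        apply hk1
        rw [← hc]
        simp
    have h1 : 1 < Nat.card {C : ConjClasses H // ConjClasses.map α.toMonoidHom C = C} :=
      Finite.one_lt_card_iff_nontrivial.2 hnt
    rw [hbr] at h1
    have hnt2 := Finite.one_lt_card_iff_nontrivial.1 h1
    obtain ⟨a, b, hab⟩ := hnt2
    by_cases ha : (a.1 : H → ℂ) = fun _ => 1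
    · refine ⟨b.1, b.1.2, ?_, ?_⟩
      · intro hb
        apply hab
        apply Subtype.ext
        apply Subtype.ext
        rw [ha, hb]
      · rw [conjFn_eq_comp]; exact b.2
    · refine ⟨a.1, a.1.2, ha, ?_⟩
      rw [conjFn_eq_comp]; exact a.2

/-- For a normal Hall subgroup `H`: some nontrivial class of `H` is fixed by `x` iff `x`
centralises some nonidentity element of `H`. -/
theorem exists_fixed_class_iff_of_hall (hHall : Nat.Coprime (Nat.card H) H.index) (x : G) :
    (∃ k : H, k ≠ 1 ∧ IsConj ((MulAut.conjNormal x : H ≃* H) k) k) ↔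
      ∃ h ∈ H, h ≠ 1 ∧ x * h = h * x := by
  constructor
  · rintro ⟨k, hk1, hconj⟩
    rw [isConj_iff] at hconj
    obtain ⟨u, hu⟩ := hconj
    have hkG : (k : G) ≠ 1 := fun h => hk1 (Subtype.ext h)
    -- `u * x` centralises `k`
    have hcent : ((u : G) * x) * k = k * ((u : G) * x) := by
      have h1 := congrArg Subtype.val hu
      simp only [Subgroup.coe_mul, MulAut.conjNormal_apply, InvMemClass.coe_inv] at h1
      calc ((u : G) * x) * k = ((u : G) * (x * k * x⁻¹) * (u : G)⁻¹) * ((u : G) * x) := by group
        _ = k * ((u : G) * x) := by rw [h1]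
    by_cases hx : x ^ H.index = 1
    · -- order of `x` coprime to `|H|`
      have hdvd : orderOf x ∣ H.index := orderOf_dvd_of_pow_eq_one hx
      have hcop : Nat.Coprime (orderOf x) (Nat.card H) :=
        (Nat.Coprime.coprime_dvd_right hdvd hHall).symm
      have hxn : x ∈ Subgroup.normalizer (H : Set G) := by
        rw [Subgroup.normalizer_eq_top]; exact Subgroup.mem_top x
      obtain ⟨v, hv, c, hc, hcx, hconj⟩ := coset_conj H x hxn hcop (u : G) u.2
      refine ⟨v * k * v⁻¹, H.mul_mem (H.mul_mem hv k.2) (H.inv_mem hv), ?_, ?_⟩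
      · intro h
        apply hkG
        have : (k : G) = v⁻¹ * (v * k * v⁻¹) * v := by group
        rw [this, h]; group
      · -- `c * x` centralises `v k v⁻¹`
        have h2 : (c * x) * (v * k * v⁻¹) = (v * k * v⁻¹) * (c * x) := by
          rw [← hconj]
          calc v * ((u : G) * x) * v⁻¹ * (v * k * v⁻¹) = v * (((u : G) * x) * k) * v⁻¹ := by group
            _ = v * (k * ((u : G) * x)) * v⁻¹ := by rw [hcent]
            _ = v * k * v⁻¹ * (v * ((u : G) * x) * v⁻¹) := by group
        have hcomm : Commute (c * x) (v * k * v⁻¹) := h2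
        have hcn : c ^ Nat.card H = 1 := by
          have := pow_card_eq_one' (G := H) (x := ⟨c, hc⟩)
          exact congrArg Subtype.val this
        have hpow : (c * x) ^ Nat.card H = x ^ Nat.card H := by
          rw [(show Commute c x from hcx).mul_pow, hcn, one_mul]
        obtain ⟨s, hs⟩ := exists_pow_eq_self_of_coprime hcop.symm
        have h3 : Commute ((x ^ Nat.card H) ^ s) (v * k * v⁻¹) := by
          rw [← hpow]
          exact (hcomm.pow_left _).pow_left _
        rw [hs] at h3
        exact h3
    · exact ⟨x ^ H.index, Subgroup.pow_index_mem H x, hx, (pow_mul_comm' x _).symm⟩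
  · rintro ⟨h, hh, h1, hcomm⟩
    refine ⟨⟨h, hh⟩, fun h' => h1 (congrArg Subtype.val h'), ?_⟩
    have : (MulAut.conjNormal x : H ≃* H) ⟨h, hh⟩ = ⟨h, hh⟩ := by
      apply Subtype.ext
      rw [MulAut.conjNormal_apply]
      simp only
      rw [hcomm]; group
    rw [this]

end BrauerFix

end Cfsg.Agent.Lib.Helper11
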