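import Mathlib
import Cfsg.Prelude.Def_GeometricClasses
import Cfsg.Agent.Lib.Helper7.AschDefs
import Cfsg.Agent.Lib.Helper11.AschCliffDefs

set_option autoImplicit false

namespace Cfsg.Agent.Lib.Helper11.CliffAct

open Matrix Cfsg Cfsg.Geo Cfsg.Agent.Lib.Helper7.Asch Cfsg.Agent.Lib.Helper11.Cliff
open scoped MatrixGroups Kronecker

variable {n : ℕ} {F : Type*} [Field F]

/-- `envEnd X`-submodules of `V`, elaborated in the RING world (`Ring.toSemiring`, `AddCommGroup.toAddCommMonoid`).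
USE THIS instead of `Submodule (envEnd X) (Fin n → F)` in binders: with the latter Lean picks the semiring-world
instances and then `AddCommGroup ↥W`, `IsSimpleModule (envEnd X) W`, ... are NOT found by instance synthesis. -/
abbrev SubM (X : Subgroup (GL (Fin n) F)) :=
  @Submodule (↥(envEnd X)) (Fin n → F) Ring.toSemiring AddCommGroup.toAddCommMonoid inferInstance

/-- `envSub` with values in `SubM X` -/
def envSubM (X : Subgroup (GL (Fin n) F)) (W : Submodule F (Fin n → F))
    (hW : ∀ x ∈ X, ∀ v ∈ W, (x : Matrix (Fin n) (Fin n) F) *ᵥ v ∈ W) : SubM X := envSub X W hW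

@[simp] theorem mem_envSubM (X : Subgroup (GL (Fin n) F)) (W : Submodule F (Fin n → F))
    (hW : ∀ x ∈ X, ∀ v ∈ W, (x : Matrix (Fin n) (Fin n) F) *ᵥ v ∈ W) (v : Fin n → F) :
    v ∈ envSubM X W hW ↔ v ∈ W := Iff.rfl

/-- `g` normalises `X` in both directions. -/
def Nzr (g : GL (Fin n) F) (X : Subgroup (GL (Fin n) F)) : Prop :=
  (∀ x ∈ X, g * x * g⁻¹ ∈ X) ∧ (∀ x ∈ X, g⁻¹ * x * g ∈ X)

theorem Nzr.inv {g : GL (Fin n) F} {X : Subgroup (GL (Fin n) F)} (h : Nzr g X) : Nzr g⁻¹ X :=
  ⟨by simpa using h.2, by simpa using h.1⟩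

theorem nzr_of_normBy {G X : Subgroup (GL (Fin n) F)} (hX : NormBy G X) {g : GL (Fin n) F} (hg : g ∈ G) :
    Nzr g X :=
  ⟨hX g hg, by simpa using hX g⁻¹ (G.inv_mem hg)⟩

/-- the linear automorphism of `V` given by `g` -/
def gl (g : GL (Fin n) F) : (Fin n → F) ≃ₗ[F] (Fin n → F) :=
  Matrix.toLin'OfInv (M := ((g⁻¹ : GL (Fin n) F) : Matrix (Fin n) (Fin n) F)) (M' := (g : Matrix (Fin n) (Fin n) F))
    (by rw [← Units.val_mul, inv_mul_cancel, Units.val_one]) (by rw [← Units.val_mul, mul_inv_cancel, Units.val_one])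

theorem gl_apply (g : GL (Fin n) F) (v : Fin n → F) : gl g v = (g : Matrix (Fin n) (Fin n) F) *ᵥ v := by
  simp [gl, Matrix.toLin'OfInv]

theorem gl_symm_apply (g : GL (Fin n) F) (v : Fin n → F) :
    (gl g).symm v = ((g⁻¹ : GL (Fin n) F) : Matrix (Fin n) (Fin n) F) *ᵥ v := by
  simp [gl, Matrix.toLin'OfInv]

theorem gl_mul (g h : GL (Fin n) F) (v : Fin n → F) : gl (g * h) v = gl g (gl h v) := by
  simp [gl_apply, Matrix.mulVec_mulVec]

theorem gl_inv_apply (g : GL (Fin n) F) (v : Fin n → F) : gl g⁻¹ v = (gl g).symm v := by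
  rw [gl_apply, gl_symm_apply]

theorem gl_inv_symm_apply (g : GL (Fin n) F) (v : Fin n → F) : (gl g⁻¹).symm v = gl g v := by
  rw [gl_apply, gl_symm_apply, inv_inv]

/-- conjugation of an endomorphism by `g` -/
def conjEnd (g : GL (Fin n) F) (T : Module.End F (Fin n → F)) : Module.End F (Fin n → F) :=
  (gl g).toLinearMap ∘ₗ T ∘ₗ (gl g).symm.toLinearMap

theorem conjEnd_apply (g : GL (Fin n) F) (T : Module.End F (Fin n → F)) (v : Fin n → F) :
    conjEnd g T (gl g v) = gl g (T v) := by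
  simp [conjEnd]

theorem conjEnd_mem {g : GL (Fin n) F} {X : Subgroup (GL (Fin n) F)} (hg : Nzr g X)
    {T : Module.End F (Fin n → F)} (hT : T ∈ envEnd X) : conjEnd g T ∈ envEnd X := by
  refine Algebra.adjoin_induction (p := fun T _ => conjEnd g T ∈ envEnd X) ?_ ?_ ?_ ?_ hT
  · rintro _ ⟨x, hx, rfl⟩
    have : conjEnd g (Matrix.toLin' (x : Matrix (Fin n) (Fin n) F)) =
        Matrix.toLin' ((g * x * g⁻¹ : GL (Fin n) F) : Matrix (Fin n) (Fin n) F) := by
      apply LinearMap.ext
      intro v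
      simp [conjEnd, gl_apply, gl_symm_apply, Matrix.mulVec_mulVec, Matrix.mul_assoc]
    rw [this]
    exact toLin_mem_envEnd (hg.1 x hx)
  · intro c
    have : conjEnd g (algebraMap F (Module.End F (Fin n → F)) c) = algebraMap F _ c := by
      apply LinearMap.ext
      intro v
      simp [conjEnd, Algebra.algebraMap_eq_smul_one]
    rw [this]
    exact Subalgebra.algebraMap_mem _ c
  · intro a b _ _ iha ihb
    have : conjEnd g (a + b) = conjEnd g a + conjEnd g b := by
      apply LinearMap.ext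
      intro v
      simp [conjEnd]
    rw [this]
    exact Subalgebra.add_mem _ iha ihb
  · intro a b _ _ iha ihb
    have : conjEnd g (a * b) = conjEnd g a * conjEnd g b := by
      apply LinearMap.ext
      intro v
      simp [conjEnd]
    rw [this]
    exact Subalgebra.mul_mem _ iha ihb


theorem conjEnd_inv_apply (g : GL (Fin n) F) (T : Module.End F (Fin n → F)) (v : Fin n → F) :
    T (gl g v) = gl g (conjEnd g⁻¹ T v) := by
  simp only [conjEnd, LinearMap.comp_apply, LinearEquiv.coe_coe, gl_inv_apply, gl_inv_symm_apply,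
    LinearEquiv.apply_symm_apply]

/-- the image of an `envEnd X`-submodule under `g` normalising `X` -/
def gmap (g : GL (Fin n) F) {X : Subgroup (GL (Fin n) F)} (hg : Nzr g X)
    (W : SubM X) : SubM X where
  carrier := {v | (gl g).symm v ∈ W}
  add_mem' := by
    intro a b ha hb
    simp only [Set.mem_setOf_eq, map_add] at *
    exact W.add_mem ha hb
  zero_mem' := by simp
  smul_mem' := by
    rintro ⟨a, ha⟩ v hv
    simp only [Set.mem_setOf_eq] at *
    have h1 : (⟨a, ha⟩ : envEnd X) • v = a v := rfl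
    rw [h1]
    have h2 : v = gl g ((gl g).symm v) := by simp
    rw [h2, conjEnd_inv_apply, LinearEquiv.symm_apply_apply]
    exact W.smul_mem ⟨conjEnd g⁻¹ a, conjEnd_mem hg.inv ha⟩ hv

theorem mem_gmap {g : GL (Fin n) F} {X : Subgroup (GL (Fin n) F)} (hg : Nzr g X)
    (W : SubM X) (v : Fin n → F) :
    v ∈ gmap g hg W ↔ (gl g).symm v ∈ W := Iff.rfl

theorem gl_mem_gmap {g : GL (Fin n) F} {X : Subgroup (GL (Fin n) F)} (hg : Nzr g X)
    (W : SubM X) (v : Fin n → F) :
    gl g v ∈ gmap g hg W ↔ v ∈ W := by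
  rw [mem_gmap, LinearEquiv.symm_apply_apply]

theorem gmap_inv_gmap {g : GL (Fin n) F} {X : Subgroup (GL (Fin n) F)} (hg : Nzr g X)
    (W : SubM X) : gmap g⁻¹ hg.inv (gmap g hg W) = W := by
  ext v
  rw [mem_gmap, mem_gmap]
  have : (gl g).symm ((gl g⁻¹).symm v) = v := by
    rw [gl_inv_symm_apply, LinearEquiv.symm_apply_apply]
  rw [this]

theorem gmap_gmap_inv {g : GL (Fin n) F} {X : Subgroup (GL (Fin n) F)} (hg : Nzr g X)
    (W : SubM X) : gmap g hg (gmap g⁻¹ hg.inv W) = W := by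
  have := gmap_inv_gmap hg.inv W
  simpa using this

theorem gmap_mono {g : GL (Fin n) F} {X : Subgroup (GL (Fin n) F)} (hg : Nzr g X)
    {W W' : SubM X} (h : W ≤ W') : gmap g hg W ≤ gmap g hg W' :=
  fun _ hv => h hv

/-- `gmap g` as an order isomorphism of the lattice of `envEnd X`-submodules -/
def gmapIso (g : GL (Fin n) F) {X : Subgroup (GL (Fin n) F)} (hg : Nzr g X) :
    SubM X ≃o SubM X where
  toFun := gmap g hg
  invFun := gmap g⁻¹ hg.inv
  left_inv := gmap_inv_gmap hg
  right_inv := gmap_gmap_inv hg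
  map_rel_iff' := by
    intro W W'
    constructor
    · intro h
      have := gmap_mono hg.inv (show gmap g hg W ≤ gmap g hg W' from h)
      rwa [gmap_inv_gmap, gmap_inv_gmap] at this
    · exact gmap_mono hg

theorem isSimpleModule_gmap {g : GL (Fin n) F} {X : Subgroup (GL (Fin n) F)} (hg : Nzr g X)
    (W : SubM X) (hW : IsSimpleModule (envEnd X) W) :
    IsSimpleModule (envEnd X) (gmap g hg W) := by
  rw [isSimpleModule_iff_isAtom] at hW ⊢
  exact (OrderIso.isAtom_iff (gmapIso g hg) W).mpr hW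

/-- the twisted scalar `g⁻¹ a g` -/
def tw (g : GL (Fin n) F) {X : Subgroup (GL (Fin n) F)} (hg : Nzr g X) (a : envEnd X) : envEnd X :=
  ⟨conjEnd g⁻¹ a.1, conjEnd_mem hg.inv a.2⟩

theorem smul_def' {X : Subgroup (GL (Fin n) F)} (a : envEnd X) (v : Fin n → F) : a • v = a.1 v := rfl

theorem gl_symm_smul {g : GL (Fin n) F} {X : Subgroup (GL (Fin n) F)} (hg : Nzr g X) (a : envEnd X)
    (v : Fin n → F) : (gl g).symm (a • v) = tw g hg a • (gl g).symm v := by
  rw [smul_def', smul_def']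
  have := conjEnd_inv_apply g a.1 ((gl g).symm v)
  rw [LinearEquiv.apply_symm_apply] at this
  rw [this, LinearEquiv.symm_apply_apply]
  rfl

theorem gl_tw_smul {g : GL (Fin n) F} {X : Subgroup (GL (Fin n) F)} (hg : Nzr g X) (a : envEnd X)
    (v : Fin n → F) : gl g (tw g hg a • v) = a • gl g v := by
  rw [smul_def', smul_def']
  exact (conjEnd_inv_apply g a.1 v).symm

set_option synthInstance.maxHeartbeats 100000 in
set_option maxHeartbeats 800000 in
/-- transport of a linear map -/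
def gmapHom {g : GL (Fin n) F} {X : Subgroup (GL (Fin n) F)} (hg : Nzr g X)
    {W W' : SubM X} (φ : W →ₗ[envEnd X] W') :
    gmap g hg W →ₗ[envEnd X] gmap g hg W' where
  toFun v := ⟨gl g (φ ⟨(gl g).symm v.1, v.2⟩ : Fin n → F), by
    rw [gl_mem_gmap]; exact (φ _).2⟩
  map_add' v w := by
    apply Subtype.ext
    have : (⟨(gl g).symm (v + w).1, (v + w).2⟩ : W) =
        ⟨(gl g).symm v.1, v.2⟩ + ⟨(gl g).symm w.1, w.2⟩ := by
      apply Subtype.ext
      change (gl g).symm (v.1 + w.1) = (gl g).symm v.1 + (gl g).symm w.1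
      exact map_add _ _ _
    change gl g (φ ⟨(gl g).symm (v + w).1, (v + w).2⟩ : Fin n → F) =
      gl g (φ ⟨(gl g).symm v.1, v.2⟩ : Fin n → F) + gl g (φ ⟨(gl g).symm w.1, w.2⟩ : Fin n → F)
    rw [this, map_add, Submodule.coe_add, map_add]
  map_smul' a v := by
    apply Subtype.ext
    have e3 : (⟨(gl g).symm (a • v).1, (a • v).2⟩ : W) = tw g hg a • ⟨(gl g).symm v.1, v.2⟩ := by
      apply Subtype.ext
      change (gl g).symm (a • v.1) = tw g hg a • (gl g).symm v.1
      exact gl_symm_smul hg a v.1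
    change gl g (φ ⟨(gl g).symm (a • v).1, (a • v).2⟩ : Fin n → F) =
      a • gl g (φ ⟨(gl g).symm v.1, v.2⟩ : Fin n → F)
    rw [e3, map_smul, Submodule.coe_smul, gl_tw_smul]

theorem gmapHom_apply {g : GL (Fin n) F} {X : Subgroup (GL (Fin n) F)} (hg : Nzr g X)
    {W W' : SubM X} (φ : W →ₗ[envEnd X] W') (v : gmap g hg W) :
    ((gmapHom hg φ v : gmap g hg W') : Fin n → F) = gl g (φ ⟨(gl g).symm v.1, v.2⟩ : Fin n → F) := rfl

set_option synthInstance.maxHeartbeats 100000 in
set_option maxHeartbeats 800000 in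
/-- transport of an isomorphism -/
def gmapEquiv {g : GL (Fin n) F} {X : Subgroup (GL (Fin n) F)} (hg : Nzr g X)
    {W W' : SubM X} (φ : W ≃ₗ[envEnd X] W') :
    gmap g hg W ≃ₗ[envEnd X] gmap g hg W' :=
  LinearEquiv.ofLinear (gmapHom hg φ.toLinearMap) (gmapHom hg φ.symm.toLinearMap)
    (by
      apply LinearMap.ext
      intro v
      apply Subtype.ext
      rw [LinearMap.comp_apply, gmapHom_apply]
      simp only [gmapHom_apply, LinearEquiv.coe_coe, LinearEquiv.symm_apply_apply, Subtype.coe_eta,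
        LinearEquiv.apply_symm_apply, LinearMap.id_coe, id_eq])
    (by
      apply LinearMap.ext
      intro v
      apply Subtype.ext
      rw [LinearMap.comp_apply, gmapHom_apply]
      simp only [gmapHom_apply, LinearEquiv.coe_coe, LinearEquiv.symm_apply_apply, Subtype.coe_eta,
        LinearEquiv.apply_symm_apply, LinearMap.id_coe, id_eq])

end Cfsg.Agent.Lib.Helper11.CliffAct
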