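import Mathlib
import Cfsg.Prelude.Def_GeometricClasses
import Cfsg.Agent.Lib.Helper7.AschDefs
import Cfsg.Agent.Lib.Helper11.AschCliffDefs
import Cfsg.Agent.Lib.Helper11.AschCliffAct

/-!
# Clifford theory WITH A FORM (generic block for the hubs S5662 / S5663 / S5673): shared definitions (helper11)

`V = Fin n → F`, `σ : F ≃+* F`, `f : V → V → F` a reflexive non-degenerate `σ`-sesquilinear form (`RSForm σ f`):
linear in the first argument, `σ`-semilinear in the second, `f u v = 0 → f v u = 0`, non-degenerate.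
* `IsSymplecticForm f`, symmetric forms: `σ = RingEquiv.refl F`;
* `IsUnitaryFormPow q f` with `card F = q ^ 2`: `σ = x ↦ x ^ q`.

* `perp hf W`        : `{v | ∀ w ∈ W, f w v = 0}` as an `F`-subspace;
* `perpM hf hX W`    : the same for an `envEnd X`-submodule `W`, as an `envEnd X`-submodule (`X` fixes `f`);
* `radjM σ G B`, `ladjM σ G B` : the explicit right / left adjoints of a matrix `B` for the form with Gram matrix `G`.
-/

set_option autoImplicit false

namespace Cfsg.Agent.Lib.Helper11.FCliff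

open Matrix Cfsg Cfsg.Geo Cfsg.Agent.Lib.Helper7.Asch Cfsg.Agent.Lib.Helper11.Cliff
  Cfsg.Agent.Lib.Helper11.CliffAct
open scoped MatrixGroups Kronecker

variable {n : ℕ} {F : Type*} [Field F]

/-- a reflexive non-degenerate `σ`-sesquilinear form on `F^n` -/
structure RSForm (σ : F ≃+* F) (f : (Fin n → F) → (Fin n → F) → F) : Prop where
  add_left : ∀ x y v, f (x + y) v = f x v + f y v
  smul_left : ∀ (c : F) (x v : Fin n → F), f (c • x) v = c * f x v
  add_right : ∀ v x y, f v (x + y) = f v x + f v y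
  smul_right : ∀ (c : F) (v x : Fin n → F), f v (c • x) = σ c * f v x
  refl : ∀ u v, f u v = 0 → f v u = 0
  nondeg : IsNondegenerateForm f

namespace RSForm

variable {σ : F ≃+* F} {f : (Fin n → F) → (Fin n → F) → F}

theorem zero_right (hf : RSForm σ f) (v : Fin n → F) : f v 0 = 0 := by
  have h := hf.add_right v 0 0
  rw [add_zero] at h
  exact left_eq_add.mp h

theorem zero_left (hf : RSForm σ f) (v : Fin n → F) : f 0 v = 0 := by
  have h := hf.add_left 0 0 v
  rw [add_zero] at h
  exact left_eq_add.mp h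

theorem neg_right (hf : RSForm σ f) (u v : Fin n → F) : f u (-v) = - f u v := by
  have h := hf.add_right u v (-v)
  rw [add_neg_cancel, hf.zero_right] at h
  exact (neg_eq_of_add_eq_zero_right h.symm).symm

theorem neg_left (hf : RSForm σ f) (u v : Fin n → F) : f (-u) v = - f u v := by
  have h := hf.add_left u (-u) v
  rw [add_neg_cancel, hf.zero_left] at h
  exact (neg_eq_of_add_eq_zero_right h.symm).symm

theorem sub_right (hf : RSForm σ f) (u v w : Fin n → F) : f u (v - w) = f u v - f u w := by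
  rw [sub_eq_add_neg, hf.add_right, hf.neg_right, sub_eq_add_neg]

theorem sub_left (hf : RSForm σ f) (u v w : Fin n → F) : f (u - v) w = f u w - f v w := by
  rw [sub_eq_add_neg, hf.add_left, hf.neg_left, sub_eq_add_neg]

/-- non-degeneracy in the second argument -/
theorem eq_of_forall_left (hf : RSForm σ f) {v v' : Fin n → F} (h : ∀ u, f u v = f u v') : v = v' := by
  by_contra hne
  obtain ⟨x, hx⟩ := (hf.nondeg (v - v') (sub_ne_zero.mpr hne)).1
  apply hx
  rw [hf.sub_right, h x, sub_self]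

/-- non-degeneracy in the first argument -/
theorem eq_of_forall_right (hf : RSForm σ f) {u u' : Fin n → F} (h : ∀ v, f u v = f u' v) : u = u' := by
  by_contra hne
  obtain ⟨x, hx⟩ := (hf.nondeg (u - u') (sub_ne_zero.mpr hne)).2
  apply hx
  rw [hf.sub_left, h x, sub_self]

end RSForm

/-- the (right) perpendicular space `{v | ∀ w ∈ W, f w v = 0}` (`= {v | ∀ w ∈ W, f v w = 0}` by reflexivity) -/
def perp {σ : F ≃+* F} {f : (Fin n → F) → (Fin n → F) → F} (hf : RSForm σ f)
    (W : Submodule F (Fin n → F)) : Submodule F (Fin n → F) where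
  carrier := {v | ∀ w ∈ W, f w v = 0}
  add_mem' := by
    intro a b ha hb w hw
    rw [hf.add_right, ha w hw, hb w hw, add_zero]
  zero_mem' := fun w _ => hf.zero_right w
  smul_mem' := by
    intro c v hv w hw
    rw [hf.smul_right, hv w hw, mul_zero]

theorem mem_perp {σ : F ≃+* F} {f : (Fin n → F) → (Fin n → F) → F} (hf : RSForm σ f)
    (W : Submodule F (Fin n → F)) (v : Fin n → F) : v ∈ perp hf W ↔ ∀ w ∈ W, f w v = 0 := Iff.rfl

theorem mem_perp' {σ : F ≃+* F} {f : (Fin n → F) → (Fin n → F) → F} (hf : RSForm σ f)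
    (W : Submodule F (Fin n → F)) (v : Fin n → F) : v ∈ perp hf W ↔ ∀ w ∈ W, f v w = 0 :=
  ⟨fun h w hw => hf.refl _ _ (h w hw), fun h w hw => hf.refl _ _ (h w hw)⟩

theorem perp_anti {σ : F ≃+* F} {f : (Fin n → F) → (Fin n → F) → F} (hf : RSForm σ f)
    {W W' : Submodule F (Fin n → F)} (h : W ≤ W') : perp hf W' ≤ perp hf W :=
  fun _ hv w hw => hv w (h hw)

/-- an isometry can be moved to the other side -/
theorem form_mulVec_right {f : (Fin n → F) → (Fin n → F) → F} {X : Subgroup (GL (Fin n) F)}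
    (hX : FixesForm (matrixSet X) f) {x : GL (Fin n) F} (hx : x ∈ X) (u v : Fin n → F) :
    f u ((x : Matrix (Fin n) (Fin n) F) *ᵥ v) = f (((x⁻¹ : GL (Fin n) F) : Matrix (Fin n) (Fin n) F) *ᵥ u) v := by
  have h := hX _ ⟨x, hx, rfl⟩ (((x⁻¹ : GL (Fin n) F) : Matrix (Fin n) (Fin n) F) *ᵥ u) v
  rw [Matrix.mulVec_mulVec, ← Units.val_mul, mul_inv_cancel, Units.val_one, Matrix.one_mulVec] at h
  exact h

/-- the perp of an `X`-invariant subspace is `X`-invariant (`X` fixes `f`) -/
theorem perp_invariant {σ : F ≃+* F} {f : (Fin n → F) → (Fin n → F) → F} (hf : RSForm σ f)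
    {X : Subgroup (GL (Fin n) F)} (hX : FixesForm (matrixSet X) f) (W : Submodule F (Fin n → F))
    (hW : ∀ x ∈ X, ∀ v ∈ W, (x : Matrix (Fin n) (Fin n) F) *ᵥ v ∈ W) :
    ∀ x ∈ X, ∀ v ∈ perp hf W, (x : Matrix (Fin n) (Fin n) F) *ᵥ v ∈ perp hf W := by
  intro x hx v hv w hw
  rw [form_mulVec_right hX hx]
  exact hv _ (hW x⁻¹ (X.inv_mem hx) w hw)

/-- an `envEnd X`-submodule is `X`-invariant -/
theorem subM_invariant {X : Subgroup (GL (Fin n) F)} (W : SubM X) :
    ∀ x ∈ X, ∀ v ∈ W.restrictScalars F, (x : Matrix (Fin n) (Fin n) F) *ᵥ v ∈ W.restrictScalars F := by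
  intro x hx v hv
  have h := W.smul_mem (⟨Matrix.toLin' (x : Matrix (Fin n) (Fin n) F), toLin_mem_envEnd hx⟩ : envEnd X)
    ((Submodule.restrictScalars_mem F W v).mp hv)
  rw [Submodule.restrictScalars_mem]
  have h2 : (⟨Matrix.toLin' (x : Matrix (Fin n) (Fin n) F), toLin_mem_envEnd hx⟩ : envEnd X) • v =
      (x : Matrix (Fin n) (Fin n) F) *ᵥ v := by
    rw [smul_def']
    exact Matrix.toLin'_apply _ _
  rwa [h2] at h

/-- the perp of an `envEnd X`-submodule, as an `envEnd X`-submodule -/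
def perpM {σ : F ≃+* F} {f : (Fin n → F) → (Fin n → F) → F} (hf : RSForm σ f)
    {X : Subgroup (GL (Fin n) F)} (hX : FixesForm (matrixSet X) f) (W : SubM X) : SubM X :=
  envSubM X (perp hf (W.restrictScalars F)) (perp_invariant hf hX _ (subM_invariant W))

theorem mem_perpM {σ : F ≃+* F} {f : (Fin n → F) → (Fin n → F) → F} (hf : RSForm σ f)
    {X : Subgroup (GL (Fin n) F)} (hX : FixesForm (matrixSet X) f) (W : SubM X) (v : Fin n → F) :
    v ∈ perpM hf hX W ↔ ∀ w ∈ W, f w v = 0 := Iff.rfl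

theorem perpM_restrictScalars {σ : F ≃+* F} {f : (Fin n → F) → (Fin n → F) → F} (hf : RSForm σ f)
    {X : Subgroup (GL (Fin n) F)} (hX : FixesForm (matrixSet X) f) (W : SubM X) :
    (perpM hf hX W).restrictScalars F = perp hf (W.restrictScalars F) := rfl

/-- explicit right adjoint of the matrix `B` for the form with Gram matrix `G`:
`f (B u) v = f u (radjM σ G B v)` -/
noncomputable def radjM (σ : F ≃+* F) (G B : Matrix (Fin n) (Fin n) F) : Matrix (Fin n) (Fin n) F :=
  (G⁻¹ * Bᵀ * G).map σ.symm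

/-- explicit left adjoint: `f u (B v) = f (ladjM σ G B u) v` -/
noncomputable def ladjM (σ : F ≃+* F) (G B : Matrix (Fin n) (Fin n) F) : Matrix (Fin n) (Fin n) F :=
  (G * B.map σ * G⁻¹)ᵀ

end Cfsg.Agent.Lib.Helper11.FCliff
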