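import Mathlib
import Cfsg.Prelude.Def_GeometricClasses
import Cfsg.Agent.Lib.Helper7.AschDefs
import Cfsg.Agent.Lib.Helper24.AschUDefs
import Cfsg.Agent.Lib.Helper2.FormRedU
import Cfsg.Agent.Lib.Helper18.S5663U2
import Cfsg.Agent.Lib.Helper11.FormCliffDefs
import Cfsg.Agent.Lib.Helper12.AschDescent

/-!
# S5663, block U4 (Clifford with forms, unitary case): shared definitions (helper11, sub-architect)

* `frobE hF : F ≃+* F` : `x ↦ x ^ q` as a ring automorphism (`card F = q ^ 2`);
* `rsForm_hermForm hF : RSForm (frobE hF) (hermForm n F q)`;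
* `rsForm_of_unitary hF hf : RSForm (frobE hF) f` for `IsUnitaryFormPow q f`.
-/

set_option autoImplicit false

namespace Cfsg.Agent.Lib.Helper11.U4

open Matrix Cfsg Cfsg.Geo Cfsg.Agent.Lib.Helper7.Asch Cfsg.Agent.Lib.Helper24.AschU
  Cfsg.Agent.Lib.Helper2.FormRedU Cfsg.Agent.Lib.Helper11.FCliff
open scoped MatrixGroups Kronecker

variable {F : Type*} [Field F] [Fintype F] {n q : ℕ}

/-- `x ↦ x ^ q` as a ring endomorphism -/
def frobH (hF : Fintype.card F = q ^ 2) : F →+* F where
  toFun x := x ^ q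
  map_one' := one_pow q
  map_mul' x y := mul_pow x y q
  map_zero' := by
    have hq : q ≠ 0 := by
      rintro rfl
      have : 0 < Fintype.card F := Fintype.card_pos
      omega
    exact zero_pow hq
  map_add' x y := add_pow_q hF x y

/-- `x ↦ x ^ q` as a ring automorphism (of order two) -/
def frobE (hF : Fintype.card F = q ^ 2) : F ≃+* F where
  toFun x := x ^ q
  invFun x := x ^ q
  left_inv x := pow_card_sq hF x
  right_inv x := pow_card_sq hF x
  map_mul' x y := mul_pow x y q
  map_add' x y := add_pow_q hF x y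

@[simp] theorem frobE_apply (hF : Fintype.card F = q ^ 2) (x : F) : frobE hF x = x ^ q := rfl

@[simp] theorem frobE_symm_apply (hF : Fintype.card F = q ^ 2) (x : F) : (frobE hF).symm x = x ^ q := rfl

theorem coe_frobE (hF : Fintype.card F = q ^ 2) : (⇑(frobE hF) : F → F) = fun x => x ^ q := rfl

/-- a unitary form for `x ↦ x ^ q` is a reflexive sesquilinear form in the sense of `FormCliffDefs` -/
theorem rsForm_of_unitary (hF : Fintype.card F = q ^ 2) {f : (Fin n → F) → (Fin n → F) → F}
    (hf : IsUnitaryFormPow q f) : RSForm (frobE hF) f where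
  add_left := hf.add_left
  smul_left := hf.smul_left
  add_right := by
    intro v x y
    rw [hf.herm v (x + y), hf.add_left, add_pow_q hF, ← hf.herm, ← hf.herm]
  smul_right := by
    intro c v x
    rw [hf.herm v (c • x), hf.smul_left, mul_pow, ← hf.herm]
    rfl
  refl := by
    intro u v h
    rw [hf.herm v u, h]
    have hq : q ≠ 0 := by
      rintro rfl
      have : 0 < Fintype.card F := Fintype.card_pos
      omega
    exact zero_pow hq
  nondeg := hf.nondegenerate

theorem rsForm_hermForm (hF : Fintype.card F = q ^ 2) : RSForm (frobE hF) (hermForm n F q) :=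
  rsForm_of_unitary hF (isUnitaryFormPow_hermForm hF)

theorem two_le_q (hF : Fintype.card F = q ^ 2) : 2 ≤ q := by
  have h1 : 1 < Fintype.card F := Fintype.one_lt_card
  rcases Nat.lt_or_ge q 2 with h | h
  · interval_cases q <;> simp at hF <;> omega
  · exact h

theorem frobE_invol (hF : Fintype.card F = q ^ 2) (a : F) : frobE hF (frobE hF a) = a := pow_card_sq hF a

theorem frobE_ne_refl (hF : Fintype.card F = q ^ 2) : frobE hF ≠ RingEquiv.refl F := by
  classical
  intro h
  obtain ⟨g, hg⟩ := IsCyclic.exists_generator (α := Fˣ)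
  have hord : orderOf g = q ^ 2 - 1 := by
    rw [orderOf_eq_card_of_forall_mem_zpowers hg, Nat.card_eq_fintype_card, Fintype.card_units, hF]
  have h1 : (g : F) ^ q = (g : F) := by
    have := congrArg (fun τ : F ≃+* F => τ (g : F)) h
    simpa using this
  have hq := two_le_q hF
  have h2 : g ^ (q - 1) = 1 := by
    apply Units.ext
    rw [Units.val_pow_eq_pow_val, Units.val_one]
    have h3 : (g : F) ^ (q - 1) * (g : F) = (g : F) := by
      rw [← pow_succ, Nat.sub_add_cancel (by omega), h1]
    have h4 : (g : F) ≠ 0 := g.ne_zero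
    exact mul_right_cancel₀ h4 (by rw [h3, one_mul])
  have h5 := orderOf_dvd_of_pow_eq_one h2
  rw [hord] at h5
  have h6 : q ^ 2 - 1 ≤ q - 1 := Nat.le_of_dvd (by omega) h5
  have h7 : q < q ^ 2 := by nlinarith
  omega

/-- the fixed field `F_q` of `x ↦ x ^ q` -/
abbrev fixQ (hF : Fintype.card F = q ^ 2) : Subfield F := Cfsg.Agent.Lib.Helper12.AschDescent.fixedField (frobE hF)

theorem mem_fixQ (hF : Fintype.card F = q ^ 2) (x : F) : x ∈ fixQ hF ↔ x ^ q = x := Iff.rfl

theorem card_eq_fixQ_sq (hF : Fintype.card F = q ^ 2) : Fintype.card F = Nat.card (fixQ hF) ^ 2 :=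
  Cfsg.Agent.Lib.Helper12.AschDescent.card_eq_sq (frobE hF) (frobE_ne_refl hF) (frobE_invol hF)

/-- the norm `μ ↦ μ * μ ^ q` is onto `F_q` -/
theorem exists_norm_eq (hF : Fintype.card F = q ^ 2) (c : F) (hc : c ^ q = c) : ∃ μ : F, μ * μ ^ q = c :=
  Cfsg.Agent.Lib.Helper12.AschDescent.exists_norm_eq (frobE hF) (frobE_ne_refl hF) (frobE_invol hF) c hc

end Cfsg.Agent.Lib.Helper11.U4
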