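import Mathlib
import Cfsg.Agent.S0572

/-!
General lemmas for S0574 (product of an abelian subgroup and a class-2 subgroup).
-/

set_option autoImplicit false

namespace Cfsg.Agent.Lib.Helper11.AbCl2

open scoped commutatorElement

variable {G : Type*} [Group G]

/-- A perfect subgroup of a solvable group is trivial. -/
theorem eq_bot_of_commutator_eq_self [Group.IsSolvable G] (H : Subgroup G) (h : ⁅H, H⁆ = H) :
    H = ⊥ := by
  have key : ∀ n, H ≤ derivedSeries G n := by
    intro n
    induction n with
    | zero => simp
    | succ n ih =>
      rw [derivedSeries_succ]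
      calc H = ⁅H, H⁆ := h.symm
        _ ≤ _ := Subgroup.commutator_mono ih ih
  obtain ⟨n, hn⟩ := (Group.isSolvable_def G).mp ‹_›
  exact le_bot_iff.mp (hn ▸ key n)

/-- If the `m`-th derived subgroup lies in `H`, later terms are bounded by the derived series of `H`. -/
theorem derivedSeries_add_le_map (H : Subgroup G) (m : ℕ) (hm : derivedSeries G m ≤ H) (k : ℕ) :
    derivedSeries G (m + k) ≤ (derivedSeries H k).map H.subtype := by
  induction k with
  | zero =>
    rw [derivedSeries_zero, ← MonoidHom.range_eq_map, Subgroup.range_subtype]
    simpa using hm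
  | succ k ih =>
    rw [← add_assoc, derivedSeries_succ, derivedSeries_succ, Subgroup.map_commutator]
    exact Subgroup.commutator_mono ih ih

theorem derivedSeries_add_eq_bot (H : Subgroup G) (m : ℕ) (hm : derivedSeries G m ≤ H) (k : ℕ)
    (hk : derivedSeries H k = ⊥) : derivedSeries G (m + k) = ⊥ := by
  have := derivedSeries_add_le_map H m hm k
  rw [hk, Subgroup.map_bot] at this
  exact le_bot_iff.mp this

/-- A proper divisor has strictly fewer prime factors counted with multiplicity. -/
theorem omega_lt_of_dvd_of_ne {a b : ℕ} (hb : b ≠ 0) (hab : a ∣ b) (hne : a ≠ b) :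
    a.primeFactorsList.length < b.primeFactorsList.length := by
  obtain ⟨k, rfl⟩ := hab
  have ha : a ≠ 0 := left_ne_zero_of_mul hb
  have hk : k ≠ 0 := right_ne_zero_of_mul hb
  have hk1 : k ≠ 1 := by
    rintro rfl
    simp at hne
  rw [(Nat.perm_primeFactorsList_mul ha hk).length_eq, List.length_append]
  have : 0 < k.primeFactorsList.length := by
    rw [List.length_pos_iff]
    intro h
    rcases (Nat.primeFactorsList_eq_nil k).mp h with h | h
    · exact hk h
    · exact hk1 h
  omega

/-- Strict inclusion of finite subgroups drops the number of prime factors of the order. -/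
theorem omega_card_lt_of_lt [Finite G] {H K : Subgroup G} (h : H < K) :
    (Nat.card H).primeFactorsList.length < (Nat.card K).primeFactorsList.length := by
  apply omega_lt_of_dvd_of_ne Nat.card_pos.ne' (Subgroup.card_dvd_of_le h.le)
  intro he
  exact h.ne (Subgroup.eq_of_le_of_card_ge h.le he.ge)

end Cfsg.Agent.Lib.Helper11.AbCl2
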