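import Mathlib
import Cfsg.Agent.S0572
import Cfsg.Agent.S0564
import Cfsg.Agent.Lib.Helper11.AbCl2A

/-!
Core of S0574: `G = AB`, `A` abelian, `B' ≤ Z(B)`.  With `M = (B')^G` one has `G'' ≤ M` (Itô),
`A ⊔ M = A (B ⊓ (A ⊔ M))`, and `(B ⊓ (A ⊔ M))' ≤ M'`.
-/

set_option autoImplicit false

namespace Cfsg.Agent.Lib.Helper11.AbCl2

open scoped commutatorElement

variable {G : Type*} [Group G]

/-- Normal closure of the derived subgroup of `B`. -/
def ncl (B : Subgroup G) : Subgroup G := Subgroup.normalClosure ((⁅B, B⁆ : Subgroup G) : Set G)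

instance ncl_normal (B : Subgroup G) : (ncl B).Normal := Subgroup.normalClosure_normal

theorem comm_le_ncl (B : Subgroup G) : ⁅B, B⁆ ≤ ncl B := Subgroup.subset_normalClosure

/-- Itô on the quotient: `G'' ≤ ncl B`. -/
theorem derived_two_le_ncl (A B : Subgroup G) (hA : ∀ x ∈ A, ∀ y ∈ A, x * y = y * x)
    (hAB : ∀ g : G, ∃ a ∈ A, ∃ b ∈ B, g = a * b) : derivedSeries G 2 ≤ ncl B := by
  let π := QuotientGroup.mk' (ncl B)
  haveI : IsMulCommutative ↥(A.map π) := ⟨⟨by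
    rintro ⟨_, x, hx, rfl⟩ ⟨_, y, hy, rfl⟩
    apply Subtype.ext
    show π x * π y = π y * π x
    rw [← map_mul, ← map_mul, hA x hx y hy]⟩⟩
  haveI : IsMulCommutative ↥(B.map π) := ⟨⟨by
    rintro ⟨_, x, hx, rfl⟩ ⟨_, y, hy, rfl⟩
    apply Subtype.ext
    show π x * π y = π y * π x
    have h1 : π ⁅x, y⁆ = 1 := by
      rw [QuotientGroup.mk'_apply, QuotientGroup.eq_one_iff]
      exact comm_le_ncl B (Subgroup.commutator_mem_commutator hx hy)
    rw [map_commutatorElement, commutatorElement_eq_one_iff_commute] at h1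
    exact h1.eq⟩⟩
  have h2 : derivedSeries (G ⧸ ncl B) 2 = ⊥ := by
    apply Cfsg.Agent.S0572.result (A.map π) (B.map π)
    intro g
    obtain ⟨g, rfl⟩ := QuotientGroup.mk'_surjective (ncl B) g
    obtain ⟨a, ha, b, hb, rfl⟩ := hAB g
    exact ⟨π a, Subgroup.mem_map_of_mem _ ha, π b, Subgroup.mem_map_of_mem _ hb, map_mul _ _ _⟩
  have h3 := map_derivedSeries_eq (QuotientGroup.mk'_surjective (ncl B)) 2
  rw [h2, Subgroup.map_eq_bot_iff, QuotientGroup.ker_mk'] at h3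
  exact h3

/-- `ncl B` is generated by the `A`-conjugates of `B'`. -/
theorem ncl_le_of_conj (A B : Subgroup G) (hB : ∀ c ∈ ⁅B, B⁆, ∀ b ∈ B, c * b = b * c)
    (hAB : ∀ g : G, ∃ a ∈ A, ∃ b ∈ B, g = a * b) (K : Subgroup G)
    (hK : ∀ c ∈ ⁅B, B⁆, ∀ a ∈ A, a * c * a⁻¹ ∈ K) : ncl B ≤ K := by
  unfold ncl Subgroup.normalClosure
  rw [Subgroup.closure_le]
  intro x hx
  obtain ⟨c, hc, hcx⟩ := Group.mem_conjugatesOfSet_iff.mp hx
  obtain ⟨g, rfl⟩ := isConj_iff.mp hcx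
  obtain ⟨a, ha, b, hb, rfl⟩ := hAB g
  have hcb := hB c hc b hb
  have : a * b * c * (a * b)⁻¹ = a * c * a⁻¹ := by
    calc a * b * c * (a * b)⁻¹ = a * (b * c) * b⁻¹ * a⁻¹ := by group
      _ = a * (c * b) * b⁻¹ * a⁻¹ := by rw [hcb]
      _ = a * c * a⁻¹ := by group
  rw [this]
  exact hK c hc a ha

/-- The key computation: `(B ⊓ AM)' ≤ M'`. -/
theorem comm_inf_le (A B : Subgroup G) (hA : ∀ x ∈ A, ∀ y ∈ A, x * y = y * x)
    (hB : ∀ c ∈ ⁅B, B⁆, ∀ b ∈ B, c * b = b * c)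
    (hAB : ∀ g : G, ∃ a ∈ A, ∃ b ∈ B, g = a * b) :
    ⁅B ⊓ (A ⊔ ncl B), B ⊓ (A ⊔ ncl B)⁆ ≤ ⁅ncl B, ncl B⁆ := by
  haveI : (⁅ncl B, ncl B⁆ : Subgroup G).Normal := Subgroup.commutator_normal (ncl B) (ncl B)
  let π := QuotientGroup.mk' ⁅ncl B, ncl B⁆
  have hMM : ∀ m ∈ ncl B, ∀ m' ∈ ncl B, Commute (π m) (π m') := by
    intro m hm m' hm'
    rw [← commutatorElement_eq_one_iff_commute, ← map_commutatorElement,
      QuotientGroup.mk'_apply, QuotientGroup.eq_one_iff]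
    exact Subgroup.commutator_mem_commutator hm hm'
  have hAM : ∀ a ∈ A, ∀ m ∈ ncl B, a * m ∈ B → ∀ x ∈ ncl B, Commute (π a) (π x) := by
    intro a ha m hm hb
    have hcomm : ∀ c ∈ ⁅B, B⁆, Commute (π a) (π c) := by
      intro c hc
      have h1 : Commute (π (a * m)) (π c) :=
        ((show Commute c (a * m) from hB c hc _ hb).map π).symm
      have h2 : Commute (π m) (π c) := hMM m hm c (comm_le_ncl B hc)
      have e : π a = π (a * m) * (π m)⁻¹ := by rw [map_mul]; group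
      rw [e]
      exact h1.mul_left h2.inv_left
    have hle : ncl B ≤ (Subgroup.centralizer {π a}).comap π := by
      apply ncl_le_of_conj A B hB hAB
      intro c hc a' ha'
      rw [Subgroup.mem_comap, Subgroup.mem_centralizer_iff]
      intro h hh
      rw [Set.mem_singleton_iff] at hh
      subst hh
      have haa' : Commute (π a) (π a') := (show Commute a a' from hA a ha a' ha').map π
      have h3 := (haa'.mul_right (hcomm c hc)).mul_right haa'.inv_right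
      simpa [map_mul, map_inv] using h3.eq
    intro x hx
    have h4 := hle hx
    rw [Subgroup.mem_comap, Subgroup.mem_centralizer_iff] at h4
    exact h4 _ rfl
  rw [Subgroup.commutator_le]
  intro b hb b' hb'
  obtain ⟨hbB, hbS⟩ := Subgroup.mem_inf.mp hb
  obtain ⟨hbB', hbS'⟩ := Subgroup.mem_inf.mp hb'
  obtain ⟨a, ha, m, hm, rfl⟩ := Subgroup.mem_sup_of_normal_right.mp hbS
  obtain ⟨a', ha', m', hm', rfl⟩ := Subgroup.mem_sup_of_normal_right.mp hbS'
  rw [← QuotientGroup.eq_one_iff]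
  show π ⁅a * m, a' * m'⁆ = 1
  rw [map_commutatorElement, commutatorElement_eq_one_iff_commute, map_mul, map_mul]
  have hAA : Commute (π a) (π a') := (show Commute a a' from hA a ha a' ha').map π
  have h1 : Commute (π a) (π m') := hAM a ha m hm hbB m' hm'
  have h2 : Commute (π a') (π m) := hAM a' ha' m' hm' hbB' m hm
  have h3 : Commute (π m) (π m') := hMM m hm m' hm'
  exact Commute.mul_left (Commute.mul_right hAA h1) (Commute.mul_right h2.symm h3)

/-- Factorization of `A ⊔ M`. -/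
theorem factor_sup (A B : Subgroup G) (hAB : ∀ g : G, ∃ a ∈ A, ∃ b ∈ B, g = a * b)
    (K : Subgroup G) (hAK : A ≤ K) :
    ∀ g ∈ K, ∃ a ∈ A, ∃ b ∈ B ⊓ K, g = a * b := by
  intro g hg
  obtain ⟨a, ha, b, hb, rfl⟩ := hAB g
  refine ⟨a, ha, b, Subgroup.mem_inf.mpr ⟨hb, ?_⟩, rfl⟩
  have : b = a⁻¹ * (a * b) := by group
  rw [this]
  exact K.mul_mem (K.inv_mem (hAK ha)) hg

/-- Strictness: if `B' ≠ 1` then `(B ⊓ AM)' < B'`. -/
theorem comm_inf_lt [Finite G] (A B : Subgroup G) (hA : ∀ x ∈ A, ∀ y ∈ A, x * y = y * x)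
    (hB : ∀ c ∈ ⁅B, B⁆, ∀ b ∈ B, c * b = b * c)
    (hAB : ∀ g : G, ∃ a ∈ A, ∃ b ∈ B, g = a * b) (hne : ⁅B, B⁆ ≠ ⊥) :
    ⁅B ⊓ (A ⊔ ncl B), B ⊓ (A ⊔ ncl B)⁆ < ⁅B, B⁆ := by
  have hle : ⁅B ⊓ (A ⊔ ncl B), B ⊓ (A ⊔ ncl B)⁆ ≤ ⁅B, B⁆ :=
    Subgroup.commutator_mono inf_le_left inf_le_left
  refine lt_of_le_of_ne hle ?_
  intro he
  apply hne
  have h1 : ⁅B, B⁆ ≤ ⁅ncl B, ncl B⁆ := he ▸ comm_inf_le A B hA hB hAB
  haveI : (⁅ncl B, ncl B⁆ : Subgroup G).Normal := Subgroup.commutator_normal (ncl B) (ncl B)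
  have h2 : ncl B ≤ ⁅ncl B, ncl B⁆ := Subgroup.normalClosure_le_normal h1
  have h3 : ⁅ncl B, ncl B⁆ = ncl B := le_antisymm (Subgroup.commutator_le_left (ncl B) (ncl B)) h2
  haveI : Group.IsSolvable G := by
    have hAn : Group.IsNilpotent A := by
      letI : CommGroup ↥A :=
        { (inferInstance : Group ↥A) with mul_comm := fun x y => Subtype.ext (hA x x.2 y y.2) }
      infer_instance
    have hBn : Group.IsNilpotent B := by
      apply Subgroup.isNilpotent_of_ker_le_center (Abelianization.of (G := ↥B))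
      rw [Abelianization.ker_of]
      intro x hx
      have hx' : (x : G) ∈ ⁅B, B⁆ := by
        rw [← Subgroup.map_subtype_commutator]
        exact Subgroup.mem_map_of_mem _ hx
      rw [Subgroup.mem_center_iff]
      intro g
      exact Subtype.ext (hB x hx' g g.2).symm
    exact Cfsg.Agent.S0564.result A B hAn hBn hAB
  have h4 := eq_bot_of_commutator_eq_self (ncl B) h3
  exact le_bot_iff.mp (h4 ▸ comm_le_ncl B)

end Cfsg.Agent.Lib.Helper11.AbCl2
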