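import Mathlib
import Cfsg.Agent.Lib.Helper11.AbCl2B

/-!
S0574 in internal form: induction on the number of prime factors of `|B'|`.
-/

set_option autoImplicit false

namespace Cfsg.Agent.Lib.Helper11.AbCl2

open scoped commutatorElement

universe u

theorem ito_of_comm_bot {G : Type*} [Group G] (A B : Subgroup G)
    (hA : ∀ x ∈ A, ∀ y ∈ A, x * y = y * x)
    (hAB : ∀ g : G, ∃ a ∈ A, ∃ b ∈ B, g = a * b) (hbot : ⁅B, B⁆ = ⊥) :
    derivedSeries G 2 = ⊥ := by
  haveI : IsMulCommutative ↥A := ⟨⟨fun x y => Subtype.ext (hA x x.2 y y.2)⟩⟩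
  haveI : IsMulCommutative ↥B := ⟨⟨fun x y => by
    apply Subtype.ext
    have h1 : ⁅(x : G), (y : G)⁆ ∈ ⁅B, B⁆ := Subgroup.commutator_mem_commutator x.2 y.2
    rw [hbot, Subgroup.mem_bot, commutatorElement_eq_one_iff_commute] at h1
    exact h1.eq⟩⟩
  exact Cfsg.Agent.S0572.result A B hAB

theorem main (n : ℕ) : ∀ (G : Type u) [Group G] [Finite G] (A B : Subgroup G),
    (∀ x ∈ A, ∀ y ∈ A, x * y = y * x) → (∀ c ∈ ⁅B, B⁆, ∀ b ∈ B, c * b = b * c) →
    (∀ g : G, ∃ a ∈ A, ∃ b ∈ B, g = a * b) →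
    (Nat.card ↥(⁅B, B⁆ : Subgroup G)).primeFactorsList.length ≤ n →
    derivedSeries G (2 * (1 + n)) = ⊥ := by
  induction n with
  | zero =>
    intro G _ _ A B hA hB hAB hn
    have hcard : Nat.card ↥(⁅B, B⁆ : Subgroup G) = 1 := by
      have h0 : (Nat.card ↥(⁅B, B⁆ : Subgroup G)).primeFactorsList = [] :=
        List.length_eq_zero_iff.mp (Nat.le_zero.mp hn)
      rcases (Nat.primeFactorsList_eq_nil _).mp h0 with h | h
      · exact absurd h Nat.card_pos.ne'
      · exact h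
    have hbot : ⁅B, B⁆ = ⊥ := Subgroup.card_eq_one.mp hcard
    exact ito_of_comm_bot A B hA hAB hbot
  | succ n ih =>
    intro G _ _ A B hA hB hAB hn
    by_cases hbot : ⁅B, B⁆ = ⊥
    · have h2 := ito_of_comm_bot A B hA hAB hbot
      have h3 := derivedSeries_antitone G (show 2 ≤ 2 * (1 + (n + 1)) by omega)
      rw [h2] at h3
      exact le_bot_iff.mp h3
    · have hlt := comm_inf_lt A B hA hB hAB hbot
      have hΩ := omega_card_lt_of_lt hlt
      have hIH : derivedSeries ↥(A ⊔ ncl B) (2 * (1 + n)) = ⊥ := by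
        apply ih ↥(A ⊔ ncl B) (A.subgroupOf (A ⊔ ncl B)) (B.subgroupOf (A ⊔ ncl B))
        · intro x hx y hy
          exact Subtype.ext (hA x (Subgroup.mem_subgroupOf.mp hx) y (Subgroup.mem_subgroupOf.mp hy))
        · intro c hc b hb
          have hc' : (c : G) ∈ ⁅B, B⁆ := by
            have h1 : (c : G) ∈ (⁅B.subgroupOf (A ⊔ ncl B), B.subgroupOf (A ⊔ ncl B)⁆).map
                (A ⊔ ncl B).subtype := Subgroup.mem_map_of_mem _ hc
            rw [Subgroup.map_commutator, Subgroup.subgroupOf_map_subtype] at h1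
            exact Subgroup.commutator_mono inf_le_left inf_le_left h1
          exact Subtype.ext (hB c hc' b (Subgroup.mem_subgroupOf.mp hb))
        · intro g
          obtain ⟨a, ha, b, hb, hg⟩ := factor_sup A B hAB (A ⊔ ncl B) le_sup_left g g.2
          have hbK : b ∈ A ⊔ ncl B := (Subgroup.mem_inf.mp hb).2
          have haK : a ∈ A ⊔ ncl B := (le_sup_left : A ≤ A ⊔ ncl B) ha
          exact ⟨⟨a, haK⟩, Subgroup.mem_subgroupOf.mpr ha, ⟨b, hbK⟩,
            Subgroup.mem_subgroupOf.mpr (Subgroup.mem_inf.mp hb).1, Subtype.ext hg⟩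
        · have hc : Nat.card ↥(⁅B.subgroupOf (A ⊔ ncl B), B.subgroupOf (A ⊔ ncl B)⁆ :
              Subgroup ↥(A ⊔ ncl B)) =
              Nat.card ↥(⁅B ⊓ (A ⊔ ncl B), B ⊓ (A ⊔ ncl B)⁆ : Subgroup G) := by
            rw [← Subgroup.subgroupOf_map_subtype, ← Subgroup.map_commutator]
            exact (Subgroup.card_map_of_injective (Subgroup.subtype_injective _)).symm
          rw [hc]
          omega
      have h2 : derivedSeries G 2 ≤ A ⊔ ncl B :=
        (derived_two_le_ncl A B hA hAB).trans le_sup_right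
      have h3 := derivedSeries_add_eq_bot (A ⊔ ncl B) 2 h2 _ hIH
      have e : 2 * (1 + (n + 1)) = 2 + 2 * (1 + n) := by ring
      rw [e]
      exact h3

end Cfsg.Agent.Lib.Helper11.AbCl2
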