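import Mathlib
import Cfsg.Prelude.Def_GeometricClasses
import Cfsg.Agent.Lib.Helper7.AschDefs
import Cfsg.Agent.Lib.Helper11.AschCliffDefs
import Cfsg.Agent.Lib.Helper11.AschCliffAct

set_option autoImplicit false

namespace Cfsg.Agent.Lib.Helper11.CliffCL

open Matrix Cfsg Cfsg.Geo Cfsg.Agent.Lib.Helper7.Asch Cfsg.Agent.Lib.Helper11.Cliff
  Cfsg.Agent.Lib.Helper11.CliffAct
open scoped MatrixGroups Kronecker

variable {n : ℕ} {F : Type*} [Field F]

theorem gmap_one {X : Subgroup (GL (Fin n) F)} (h1 : Nzr (1 : GL (Fin n) F) X) (W : SubM X) :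
    gmap 1 h1 W = W := by
  ext v
  rw [mem_gmap]
  have : (gl (1 : GL (Fin n) F)).symm v = v := by
    rw [gl_symm_apply]; simp
  rw [this]

theorem gmap_mul {g h : GL (Fin n) F} {X : Subgroup (GL (Fin n) F)} (hg : Nzr g X) (hh : Nzr h X)
    (hgh : Nzr (g * h) X) (W : SubM X) :
    gmap (g * h) hgh W = gmap g hg (gmap h hh W) := by
  ext v
  simp only [mem_gmap]
  have : (gl (g * h)).symm v = (gl h).symm ((gl g).symm v) := by
    simp [gl_symm_apply, _root_.mul_inv_rev, Matrix.mulVec_mulVec]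
  rw [this]

theorem map_restrictScalars_eq {g : GL (Fin n) F} {X : Subgroup (GL (Fin n) F)} (hg : Nzr g X) (W : SubM X) :
    (W.restrictScalars F).map (Matrix.toLin' (g : Matrix (Fin n) (Fin n) F)) =
      (gmap g hg W).restrictScalars F := by
  ext v
  simp only [Submodule.mem_map, Submodule.restrictScalars_mem, mem_gmap]
  constructor
  · rintro ⟨w, hw, rfl⟩
    have : (gl g).symm (Matrix.toLin' (g : Matrix (Fin n) (Fin n) F) w) = w := by
      rw [Matrix.toLin'_apply, ← gl_apply, LinearEquiv.symm_apply_apply]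
    rwa [this]
  · intro hv
    exact ⟨(gl g).symm v, hv, by rw [Matrix.toLin'_apply, ← gl_apply, LinearEquiv.apply_symm_apply]⟩

theorem eq_bot_or_top_of_invariant {G X : Subgroup (GL (Fin n) F)} (hG : Irr G) (hX : NormBy G X)
    (T : SubM X) (hT : ∀ g (hg : g ∈ G), gmap g (nzr_of_normBy hX hg) T ≤ T) : T = ⊥ ∨ T = ⊤ := by
  have := hG (T.restrictScalars F) (by
    rintro _ ⟨g, hg, rfl⟩
    rw [map_restrictScalars_eq (nzr_of_normBy hX hg)]
    exact fun v hv => hT g hg hv)
  rcases this with h | h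
  · left; exact (Submodule.restrictScalars_eq_bot_iff F _ _).mp h
  · right; exact (Submodule.restrictScalars_eq_top_iff F _ _).mp h

theorem orbitJoin_eq_top {G X : Subgroup (GL (Fin n) F)} (hG : Irr G) (hX : NormBy G X)
    (W : SubM X) (hW : W ≠ ⊥) :
    (⨆ g : G, gmap g.1 (nzr_of_normBy hX g.2) W) = ⊤ := by
  set T := ⨆ g : G, gmap g.1 (nzr_of_normBy hX g.2) W with hTdef
  have hinv : ∀ h (hh : h ∈ G), gmap h (nzr_of_normBy hX hh) T ≤ T := by
    intro h hh
    have h1 : gmap h (nzr_of_normBy hX hh) T =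
        ⨆ g : G, gmap h (nzr_of_normBy hX hh) (gmap g.1 (nzr_of_normBy hX g.2) W) :=
      (gmapIso h (nzr_of_normBy hX hh)).map_iSup (fun g : G => gmap g.1 (nzr_of_normBy hX g.2) W)
    rw [h1]
    apply iSup_le
    intro g
    rw [← gmap_mul (nzr_of_normBy hX hh) (nzr_of_normBy hX g.2) (nzr_of_normBy hX (G.mul_mem hh g.2))]
    exact le_iSup (fun g : G => gmap g.1 (nzr_of_normBy hX g.2) W) ⟨h * g.1, G.mul_mem hh g.2⟩
  rcases eq_bot_or_top_of_invariant hG hX T hinv with h | h
  · exfalso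
    apply hW
    have h2 : W ≤ T := by
      have := le_iSup (fun g : G => gmap g.1 (nzr_of_normBy hX g.2) W) ⟨1, G.one_mem⟩
      simpa [gmap_one] using this
    exact le_bot_iff.mp (h ▸ h2)
  · exact h

/-- **CL1** -/
theorem isSemisimple_envEnd (G X : Subgroup (GL (Fin n) F)) (hG : Irr G) (hX : NormBy G X) :
    IsSemisimpleModule (envEnd X) (Fin n → F) := by
  haveI : IsArtinian (envEnd X) (Fin n → F) := isArtinian_of_tower F inferInstance
  by_cases hbt : (⊥ : SubM X) = ⊤
  · haveI : Subsingleton (Fin n → F) := by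
      rw [← Submodule.subsingleton_iff (envEnd X)]
      exact subsingleton_of_bot_eq_top hbt
    infer_instance
  · haveI : Nontrivial (SubM X) := ⟨⟨⊥, ⊤, hbt⟩⟩
    obtain ⟨U, hU⟩ := IsAtomic.exists_atom (SubM X)
    have hUs : IsSimpleModule (envEnd X) U := isSimpleModule_iff_isAtom.mpr hU
    have htop := orbitJoin_eq_top hG hX U hU.1
    exact isSemisimpleModule_of_isSemisimpleModule_submodule' (fun g : G => by
      haveI := isSimpleModule_gmap (nzr_of_normBy hX g.2) U hUs; infer_instance) htop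


theorem gmap_isotypicComponent {g : GL (Fin n) F} {X : Subgroup (GL (Fin n) F)} (hg : Nzr g X) (S : SubM X) :
    gmap g hg (isotypicComponent (envEnd X) (Fin n → F) S) =
      isotypicComponent (envEnd X) (Fin n → F) (gmap g hg S) := by
  unfold isotypicComponent
  have h1 : gmap g hg (sSup {m : SubM X | Nonempty (m ≃ₗ[envEnd X] S)}) =
      ⨆ a ∈ {m : SubM X | Nonempty (m ≃ₗ[envEnd X] S)}, gmapIso g hg a :=
    (gmapIso g hg).map_sSup {m : SubM X | Nonempty (m ≃ₗ[envEnd X] S)}
  rw [h1]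
  apply le_antisymm
  · apply iSup₂_le
    rintro m ⟨e⟩
    exact le_sSup ⟨gmapEquiv hg e⟩
  · apply sSup_le
    rintro m' ⟨e'⟩
    have e1 : gmap g⁻¹ hg.inv m' ≃ₗ[envEnd X] gmap g⁻¹ hg.inv (gmap g hg S) := gmapEquiv hg.inv e'
    have e2 : gmap g⁻¹ hg.inv m' ≃ₗ[envEnd X] S := e1.trans (LinearEquiv.ofEq _ _ (gmap_inv_gmap hg S))
    have h3 : gmap g hg (gmap g⁻¹ hg.inv m') ≤
        ⨆ a ∈ {m : SubM X | Nonempty (m ≃ₗ[envEnd X] S)}, gmapIso g hg a :=
      le_iSup₂ (f := fun a (_ : a ∈ {m : SubM X | Nonempty (m ≃ₗ[envEnd X] S)}) => gmapIso g hg a)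
        (gmap g⁻¹ hg.inv m') ⟨e2⟩
    rwa [gmap_gmap_inv] at h3

theorem gmap_mem_isotypicComponents {g : GL (Fin n) F} {X : Subgroup (GL (Fin n) F)} (hg : Nzr g X)
    {c : SubM X} (hc : c ∈ isotypicComponents (envEnd X) (Fin n → F)) :
    gmap g hg c ∈ isotypicComponents (envEnd X) (Fin n → F) := by
  obtain ⟨S, hS, rfl⟩ := hc
  exact ⟨gmap g hg S, isSimpleModule_gmap hg S hS, gmap_isotypicComponent hg S⟩


theorem toLin'_eq_gl (g : GL (Fin n) F) :
    Matrix.toLin' (g : Matrix (Fin n) (Fin n) F) = ((gl g : (Fin n → F) ≃ₗ[F] (Fin n → F)) : (Fin n → F) →ₗ[F] (Fin n → F)) := by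
  apply LinearMap.ext
  intro v
  rw [Matrix.toLin'_apply, LinearEquiv.coe_coe, gl_apply]

theorem iSupIndep_restrictScalars {X : Subgroup (GL (Fin n) F)} {ι : Type*} (D : ι → SubM X)
    (h : iSupIndep D) : iSupIndep (fun i => (D i).restrictScalars F) := by
  intro i
  have hi := h i
  rw [Submodule.disjoint_def] at hi ⊢
  intro x hx hx'
  apply hi x hx
  have h1 : (⨆ j, ⨆ (_ : j ≠ i), (D j).restrictScalars F) = (⨆ j, ⨆ (_ : j ≠ i), D j).restrictScalars F := by
    simp only [Submodule.restrictScalars_iSup]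
  rw [h1] at hx'
  exact hx'

/-- **CL2** -/
theorem homog_or_decomposition (G X : Subgroup (GL (Fin n) F)) (hG : Irr G) (hX : NormBy G X) :
    Homog X ∨ ∃ (t m : ℕ) (D : Fin t → Submodule F (Fin n → F)), IsMDecomposition m D ∧
      G ≤ decompositionStabilizer D := by
  haveI hss : IsSemisimpleModule (envEnd X) (Fin n → F) := isSemisimple_envEnd G X hG hX
  haveI : IsNoetherian (envEnd X) (Fin n → F) := isNoetherian_of_tower F inferInstance
  set C : Set (SubM X) := isotypicComponents (envEnd X) (Fin n → F) with hC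
  haveI : Finite C := inferInstanceAs (Finite (isotypicComponents (envEnd X) (Fin n → F)))
  by_cases h2 : ∃ c₁ ∈ C, ∃ c₂ ∈ C, c₁ ≠ c₂
  swap
  · left
    unfold Homog
    intro (m : SubM X) hm
    refine IsIsotypicOfType.of_isotypicComponent_eq_top (R := envEnd X) (M := Fin n → F) (S := m) ?_
    have hmem : isotypicComponent (envEnd X) (Fin n → F) m ∈ C := ⟨m, hm, rfl⟩
    have hsub : ∀ c ∈ C, c ≤ isotypicComponent (envEnd X) (Fin n → F) m := by
      intro c hc
      by_contra hne
      exact h2 ⟨c, hc, _, hmem, fun h => hne h.le⟩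
    have := sSup_isotypicComponents (envEnd X) (Fin n → F)
    exact top_unique (this ▸ sSup_le hsub)
  · right
    obtain ⟨c₁, hc₁, c₂, hc₂, hne⟩ := h2
    have htrans : ∀ c ∈ C, ∃ g : G, c = gmap g.1 (nzr_of_normBy hX g.2) c₁ := by
      intro c hc
      by_contra hno
      push Not at hno
      have hind := sSupIndep_isotypicComponents (envEnd X) (Fin n → F) hc
      have htop := orbitJoin_eq_top hG hX c₁ (bot_lt_isotypicComponents hc₁).ne'
      have hle : (⨆ g : G, gmap g.1 (nzr_of_normBy hX g.2) c₁) ≤ sSup (C \ {c}) := by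
        apply iSup_le
        intro g
        apply le_sSup
        exact ⟨gmap_mem_isotypicComponents _ hc₁, fun h => hno g h.symm⟩
      rw [htop] at hle
      have h3 : sSup (C \ {c}) = ⊤ := top_unique hle
      rw [h3, disjoint_top] at hind
      exact (bot_lt_isotypicComponents hc).ne' hind
    set t := Nat.card C with ht
    let e : Fin t ≃ C := (Finite.equivFin C).symm
    refine ⟨t, Module.finrank F (c₁.restrictScalars F), fun i => (e i).1.restrictScalars F, ?_, ?_⟩
    · refine ⟨?_, ?_, ?_, ?_, ?_⟩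
      · haveI : Nontrivial C := ⟨⟨⟨c₁, hc₁⟩, ⟨c₂, hc₂⟩, by simpa using hne⟩⟩
        exact Finite.one_lt_card_iff_nontrivial.mpr inferInstance
      · rw [Module.finrank_pos_iff]
        rw [Submodule.nontrivial_iff_ne_bot]
        intro h
        exact (bot_lt_isotypicComponents hc₁).ne' ((Submodule.restrictScalars_eq_bot_iff F _ _).mp h)
      · intro i
        obtain ⟨g, hg⟩ := htrans (e i).1 (e i).2
        rw [hg, ← map_restrictScalars_eq, toLin'_eq_gl, LinearEquiv.finrank_map_eq]
      · apply iSupIndep_restrictScalars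
        have h1 : iSupIndep (fun c : C => (c : SubM X)) :=
          (sSupIndep_iff _).mp (sSupIndep_isotypicComponents (envEnd X) (Fin n → F))
        exact h1.comp e.injective
      · have h1 : (⨆ i, (e i).1) = (⊤ : SubM X) := by
          rw [← sSup_isotypicComponents (envEnd X) (Fin n → F), sSup_eq_iSup']
          exact e.iSup_comp (g := fun c : C => (c : SubM X))
        rw [← Submodule.restrictScalars_iSup, h1, Submodule.restrictScalars_top]
    · intro g hg
      have hN := nzr_of_normBy hX hg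
      let pc : C ≃ C :=
        { toFun := fun c => ⟨gmap g hN c.1, gmap_mem_isotypicComponents hN c.2⟩
          invFun := fun c => ⟨gmap g⁻¹ hN.inv c.1, gmap_mem_isotypicComponents hN.inv c.2⟩
          left_inv := fun c => Subtype.ext (gmap_inv_gmap hN c.1)
          right_inv := fun c => Subtype.ext (gmap_gmap_inv hN c.1) }
      refine ⟨(e.trans pc).trans e.symm, ?_⟩
      intro i
      rw [map_restrictScalars_eq hN]
      simp [pc]

end Cfsg.Agent.Lib.Helper11.CliffCL
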