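import Mathlib
import Cfsg.Prelude.Def_GeometricClasses
import Cfsg.Agent.Lib.Helper7.AschDefs
import Cfsg.Agent.Lib.Helper11.AschCliffDefs
import Cfsg.Agent.Lib.Helper11.S5630I4CL2
import Cfsg.Agent.Lib.Helper7.S5630I4CL3
import Cfsg.Agent.Lib.Helper23.S5630I4CL1
import Cfsg.Agent.Lib.Helper18.S5630I4CEN
import Cfsg.Agent.Lib.Helper18.S5630I4ED
import Cfsg.Agent.Lib.Helper8.S5630I4TENS
import Cfsg.Agent.Lib.Helper8.S5630I4TENS3
import Cfsg.Agent.Lib.Helper26.S5630I4TENS3c

/-!
# S5630, block I4 (Clifford theory): BRIDGE (helper11)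

Every piece of the I4 sub-skeleton restated with its exact signature, the proofs being the landed deliveries of
helper8, helper18, helper23/helper7, helper26 and helper11.
-/

set_option autoImplicit false

namespace Cfsg.Agent.Lib.Helper11.CliffBridge

open Matrix Cfsg Cfsg.Geo Cfsg.Agent.Lib.Helper7.Asch Cfsg.Agent.Lib.Helper11.Cliff
open scoped MatrixGroups Kronecker

variable {n : ℕ} {F : Type*} [Field F]

/-! ## Layer 1: semisimplicity, isotypic components -/

/-- **CL1** (Clifford, semisimplicity).  Take a simple `envEnd X`-submodule `U` (exists: finite dimension; `n = 0` is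
trivial).  For `g ∈ G` the image `g U` is again a simple `envEnd X`-submodule (`x (g u) = g ((g⁻¹ x g) u)`); the sum of all
`g U` is `G`-invariant, so it is `⊤` by `Irr G`; a module that is a sum of simple submodules is semisimple
(`isSemisimpleModule_of_isSimpleModule_of_sSup_eq_top`-type lemma in `Mathlib/RingTheory/SimpleModule/Basic`).
Use `envSub` to turn invariant `F`-subspaces into submodules and `Submodule.restrictScalars F` for the converse. -/
theorem isSemisimple_envEnd (G X : Subgroup (GL (Fin n) F)) (hG : Irr G) (hX : NormBy G X) :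
    IsSemisimpleModule (envEnd X) (Fin n → F) :=
  Cfsg.Agent.Lib.Helper11.CliffCL.isSemisimple_envEnd G X hG hX

/-- **CL2** (Clifford, isotypic components are permuted transitively).  `g ∈ G` maps an `envEnd X`-submodule `W` to the
submodule `g W`, and `W ≃ W'` (over `envEnd X`) implies `g W ≃ g W'` (`g φ g⁻¹` is `envEnd X`-linear), so `G` permutes the
finite set `isotypicComponents (envEnd X) V` (`sSupIndep_isotypicComponents`, `sSup_isotypicComponents`, finiteness:
`IsNoetherian`).  The join of a `G`-orbit is `G`-invariant, hence `⊤`; by independence the action is transitive and all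
components have the same dimension `m ≥ 1`.  One component: `Homog X` (`isotypicComponent = ⊤`,
`IsIsotypicOfType.of_isotypicComponent_eq_top`).  `t ≥ 2` components: `D i` := the `i`-th component as an `F`-subspace. -/
theorem homog_or_decomposition (G X : Subgroup (GL (Fin n) F)) (hG : Irr G) (hX : NormBy G X) :
    Homog X ∨ ∃ (t m : ℕ) (D : Fin t → Submodule F (Fin n → F)), IsMDecomposition m D ∧
      G ≤ decompositionStabilizer D :=
  Cfsg.Agent.Lib.Helper11.CliffCL.homog_or_decomposition G X hG hX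

/-- **CL2'** (for block I7).  If `X ⊔ C` is irreducible and `C` centralises `X`, then `X` is homogeneous: `V|_X` is
semisimple (CL1 with `G = X ⊔ C`), every isotypic component is invariant under `X` and under `C` (elements commuting with
`X` are `envEnd X`-linear; `Submodule.IsFullyInvariant.of_mem_isotypicComponents`), hence under `X ⊔ C`: it is `⊤`. -/
theorem homog_of_commuting (X C : Subgroup (GL (Fin n) F)) (hI : Irr (X ⊔ C))
    (hcomm : ∀ x ∈ X, ∀ c ∈ C, x * c = c * x) : Homog X :=
  Cfsg.Agent.Lib.Helper23.S5630I4CL.homog_of_commuting X C hI hcomm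

/-! ## Layer 2: block form, centre of the commutant -/

/-- **CL3** (block form, HB).  `IsIsotypic.linearEquiv_fun` gives a simple submodule `U` and `V ≃ₗ[envEnd X] (Fin s → U)`.
Put `d = finrank F U`, choose an `F`-basis of `U`: `U ≃ₗ[F] (Fin d → F)`; `ρ x` := the matrix of `x|_U`; `Y := ρ(X)` is
irreducible because `U` is simple.  Transport: `V ≃ (Fin s → Fin d → F) ≃ (Fin d × Fin s → F) ≃ (Fin n → F)` (any bijection
`e`), the columns of `P` are the images of the standard basis; `x ∈ X` acts as `ρ x ⊗ 1`.  (`n = d * s`; `1 ≤ n` makes `V`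
non-trivial.) -/
theorem exists_block_form (hn : 1 ≤ n) (X : Subgroup (GL (Fin n) F))
    (hss : IsSemisimpleModule (envEnd X) (Fin n → F)) (hH : Homog X) :
    ∃ (d s : ℕ) (e : Fin n ≃ Fin d × Fin s) (P : GL (Fin n) F) (Y : Subgroup (GL (Fin d) F)),
      Irr Y ∧ X = Y.map (kronL e P) :=
  Cfsg.Agent.Lib.Helper7.S5630I4CL3.exists_block_form hn X hss hH

/-- **CEN1**.  Conjugation by `g` preserves `X`, hence `commAlg X`, hence its centre. -/
theorem le_normalizer_cenAlg (G X : Subgroup (GL (Fin n) F)) (hX : NormBy G X) :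
    G ≤ subalgebraNormalizer (cenAlg X) :=
  Cfsg.Agent.Lib.Helper18.S5630I4CEN.le_normalizer_cenAlg G X hX

/-- **CEN2** (the centre of the commutant in block form).  In the coordinates `Fin d × Fin s` a matrix commutes with all
`y ⊗ 1` iff all its `s × s` blocks (of size `d × d`) commute with `Y`; in particular `1 ⊗ b ∈ commAlg`; a matrix
commuting with all `1 ⊗ b` is `c ⊗ 1`; `c ⊗ 1` commutes with the commutant because the commutant `E_Y` of the irreducible
`Y` is commutative (CORE-SCHb `centralizer_comm`, needs `Fintype F`). -/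
theorem mem_cenAlg_kron [Fintype F] {d s : ℕ} (hs : 1 ≤ s) (e : Fin n ≃ Fin d × Fin s) (P : GL (Fin n) F)
    (Y : Subgroup (GL (Fin d) F)) (hY : Irr Y) (M : Matrix (Fin n) (Fin n) F) :
    M ∈ cenAlg (Y.map (kronL e P)) ↔
      ∃ c : Matrix (Fin d) (Fin d) F, (∀ y ∈ matrixSet Y, c * y = y * c) ∧ M = kronLM e P c :=
  Cfsg.Agent.Lib.Helper18.S5630I4CEN.mem_cenAlg_kron hs e P Y hY M

/-- **CEN3** (exit C3).  `E := cenAlg X = {c ⊗ 1 : c ∈ E_Y}` is commutative with inverses (CORE-SCHa/b via CEN2) and, as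
`Y` is not absolutely irreducible, contains a non-scalar; CORE-FFa `exists_prime_field_subalgebra` gives the canonical
subfield `K` of prime degree, `normalizer_le_of_canonical` + CEN1 give `G ≤ subalgebraNormalizer K`; `InClass.of_field`. -/
theorem inClass_of_not_absIrr_block [Fintype F] (G X : Subgroup (GL (Fin n) F)) (hX : NormBy G X)
    {d s : ℕ} (hs : 1 ≤ s) (e : Fin n ≃ Fin d × Fin s) (P : GL (Fin n) F) (Y : Subgroup (GL (Fin d) F))
    (hY : Irr Y) (hnY : ¬ AbsIrr Y) (hXY : X = Y.map (kronL e P)) : InClass G :=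
  Cfsg.Agent.Lib.Helper18.S5630I4CEN.inClass_of_not_absIrr_block G X hX hs e P Y hY hnY hXY

/-! ## Layer 3: exits -/

/-- **ED1**.  Degree-one constituent: `X` is scalar (`a ⊗ 1` with `a` a `1 × 1` matrix is `a₀₀ • 1`). -/
theorem map_kronL_le_scalars {s : ℕ} (e : Fin n ≃ Fin 1 × Fin s) (P : GL (Fin n) F)
    (Y : Subgroup (GL (Fin 1) F)) : Y.map (kronL e P) ≤ scalars (Fin n) F :=
  Cfsg.Agent.Lib.Helper18.S5630I4ED.map_kronL_le_scalars e P Y

/-- **ED2**.  Multiplicity one: `X = P · reindex(Y ⊗ 1₁) · P⁻¹` is absolutely irreducible (transport of invariant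
subspaces and of the commutant along the reindexing `Fin d × Fin 1 ≃ Fin d` and the conjugation by `P`). -/
theorem absIrr_map_kronL {d : ℕ} (e : Fin n ≃ Fin d × Fin 1) (P : GL (Fin n) F)
    (Y : Subgroup (GL (Fin d) F)) (hY : AbsIrr Y) : AbsIrr (Y.map (kronL e P)) :=
  Cfsg.Agent.Lib.Helper18.S5630I4ED.absIrr_map_kronL e P Y hY

/-- **TENS1** (fundamental lemma).  `g` normalises `{y ⊗ 1 : y ∈ Y}`, `Y` absolutely irreducible.  The minimal
`(Y ⊗ 1)`-invariant subspaces of `U ⊗ W` are exactly the `U ⊗ w` (`Helper27.TensFund.std w`): a minimal invariant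
subspace is the image of `U` under an intertwiner `u ↦ Σ_j φ_j(u) ⊗ e_j` with `φ_j ∈ End_Y(U) = F`.  `g` maps minimal
invariant subspaces to minimal invariant subspaces, so `Helper27.TensFund.mem_kron_of_maps_all` applies. -/
theorem mem_kron_of_normalizes {d s : ℕ} (hd : 1 ≤ d) (hs : 1 ≤ s) (Y : Subgroup (GL (Fin d) F))
    (hY : AbsIrr Y) (g : GL (Fin d × Fin s) F)
    (hg : ∀ y ∈ Y, ∃ y' ∈ Y, g * Units.map (kronLMat d s F) y * g⁻¹ = Units.map (kronLMat d s F) y') :
    g ∈ kroneckerSubgroup d s F :=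
  Cfsg.Agent.Lib.Helper8.S5630I4TENS.mem_kron_of_normalizes hd hs Y hY g hg

/-- **TENS2**.  Transport of TENS1 through `glReindex e.symm` and `MulAut.conj P`. -/
theorem le_tensorProductSubgroup_of_normalizes (G X : Subgroup (GL (Fin n) F)) (hX : NormBy G X)
    {d s : ℕ} (hd : 1 ≤ d) (hs : 1 ≤ s) (e : Fin n ≃ Fin d × Fin s) (P : GL (Fin n) F)
    (Y : Subgroup (GL (Fin d) F)) (hY : AbsIrr Y) (hXY : X = Y.map (kronL e P)) :
    G ≤ tensorProductSubgroup d s e P :=
  Cfsg.Agent.Lib.Helper8.S5630I4TENS.le_tensorProductSubgroup_of_normalizes G X hX hd hs e P Y hY hXY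

/-- **TENS3a**.  Swapping the two tensor factors (`Helper27.TensFund.swapGL`, `Matrix.kroneckerMap` symmetry). -/
theorem tensorProductSubgroup_swap {d s : ℕ} (e : Fin n ≃ Fin d × Fin s) (P : GL (Fin n) F) :
    tensorProductSubgroup d s e P = tensorProductSubgroup s d (e.trans (Equiv.prodComm (Fin d) (Fin s))) P :=
  Cfsg.Agent.Lib.Helper8.S5630I4TENS3.tensorProductSubgroup_swap e P

/-- **TENS3b**.  Equal factors: `a ⊗ b` is a pure tensor for `t = 2` (`gs = ![a, b]`), with
`e' = e.trans (finTwoArrowEquiv (Fin m)).symm`-like bijection `Fin m × Fin m ≃ (Fin 2 → Fin m)`. -/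
theorem tensorProductSubgroup_le_tensorWreath {m : ℕ} (e : Fin n ≃ Fin m × Fin m) (P : GL (Fin n) F) :
    ∃ e' : Fin n ≃ (Fin 2 → Fin m), tensorProductSubgroup m m e P ≤ tensorWreathSubgroup m 2 e' P :=
  Cfsg.Agent.Lib.Helper8.S5630I4TENS3.tensorProductSubgroup_le_tensorWreath e P

/-- **TENS3c**.  `n = 4 = 2 · 2`: `Q₀(v) = v₀₀ v₁₁ - v₀₁ v₁₀` satisfies `Q₀((a ⊗ b) v) = det a · det b · Q₀(v)`; transport by
`e`, `P`.  `|F|` odd: `InClass.of_quadratic`; `|F|` even: the polar form is symplectic, `InClass.of_symplectic`. -/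
theorem inClass_of_le_tensor22 [Fintype F] (hn : 3 ≤ n) (G : Subgroup (GL (Fin n) F))
    (e : Fin n ≃ Fin 2 × Fin 2) (P : GL (Fin n) F) (hG : G ≤ tensorProductSubgroup 2 2 e P) : InClass G :=
  Cfsg.Agent.Lib.Helper26.S5630I4TENS3c.inClass_of_le_tensor22 hn G e P hG

end Cfsg.Agent.Lib.Helper11.CliffBridge
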