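import Mathlib
import Cfsg.Prelude.Def_GeometricClasses
import Cfsg.Agent.Lib.Helper7.AschDefs
import Cfsg.Agent.Lib.Helper7.AschWrap
import Cfsg.Agent.Lib.Helper11.AschCliffDefs
import Cfsg.Agent.Lib.Helper11.AschCliffBridge

/-!
# S5630, block I4: assembly of `clifford` from the sub-skeleton pieces (helper11)
-/

set_option autoImplicit false

namespace Cfsg.Agent.Lib.Helper11.CliffMain

open Matrix Cfsg Cfsg.Geo Cfsg.Agent.Lib.Helper7.Asch Cfsg.Agent.Lib.Helper11.Cliff
  Cfsg.Agent.Lib.Helper11.CliffBridge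
open scoped MatrixGroups Kronecker

variable {n : ℕ} {F : Type*} [Field F] [Fintype F]

/-- The tensor exit: `G ≤ P (GL_d ⊗ GL_s) P⁻¹` with `d, s ≥ 2` puts `G` in C4, C7 or C8. -/
theorem inClass_of_le_tensorProductSubgroup (hn : 3 ≤ n) (G : Subgroup (GL (Fin n) F)) {d s : ℕ}
    (hd : 2 ≤ d) (hs : 2 ≤ s) (e : Fin n ≃ Fin d × Fin s) (P : GL (Fin n) F)
    (hG : G ≤ tensorProductSubgroup d s e P) : InClass G := by
  rcases Nat.lt_trichotomy d s with h | h | h
  · exact InClass.of_tensor G d s e P hd h hG
  · subst h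
    rcases Nat.lt_or_ge d 3 with h3 | h3
    · have h2 : d = 2 := by omega
      subst h2
      exact inClass_of_le_tensor22 hn G e P hG
    · obtain ⟨e', he'⟩ := tensorProductSubgroup_le_tensorWreath e P
      exact InClass.of_tensorWreath G d 2 e' P h3 le_rfl (hG.trans he')
  · rw [tensorProductSubgroup_swap] at hG
    exact InClass.of_tensor G s d _ P hs h hG

/-- **I4** (Clifford trichotomy), general form: `X` normalised by the irreducible `G` (no `X ≤ G` needed). -/
theorem clifford_gen (hn : 3 ≤ n) (G X : Subgroup (GL (Fin n) F)) (hG : Irr G) (hX : NormBy G X) :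
    InClass G ∨ X ≤ scalars (Fin n) F ∨ AbsIrr X := by
  have hss := isSemisimple_envEnd G X hG hX
  rcases homog_or_decomposition G X hG hX with hhom | ⟨t, m, D, hD, hle⟩
  swap
  · exact Or.inl (InClass.of_decomposition G m D hD hle)
  obtain ⟨d, s, e, P, Y, hY, hXY⟩ := exists_block_form (by omega) X hss hhom
  have hds : d * s = n := by
    have := Fintype.card_congr e
    simpa [Fintype.card_prod] using this.symm
  have hd0 : 1 ≤ d := by
    rcases Nat.eq_zero_or_pos d with h0 | h0
    · subst h0; simp at hds; omega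
    · exact h0
  have hs0 : 1 ≤ s := by
    rcases Nat.eq_zero_or_pos s with h0 | h0
    · subst h0; simp at hds; omega
    · exact h0
  by_cases hYa : AbsIrr Y
  · rcases Nat.lt_or_ge d 2 with hd | hd
    · have hd1 : d = 1 := by omega
      subst hd1
      exact Or.inr (Or.inl (hXY ▸ map_kronL_le_scalars e P Y))
    · rcases Nat.lt_or_ge s 2 with hs | hs
      · have hs1 : s = 1 := by omega
        subst hs1
        exact Or.inr (Or.inr (hXY ▸ absIrr_map_kronL e P Y hYa))
      · left
        have := le_tensorProductSubgroup_of_normalizes G X hX hd0 hs0 e P Y hYa hXY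
        exact inClass_of_le_tensorProductSubgroup hn G hd hs e P this
  · exact Or.inl (inClass_of_not_absIrr_block G X hX hs0 e P Y hY hYa hXY)

/-- **I4** with the exact signature of `Cfsg.Agent.Lib.Helper7.Asch.clifford`. -/
theorem clifford (hn : 3 ≤ n) (H N : Subgroup (GL (Fin n) F)) (hH : AbsIrr H) (hNH : N ≤ H)
    (hnorm : NormBy H N) : InClass H ∨ N ≤ scalars (Fin n) F ∨ AbsIrr N :=
  clifford_gen hn H N hH.1 hnorm

end Cfsg.Agent.Lib.Helper11.CliffMain
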