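import Mathlib
import Cfsg.Prelude.Def_OddOrderLocal
import Cfsg.Agent.S1375
import Cfsg.Agent.S1432
import Cfsg.Agent.S1420
import Cfsg.Agent.S1435
import Cfsg.Agent.S1363
import Cfsg.Agent.S1366
import Cfsg.Agent.Lib.Helper1.BG153
import Cfsg.Agent.Lib.Helper3.BG14P
import Cfsg.Agent.Lib.Helper7.BG148B
import Cfsg.Agent.Lib.Helper7.BGTypesD
import Cfsg.Agent.Lib.Helper11.Semidirect
import Cfsg.Agent.Lib.Helper23.WardBasic
import Cfsg.Agent.Lib.Helper9.BGExc7

/-!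
# Helper11: set-up for the frozen row S1376 (B&G Theorem 14.4(e))

`M` maximal, `x ∈ M_σ#`, `C_G(x) ⊄ M`, `N` maximal over `C_G(x)`, `κ(N) ≠ ∅`.
We produce a standard factorisation `N = K U N_σ` with `U K = M ∩ N`, `x ∈ U` (after replacing `x`
by a power of prime order `r`), `r ∈ τ₂(N)`, and apply Corollary 14.8 (`S1435`) with `H := M`.
-/

set_option autoImplicit false
set_option linter.unusedSectionVars false
set_option linter.unusedVariables false
set_option linter.style.haveILetI false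

open Cfsg

namespace Cfsg.Agent.Lib.Helper11.BG1376

open Cfsg.Agent.Lib.Helper10.BG Cfsg.Agent.Lib.Helper10 Cfsg.Agent.Lib.Helper9.BGExc
open Cfsg.Agent.Lib.Helper1.BGSigmaDecomp

variable {G : Type*} [Group G] [Finite G]

/-- centralizers of singletons grow under powers. -/
theorem centralizer_le_centralizer_pow (x : G) (n : ℕ) :
    Subgroup.centralizer ({x} : Set G) ≤ Subgroup.centralizer ({x ^ n} : Set G) := by
  intro g hg
  rw [Subgroup.mem_centralizer_iff] at hg ⊢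
  intro h hh
  rw [Set.mem_singleton_iff] at hh
  subst hh
  have h1 : x * g = g * x := hg x rfl
  exact ((Commute.pow_left (show Commute x g from h1) n).eq)

/-- **reduction to prime order.** -/
theorem exists_prime_order (hG : IsMinSimpleOddOrder G) {M : Subgroup G} (hM : IsCoatom M)
    {x : G} (hx : x ∈ sigmaCore M) (hx1 : x ≠ 1)
    (hxM : ¬ Subgroup.centralizer ({x} : Set G) ≤ M) {N : Subgroup G} (hN : IsCoatom N)
    (hxN : Subgroup.centralizer ({x} : Set G) ≤ N) :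
    ∃ x' : G, x' ∈ sigmaCore M ∧ (orderOf x').Prime ∧
      ¬ Subgroup.centralizer ({x'} : Set G) ≤ M ∧ Subgroup.centralizer ({x'} : Set G) ≤ N := by
  have ho : orderOf x ≠ 1 := fun h => hx1 (orderOf_eq_one_iff.mp h)
  have hpos : 0 < orderOf x := orderOf_pos x
  set r := (orderOf x).minFac with hr
  have hrp : r.Prime := Nat.minFac_prime ho
  have hrd : r ∣ orderOf x := Nat.minFac_dvd _
  set x' := x ^ (orderOf x / r) with hx'
  have hx'o : orderOf x' = r := orderOf_pow_orderOf_div hpos.ne' hrd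
  have hx'σ : x' ∈ sigmaCore M := Subgroup.pow_mem _ hx _
  have hx'1 : x' ≠ 1 := by
    intro h
    rw [h, orderOf_one] at hx'o
    exact hrp.one_lt.ne hx'o
  have hcc : Subgroup.centralizer ({x} : Set G) ≤ Subgroup.centralizer ({x'} : Set G) :=
    centralizer_le_centralizer_pow x _
  have hx'M : ¬ Subgroup.centralizer ({x'} : Set G) ≤ M := fun h => hxM (hcc.trans h)
  obtain ⟨N₀, ⟨hN₀, hxN₀⟩, huniq, -⟩ := Cfsg.Agent.S1375.result hG M hM x hx hx1 hxM
  obtain ⟨N₁, ⟨hN₁, hxN₁⟩, -⟩ := Cfsg.Agent.S1375.result hG M hM x' hx'σ hx'1 hx'M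
  have e1 : N = N₀ := huniq N hN hxN
  have e2 : N₁ = N₀ := huniq N₁ hN₁ (hcc.trans hxN₁)
  refine ⟨x', hx'σ, hx'o ▸ hrp, hx'M, ?_⟩
  rw [e1, ← e2]
  exact hxN₁

/-- a standard factorisation `(K, U)` of `N` with `U K` a prescribed complement of `N_σ`. -/
theorem exists_decomp_eq (hG : IsMinSimpleOddOrder G) {N V : Subgroup G} (hN : IsCoatom N)
    (hV : IsComplIn V (sigmaCore N) N) :
    ∃ K U : Subgroup G, IsSigmaDecomposition N K U ∧ U ⊔ K = V := by
  obtain ⟨K₁, U₁, hKU₁⟩ := Cfsg.Agent.Lib.Helper1.BG153.exists_decomp hG hN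
  have hE := isComplIn_UK hG hN hKU₁
  have hNs : Group.IsSolvable ↥N := isSolvable_of_ne_top hG hN.1
  have hc1 := Cfsg.Agent.Lib.Helper10.IsComplIn.card_eq hV
  have hc2 := Cfsg.Agent.Lib.Helper10.IsComplIn.card_eq hE
  have hcardE : Nat.card ↥(U₁ ⊔ K₁) = Nat.card V := by
    have : Nat.card ↥(U₁ ⊔ K₁) * Nat.card (sigmaCore N) = Nat.card V * Nat.card (sigmaCore N) := by
      rw [← hc1, ← hc2]
    exact Nat.eq_of_mul_eq_mul_right Nat.card_pos this
  have hrel : V.relIndex N = Nat.card (sigmaCore N) := by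
    have h1 := Cfsg.Agent.Lib.Helper12.card_mul_relIndex_eq hV.1
    have : Nat.card V * V.relIndex N = Nat.card V * Nat.card (sigmaCore N) := by
      rw [h1, hc1]
    exact Nat.eq_of_mul_eq_mul_left Nat.card_pos this
  have hcop : (Nat.card ↥(U₁ ⊔ K₁)).Coprime (Nat.card (sigmaCore N)) := by
    rw [card_U_sup_K hKU₁]
    apply Nat.coprime_of_dvd
    intro q hq hd1 hd2
    have hqσ := mem_sigma_of_dvd_card_sigmaCore hG hN hq hd2
    rcases (Nat.Prime.dvd_mul hq).mp hd1 with h | h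
    · exact not_mem_sigma_of_dvd_card_U hG hN hKU₁ hq h hqσ
    · exact not_mem_sigma_of_dvd_card_K hKU₁ hq h hqσ
  obtain ⟨g, hgN, hg⟩ := hall_le_conj_in hNs hV.1 hE.1 (by rw [hrel, ← hcardE]; exact hcop)
    (by rw [hrel]; exact hcop)
  have heq : cj g (U₁ ⊔ K₁) = V := by
    apply Subgroup.eq_of_le_of_card_ge hg
    rw [card_cj, hcardE]
  refine ⟨cj g K₁, cj g U₁, Cfsg.Agent.Lib.Helper7.BGTypes.isSigmaDecomposition_cj hKU₁ hgN, ?_⟩
  rw [← cj_sup]
  exact heq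

/-- the normalizer in `G` of a noncyclic `r`-subgroup of `M`, `r ∈ σ(M)`, lies in `M`
(`S1420(3)`, choosing any complement). -/
theorem normalizer_le_of_noncyclic (hG : IsMinSimpleOddOrder G) {M : Subgroup G} (hM : IsCoatom M)
    {r : ℕ} (hr : r ∈ sigma M) {P : Subgroup G} (hP : IsPGroup r P) (hPM : P ≤ M)
    (hnc : ¬ IsCyclic P) : Subgroup.normalizer (P : Set G) ≤ M := by
  obtain ⟨E, hE, -⟩ := exists_isComplIn_sigmaCore_ge hG hM (X := ⊥) bot_le
    (by rw [Subgroup.card_bot]; exact Nat.coprime_one_left _)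
  exact (Cfsg.Agent.S1420.result hG M hM E hE).2.2.1 r P hr hP hPM hnc

/-- **the set-up of S1376.** -/
theorem setup (hG : IsMinSimpleOddOrder G) {M N : Subgroup G} (hM : IsCoatom M)
    (hN : IsCoatom N) {x : G} (hx : x ∈ sigmaCore M) {r : ℕ} [Fact r.Prime]
    (hxr : orderOf x = r) (hxM : ¬ Subgroup.centralizer ({x} : Set G) ≤ M)
    (hxN : Subgroup.centralizer ({x} : Set G) ≤ N) (hkN : (kappa N).Nonempty) :
    ∃ Ns K U : Subgroup G, IsSigmaDecomposition N K U ∧ K ≠ ⊥ ∧ U ≠ ⊥ ∧ IsCoatom Ns ∧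
      K = sigmaCore Ns ⊓ Subgroup.centralizer ((sigmaCore N ⊓ Subgroup.centralizer (K : Set G)) : Set G) ∧
      IsPiHallOf (kappa Ns) (sigmaCore N ⊓ Subgroup.centralizer (K : Set G)) Ns ∧
      x ∈ U ∧ sigmaCore N ⊓ Subgroup.centralizer ({x} : Set G) ≠ ⊥ ∧ r ∈ tau2 N ∧
      kappa M = ∅ ∧ U ≤ sigmaCore M ∧ N ⊓ M = U ⊔ K ∧ K ≤ fittingOf (M ⊓ Ns) ∧
      IsComplIn (M ⊓ Ns) (sigmaCore M) M ∧
      U ≤ M ∧ K ≤ M ∧ (∀ g : G, N.map (MulAut.conj g).toMonoidHom ≠ M) ∧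
      Nat.card K ∉ sigma M ∧
      (∀ y ∈ K, y ≠ 1 → ∀ s ∈ sigmaCore M, y * s = s * y → s = 1) ∧
      Group.IsNilpotent (sigmaCore M) := by
  have hr : r.Prime := Fact.out
  have hx1 : x ≠ 1 := by
    intro h
    rw [h, orderOf_one] at hxr
    exact hr.one_lt.ne hxr
  obtain ⟨N₀, ⟨hN₀, hxN₀⟩, huniq, -, -, hcx, hcMN, hdec⟩ :=
    Cfsg.Agent.S1375.result hG M hM x hx hx1 hxM
  obtain rfl : N = N₀ := huniq N hN hxN
  obtain ⟨K, U, hKU, hUK⟩ := exists_decomp_eq hG hN hcMN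
  obtain ⟨hU1, hxA, hxσN⟩ := hdec K U hKU
  have hE := isComplIn_UK hG hN hKU
  -- `K ≠ 1`
  have hK1 : K ≠ ⊥ := by
    rintro rfl
    obtain ⟨q, hq⟩ := hkN
    have h1 := hKU.hall.2.2 q hq.1 hq
    rw [Subgroup.relIndex_bot_left] at h1
    exact h1 hq.2.1
  -- `C_{N_σ}(x) ≠ 1`
  have hCx : sigmaCore N ⊓ Subgroup.centralizer ({x} : Set G) ≠ ⊥ := by
    intro hbot
    apply hxM
    intro c hc
    obtain ⟨a, ha, b, hb, rfl⟩ := hcx.2.2.2 c hc
    rw [hbot, Subgroup.mem_bot] at hb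
    rw [hb, mul_one]
    exact ha.1
  -- `x ∈ U`
  have hxMem : x ∈ M := sigmaCore_le M hx
  have hxNmem : x ∈ N := hxN (Subgroup.mem_centralizer_iff.mpr (fun h hh => by
    rw [Set.mem_singleton_iff] at hh; rw [hh]))
  have hxUK : x ∈ U ⊔ K := by rw [hUK]; exact ⟨hxMem, hxNmem⟩
  have hxU : x ∈ U := by
    have h1 : x ∈ sigmaCore N ⊔ U := by
      rw [sup_comm]; exact hxA.2
    have hUn : U ≤ Subgroup.normalizer (sigmaCore N : Set G) :=
      hKU.compl.1.trans (le_normalizer_sigmaCore N)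
    obtain ⟨s, hs, u, hu, he⟩ :=
      (Cfsg.Agent.Lib.Helper11.mem_sup_iff_exists_mul (sigmaCore N) U hUn x).mp h1
    have hs' : s ∈ U ⊔ K := by
      have : s = x * u⁻¹ := by rw [he]; group
      rw [this]
      exact (U ⊔ K).mul_mem hxUK ((U ⊔ K).inv_mem (Subgroup.mem_sup_left hu))
    have hs1 : s = 1 := by
      have : s ∈ (U ⊔ K) ⊓ sigmaCore N := ⟨hs', hs⟩
      rw [hE.2.2.1, Subgroup.mem_bot] at this
      exact this
    rw [he, hs1, one_mul]
    exact hu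
  -- `r ∈ τ₂(N)`
  have hrU : r ∣ Nat.card U := by
    rw [← hxr]
    exact (orderOf_dvd_natCard (⟨x, hxU⟩ : U)) |> fun h => by
      have h2 : orderOf (⟨x, hxU⟩ : U) = orderOf x := Subgroup.orderOf_mk x hxU
      rwa [h2] at h
  have hrσN : r ∉ sigma N := not_mem_sigma_of_dvd_card_U hG hN hKU hr hrU
  have hrκN : r ∉ kappa N := not_mem_kappa_of_dvd_card_U hG hN hKU hr hrU
  have hrτ : r ∈ tau2 N := by
    obtain ⟨y₀, hy₀, hy₀1⟩ : ∃ y ∈ sigmaCore N ⊓ Subgroup.centralizer ({x} : Set G), y ≠ 1 := by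
      by_contra hne
      push Not at hne
      exact hCx ((Subgroup.eq_bot_iff_forall _).mpr hne)
    have hcomm : x * y₀ = y₀ * x := by
      have := Subgroup.mem_centralizer_iff.mp hy₀.2 x rfl
      exact this
    have hx' : x ∈ N ⊓ Subgroup.centralizer ({y₀} : Set G) := by
      refine ⟨hxNmem, Subgroup.mem_centralizer_iff.mpr ?_⟩
      intro h hh
      rw [Set.mem_singleton_iff] at hh
      rw [hh]
      exact hcomm.symm
    have hσ : ∀ p : ℕ, p.Prime → p ∣ orderOf x → p ∉ sigma N := by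
      intro p hp hd
      rw [hxr] at hd
      have : p = r := (Nat.prime_dvd_prime_iff_eq hp hr).mp hd
      rw [this]; exact hrσN
    rcases Cfsg.Agent.S1432.result hG N hN y₀ hy₀.1 hy₀1 x hx' hx1 hσ with h | h
    · exact absurd (h.1 r hr (by rw [hxr])) hrκN
    · exact h.1 r hr (by rw [hxr])
  -- the partner
  obtain ⟨Ns, ⟨hNs, hKst, hKstH⟩, -⟩ := Cfsg.Agent.S1366.result hG N hN K U hKU hK1
  -- the Sylow `r`-subgroup of `U`
  let R : Sylow r ↥U := default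
  have hR : IsSylowIn r ((R : Subgroup U).map U.subtype) U := isSylowIn_of_sylow R
  have hRN : IsSylowIn r ((R : Subgroup U).map U.subtype) N :=
    Cfsg.Agent.Lib.Helper7.BG148.isSylowIn_of_U hG hN hKU hR hrU
  have hnc : ¬ IsCyclic ↥((R : Subgroup U).map U.subtype) := by
    intro hcyc
    have h1 : ¬ PRankLE r 1 ↥((R : Subgroup U).map U.subtype) :=
      not_pRankLE_sylow_of_not_pRankLE hRN hrτ.2.2.2
    obtain ⟨A, hAR, hAe, hAc⟩ := exists_elementary_sq_of_not_pRankLE_one hR.isPGroup h1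
    have hAcyc : IsCyclic ↥A := by
      have e := Subgroup.subgroupOfEquivOfLe hAR
      haveI : IsCyclic ↥(A.subgroupOf ((R : Subgroup U).map U.subtype)) := inferInstance
      exact isCyclic_of_surjective e.toMonoidHom e.surjective
    exact Cfsg.Agent.Lib.Helper23.Ward.not_isCyclic_of_elemAb hr hAe.2 hAc hAcyc
  have hUM : U ≤ M := fun u hu => by
    have : u ∈ U ⊔ K := Subgroup.mem_sup_left hu
    rw [hUK] at this
    exact this.1
  have hrσM : r ∈ sigma M := by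
    apply mem_sigma_of_dvd_card_sigmaCore hG hM hr
    rw [← hxr]
    have h2 : orderOf (⟨x, hx⟩ : sigmaCore M) = orderOf x := Subgroup.orderOf_mk x hx
    rw [← h2]
    exact orderOf_dvd_natCard _
  have hNR : Subgroup.normalizer ((((R : Subgroup U).map U.subtype : Subgroup G)) : Set G) ≤ M :=
    normalizer_le_of_noncyclic hG hM hrσM hR.isPGroup (hR.le.trans hUM) hnc
  have h35 := Cfsg.Agent.S1435.result hG N hN K U hKU hK1 hU1 Ns hNs hKst hKstH r hrU R M hM hNR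
  obtain ⟨hκM, hUσ, hNM, -, hKF, hEM⟩ := h35
  have hUab : ∀ a ∈ U, ∀ b ∈ U, a * b = b * a := by
    have h63 := (Cfsg.Agent.S1363.result hG N hN K U hKU hK1).1
    intro a ha b hb
    exact congrArg Subtype.val (h63.is_comm.comm ⟨a, ha⟩ ⟨b, hb⟩)
  have hR1 : (R : Subgroup U).map U.subtype ≠ ⊥ := by
    intro h
    apply hnc
    rw [h]
    infer_instance
  obtain ⟨-, hKM, -, hncj, -⟩ :=
    Cfsg.Agent.Lib.Helper7.BG148.steps_127 hG hN hKU hUab hR hR1 hM hNR
  obtain ⟨hkσ, -, hreg, hnil⟩ :=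
    Cfsg.Agent.Lib.Helper3.BG14.cor148_steps35 hG N hN K U hKU hK1 hU1 M hM hUM hKM hncj
  refine ⟨Ns, K, U, hKU, hK1, hU1, hNs, hKst, hKstH, hxU, hCx, hrτ, hκM, hUσ, hNM, hKF, hEM,
    hUM, hKM, hncj, hkσ, ?_, hnil⟩
  intro y hy hy1 s hs hys
  exact hreg y hy hy1 s hs hys

end Cfsg.Agent.Lib.Helper11.BG1376
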