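import Mathlib
import Cfsg.Prelude.Def_OddOrderLocal
import Cfsg.Prelude.Def_Solvable
import Cfsg.Agent.Lib.Helper11.BG1376A
import Cfsg.Agent.Lib.Helper10.BGFifteenB
import Cfsg.Agent.Lib.Helper21.FrobTools
import Cfsg.Agent.Lib.Helper1.NoncyclicAbelian
import Cfsg.Agent.Lib.Helper1.BGFthm

/-!
# Helper11: the conclusion of the frozen row S1376 from `τ₂(M) = ∅`

With the set-up of `BG1376A` and `τ₂(M) = κ(M) = ∅`: the complement `E = M ∩ N*` of `M_σ` acts
regularly on `M_σ`, is abelian (its derived group centralizes `Ω₁ Z(M_σ)_r`, of order at most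
`r ^ 2`), hence cyclic, hence a cyclic Frobenius complement of `M`; and `M_F = M_σ` is not TI.
-/

set_option autoImplicit false
set_option linter.unusedSectionVars false
set_option linter.unusedVariables false
set_option linter.style.haveILetI false

open Cfsg

namespace Cfsg.Agent.Lib.Helper11.BG1376

open Cfsg.Agent.Lib.Helper10.BG Cfsg.Agent.Lib.Helper10 Cfsg.Agent.Lib.Helper9.BGExc
open Cfsg.Agent.Lib.Helper1.BGSigmaDecomp
open scoped commutatorElement Pointwise

variable {G : Type*} [Group G]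

/-- the elements of order dividing `r` of the centre of `S`, as a subgroup of `G`. -/
def omegaZ (r : ℕ) (S : Subgroup G) : Subgroup G where
  carrier := {z | z ∈ S ∧ z ∈ Subgroup.centralizer (S : Set G) ∧ z ^ r = 1}
  mul_mem' := by
    rintro a b ⟨ha, hac, har⟩ ⟨hb, hbc, hbr⟩
    refine ⟨S.mul_mem ha hb, Subgroup.mul_mem _ hac hbc, ?_⟩
    have hcomm : Commute a b := Subgroup.mem_centralizer_iff.mp hbc a ha
    rw [hcomm.mul_pow, har, hbr, one_mul]
  one_mem' := ⟨S.one_mem, Subgroup.one_mem _, one_pow _⟩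
  inv_mem' := by
    rintro a ⟨ha, hac, har⟩
    exact ⟨S.inv_mem ha, Subgroup.inv_mem _ hac, by rw [inv_pow, har, inv_one]⟩

theorem mem_omegaZ {r : ℕ} {S : Subgroup G} {z : G} :
    z ∈ omegaZ r S ↔ z ∈ S ∧ z ∈ Subgroup.centralizer (S : Set G) ∧ z ^ r = 1 := Iff.rfl

theorem omegaZ_le (r : ℕ) (S : Subgroup G) : omegaZ r S ≤ S := fun _ h => h.1

theorem omegaZ_elementary (r : ℕ) (S : Subgroup G) : IsElementaryAbelian r (omegaZ r S) := by
  refine ⟨⟨⟨fun a b => Subtype.ext ?_⟩⟩, fun a ha => ha.2.2⟩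
  exact Subgroup.mem_centralizer_iff.mp b.2.2.1 a.1 a.2.1

theorem normalizer_le_normalizer_omegaZ (r : ℕ) (S : Subgroup G) :
    Subgroup.normalizer (S : Set G) ≤ Subgroup.normalizer ((omegaZ r S : Subgroup G) : Set G) := by
  apply Cfsg.Agent.Lib.Helper1.le_normalizer_of_forall_conj_mem
  intro g hg z hz
  have hgS : ∀ s, s ∈ S ↔ g * s * g⁻¹ ∈ S := fun s => (Subgroup.mem_normalizer_iff (H := S)).1 hg s
  refine ⟨(hgS z).1 hz.1, ?_, ?_⟩
  · rw [Subgroup.mem_centralizer_iff]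
    intro h hh
    have h1 : g⁻¹ * h * g ∈ S := by
      rw [hgS]
      have : g * (g⁻¹ * h * g) * g⁻¹ = h := by group
      rw [this]; exact hh
    have h2 : g⁻¹ * h * g * z = z * (g⁻¹ * h * g) := Subgroup.mem_centralizer_iff.mp hz.2.1 _ h1
    calc h * (g * z * g⁻¹) = g * (g⁻¹ * h * g * z) * g⁻¹ := by group
      _ = g * (z * (g⁻¹ * h * g)) * g⁻¹ := by rw [h2]
      _ = g * z * g⁻¹ * h := by group
  · rw [conj_pow, hz.2.2]; group

theorem omegaZ_ne_bot [Finite G] {r : ℕ} [Fact r.Prime] {S : Subgroup G}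
    (hS : Group.IsNilpotent S) (hr : r ∣ Nat.card S) : omegaZ r S ≠ ⊥ := by
  obtain ⟨z, hz, hzo⟩ := Cfsg.Agent.Lib.Helper21.FrobTools.exists_mem_center_orderOf_eq_prime
    (H := ↥S) r hr
  intro hbot
  have h1 : (z : G) ∈ omegaZ r S := by
    refine ⟨z.2, ?_, ?_⟩
    · rw [Subgroup.mem_centralizer_iff]
      intro h hh
      have := Subgroup.mem_center_iff.mp hz ⟨h, hh⟩
      exact congrArg Subtype.val this
    · have : z ^ r = 1 := by rw [← hzo]; exact pow_orderOf_eq_one z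
      have := congrArg Subtype.val this
      simpa using this
  rw [hbot, Subgroup.mem_bot] at h1
  have hz1 : z = 1 := Subtype.ext h1
  rw [hz1, orderOf_one] at hzo
  exact (Fact.out : r.Prime).one_lt.ne hzo

variable [Finite G]

/-- **the conclusion of S1376.** -/
theorem conclusion (hG : IsMinSimpleOddOrder G) {M N Ns K U : Subgroup G} (hM : IsCoatom M)
    (hN : IsCoatom N) {x : G} (hx : x ∈ sigmaCore M) {r : ℕ} [Fact r.Prime]
    (hxr : orderOf x = r) (hxN : Subgroup.centralizer ({x} : Set G) ≤ N)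
    (hCx : sigmaCore N ⊓ Subgroup.centralizer ({x} : Set G) ≠ ⊥) (hrτ : r ∈ tau2 N)
    (hKU : IsSigmaDecomposition N K U) (hK1 : K ≠ ⊥) (hκ : kappa M = ∅) (hτ : tau2 M = ∅)
    (hNM : N ⊓ M = U ⊔ K) (hKF : K ≤ fittingOf (M ⊓ Ns))
    (hE : IsComplIn (M ⊓ Ns) (sigmaCore M) M) (hnil : Group.IsNilpotent (sigmaCore M)) :
    (∃ E : Subgroup ↥M, IsFrobeniusComplement E ∧ IsCyclic E) ∧
      ¬ IsTISubset (fittingHallOf M : Set G) := by
  have hr : r.Prime := Fact.out
  have hx1 : x ≠ 1 := by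
    intro h
    rw [h, orderOf_one] at hxr
    exact hr.one_lt.ne hxr
  set E₀ := M ⊓ Ns with hE₀
  have hE₀M : E₀ ≤ M := inf_le_left
  have hdisj : E₀ ⊓ sigmaCore M = ⊥ := hE.2.2.1
  have hσn : M ≤ Subgroup.normalizer (sigmaCore M : Set G) := le_normalizer_sigmaCore M
  -- regular action
  have hreg : ∀ e ∈ E₀, e ≠ 1 → ∀ s ∈ sigmaCore M, e * s = s * e → s = 1 := by
    intro e he he1 s hs hes
    by_contra hs1
    have ho : orderOf e ≠ 1 := fun h => he1 (orderOf_eq_one_iff.mp h)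
    set p := (orderOf e).minFac with hpdef
    have hp : p.Prime := Nat.minFac_prime ho
    have hpd : p ∣ orderOf e := Nat.minFac_dvd _
    haveI : Fact p.Prime := ⟨hp⟩
    set e' := e ^ (orderOf e / p) with he'def
    have he'o : orderOf e' = p := orderOf_pow_orderOf_div (orderOf_pos e).ne' hpd
    have he' : e' ∈ E₀ := Subgroup.pow_mem _ he _
    have he'1 : e' ≠ 1 := by
      intro h
      rw [h, orderOf_one] at he'o
      exact hp.one_lt.ne he'o
    have hes' : e' * s = s * e' := (Commute.pow_left (show Commute e s from hes) _).eq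
    have hpσ : p ∉ sigma M := by
      intro hpσ
      have hpg : IsPGroup p (Subgroup.zpowers e') :=
        IsPGroup.of_card (n := 1) (by rw [Nat.card_zpowers, he'o, pow_one])
      have h1 : Subgroup.zpowers e' ≤ sigmaCore M :=
        pgroup_le_sigmaCore hG hM hpσ hpg ((Subgroup.zpowers_le).mpr (hE₀M he'))
      have h2 : e' ∈ E₀ ⊓ sigmaCore M := ⟨he', h1 (Subgroup.mem_zpowers e')⟩
      rw [hdisj, Subgroup.mem_bot] at h2
      exact he'1 h2
    have hx' : e' ∈ M ⊓ Subgroup.centralizer ({s} : Set G) := by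
      refine ⟨hE₀M he', Subgroup.mem_centralizer_iff.mpr ?_⟩
      intro h hh
      rw [Set.mem_singleton_iff] at hh
      rw [hh]
      exact hes'.symm
    have hσ : ∀ q : ℕ, q.Prime → q ∣ orderOf e' → q ∉ sigma M := by
      intro q hq hd
      rw [he'o] at hd
      have : q = p := (Nat.prime_dvd_prime_iff_eq hq hp).mp hd
      rw [this]; exact hpσ
    rcases Cfsg.Agent.S1432.result hG M hM s hs hs1 e' hx' he'1 hσ with h | h
    · have := h.1 p hp (by rw [he'o])
      rw [hκ] at this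
      exact this
    · have := h.1 p hp (by rw [he'o])
      rw [hτ] at this
      exact this
  -- `E₀` is an `r'`-group
  have hrσM : r ∈ sigma M := by
    apply mem_sigma_of_dvd_card_sigmaCore hG hM hr
    rw [← hxr]
    have h2 : orderOf (⟨x, hx⟩ : sigmaCore M) = orderOf x := Subgroup.orderOf_mk x hx
    rw [← h2]
    exact orderOf_dvd_natCard _
  have hrS : r ∣ Nat.card (sigmaCore M) := by
    rw [← hxr]
    have h2 : orderOf (⟨x, hx⟩ : sigmaCore M) = orderOf x := Subgroup.orderOf_mk x hx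
    rw [← h2]
    exact orderOf_dvd_natCard _
  have hcardE : Nat.card E₀ = (sigmaCore M).relIndex M := by
    have h1 := Cfsg.Agent.Lib.Helper10.IsComplIn.card_eq hE
    have h2 := Cfsg.Agent.Lib.Helper12.card_mul_relIndex_eq (sigmaCore_le M)
    have : Nat.card (sigmaCore M) * Nat.card E₀ =
        Nat.card (sigmaCore M) * (sigmaCore M).relIndex M := by
      rw [h2, h1, mul_comm]
    exact Nat.eq_of_mul_eq_mul_left Nat.card_pos this
  have hrE : ¬ r ∣ Nat.card E₀ := by
    rw [hcardE]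
    exact not_dvd_relIndex_sigmaCore hG hM hr hrσM
  -- the subgroup `V`
  set V := omegaZ r (sigmaCore M) with hVdef
  have hVσ : V ≤ sigmaCore M := omegaZ_le _ _
  have hVe : IsElementaryAbelian r V := omegaZ_elementary _ _
  have hVn : E₀ ≤ Subgroup.normalizer (V : Set G) :=
    hE₀M.trans (hσn.trans (normalizer_le_normalizer_omegaZ r (sigmaCore M)))
  have hV1 : V ≠ ⊥ := omegaZ_ne_bot hnil hrS
  have hVN : V ≤ N := by
    intro v hv
    apply hxN
    rw [Subgroup.mem_centralizer_iff]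
    intro h hh
    rw [Set.mem_singleton_iff] at hh
    rw [hh]
    exact Subgroup.mem_centralizer_iff.mp hv.2.1 x hx
  have hVcard : Nat.card V ≤ r ^ 2 := by
    have h2 := hrτ.2.2.1
    have h3 := h2 (V.subgroupOf N) ?_ ?_
    · rwa [Nat.card_congr (Subgroup.subgroupOfEquivOfLe hVN).toEquiv] at h3
    · refine ⟨⟨fun a b => ?_⟩⟩
      apply Subtype.ext
      apply Subtype.ext
      have ha : (a : N).1 ∈ V := a.2
      have hb : (b : N).1 ∈ V := b.2
      exact Subgroup.mem_centralizer_iff.mp hb.2.1 _ ha.1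
    · intro a ha
      apply Subtype.ext
      have ha' : (a : G) ∈ V := ha
      rw [Subgroup.coe_pow]
      exact ha'.2.2
  -- `E₀' = 1`
  have hodd : Odd (Nat.card E₀) := odd_card_subgroup hG E₀
  have hsolv : Group.IsSolvable ↥E₀ :=
    isSolvable_of_ne_top hG (ne_top_of_le_isCoatom hM hE₀M)
  have hr2 : r ≠ 2 := by
    rintro rfl
    have h1 : Odd (Nat.card (sigmaCore M)) := odd_card_subgroup hG _
    exact (Nat.not_even_iff_odd.mpr h1) (even_iff_two_dvd.mpr hrS)
  have key := commutator_pow_mem_centralizer hr2 hodd hsolv hVn hVe hVcard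
  have hcomm : ⁅E₀, E₀⁆ = ⊥ := by
    rw [eq_bot_iff]
    intro g hg
    rw [Subgroup.mem_bot]
    by_contra hg1
    have hgE : g ∈ E₀ := Subgroup.commutator_le_self E₀ hg
    have h1 := key g hg
    have hcop : r.Coprime (orderOf g) := by
      rw [Nat.Prime.coprime_iff_not_dvd hr]
      intro hd
      apply hrE
      have h2 : orderOf (⟨g, hgE⟩ : E₀) = orderOf g := Subgroup.orderOf_mk g hgE
      exact hd.trans (h2 ▸ orderOf_dvd_natCard _)
    obtain ⟨m, hm⟩ := exists_pow_eq_self_of_coprime hcop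
    have hgV : g ∈ Subgroup.centralizer (V : Set G) := by
      rw [← hm]
      exact Subgroup.pow_mem _ h1 m
    obtain ⟨v, hv, hv1⟩ : ∃ v ∈ V, v ≠ 1 := by
      by_contra hne
      push Not at hne
      exact hV1 ((Subgroup.eq_bot_iff_forall _).mpr hne)
    have h3 : v * g = g * v := Subgroup.mem_centralizer_iff.mp hgV v hv
    exact hv1 (hreg g hgE hg1 v (hVσ hv) h3.symm)
  haveI hEcomm : IsMulCommutative E₀ := by
    refine ⟨⟨fun a b => Subtype.ext ?_⟩⟩
    have h1 : ⁅(a : G), (b : G)⁆ ∈ ⁅E₀, E₀⁆ := Subgroup.commutator_mem_commutator a.2 b.2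
    rw [hcomm, Subgroup.mem_bot] at h1
    exact commutatorElement_eq_one_iff_mul_comm.mp h1
  -- `E₀` is cyclic
  have hcyc : IsCyclic ↥E₀ := by
    by_contra hnc
    obtain ⟨p, hp, E', hE'E, hexp, hcard⟩ :=
      Cfsg.Agent.Lib.Helper1.exists_exponent_prime_subgroup_of_not_isCyclic E₀ hnc
    haveI : Fact p.Prime := ⟨hp⟩
    have hE'1 : E' ≠ ⊥ := by
      rintro rfl
      rw [Subgroup.card_bot] at hcard
      exact absurd hcard (by have := hp.one_lt; omega)
    have hpσ : p ∉ sigma M := by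
      intro hpσ
      have hE'p : IsPGroup p E' := Cfsg.Agent.Lib.Lead.BGTrans.isPGroup_of_pow_eq_one hexp
      have h1 := pgroup_le_sigmaCore hG hM hpσ hE'p (hE'E.trans hE₀M)
      have h2 : E' ≤ E₀ ⊓ sigmaCore M := le_inf hE'E h1
      rw [hdisj] at h2
      exact hE'1 (eq_bot_iff.mpr h2)
    have hp2 : PRankLE p 2 ↥M :=
      alpha_rank M p hp (fun h => hpσ (alpha_subset_sigma hG hM h))
    have hp1 : ¬ PRankLE p 1 ↥M := by
      intro h
      have hE'M : E' ≤ M := hE'E.trans hE₀M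
      have h3 := h (E'.subgroupOf M) ?_ ?_
      · rw [Nat.card_congr (Subgroup.subgroupOfEquivOfLe hE'M).toEquiv, pow_one] at h3
        omega
      · refine ⟨⟨fun a b => ?_⟩⟩
        apply Subtype.ext
        apply Subtype.ext
        have ha : (a : M).1 ∈ E' := a.2
        have hb : (b : M).1 ∈ E' := b.2
        have h : ((a : M) : G) * ((b : M) : G) = ((b : M) : G) * ((a : M) : G) :=
          congrArg Subtype.val
            (hEcomm.is_comm.comm ⟨(a : M).1, hE'E ha⟩ ⟨(b : M).1, hE'E hb⟩)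
        simpa using h
      · intro a ha
        apply Subtype.ext
        have ha' : (a : G) ∈ E' := ha
        rw [Subgroup.coe_pow]
        exact hexp _ ha'
    have h4 : p ∈ tau2 M := ⟨hp, hpσ, hp2, hp1⟩
    rw [hτ] at h4
    exact h4
  -- `K ≤ E₀`
  have hKE : K ≤ E₀ := by
    refine hKF.trans ?_
    unfold fittingOf
    exact Subgroup.map_subtype_le _
  refine ⟨⟨E₀.subgroupOf M, ⟨?_, ?_, ?_⟩, ?_⟩, ?_⟩
  · -- `≠ ⊥`
    intro hbot
    obtain ⟨k, hk, hk1⟩ : ∃ k ∈ K, k ≠ 1 := by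
      by_contra hne
      push Not at hne
      exact hK1 ((Subgroup.eq_bot_iff_forall _).mpr hne)
    have h1 : (⟨k, hE₀M (hKE hk)⟩ : M) ∈ E₀.subgroupOf M := by
      rw [Subgroup.mem_subgroupOf]; exact hKE hk
    rw [hbot, Subgroup.mem_bot] at h1
    exact hk1 (congrArg Subtype.val h1)
  · -- `≠ ⊤`
    intro htop
    rw [Subgroup.subgroupOf_eq_top] at htop
    have h1 : x ∈ E₀ ⊓ sigmaCore M := ⟨htop (sigmaCore_le M hx), hx⟩
    rw [hdisj, Subgroup.mem_bot] at h1
    exact hx1 h1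
  · -- malnormal
    intro g hg
    rw [eq_bot_iff]
    rintro f ⟨hf1, hf2⟩
    rw [Subgroup.mem_bot]
    have hgE : (g : G) ∉ E₀ := fun h => hg (Subgroup.mem_subgroupOf.mpr h)
    have hf1' : (f : G) ∈ E₀ := Subgroup.mem_subgroupOf.mp hf1
    have hf2' : (g : G)⁻¹ * (f : G) * (g : G) ∈ E₀ := by
      have h1 : f ∈ MulAut.conj g • E₀.subgroupOf M := hf2
      rw [Subgroup.mem_pointwise_smul_iff_inv_smul_mem] at h1
      have h2 : (MulAut.conj g)⁻¹ • f = g⁻¹ * f * g := by
        rw [MulAut.smul_def, MulAut.conj_inv_apply]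
      rw [h2, Subgroup.mem_subgroupOf] at h1
      simpa using h1
    obtain ⟨a, ha, b, hb, hab⟩ := hE.2.2.2 (g : G) g.2
    have hb1 : b ≠ 1 := by
      rintro rfl
      rw [mul_one] at hab
      exact hgE (hab ▸ ha)
    set f₃ := a⁻¹ * (f : G) * a with hf₃
    have hf₃E : f₃ ∈ E₀ := E₀.mul_mem (E₀.mul_mem (E₀.inv_mem ha) hf1') ha
    have hf₂ : (g : G)⁻¹ * (f : G) * (g : G) = b⁻¹ * f₃ * b := by
      rw [hab, hf₃]; group
    rw [hf₂] at hf2'
    have h5 : f₃⁻¹ * (b⁻¹ * f₃ * b) ∈ sigmaCore M := by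
      have h6 : f₃⁻¹ * b⁻¹ * f₃⁻¹⁻¹ ∈ sigmaCore M :=
        ((Subgroup.mem_normalizer_iff (H := sigmaCore M)).1
          (hσn (M.inv_mem (hE₀M hf₃E))) b⁻¹).1 ((sigmaCore M).inv_mem hb)
      have : f₃⁻¹ * (b⁻¹ * f₃ * b) = f₃⁻¹ * b⁻¹ * f₃⁻¹⁻¹ * b := by group
      rw [this]
      exact (sigmaCore M).mul_mem h6 hb
    have h7 : f₃⁻¹ * (b⁻¹ * f₃ * b) ∈ E₀ ⊓ sigmaCore M :=
      ⟨E₀.mul_mem (E₀.inv_mem hf₃E) hf2', h5⟩
    rw [hdisj, Subgroup.mem_bot] at h7
    have h8 : f₃ * b = b * f₃ := by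
      have : b⁻¹ * f₃ * b = f₃ := by
        calc b⁻¹ * f₃ * b = f₃ * (f₃⁻¹ * (b⁻¹ * f₃ * b)) := by group
          _ = f₃ := by rw [h7, mul_one]
      calc f₃ * b = b * (b⁻¹ * f₃ * b) := by group
        _ = b * f₃ := by rw [this]
    have hf₃1 : f₃ = 1 := by
      by_contra hne
      exact hb1 (hreg f₃ hf₃E hne b hb h8)
    have hf1G : (f : G) = 1 := by
      have : (f : G) = a * f₃ * a⁻¹ := by rw [hf₃]; group
      rw [this, hf₃1]; group
    exact Subtype.ext hf1G
  · -- cyclic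
    have e := Subgroup.subgroupOfEquivOfLe hE₀M
    exact isCyclic_of_surjective e.symm.toMonoidHom e.symm.surjective
  · -- `M_F = M_σ` is not TI
    intro hTI
    rw [Cfsg.Agent.Lib.Helper1.BGFthm.fittingHallOf_eq_of_nilpotent hG hM hnil] at hTI
    obtain ⟨y, hy, hy1⟩ : ∃ y ∈ sigmaCore N ⊓ Subgroup.centralizer ({x} : Set G), y ≠ 1 := by
      by_contra hne
      push Not at hne
      exact hCx ((Subgroup.eq_bot_iff_forall _).mpr hne)
    have hyM : y ∉ M := by
      intro hyM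
      have h1 : y ∈ (U ⊔ K) ⊓ sigmaCore N := by
        refine ⟨?_, hy.1⟩
        rw [← hNM]
        exact ⟨sigmaCore_le N hy.1, hyM⟩
      rw [(isComplIn_UK hG hN hKU).2.2.1, Subgroup.mem_bot] at h1
      exact hy1 h1
    have hσ1 : sigmaCore M ≠ ⊥ := by
      intro h
      rw [h, Subgroup.mem_bot] at hx
      exact hx1 hx
    have hnorm : Subgroup.normalizer ((sigmaCore M : Subgroup G) : Set G) = M :=
      normalizer_eq_of_isCoatom' hG hM hσ1 (sigmaCore_le M) hσn
    have hyn : y ∉ Subgroup.normalizer ((sigmaCore M : Subgroup G) : Set G) := by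
      rw [hnorm]; exact hyM
    have hcomm' : x * y = y * x := Subgroup.mem_centralizer_iff.mp hy.2 x rfl
    have h2 : y * x * y⁻¹ ∈ ((sigmaCore M : Subgroup G) : Set G) := by
      have : y * x * y⁻¹ = x := by rw [← hcomm']; group
      rw [this]; exact hx
    exact hx1 (hTI y hyn x hx h2)

end Cfsg.Agent.Lib.Helper11.BG1376
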