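import Mathlib
import Cfsg.Prelude.Def_OddOrderLocal
import Cfsg.Agent.Lib.Helper11.BG1376A
import Cfsg.Agent.Lib.Helper11.BG1376B
import Cfsg.Agent.Lib.Helper3.BG15A

/-!
# Helper11: the frozen row S1376 (B&G Theorem 14.4(e)), assembled

`κ(M) = ∅ = τ₂(M)` (exposed for S1436) and the full statement of S1376, from the set-up `BG1376A`,
helper3's `tau2_eq_empty_of_P2` and the conclusion `BG1376B`.
-/

set_option autoImplicit false
set_option linter.unusedSectionVars false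
set_option linter.unusedVariables false

open Cfsg

namespace Cfsg.Agent.Lib.Helper11.BG1376

variable {G : Type*} [Group G] [Finite G]

/-- everything at once, for an element of prime order. -/
theorem main_prime (hG : IsMinSimpleOddOrder G) {M N : Subgroup G} (hM : IsCoatom M)
    (hN : IsCoatom N) {x : G} (hx : x ∈ sigmaCore M) {r : ℕ} [Fact r.Prime]
    (hxr : orderOf x = r) (hxM : ¬ Subgroup.centralizer ({x} : Set G) ≤ M)
    (hxN : Subgroup.centralizer ({x} : Set G) ≤ N) (hkN : (kappa N).Nonempty) :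
    (kappa M = ∅ ∧ tau2 M = ∅) ∧
      (∃ E : Subgroup ↥M, IsFrobeniusComplement E ∧ IsCyclic E) ∧
      ¬ IsTISubset (fittingHallOf M : Set G) := by
  obtain ⟨Ns, K, U, hKU, hK1, hU1, hNs, hKst, hKstH, hxU, hCx, hrτ, hκM, hUσ, hNM, hKF, hEM,
    hUM, hKM, hncj, hkσ, hreg, hnil⟩ := setup hG hM hN hx hxr hxM hxN hkN
  have hx1 : x ≠ 1 := by
    intro h
    rw [h, orderOf_one] at hxr
    exact (Fact.out : r.Prime).one_lt.ne hxr
  have hτ : tau2 M = ∅ :=
    Cfsg.Agent.Lib.Helper3.BG14.tau2_eq_empty_of_P2 hG hN hKU hK1 hU1 hNs hKst hKstH hM hUM hKM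
      hncj hNM.le hxU hx1 hxN
  exact ⟨⟨hκM, hτ⟩,
    conclusion hG hM hN hx hxr hxN hCx hrτ hKU hK1 hκM hτ hNM hKF hEM hnil⟩

/-- everything at once, with the frozen binders of `S1376`. -/
theorem main (hG : IsMinSimpleOddOrder G) (M : Subgroup G) (hM : IsCoatom M) (x : G)
    (hx : x ∈ sigmaCore M) (hx1 : x ≠ 1) (hxM : ¬ Subgroup.centralizer ({x} : Set G) ≤ M)
    (N : Subgroup G) (hN : IsCoatom N) (hxN : Subgroup.centralizer ({x} : Set G) ≤ N)
    (hkN : (kappa N).Nonempty) :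
    (kappa M = ∅ ∧ tau2 M = ∅) ∧
      (∃ E : Subgroup ↥M, IsFrobeniusComplement E ∧ IsCyclic E) ∧
      ¬ IsTISubset (fittingHallOf M : Set G) := by
  obtain ⟨x', hx', hx'o, hx'M, hx'N⟩ := exists_prime_order hG hM hx hx1 hxM hN hxN
  haveI : Fact (orderOf x').Prime := ⟨hx'o⟩
  exact main_prime hG hM hN hx' rfl hx'M hx'N hkN

/-- `κ(M) = ∅ = τ₂(M)` under the hypotheses of `S1376` (for `S1436`). -/
theorem kappa_tau2_eq_empty (hG : IsMinSimpleOddOrder G) (M : Subgroup G) (hM : IsCoatom M)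
    (x : G) (hx : x ∈ sigmaCore M) (hx1 : x ≠ 1)
    (hxM : ¬ Subgroup.centralizer ({x} : Set G) ≤ M) (N : Subgroup G) (hN : IsCoatom N)
    (hxN : Subgroup.centralizer ({x} : Set G) ≤ N) (hkN : (kappa N).Nonempty) :
    kappa M = ∅ ∧ tau2 M = ∅ :=
  (main hG M hM x hx hx1 hxM N hN hxN hkN).1

end Cfsg.Agent.Lib.Helper11.BG1376
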