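import Mathlib
import Cfsg.Prelude.Def_OddOrderLocal
import Cfsg.Agent.S1354
import Cfsg.Agent.S1368
import Cfsg.Agent.S1372
import Cfsg.Agent.S1418
import Cfsg.Agent.S1419
import Cfsg.Agent.S1431
import Cfsg.Agent.Lib.Helper10.BG148F
import Cfsg.Agent.Lib.Helper3.BG14P
import Cfsg.Agent.Lib.Helper16.SectRank

/-!
# Helper11: `τ₂(H) = ∅` in the S1376 situation, the case `p = k = |K|`

`N = K U N_σ` with `K ≠ 1 ≠ U`, partner `N*`; `H` a maximal subgroup containing `U K`, not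
conjugate to `N`, with `N ∩ H ≤ U K`; `x ∈ U#` with `C_G(x) ≤ N`.  Then `E = H ∩ N*` (the
complement of `H_σ` in `H`) contains no elementary abelian subgroup of order `k ^ 2`.
-/

set_option autoImplicit false
set_option linter.unusedSectionVars false
set_option linter.unusedVariables false
set_option linter.style.haveILetI false

open Cfsg

namespace Cfsg.Agent.Lib.Helper11.BG1376

open Cfsg.Agent.Lib.Helper10.BG Cfsg.Agent.Lib.Helper10 Cfsg.Agent.Lib.Helper9.BGExc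
open Cfsg.Agent.Lib.Helper1.BGSigmaDecomp

variable {G : Type*} [Group G] [Finite G]

/-- `E ∩ N ≤ K` and `C_E(x) = 1` for `E = H ∩ N*`. -/
theorem inf_le_K (hG : IsMinSimpleOddOrder G) {N K U Ns H : Subgroup G}
    (hN : IsCoatom N) (hKU : IsSigmaDecomposition N K U) (hK1 : K ≠ ⊥)
    (hNs : IsCoatom Ns)
    (hKst : K = sigmaCore Ns ⊓ Subgroup.centralizer
      ((sigmaCore N ⊓ Subgroup.centralizer (K : Set G) : Subgroup G) : Set G))
    (hKstH : IsPiHallOf (kappa Ns) (sigmaCore N ⊓ Subgroup.centralizer (K : Set G)) Ns)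
    (hNH : N ⊓ H ≤ U ⊔ K) : (H ⊓ Ns) ⊓ N ≤ K := by
  intro e he
  have h68 := (Cfsg.Agent.S1368.result hG N hN K U hKU hK1 Ns hNs hKst hKstH).1
  have h1 : e ∈ K ⊔ (sigmaCore N ⊓ Subgroup.centralizer (K : Set G)) := by
    rw [← h68]; exact ⟨he.2, he.1.2⟩
  have h2 : e ∈ U ⊔ K := hNH ⟨he.2, he.1.1⟩
  have hc : ∀ a ∈ K, ∀ b ∈ sigmaCore N ⊓ Subgroup.centralizer (K : Set G), a * b = b * a :=
    fun a ha b hb => Subgroup.mem_centralizer_iff.mp hb.2 a ha
  obtain ⟨a, ha, b, hb, hab⟩ := Cfsg.Agent.Lib.Helper16.SectRank.exists_mul_of_mem_sup hc h1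
  have hb' : b ∈ U ⊔ K := by
    have : b = a⁻¹ * e := by rw [hab]; group
    rw [this]
    exact (U ⊔ K).mul_mem ((U ⊔ K).inv_mem (Subgroup.mem_sup_right ha)) h2
  have hb1 : b = 1 := by
    have : b ∈ (U ⊔ K) ⊓ sigmaCore N := ⟨hb', hb.1⟩
    rw [(isComplIn_UK hG hN hKU).2.2.1, Subgroup.mem_bot] at this
    exact this
  rw [hab, hb1, mul_one]
  exact ha

/-- **the case `p = k`.** -/
theorem false_of_elementary_sq_card_K (hG : IsMinSimpleOddOrder G) {N K U Ns H : Subgroup G}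
    {x : G} (hN : IsCoatom N) (hKU : IsSigmaDecomposition N K U) (hK1 : K ≠ ⊥) (hU1 : U ≠ ⊥)
    (hNs : IsCoatom Ns)
    (hKst : K = sigmaCore Ns ⊓ Subgroup.centralizer
      ((sigmaCore N ⊓ Subgroup.centralizer (K : Set G) : Subgroup G) : Set G))
    (hKstH : IsPiHallOf (kappa Ns) (sigmaCore N ⊓ Subgroup.centralizer (K : Set G)) Ns)
    (hH : IsCoatom H) (hUH : U ≤ H) (hKH : K ≤ H)
    (hnc : ∀ g : G, N.map (MulAut.conj g).toMonoidHom ≠ H) (hNH : N ⊓ H ≤ U ⊔ K)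
    (hx : x ∈ U) (hx1 : x ≠ 1) (hxN : Subgroup.centralizer ({x} : Set G) ≤ N)
    {P : Subgroup G} (hPE : P ≤ H ⊓ Ns) (hPe : IsElementaryAbelian (Nat.card K) P)
    (hPc : Nat.card P = Nat.card K ^ 2) : False := by
  have hkp : (Nat.card K).Prime := (Cfsg.Agent.S1372.result hG N hN K U hKU hK1 hU1).1
  haveI : Fact (Nat.card K).Prime := ⟨hkp⟩
  obtain ⟨hKF, hE⟩ := cor148_ef hG hN hKU hK1 hU1 hNs hKst hKstH hH hUH hKH hnc
  have hUσ : U ≤ sigmaCore H := cor148_b hG hN hKU hK1 hU1 hNs hKst hKstH hH hUH hKH hnc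
  obtain ⟨hkσ, hκH, hreg, hnil⟩ :=
    Cfsg.Agent.Lib.Helper3.BG14.cor148_steps35 hG N hN K U hKU hK1 hU1 H hH hUH hKH hnc
  set E := H ⊓ Ns with hEdef
  have hEH : E ≤ H := inf_le_left
  have hxσ : x ∈ sigmaCore H := hUσ hx
  have hKE : K ≤ E := by
    refine hKF.trans ?_
    unfold fittingOf
    exact Subgroup.map_subtype_le _
  -- `C_E(x) = 1`
  have hCEx : ∀ e ∈ E, e * x = x * e → e = 1 := by
    intro e he hex
    by_contra he1
    have heN : e ∈ N := by
      apply hxN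
      rw [Subgroup.mem_centralizer_iff]
      intro h hh
      rw [Set.mem_singleton_iff] at hh
      rw [hh]; exact hex.symm
    have heK : e ∈ K := inf_le_K hG hN hKU hK1 hNs hKst hKstH hNH ⟨he, heN⟩
    exact hx1 (hreg e heK he1 x hxσ hex)
  -- `k ∈ τ₂(H)`
  have hPH : P ≤ H := hPE.trans hEH
  have hkτ : Nat.card K ∈ tau2 H := by
    refine ⟨hkp, hkσ, alpha_rank H _ hkp (fun h => hkσ (alpha_subset_sigma hG hH h)), ?_⟩
    intro h
    have h3 := h (P.subgroupOf H) ?_ ?_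
    · rw [Nat.card_congr (Subgroup.subgroupOfEquivOfLe hPH).toEquiv, hPc, pow_one] at h3
      have := hkp.one_lt
      nlinarith
    · refine ⟨⟨fun a b => ?_⟩⟩
      apply Subtype.ext
      apply Subtype.ext
      have ha : (a : H).1 ∈ P := a.2
      have hb : (b : H).1 ∈ P := b.2
      have h : ((a : H) : G) * ((b : H) : G) = ((b : H) : G) * ((a : H) : G) :=
        congrArg Subtype.val (hPe.1.is_comm.comm ⟨(a : H).1, ha⟩ ⟨(b : H).1, hb⟩)
      simpa using h
    · intro a ha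
      apply Subtype.ext
      have ha' : (a : G) ∈ P := ha
      rw [Subgroup.coe_pow]
      exact hPe.2 _ ha'
  have h18 := Cfsg.Agent.S1418.result hG H hH E hE (Nat.card K) hkτ P ⟨hPE, hPe, hPc⟩
  obtain ⟨⟨-, hall⟩, ⟨hCP, -, -⟩, -⟩ := h18
  have hKP : K ≤ P := hall K hKE rfl
  -- `P ≤ N*_σ`
  have hKσNs : K ≤ sigmaCore Ns := by rw [hKst]; exact inf_le_left
  have hkσNs : Nat.card K ∈ sigma Ns :=
    mem_sigma_of_dvd_card_sigmaCore hG hNs hkp (Subgroup.card_dvd_of_le hKσNs)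
  have hPp : IsPGroup (Nat.card K) P :=
    Cfsg.Agent.Lib.Lead.BGTrans.isPGroup_of_pow_eq_one hPe.2
  have hPNs : P ≤ Ns := hPE.trans inf_le_right
  have hPσ : P ≤ sigmaCore Ns := pgroup_le_sigmaCore hG hNs hkσNs hPp hPNs
  by_cases hS : ∀ S : Sylow (Nat.card K) G, ¬ IsMulCommutative (S : Subgroup G)
  · -- nonabelian Sylow `k`-subgroups: S1419
    have h19 := (Cfsg.Agent.S1419.result hG H hH E hE (Nat.card K) hkτ hS P ⟨hPE, hPe, hPc⟩).2.1.1
    have hbot : P ⊓ Subgroup.centralizer (sigmaCore H : Set G) = ⊥ := by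
      rw [eq_bot_iff]
      intro e he
      rw [Subgroup.mem_bot]
      apply hCEx e (hPE he.1)
      exact (Subgroup.mem_centralizer_iff.mp he.2 x hxσ).symm
    rw [hbot, Subgroup.card_bot] at h19
    exact hkp.one_lt.ne h19
  · -- abelian Sylow `k`-subgroups
    push Not at hS
    obtain ⟨S, hSc⟩ := hS
    obtain ⟨T, hT, hPT⟩ := exists_isSylowIn_ge (p := Nat.card K) hPσ hPp
    obtain ⟨hTNs, hTtop⟩ := isSylowIn_of_sigmaCore hG hNs hkσNs hT
    obtain ⟨g, -, hg⟩ := (isSylowIn_top_of_sylow S).exists_conj hTtop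
    have hTab : ∀ a ∈ T, ∀ b ∈ T, a * b = b * a := by
      intro a ha b hb
      rw [hg] at ha hb
      obtain ⟨a', ha', rfl⟩ := ha
      obtain ⟨b', hb', rfl⟩ := hb
      have h1 : a' * b' = b' * a' :=
        congrArg Subtype.val (hSc.is_comm.comm ⟨a', ha'⟩ ⟨b', hb'⟩)
      simp only [MulEquiv.coe_toMonoidHom, MulAut.conj_apply]
      calc g * a' * g⁻¹ * (g * b' * g⁻¹) = g * (a' * b') * g⁻¹ := by group
        _ = g * (b' * a') * g⁻¹ := by rw [h1]
        _ = g * b' * g⁻¹ * (g * a' * g⁻¹) := by group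
    have hTH : T ≤ H := by
      intro t ht
      have : t ∈ Subgroup.centralizer (P : Set G) := by
        rw [Subgroup.mem_centralizer_iff]
        intro h hh
        exact hTab h (hPT hh) t ht
      exact (hCP this).1
    -- S1431(3) for `(N*, K*)`
    have hKs1 : sigmaCore N ⊓ Subgroup.centralizer (K : Set G) ≠ ⊥ :=
      (Cfsg.Agent.S1354.result hG N hN K hKU.cyclic hKU.hall).1
    have h31 := (Cfsg.Agent.S1431.result hG Ns hNs _ hKstH hKs1).2.2.1 (Nat.card K) hkp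
      (by rw [← hKst]) hT.toSylow
    have hmap : ((hT.toSylow : Sylow (Nat.card K) ↥(sigmaCore Ns)) :
        Subgroup ↥(sigmaCore Ns)).map (sigmaCore Ns).subtype = T := by
      rw [hT.coe_toSylow, Subgroup.subgroupOf_map_subtype]
      exact inf_eq_left.mpr hT.le
    rw [hmap] at h31
    obtain ⟨L, -, huniq⟩ := h31.1
    have e1 : H = L := huniq H ⟨hH, hTH⟩
    have e2 : Ns = L := huniq Ns ⟨hNs, hT.le.trans (sigmaCore_le Ns)⟩
    have hHNs : H = Ns := e1.trans e2.symm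
    -- `κ(N*) ≠ ∅`
    apply hKs1
    rw [← Subgroup.card_eq_one]
    by_contra hc
    obtain ⟨q, hq, hqd⟩ := Nat.exists_prime_and_dvd hc
    have := hKstH.2.1 q hq hqd
    rw [← hHNs, hκH] at this
    exact this

end Cfsg.Agent.Lib.Helper11.BG1376
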