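import Mathlib
import Cfsg.Prelude.Def_Transfer
import Cfsg.Agent.H5.Card
import Cfsg.Agent.Lib.Helper1.Extraspecial
import Cfsg.Agent.Lib.Helper17.SylowLemmas
import Cfsg.Agent.Lib.Helper16.SectRank

/-!
# Helper11: a subgroup `K` of order `k` of a `k`-group `Q` with `C_Q(K) ≠ Q`

Then `C_Q(K)` contains an elementary abelian subgroup `K × K^g` of order `k ^ 2`.
-/

set_option autoImplicit false
set_option linter.unusedSectionVars false
set_option linter.unusedVariables false
set_option linter.style.haveILetI false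

open Cfsg

namespace Cfsg.Agent.Lib.Helper11.BG1376

variable {G : Type*} [Group G] [Finite G]

/-- in a `k`-group, the normalizer of a subgroup of order `k` centralizes it. -/
theorem inf_normalizer_le_centralizer {k : ℕ} [Fact k.Prime] {Q K : Subgroup G}
    (hQ : IsPGroup k Q) (hKQ : K ≤ Q) (hK : Nat.card K = k) :
    Q ⊓ Subgroup.normalizer (K : Set G) ≤ Subgroup.centralizer (K : Set G) := by
  set L := Q ⊓ Subgroup.normalizer (K : Set G) with hL
  have hKL : K ≤ L := le_inf hKQ Subgroup.le_normalizer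
  haveI : (K.subgroupOf L).Normal := Subgroup.normal_subgroupOf_of_le_normalizer inf_le_right
  have hLp : IsPGroup k ↥L := hQ.to_le inf_le_left
  have hc : Nat.card (K.subgroupOf L) = k := by
    rw [Nat.card_congr (Subgroup.subgroupOfEquivOfLe hKL).toEquiv, hK]
  have h := Cfsg.Agent.Lib.Helper1.le_center_of_normal_of_card_prime hLp (K.subgroupOf L) hc
  intro g hg
  rw [Subgroup.mem_centralizer_iff]
  intro a ha
  have h1 : (⟨a, hKL ha⟩ : L) ∈ Subgroup.center ↥L := h (Subgroup.mem_subgroupOf.mpr ha)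
  have h2 := Subgroup.mem_center_iff.mp h1 ⟨g, hg⟩
  exact (congrArg Subtype.val h2).symm

/-- **`K × K^g`.** -/
theorem exists_elementary_sq_of_centralizer_ne {k : ℕ} [Fact k.Prime] {Q K : Subgroup G}
    (hQ : IsPGroup k Q) (hKQ : K ≤ Q) (hK : Nat.card K = k)
    (hne : Q ⊓ Subgroup.centralizer (K : Set G) ≠ Q) :
    ∃ A : Subgroup G, A ≤ Q ⊓ Subgroup.centralizer (K : Set G) ∧ K ≤ A ∧
      IsElementaryAbelian k A ∧ Nat.card A = k ^ 2 := by
  have hk : k.Prime := Fact.out
  set C := Q ⊓ Subgroup.centralizer (K : Set G) with hC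
  have hKcyc : IsCyclic ↥K := isCyclic_of_prime_card hK
  have hKab : ∀ a ∈ K, ∀ b ∈ K, a * b = b * a := by
    intro a ha b hb
    have := hKcyc
    have hc : IsMulCommutative ↥K := IsCyclic.isMulCommutative
    exact congrArg Subtype.val (hc.is_comm.comm (⟨a, ha⟩ : K) ⟨b, hb⟩)
  have hKexp : ∀ a ∈ K, a ^ k = 1 := by
    intro a ha
    have h1 : (⟨a, ha⟩ : K) ^ k = 1 := by rw [← hK]; exact pow_card_eq_one'
    exact congrArg Subtype.val h1
  have hKC : K ≤ C := by
    refine le_inf hKQ ?_
    intro a ha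
    rw [Subgroup.mem_centralizer_iff]
    intro b hb
    exact hKab b hb a ha
  have hlt : C < Q := lt_of_le_of_ne inf_le_left hne
  obtain ⟨g, hgQ, hgN, hgC⟩ := Cfsg.Agent.Lib.Helper17.pgroup_normalizer_gt hQ hlt
  set Kg := K.map (MulAut.conj g).toMonoidHom with hKg
  have hgC' : ∀ c, c ∈ C ↔ g * c * g⁻¹ ∈ C := fun c =>
    (Subgroup.mem_normalizer_iff (H := C)).1 hgN c
  have hKgC : Kg ≤ C := by
    rintro _ ⟨a, ha, rfl⟩
    simp only [MulEquiv.coe_toMonoidHom, MulAut.conj_apply]
    exact (hgC' a).1 (hKC ha)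
  have hKgcard : Nat.card Kg = k := by
    rw [hKg, Subgroup.card_map_of_injective (MulAut.conj g).injective, hK]
  have hKgne : Kg ≠ K := by
    intro heq
    apply hgC
    have hgNK : g ∈ Subgroup.normalizer (K : Set G) := by
      rw [Subgroup.mem_normalizer_iff]
      intro a
      constructor
      · intro ha
        rw [← heq]
        exact ⟨a, ha, by simp [MulAut.conj_apply]⟩
      · intro ha
        rw [← heq] at ha
        obtain ⟨b, hb, hab⟩ := ha
        simp only [MulEquiv.coe_toMonoidHom, MulAut.conj_apply] at hab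
        have : a = b := by
          have h1 : g⁻¹ * (g * b * g⁻¹) * g = g⁻¹ * (g * a * g⁻¹) * g := by rw [hab]
          have h2 : g⁻¹ * (g * b * g⁻¹) * g = b := by group
          have h3 : g⁻¹ * (g * a * g⁻¹) * g = a := by group
          rw [h2, h3] at h1
          exact h1.symm
        rw [this]; exact hb
    exact ⟨hgQ, inf_normalizer_le_centralizer hQ hKQ hK ⟨hgQ, hgNK⟩⟩
  -- `K ∩ K^g = 1`
  have hinf : K ⊓ Kg = ⊥ := by
    by_contra hnb
    have h1 : Nat.card ↥(K ⊓ Kg) ∣ k := by
      rw [← hK]; exact Subgroup.card_dvd_of_le inf_le_left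
    rcases (Nat.dvd_prime hk).mp h1 with h2 | h2
    · exact hnb (Subgroup.card_eq_one.mp h2)
    · have e1 : K ⊓ Kg = K := Subgroup.eq_of_le_of_card_ge inf_le_left (by rw [h2, hK])
      have e2 : K ⊓ Kg = Kg := Subgroup.eq_of_le_of_card_ge inf_le_right (by rw [h2, hKgcard])
      exact hKgne (e2.symm.trans e1)
  have hcomm : ∀ a ∈ K, ∀ b ∈ Kg, a * b = b * a := by
    intro a ha b hb
    exact Subgroup.mem_centralizer_iff.mp (hKgC hb).2 a ha
  have hKgab : ∀ a ∈ Kg, ∀ b ∈ Kg, a * b = b * a := by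
    rintro _ ⟨a, ha, rfl⟩ _ ⟨b, hb, rfl⟩
    simp only [MulEquiv.coe_toMonoidHom, MulAut.conj_apply]
    calc g * a * g⁻¹ * (g * b * g⁻¹) = g * (a * b) * g⁻¹ := by group
      _ = g * (b * a) * g⁻¹ := by rw [hKab a ha b hb]
      _ = g * b * g⁻¹ * (g * a * g⁻¹) := by group
  have hKgexp : ∀ a ∈ Kg, a ^ k = 1 := by
    rintro _ ⟨a, ha, rfl⟩
    simp only [MulEquiv.coe_toMonoidHom, MulAut.conj_apply]
    rw [conj_pow, hKexp a ha]; group
  refine ⟨K ⊔ Kg, sup_le hKC hKgC, le_sup_left, ⟨⟨⟨fun u v => Subtype.ext ?_⟩⟩, ?_⟩, ?_⟩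
  · obtain ⟨a, ha, b, hb, hu⟩ :=
      Cfsg.Agent.Lib.Helper16.SectRank.exists_mul_of_mem_sup hcomm u.2
    obtain ⟨c, hc, d, hd, hv⟩ :=
      Cfsg.Agent.Lib.Helper16.SectRank.exists_mul_of_mem_sup hcomm v.2
    show (u : G) * (v : G) = (v : G) * (u : G)
    rw [hu, hv]
    calc a * b * (c * d) = a * (b * c) * d := by group
      _ = a * (c * b) * d := by rw [hcomm c hc b hb]
      _ = (a * c) * (b * d) := by group
      _ = (c * a) * (d * b) := by rw [hKab a ha c hc, hKgab b hb d hd]
      _ = c * (a * d) * b := by group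
      _ = c * (d * a) * b := by rw [hcomm a ha d hd]
      _ = c * d * (a * b) := by group
  · intro u hu
    obtain ⟨a, ha, b, hb, rfl⟩ :=
      Cfsg.Agent.Lib.Helper16.SectRank.exists_mul_of_mem_sup hcomm hu
    rw [(show Commute a b from hcomm a ha b hb).mul_pow, hKexp a ha, hKgexp b hb, one_mul]
  · have hn : K ≤ Subgroup.normalizer (Kg : Set G) := by
      intro a ha
      rw [Subgroup.mem_normalizer_iff]
      intro b
      constructor
      · intro hb
        have : a * b * a⁻¹ = b := by rw [hcomm a ha b hb]; group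
        rw [this]; exact hb
      · intro hb
        have h1 : a * (a * b * a⁻¹) = (a * b * a⁻¹) * a := hcomm a ha _ hb
        have : b = a * b * a⁻¹ := by
          have h2 : a * (a * b * a⁻¹) = a * (a * b) * a⁻¹ := by group
          have h3 : (a * b * a⁻¹) * a = a * b := by group
          rw [h2, h3] at h1
          have h4 : a * b = b * a := by
            have h5 : a⁻¹ * (a * (a * b) * a⁻¹) * a = a⁻¹ * (a * b) * a := by rw [h1]
            have e1 : a⁻¹ * (a * (a * b) * a⁻¹) * a = a * b := by group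
            have e2 : a⁻¹ * (a * b) * a = b * a := by group
            rw [e1, e2] at h5
            exact h5
          rw [h4]; group
        rw [this]; exact hb
    have h1 := Cfsg.H5.card_sup_mul_card_inf hn
    rw [hinf, Subgroup.card_bot, mul_one, hK, hKgcard] at h1
    rw [h1, sq]

end Cfsg.Agent.Lib.Helper11.BG1376
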