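import Mathlib
import Cfsg.Prelude
import Cfsg.Agent.Lib.Helper10.Transport
import Cfsg.Agent.Lib.Helper10.BGTwelveB
import Cfsg.Agent.Lib.Helper12.PiCore

/-!
# Bender--Glauberman, section 14: conjugation-equivariance of `σ(M)`, `M_σ`, `M_F`, `R(x)`, `M̃`
(helper11)

`sigma_cj`, `sigmaCore_cj`, `fittingHallOf_cj`, `supportR_cj`, the value of `supportR` from a
unique maximal subgroup over `C_G(x)`, and closure of `tildeOf` under conjugation.
-/

set_option autoImplicit false
open Cfsg
open Cfsg.Agent.Lib.Helper10.BG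
open Cfsg.Agent.Lib.Helper9.BGExc

namespace Cfsg.Agent.Lib.Helper11.BG14C

variable {G : Type*} [Group G]

section Transport

variable {G' : Type*} [Group G'] (φ : G ≃* G')

/-- transport of `M_F` along an isomorphism. -/
theorem map_fittingHall : (fittingHall G).map φ.toMonoidHom = fittingHall G' := by
  unfold fittingHall
  apply Cfsg.Agent.Lib.Helper10.map_sSup_of_forall
  · rintro N ⟨hN, hnil, hc⟩
    refine ⟨Cfsg.Agent.Lib.Helper10.normal_map_equiv φ hN,
      (Group.isNilpotent_congr (φ.subgroupMap N)).mp hnil, ?_⟩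
    rw [Cfsg.Agent.Lib.Helper10.card_map_equiv]
    have h1 : (N.map φ.toMonoidHom).index = N.index :=
      Subgroup.index_map_of_bijective φ.bijective N
    rw [h1]; exact hc
  · rintro N ⟨hN, hnil, hc⟩
    refine ⟨Cfsg.Agent.Lib.Helper10.normal_map_equiv φ.symm hN,
      (Group.isNilpotent_congr (φ.symm.subgroupMap N)).mp hnil, ?_⟩
    rw [Cfsg.Agent.Lib.Helper10.card_map_equiv]
    have h1 : (N.map φ.symm.toMonoidHom).index = N.index :=
      Subgroup.index_map_of_bijective φ.symm.bijective N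
    rw [h1]; exact hc

theorem map_fittingHall_subgroup (H : Subgroup G) :
    ((fittingHall H).map H.subtype).map φ.toMonoidHom =
      (fittingHall (H.map φ.toMonoidHom)).map (H.map φ.toMonoidHom).subtype := by
  rw [Cfsg.Agent.Lib.Helper10.map_subtype_map, map_fittingHall]

theorem map_piCore_subgroup (π : Set ℕ) (H : Subgroup G) :
    ((piCore π H).map H.subtype).map φ.toMonoidHom =
      (piCore π (H.map φ.toMonoidHom)).map (H.map φ.toMonoidHom).subtype := by
  rw [Cfsg.Agent.Lib.Helper10.map_subtype_map]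
  congr 1
  exact Cfsg.Agent.Lib.Helper12.piCore_map_equiv π (Cfsg.Agent.Lib.Helper10.restrictEquiv φ H)

end Transport

/-- `(g L g⁻¹)_F = g L_F g⁻¹`. -/
theorem fittingHallOf_cj (g : G) (L : Subgroup G) :
    fittingHallOf (cj g L) = cj g (fittingHallOf L) :=
  (map_fittingHall_subgroup (MulAut.conj g) L).symm

/-- `σ` is invariant under conjugation (as an equality of sets). -/
theorem sigma_cj [Finite G] {M : Subgroup G} (hM : IsCoatom M) (g : G) :
    sigma (cj g M) = sigma M := by
  ext p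
  constructor
  · intro hp
    haveI : Fact p.Prime := ⟨hp.1⟩
    have h1 := mem_sigma_cj (isCoatom_map_conj g hM) hp g⁻¹
    rwa [cj_inv_cj] at h1
  · intro hp
    haveI : Fact p.Prime := ⟨hp.1⟩
    exact mem_sigma_cj hM hp g

/-- `(g M g⁻¹)_σ = g M_σ g⁻¹`. -/
theorem sigmaCore_cj [Finite G] {M : Subgroup G} (hM : IsCoatom M) (g : G) :
    sigmaCore (cj g M) = cj g (sigmaCore M) := by
  unfold sigmaCore
  rw [sigma_cj hM g]
  exact (map_piCore_subgroup (MulAut.conj g) (sigma M) M).symm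

theorem centralizer_singleton_cj (c z : G) :
    Subgroup.centralizer ({c * z * c⁻¹} : Set G) = cj c (Subgroup.centralizer ({z} : Set G)) := by
  ext y
  rw [mem_cj, Subgroup.mem_centralizer_iff, Subgroup.mem_centralizer_iff]
  constructor
  · intro h a ha
    rw [Set.mem_singleton_iff] at ha
    subst ha
    have h1 := h (c * a * c⁻¹) rfl
    calc a * (c⁻¹ * y * c) = c⁻¹ * (c * a * c⁻¹ * y) * c := by group
      _ = c⁻¹ * (y * (c * a * c⁻¹)) * c := by rw [h1]
      _ = c⁻¹ * y * c * a := by group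
  · intro h a ha
    rw [Set.mem_singleton_iff] at ha
    subst ha
    have h1 := h z rfl
    calc c * z * c⁻¹ * y = c * (z * (c⁻¹ * y * c)) * c⁻¹ := by group
      _ = c * (c⁻¹ * y * c * z) * c⁻¹ := by rw [h1]
      _ = y * (c * z * c⁻¹) := by group

/-- the value of `R(x)` when `C_G(x) ≰ M` lies in the unique maximal subgroup `N`. -/
theorem supportR_eq_of_unique {M N : Subgroup G} {x : G}
    (hxM : ¬ Subgroup.centralizer ({x} : Set G) ≤ M) (hN : IsCoatom N)
    (hxN : Subgroup.centralizer ({x} : Set G) ≤ N)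
    (huniq : ∀ L : Subgroup G, IsCoatom L → Subgroup.centralizer ({x} : Set G) ≤ L → L = N) :
    supportR M x = fittingHallOf N ⊓ Subgroup.centralizer ({x} : Set G) := by
  have hex : ∃! L : Subgroup G, IsCoatom L ∧ Subgroup.centralizer ({x} : Set G) ≤ L :=
    ⟨N, ⟨hN, hxN⟩, fun L hL => huniq L hL.1 hL.2⟩
  unfold supportR
  rw [dif_pos ⟨hxM, hex⟩]
  have hc := Classical.choose_spec hex.exists
  rw [huniq _ hc.1 hc.2]

/-- `R(x) = 1` when `C_G(x) ≤ M`. -/
theorem supportR_eq_bot_of_le {M : Subgroup G} {x : G}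
    (hxM : Subgroup.centralizer ({x} : Set G) ≤ M) : supportR M x = ⊥ := by
  unfold supportR
  rw [dif_neg]
  exact fun h => h.1 hxM

/-- `R(x) = 1` when `C_G(x)` does not lie in a unique maximal subgroup. -/
theorem supportR_eq_bot_of_not_unique {M : Subgroup G} {x : G}
    (h : ¬ ∃! L : Subgroup G, IsCoatom L ∧ Subgroup.centralizer ({x} : Set G) ≤ L) :
    supportR M x = ⊥ := by
  unfold supportR
  rw [dif_neg]
  exact fun h' => h h'.2

theorem one_mem_supportR (M : Subgroup G) (x : G) : (1 : G) ∈ supportR M x := one_mem _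

/-- conjugation-equivariance of `R(x)`. -/
theorem supportR_cj (w : G) (M : Subgroup G) (a : G) :
    supportR (cj w M) (w * a * w⁻¹) = cj w (supportR M a) := by
  have hcent := centralizer_singleton_cj w a
  have hle : ∀ L : Subgroup G, Subgroup.centralizer ({w * a * w⁻¹} : Set G) ≤ cj w L ↔
      Subgroup.centralizer ({a} : Set G) ≤ L := by
    intro L
    rw [hcent]
    constructor
    · intro h
      have h1 := cj_mono w⁻¹ h
      rwa [cj_inv_cj, cj_inv_cj] at h1
    · exact cj_mono w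
  by_cases hM : Subgroup.centralizer ({a} : Set G) ≤ M
  · rw [supportR_eq_bot_of_le hM, supportR_eq_bot_of_le ((hle M).mpr hM), cj_bot]
  by_cases hex : ∃! L : Subgroup G, IsCoatom L ∧ Subgroup.centralizer ({a} : Set G) ≤ L
  · obtain ⟨N, ⟨hN, haN⟩, huniq⟩ := hex
    have huniq' : ∀ L : Subgroup G, IsCoatom L → Subgroup.centralizer ({a} : Set G) ≤ L →
        L = N := fun L h1 h2 => huniq L ⟨h1, h2⟩
    rw [supportR_eq_of_unique hM hN haN huniq']
    have hM' : ¬ Subgroup.centralizer ({w * a * w⁻¹} : Set G) ≤ cj w M :=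
      fun h => hM ((hle M).mp h)
    have huniq'' : ∀ L : Subgroup G, IsCoatom L →
        Subgroup.centralizer ({w * a * w⁻¹} : Set G) ≤ L → L = cj w N := by
      intro L hL hLa
      have h1 : Subgroup.centralizer ({w * a * w⁻¹} : Set G) ≤ cj w (cj w⁻¹ L) := by
        rw [cj_cj_inv]; exact hLa
      have h2 := huniq' _ (isCoatom_map_conj w⁻¹ hL) ((hle _).mp h1)
      rw [← h2, cj_cj_inv]
    rw [supportR_eq_of_unique hM' (isCoatom_map_conj w hN) ((hle N).mpr haN) huniq'',
      fittingHallOf_cj, hcent, cj_inf]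
  · have hex' : ¬ ∃! L : Subgroup G, IsCoatom L ∧
        Subgroup.centralizer ({w * a * w⁻¹} : Set G) ≤ L := by
      rintro ⟨N, ⟨hN, haN⟩, huniq⟩
      apply hex
      refine ⟨cj w⁻¹ N, ⟨isCoatom_map_conj w⁻¹ hN, ?_⟩, ?_⟩
      · apply (hle _).mp
        rw [cj_cj_inv]; exact haN
      · rintro L ⟨hL, haL⟩
        have h1 := huniq (cj w L) ⟨isCoatom_map_conj w hL, (hle L).mpr haL⟩
        rw [← h1, cj_inv_cj]
    rw [supportR_eq_bot_of_not_unique hex, supportR_eq_bot_of_not_unique hex', cj_bot]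

/-- `M̃` is closed under conjugation. -/
theorem conj_mem_tildeOf {M : Subgroup G} {A : Set G} {g : G} (hg : g ∈ tildeOf M A) (c : G) :
    c * g * c⁻¹ ∈ tildeOf M A := by
  obtain ⟨a, ha, r, hr, y, rfl⟩ := hg
  exact ⟨a, ha, r, hr, c * y, by group⟩

theorem mem_tildeOf_of_conj {M : Subgroup G} {A : Set G} {g : G} (c : G)
    (hg : c * g * c⁻¹ ∈ tildeOf M A) : g ∈ tildeOf M A := by
  have h := conj_mem_tildeOf hg c⁻¹
  have h2 : c⁻¹ * (c * g * c⁻¹) * c⁻¹⁻¹ = g := by group
  rwa [h2] at h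

/-- the basic way of exhibiting an element of `M̃`. -/
theorem mul_mem_tildeOf {M : Subgroup G} {a r : G} (ha : a ∈ sigmaCore M) (ha1 : a ≠ 1)
    (hr : r ∈ supportR M a) : a * r ∈ tildeOf M ((sigmaCore M : Set G) \ {1}) :=
  ⟨a, ⟨ha, ha1⟩, r, hr, 1, by group⟩

end Cfsg.Agent.Lib.Helper11.BG14C
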