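import Mathlib
import Cfsg.Prelude
import Cfsg.Agent.Lib.Helper11.BGFourteenC
import Cfsg.Agent.Lib.Helper11.BGFourteenB
import Cfsg.Agent.Lib.Helper1.BGStubs2
import Cfsg.Agent.Lib.Helper10.BGTwelveG
import Cfsg.Agent.Lib.Helper22.PiElt
import Cfsg.Agent.Lib.Helper19.BGCompl
import Cfsg.Agent.S1378

/-!
# Bender--Glauberman 14.4 / Theorem 14.8-type partition (frozen row S1379), relative to the
frozen rows S1375, S1430, S1431, S1432, S1433, S1366, S1367 and S1369(2) (helper11)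

* `s1379_disjoint_of` : `M̃ ∩ Ñ = ∅` for non-conjugate maximal subgroups (from S1433, S1378).
* `cover` : the covering argument.
* `s1379_zhat_of` : no conjugate of an element of `Ẑ` lies in any `Ñ`.
* `s1379_of` : the frozen statement.
-/

set_option autoImplicit false
set_option linter.style.haveILetI false
open Cfsg
open Cfsg.Agent.Lib.Helper10.BG
open Cfsg.Agent.Lib.Helper9.BGExc
open Cfsg.Agent.Lib.Helper1.BGStubs2
open Cfsg.Agent.Lib.Helper11.BG14C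
open Cfsg.Agent.Lib.Helper22 (IsPiElt exists_pi_decomp pi_decomp_unique)

namespace Cfsg.Agent.Lib.Helper11.BG14D

variable {G : Type*} [Group G] [Finite G]

/-- `K* = C_{M_σ}(K)`. -/
abbrev Kst (M K : Subgroup G) : Subgroup G := sigmaCore M ⊓ Subgroup.centralizer (K : Set G)

/-- `Ẑ = K K* − (K ∪ K*)`. -/
abbrev Zh (M K : Subgroup G) : Set G :=
  (↑(K ⊔ (sigmaCore M ⊓ Subgroup.centralizer (K : Set G))) : Set G) \
    ((K : Set G) ∪ ↑(sigmaCore M ⊓ Subgroup.centralizer (K : Set G)))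

/-- the conclusion of S1369(2), as a hypothesis. -/
def H69 (G : Type*) [Group G] [Finite G] : Prop :=
  ∀ (M K U Mstar : Subgroup G), IsCoatom M → IsSigmaDecomposition M K U → K ≠ ⊥ →
    IsCoatom Mstar →
    K = sigmaCore Mstar ⊓ Subgroup.centralizer ((sigmaCore M ⊓ Subgroup.centralizer (K : Set G) :
      Subgroup G) : Set G) →
    IsPiHallOf (kappa Mstar) (sigmaCore M ⊓ Subgroup.centralizer (K : Set G)) Mstar →
    ∀ H : Subgroup G, IsCoatom H → (kappa H).Nonempty →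
      ∃ g : G, H = M.map (MulAut.conj g).toMonoidHom ∨ H = Mstar.map (MulAut.conj g).toMonoidHom

theorem exists_prime_dvd_orderOf {x : G} (hx : x ≠ 1) : ∃ p : ℕ, p.Prime ∧ p ∣ orderOf x :=
  Nat.exists_prime_and_dvd (fun h => hx (orderOf_eq_one_iff.mp h))

theorem mem_sigma_of_mem_sigmaCore (hG : IsMinSimpleOddOrder G) {M : Subgroup G} (hM : IsCoatom M)
    {x : G} (hx : x ∈ sigmaCore M) {p : ℕ} (hp : p.Prime) (hpx : p ∣ orderOf x) : p ∈ sigma M :=
  mem_sigma_of_dvd_card_sigmaCore hG hM hp (hpx.trans (Subgroup.orderOf_dvd_natCard _ hx))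

theorem orderOf_conj' (c x : G) : orderOf (c * x * c⁻¹) = orderOf x := by
  have : c * x * c⁻¹ = MulAut.conj c x := by simp [MulAut.conj_apply]
  rw [this, MulEquiv.orderOf_eq]

theorem conj_ne_one {c x : G} (hx : x ≠ 1) : c * x * c⁻¹ ≠ 1 := by
  intro h
  apply hx
  have h3 : x = c⁻¹ * (c * x * c⁻¹) * c := by group
  rw [h3, h]; group

theorem mem_centralizer_singleton {x y : G} (h : y * x = x * y) :
    x ∈ Subgroup.centralizer ({y} : Set G) := by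
  rw [Subgroup.mem_centralizer_iff]
  intro z hz
  rw [Set.mem_singleton_iff] at hz
  rw [hz]; exact h

theorem comm_of_mem_centralizer_singleton {x y : G}
    (h : x ∈ Subgroup.centralizer ({y} : Set G)) : y * x = x * y :=
  (Subgroup.mem_centralizer_iff.mp h) y rfl

/-! ### Part 1 -/

/-- **S1379, first part**: `M̃ ∩ Ñ = ∅` for non-conjugate `M`, `N`. -/
theorem s1379_disjoint_of (hG : IsMinSimpleOddOrder G) (h33 : P1433 G)
    {M N : Subgroup G} (hM : IsCoatom M) (hN : IsCoatom N)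
    (hnc : ∀ g : G, N ≠ M.map (MulAut.conj g).toMonoidHom) :
    tildeOf M ((sigmaCore M : Set G) \ {1}) ∩ tildeOf N ((sigmaCore N : Set G) \ {1}) = ∅ := by
  rw [Set.eq_empty_iff_forall_notMem]
  rintro g ⟨⟨a, ⟨ha, ha1⟩, r, hr, y, hy⟩, ⟨b, ⟨hb, hb1⟩, s, hs, v, hv⟩⟩
  have ha1' : a ≠ 1 := fun h => ha1 (Set.mem_singleton_iff.mpr h)
  have hb1' : b ≠ 1 := fun h => hb1 (Set.mem_singleton_iff.mpr h)
  have hM' : IsCoatom (cj (v⁻¹ * y) M) := isCoatom_map_conj (v⁻¹ * y) hM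
  have ha' : (v⁻¹ * y) * a * (v⁻¹ * y)⁻¹ ∈ sigmaCore (cj (v⁻¹ * y) M) := by
    rw [sigmaCore_cj hM]; exact conj_mem_cj ha
  have hr' : (v⁻¹ * y) * r * (v⁻¹ * y)⁻¹ ∈
      supportR (cj (v⁻¹ * y) M) ((v⁻¹ * y) * a * (v⁻¹ * y)⁻¹) := by
    rw [supportR_cj]; exact conj_mem_cj hr
  have ha'1 : (v⁻¹ * y) * a * (v⁻¹ * y)⁻¹ ≠ 1 := conj_ne_one ha1'
  have heq : ((v⁻¹ * y) * a * (v⁻¹ * y)⁻¹) * ((v⁻¹ * y) * r * (v⁻¹ * y)⁻¹) = b * s := by
    have h1 : v⁻¹ * (y * (a * r) * y⁻¹) * v = b * s := by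
      rw [← hy, hv]; group
    rw [← h1]; group
  by_cases hab : (v⁻¹ * y) * a * (v⁻¹ * y)⁻¹ = b
  · obtain ⟨p, hp, hpb⟩ := exists_prime_dvd_orderOf hb1'
    have h1 : p ∈ sigma N := mem_sigma_of_mem_sigmaCore hG hN hb hp hpb
    have h2 : p ∈ sigma (cj (v⁻¹ * y) M) := by
      rw [← hab] at hpb
      exact mem_sigma_of_mem_sigmaCore hG hM' ha' hp hpb
    obtain ⟨c, hc⟩ := (Cfsg.Agent.S1378.result hG).2 _ N hM' hN ⟨p, h2, h1⟩
    apply hnc (c * (v⁻¹ * y))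
    rw [hc]
    exact cj_cj c (v⁻¹ * y) M
  · exact h33 (cj (v⁻¹ * y) M) N hM' hN _ b ha' hb ha'1 hb1' hab _ hr' s hs heq

/-! ### The covering argument -/

/-- the `τ₂`-alternative of S1432 puts `x x'` into some `L̃`. -/
theorem mem_tilde_of_tau2_alt (hG : IsMinSimpleOddOrder G) (h75 : P1375 G)
    {M₀ L : Subgroup G} (hM₀ : IsCoatom M₀) (hL : IsCoatom L) {x x' : G}
    (hx : x ∈ sigmaCore M₀) (hx'1 : x' ≠ 1) (hcomm : x * x' = x' * x)
    (hσ' : ∀ p : ℕ, p.Prime → p ∣ orderOf x' → p ∉ sigma M₀)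
    (hσL : ∀ p : ℕ, p.Prime → p ∣ orderOf x' → p ∈ sigma L)
    (hle : Subgroup.centralizer ({x'} : Set G) ≤ M₀)
    (huniq : ∀ L' : Subgroup G, IsCoatom L' → Subgroup.centralizer ({x'} : Set G) ≤ L' →
      L' = M₀) :
    ∃ N : Subgroup G, IsCoatom N ∧ x * x' ∈ tildeOf N ((sigmaCore N : Set G) \ {1}) := by
  have hY1 : Subgroup.zpowers x' ≠ ⊥ := by
    intro h
    exact hx'1 (Subgroup.zpowers_eq_bot.mp h)
  have hY : ∀ p : ℕ, p.Prime → p ∣ Nat.card (Subgroup.zpowers x') → p ∈ sigma L := by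
    intro p hp hd
    rw [Nat.card_zpowers] at hd
    exact hσL p hp hd
  obtain ⟨d, hd⟩ := sigma_subgroup_conj hG hL hY1 hY
  have hL' : IsCoatom (cj d⁻¹ L) := isCoatom_map_conj d⁻¹ hL
  have hx'L : x' ∈ sigmaCore (cj d⁻¹ L) := by
    rw [sigmaCore_cj hL, mem_cj, inv_inv]
    exact hd (conj_mem_cj (Subgroup.mem_zpowers x'))
  obtain ⟨q, hq, hqx'⟩ := exists_prime_dvd_orderOf hx'1
  have hne : cj d⁻¹ L ≠ M₀ := by
    intro h
    apply hσ' q hq hqx'
    rw [← h]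
    exact mem_sigma_of_mem_sigmaCore hG hL' hx'L hq hqx'
  have hnle : ¬ Subgroup.centralizer ({x'} : Set G) ≤ cj d⁻¹ L := fun h => hne (huniq _ hL' h)
  obtain ⟨N, ⟨hN, hxN⟩, -, hsF, -⟩ := h75 (cj d⁻¹ L) hL' x' hx'L hx'1 hnle
  have hNM : N = M₀ := huniq N hN hxN
  rw [hNM] at hsF
  have hR : supportR (cj d⁻¹ L) x' = fittingHallOf M₀ ⊓ Subgroup.centralizer ({x'} : Set G) :=
    supportR_eq_of_unique hnle hM₀ hle huniq
  have hxR : x ∈ supportR (cj d⁻¹ L) x' := by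
    rw [hR, ← hsF]
    exact Subgroup.mem_inf.mpr ⟨hx, mem_centralizer_singleton hcomm.symm⟩
  refine ⟨cj d⁻¹ L, hL', ?_⟩
  rw [hcomm]
  exact mul_mem_tildeOf hx'L hx'1 hxR

/-- the `κ`-alternative of S1432 puts `x x'` into `Ẑ(M₀)`. -/
theorem mem_zhat_of_kappa_alt (hG : IsMinSimpleOddOrder G) (h30 : P1430 G)
    {M₀ : Subgroup G} (hM₀ : IsCoatom M₀) {x x' : G}
    (hx : x ∈ sigmaCore M₀) (hx1 : x ≠ 1) (hx'M : x' ∈ M₀) (hx'1 : x' ≠ 1)
    (hcomm : x * x' = x' * x)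
    (hκ : ∀ p : ℕ, p.Prime → p ∣ orderOf x' → p ∈ kappa M₀) :
    ∃ K₀ : Subgroup G, IsPiHallOf (kappa M₀) K₀ M₀ ∧ K₀ ≠ ⊥ ∧ x * x' ∈ Zh M₀ K₀ := by
  have hU : ∀ p : ℕ, p.Prime → p ∣ Nat.card (Subgroup.zpowers x') → p ∈ kappa M₀ := by
    intro p hp hd
    rw [Nat.card_zpowers] at hd
    exact hκ p hp hd
  obtain ⟨K₀, hK₀, hle⟩ := Cfsg.Agent.Lib.Helper11.BG14.exists_kappa_hall_ge hG hM₀
    (Subgroup.zpowers_le.mpr hx'M) hU
  have hx'K : x' ∈ K₀ := hle (Subgroup.mem_zpowers x')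
  have hK₀1 : K₀ ≠ ⊥ := by
    intro h
    rw [h, Subgroup.mem_bot] at hx'K
    exact hx'1 hx'K
  have h1 := (h30 M₀ hM₀ K₀ hK₀ hK₀1).1 x' hx'K hx'1
  have hxKs : x ∈ sigmaCore M₀ ⊓ Subgroup.centralizer (K₀ : Set G) := by
    rw [← h1]
    exact Subgroup.mem_inf.mpr ⟨hx, mem_centralizer_singleton hcomm.symm⟩
  have hdisj : ∀ y : G, y ∈ K₀ → y ∈ sigmaCore M₀ → y = 1 := by
    intro y hyK hyS
    by_contra hy1
    obtain ⟨q, hq, hqy⟩ := exists_prime_dvd_orderOf hy1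
    have h2 : q ∈ kappa M₀ := hK₀.2.1 q hq (hqy.trans (Subgroup.orderOf_dvd_natCard _ hyK))
    exact h2.2.2.1 (mem_sigma_of_mem_sigmaCore hG hM₀ hyS hq hqy)
  refine ⟨K₀, hK₀, hK₀1, ⟨?_, ?_⟩⟩
  · exact mul_mem (Subgroup.mem_sup_right hxKs) (Subgroup.mem_sup_left hx'K)
  · rintro (h | h)
    · apply hx1
      apply hdisj x _ hx
      have h3 : x = x * x' * x'⁻¹ := by group
      rw [h3]
      exact mul_mem h (inv_mem hx'K)
    · apply hx'1
      apply hdisj x' hx'K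
      have h3 : x' = x⁻¹ * (x * x') := by group
      rw [h3]
      exact mul_mem (inv_mem hx) h.1

/-- a `σ(N)`-element of `N` lies in `N_σ`. -/
theorem mem_sigmaCore_of_isPiElt (hG : IsMinSimpleOddOrder G) {N : Subgroup G} (hN : IsCoatom N)
    {y : G} (hyN : y ∈ N) (hy : IsPiElt (sigma N) y) : y ∈ sigmaCore N := by
  have h1 : Subgroup.zpowers y ≤ sigmaCore N := by
    apply le_sigmaCore_of_sigma_group hG hN (Subgroup.zpowers_le.mpr hyN)
    intro p hp hd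
    rw [Nat.card_zpowers] at hd
    exact hy p hp hd
  exact h1 (Subgroup.mem_zpowers y)

/-- the core of the covering argument: `x ∈ M₀_σ^#`, `x'` a `σ(M₀)'`-element of `C_G(x)`. -/
theorem cover_aux (hG : IsMinSimpleOddOrder G) (h75 : P1375 G) (h32 : P1432 G) (h30 : P1430 G)
    {M₀ : Subgroup G} (hM₀ : IsCoatom M₀) {x x' : G}
    (hx : x ∈ sigmaCore M₀) (hx1 : x ≠ 1) (hcomm : x * x' = x' * x)
    (hσ' : ∀ p : ℕ, p.Prime → p ∣ orderOf x' → p ∉ sigma M₀) :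
    (∃ N : Subgroup G, IsCoatom N ∧ x * x' ∈ tildeOf N ((sigmaCore N : Set G) \ {1})) ∨
      ∃ K₀ : Subgroup G, IsPiHallOf (kappa M₀) K₀ M₀ ∧ K₀ ≠ ⊥ ∧ x * x' ∈ Zh M₀ K₀ := by
  by_cases hx'1 : x' = 1
  · left
    refine ⟨M₀, hM₀, ?_⟩
    rw [hx'1]
    exact mul_mem_tildeOf hx hx1 (one_mem _)
  have hx'C : x' ∈ Subgroup.centralizer ({x} : Set G) := mem_centralizer_singleton hcomm
  by_cases hC : Subgroup.centralizer ({x} : Set G) ≤ M₀
  · rcases h32 M₀ hM₀ x hx hx1 x' (Subgroup.mem_inf.mpr ⟨hC hx'C, hx'C⟩) hx'1 hσ' with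
      ⟨hκ, -⟩ | ⟨-, ⟨L, hL, hσL⟩, hle, huniq⟩
    · right
      exact mem_zhat_of_kappa_alt hG h30 hM₀ hx hx1 (hC hx'C) hx'1 hcomm hκ
    · left
      exact mem_tilde_of_tau2_alt hG h75 hM₀ hL hx hx'1 hcomm hσ' hσL hle huniq
  · left
    obtain ⟨N, ⟨hN, hxN⟩, hNuniq, hsF, hnorm, hcompl, hcomplN, -⟩ := h75 M₀ hM₀ x hx hx1 hC
    have hR : supportR M₀ x = sigmaCore N ⊓ Subgroup.centralizer ({x} : Set G) := by
      rw [supportR_eq_of_unique hC hN hxN hNuniq, ← hsF]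
    obtain ⟨x₁, x₂, hx₁z, hx₂z, hx'eq, hx₁π, hx₂π⟩ := exists_pi_decomp (sigma N) _ x' rfl
    have hzC : Subgroup.zpowers x' ≤ Subgroup.centralizer ({x} : Set G) :=
      Subgroup.zpowers_le.mpr hx'C
    have hx₁R : x₁ ∈ sigmaCore N ⊓ Subgroup.centralizer ({x} : Set G) :=
      Subgroup.mem_inf.mpr ⟨mem_sigmaCore_of_isPiElt hG hN (hxN (hzC hx₁z)) hx₁π, hzC hx₁z⟩
    by_cases hx₂1 : x₂ = 1
    · refine ⟨M₀, hM₀, ?_⟩
      rw [hx'eq, hx₂1, mul_one]
      apply mul_mem_tildeOf hx hx1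
      rw [hR]; exact hx₁R
    -- conjugate `x₂` into `C_{M₀}(x)` inside `C_G(x)`
    have hsolv : Group.IsSolvable ↥(Subgroup.centralizer ({x} : Set G)) :=
      isSolvable_of_ne_top hG (ne_top_of_le_isCoatom hN hxN)
    have hcard := Cfsg.Agent.Lib.Helper10.IsComplIn.card_eq hcompl
    have hrel : (M₀ ⊓ Subgroup.centralizer ({x} : Set G)).relIndex
        (Subgroup.centralizer ({x} : Set G)) =
        Nat.card ↥(sigmaCore N ⊓ Subgroup.centralizer ({x} : Set G)) := by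
      have h1 := Cfsg.Agent.Lib.Helper12.card_mul_relIndex_eq
        (inf_le_right : M₀ ⊓ Subgroup.centralizer ({x} : Set G) ≤
          Subgroup.centralizer ({x} : Set G))
      rw [hcard] at h1
      exact Nat.eq_of_mul_eq_mul_left Nat.card_pos h1
    have hRσ : ∀ q : ℕ, q.Prime →
        q ∣ Nat.card ↥(sigmaCore N ⊓ Subgroup.centralizer ({x} : Set G)) → q ∈ sigma N :=
      fun q hq hd => mem_sigma_of_dvd_card_sigmaCore hG hN hq
        (hd.trans (Subgroup.card_dvd_of_le inf_le_left))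
    have hDσ : ∀ q : ℕ, q.Prime →
        q ∣ Nat.card ↥(M₀ ⊓ Subgroup.centralizer ({x} : Set G)) → q ∉ sigma N := by
      intro q hq hd
      apply Cfsg.Agent.Lib.Helper19.BGCompl.compl_not_mem_sigma hG hN hcomplN hq
      exact hd.trans (Subgroup.card_dvd_of_le (inf_le_inf_left M₀ hxN))
    have hcop1 : (Nat.card ↥(M₀ ⊓ Subgroup.centralizer ({x} : Set G))).Coprime
        ((M₀ ⊓ Subgroup.centralizer ({x} : Set G)).relIndex
          (Subgroup.centralizer ({x} : Set G))) := by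
      rw [hrel]
      exact Nat.coprime_of_dvd (fun k hk hk1 hk2 => hDσ k hk hk1 (hRσ k hk hk2))
    have hcop2 : (Nat.card ↥(Subgroup.zpowers x₂)).Coprime
        ((M₀ ⊓ Subgroup.centralizer ({x} : Set G)).relIndex
          (Subgroup.centralizer ({x} : Set G))) := by
      rw [hrel, Nat.card_zpowers]
      exact Nat.coprime_of_dvd (fun k hk hk1 hk2 => hx₂π k hk hk1 (hRσ k hk hk2))
    obtain ⟨c, hc, hcD⟩ := hall_le_conj_in hsolv inf_le_right
      (Subgroup.zpowers_le.mpr (hzC hx₂z)) hcop1 hcop2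
    have hy₂D : c * x₂ * c⁻¹ ∈ M₀ ⊓ Subgroup.centralizer ({x} : Set G) :=
      hcD (conj_mem_cj (Subgroup.mem_zpowers x₂))
    have hy₁R : c * x₁ * c⁻¹ ∈ sigmaCore N ⊓ Subgroup.centralizer ({x} : Set G) :=
      (Subgroup.mem_normalizer_iff.mp (hnorm hc) x₁).mp hx₁R
    have hy₂1 : c * x₂ * c⁻¹ ≠ 1 := conj_ne_one hx₂1
    have hσ₂ : ∀ p : ℕ, p.Prime → p ∣ orderOf (c * x₂ * c⁻¹) → p ∉ sigma M₀ := by
      intro p hp hd
      rw [orderOf_conj'] at hd
      exact hσ' p hp (hd.trans (orderOf_dvd_of_mem_zpowers hx₂z))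
    have hcx : c * x * c⁻¹ = x := by
      have h1 := comm_of_mem_centralizer_singleton hc
      calc c * x * c⁻¹ = x * c * c⁻¹ := by rw [h1]
        _ = x := by group
    have h12 : x₁ * x₂ = x₂ * x₁ :=
      (Cfsg.Agent.Lib.Helper22.commute_of_mem_zpowers hx₁z hx₂z).eq
    rcases h32 M₀ hM₀ x hx hx1 _ hy₂D hy₂1 hσ₂ with ⟨-, hCM⟩ | ⟨-, ⟨L, hL, hσL⟩, hle, huniq⟩
    · exact absurd hCM hC
    · have hy₁C : c * x₁ * c⁻¹ ∈ Subgroup.centralizer ({c * x₂ * c⁻¹} : Set G) := by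
        apply mem_centralizer_singleton
        calc c * x₂ * c⁻¹ * (c * x₁ * c⁻¹) = c * (x₂ * x₁) * c⁻¹ := by group
          _ = c * (x₁ * x₂) * c⁻¹ := by rw [h12]
          _ = c * x₁ * c⁻¹ * (c * x₂ * c⁻¹) := by group
      have hy₁bot : c * x₁ * c⁻¹ ∈ (M₀ ⊓ Subgroup.centralizer ({x} : Set G)) ⊓
          (sigmaCore N ⊓ Subgroup.centralizer ({x} : Set G)) :=
        Subgroup.mem_inf.mpr ⟨Subgroup.mem_inf.mpr ⟨hle hy₁C, (Subgroup.mem_inf.mp hy₁R).2⟩, hy₁R⟩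
      rw [hcompl.2.2.1, Subgroup.mem_bot] at hy₁bot
      have hcomm₂ : x * (c * x₂ * c⁻¹) = c * x₂ * c⁻¹ * x :=
        (comm_of_mem_centralizer_singleton (Subgroup.mem_inf.mp hy₂D).2)
      obtain ⟨N', hN', hmem⟩ := mem_tilde_of_tau2_alt hG h75 hM₀ hL hx hy₂1 hcomm₂ hσ₂ hσL
        hle huniq
      refine ⟨N', hN', mem_tildeOf_of_conj c ?_⟩
      have h5 : c * (x * x') * c⁻¹ = x * (c * x₂ * c⁻¹) := by
        calc c * (x * x') * c⁻¹ = (c * x * c⁻¹) * (c * x' * c⁻¹) := by group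
          _ = x * (c * (x₁ * x₂) * c⁻¹) := by rw [hcx, ← hx'eq]
          _ = x * ((c * x₁ * c⁻¹) * (c * x₂ * c⁻¹)) := by group
          _ = x * (c * x₂ * c⁻¹) := by rw [hy₁bot, one_mul]
      rw [h5]; exact hmem

/-- the covering argument for `g` with a prime divisor `p ∈ σ(M₁)` of its order. -/
theorem cover (hG : IsMinSimpleOddOrder G) (h75 : P1375 G) (h32 : P1432 G) (h30 : P1430 G)
    {M₁ : Subgroup G} (hM₁ : IsCoatom M₁) {g : G} {p : ℕ} (hp : p.Prime)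
    (hpg : p ∣ orderOf g) (hpσ : p ∈ sigma M₁) :
    (∃ N : Subgroup G, IsCoatom N ∧ g ∈ tildeOf N ((sigmaCore N : Set G) \ {1})) ∨
      ∃ K₀ : Subgroup G, IsPiHallOf (kappa M₁) K₀ M₁ ∧ K₀ ≠ ⊥ ∧
        ∃ c : G, c * g * c⁻¹ ∈ Zh M₁ K₀ := by
  obtain ⟨u, v, huz, hvz, hguv, huπ, hvπ⟩ := exists_pi_decomp (sigma M₁) _ g rfl
  have hu1 : u ≠ 1 := by
    intro h
    rw [h, one_mul] at hguv
    rw [hguv] at hpg
    exact hvπ p hp hpg hpσ
  have hY1 : Subgroup.zpowers u ≠ ⊥ := fun h => hu1 (Subgroup.zpowers_eq_bot.mp h)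
  have hY : ∀ q : ℕ, q.Prime → q ∣ Nat.card (Subgroup.zpowers u) → q ∈ sigma M₁ := by
    intro q hq hd
    rw [Nat.card_zpowers] at hd
    exact huπ q hq hd
  obtain ⟨c, hc⟩ := sigma_subgroup_conj hG hM₁ hY1 hY
  have hx : c * u * c⁻¹ ∈ sigmaCore M₁ := hc (conj_mem_cj (Subgroup.mem_zpowers u))
  have huv : u * v = v * u := (Cfsg.Agent.Lib.Helper22.commute_of_mem_zpowers huz hvz).eq
  have hcomm : (c * u * c⁻¹) * (c * v * c⁻¹) = (c * v * c⁻¹) * (c * u * c⁻¹) := by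
    calc (c * u * c⁻¹) * (c * v * c⁻¹) = c * (u * v) * c⁻¹ := by group
      _ = c * (v * u) * c⁻¹ := by rw [huv]
      _ = (c * v * c⁻¹) * (c * u * c⁻¹) := by group
  have hσ' : ∀ q : ℕ, q.Prime → q ∣ orderOf (c * v * c⁻¹) → q ∉ sigma M₁ := by
    intro q hq hd
    rw [orderOf_conj'] at hd
    exact hvπ q hq hd
  have hgc : c * g * c⁻¹ = (c * u * c⁻¹) * (c * v * c⁻¹) := by
    calc c * g * c⁻¹ = c * (u * v) * c⁻¹ := by rw [← hguv]
      _ = (c * u * c⁻¹) * (c * v * c⁻¹) := by group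
  rcases cover_aux hG h75 h32 h30 hM₁ hx (conj_ne_one hu1) hcomm hσ' with
    ⟨N, hN, hmem⟩ | ⟨K₀, hK₀, hK₀1, hmem⟩
  · left
    exact ⟨N, hN, mem_tildeOf_of_conj c (by rw [hgc]; exact hmem)⟩
  · right
    exact ⟨K₀, hK₀, hK₀1, c, by rw [hgc]; exact hmem⟩

theorem false_of_hall_kappa_empty {M₁ K₀ : Subgroup G} (hK₀ : IsPiHallOf (kappa M₁) K₀ M₁)
    (hK₀1 : K₀ ≠ ⊥) (hκ : ¬ (kappa M₁).Nonempty) : False := by
  obtain ⟨q, hq, hqK⟩ := Nat.exists_prime_and_dvd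
    (fun h1 : Nat.card K₀ = 1 => hK₀1 (Subgroup.card_eq_one.mp h1))
  exact hκ ⟨q, hK₀.2.1 q hq hqK⟩

/-- **S1379, second part**: if all `κ(M)` are empty, the `M̃` cover `G^#`. -/
theorem s1379_cover_of_kappa_empty (hG : IsMinSimpleOddOrder G) (h75 : P1375 G) (h32 : P1432 G)
    (h30 : P1430 G) (hκ : ∀ M : Subgroup G, IsCoatom M → kappa M = ∅) (g : G) (hg : g ≠ 1) :
    ∃ M : Subgroup G, IsCoatom M ∧ g ∈ tildeOf M ((sigmaCore M : Set G) \ {1}) := by
  obtain ⟨p, hp, hpg⟩ := exists_prime_dvd_orderOf hg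
  obtain ⟨M₁, hM₁, hpσ⟩ := (Cfsg.Agent.S1378.result hG).1 p hp
    (hpg.trans (orderOf_dvd_natCard g))
  rcases cover hG h75 h32 h30 hM₁ hp hpg hpσ with h | ⟨K₀, hK₀, hK₀1, -⟩
  · exact h
  · exfalso
    apply false_of_hall_kappa_empty hK₀ hK₀1
    rw [hκ M₁ hM₁]
    exact Set.not_nonempty_empty

/-! ### Transfer to the given `M` -/

theorem kst_cj {M K : Subgroup G} {m : G} (hm : m ∈ M) :
    sigmaCore M ⊓ Subgroup.centralizer ((cj m K : Subgroup G) : Set G) =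
      cj m (sigmaCore M ⊓ Subgroup.centralizer (K : Set G)) := by
  rw [cj_inf, centralizer_cj, cj_eq_self_of_mem_normalizer (le_normalizer_sigmaCore M hm)]

/-- `Ẑ(M, m K m⁻¹) = m Ẑ(M, K) m⁻¹` for `m ∈ M`. -/
theorem conj_mem_zh {M K : Subgroup G} {m : G} (hm : m ∈ M) {z : G}
    (hz : z ∈ Zh M (cj m K)) : m⁻¹ * z * m ∈ Zh M K := by
  obtain ⟨hz1, hz2⟩ := hz
  rw [kst_cj hm] at hz1 hz2
  rw [← cj_sup] at hz1
  refine ⟨mem_cj.mp (SetLike.mem_coe.mp hz1), ?_⟩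
  rintro (h | h)
  · exact hz2 (Or.inl (mem_cj.mpr (SetLike.mem_coe.mp h)))
  · exact hz2 (Or.inr (mem_cj.mpr (SetLike.mem_coe.mp h)))

/-- Hall `κ(M)`-subgroups of `M` are conjugate in `M`. -/
theorem kappa_hall_conj (hG : IsMinSimpleOddOrder G) {M K K₀ : Subgroup G} (hM : IsCoatom M)
    (hK : IsPiHallOf (kappa M) K M) (hK₀ : IsPiHallOf (kappa M) K₀ M) :
    ∃ m ∈ M, K₀ = cj m K := by
  have hsolv : Group.IsSolvable ↥M := isSolvable_of_ne_top hG hM.1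
  have hcop : (Nat.card (⊥ : Subgroup G)).Coprime (Nat.card M) := by
    rw [Subgroup.card_bot]; exact Nat.coprime_one_left _
  obtain ⟨c, hc, hcK⟩ := (Cfsg.Agent.S3745.result (⊥ : Subgroup G) M bot_le hcop hsolv
    (kappa M)).2.1 K K₀ hK bot_le hK₀ bot_le
  exact ⟨c, (Subgroup.mem_inf.mp hc).1, hcK⟩

/-- **S1379, third part, first half**. -/
theorem s1379_cover_of (hG : IsMinSimpleOddOrder G) (h75 : P1375 G) (h32 : P1432 G)
    (h30 : P1430 G) (h69 : H69 G)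
    {M K U Mstar : Subgroup G} (hM : IsCoatom M) (hKU : IsSigmaDecomposition M K U) (hK1 : K ≠ ⊥)
    (hMstar : IsCoatom Mstar)
    (hKst : K = sigmaCore Mstar ⊓ Subgroup.centralizer
      ((sigmaCore M ⊓ Subgroup.centralizer (K : Set G) : Subgroup G) : Set G))
    (hKstH : IsPiHallOf (kappa Mstar) (sigmaCore M ⊓ Subgroup.centralizer (K : Set G)) Mstar)
    (g : G) (hg : g ≠ 1) :
    (∃ N : Subgroup G, IsCoatom N ∧ g ∈ tildeOf N ((sigmaCore N : Set G) \ {1})) ∨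
      ∃ y : G, ∃ z ∈ Zh M K, g = y * z * y⁻¹ := by
  obtain ⟨p, hp, hpg⟩ := exists_prime_dvd_orderOf hg
  obtain ⟨M₁, hM₁, hpσ⟩ := (Cfsg.Agent.S1378.result hG).1 p hp
    (hpg.trans (orderOf_dvd_natCard g))
  by_cases hκ₁ : (kappa M₁).Nonempty
  · obtain ⟨c, h | h⟩ := h69 M K U Mstar hM hKU hK1 hMstar hKst hKstH M₁ hM₁ hκ₁
    · have hpσM : p ∈ sigma M := by
        rw [h] at hpσ
        rwa [sigma_cj hM] at hpσ
      rcases cover hG h75 h32 h30 hM hp hpg hpσM with h' | ⟨K₀, hK₀, hK₀1, c', hc'⟩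
      · exact Or.inl h'
      · right
        obtain ⟨m, hm, hmK⟩ := kappa_hall_conj hG hM hKU.hall hK₀
        rw [hmK] at hc'
        exact ⟨c'⁻¹ * m, m⁻¹ * (c' * g * c'⁻¹) * m, conj_mem_zh hm hc', by group⟩
    · have hpσM : p ∈ sigma Mstar := by
        rw [h] at hpσ
        rwa [sigma_cj hMstar] at hpσ
      rcases cover hG h75 h32 h30 hMstar hp hpg hpσM with h' | ⟨K₀, hK₀, hK₀1, c', hc'⟩
      · exact Or.inl h'
      · right
        obtain ⟨m, hm, hmK⟩ := kappa_hall_conj hG hMstar hKstH hK₀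
        rw [hmK] at hc'
        obtain ⟨h2, h3⟩ := conj_mem_zh hm hc'
        rw [← hKst] at h2 h3
        refine ⟨c'⁻¹ * m, m⁻¹ * (c' * g * c'⁻¹) * m, ⟨?_, ?_⟩, by group⟩
        · rw [sup_comm]; exact h2
        · rw [Set.union_comm]; exact h3
  · rcases cover hG h75 h32 h30 hM₁ hp hpg hpσ with h' | ⟨K₀, hK₀, hK₀1, -⟩
    · exact Or.inl h'
    · exact (false_of_hall_kappa_empty hK₀ hK₀1 hκ₁).elim

/-! ### `Ẑ` is disjoint from all `Ñ` -/

theorem p1431_conv (h31 : P1431 G) : Cfsg.Agent.Lib.Helper3.BGStubs.P1431 G :=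
  fun M hM K hK hK1 => h31 M hM K hK hK1

/-- the key case: `a r ∈ Ẑ(M)` with `a ∈ N_σ^#`, `r ∈ R(a)` is impossible. -/
theorem zhat_aux (hG : IsMinSimpleOddOrder G) (h75 : P1375 G) (h31 : P1431 G) (h67 : P1367 G)
    {M K U Mstar : Subgroup G} (hM : IsCoatom M) (hKU : IsSigmaDecomposition M K U) (hK1 : K ≠ ⊥)
    (hMstar : IsCoatom Mstar)
    (hKst : K = sigmaCore Mstar ⊓ Subgroup.centralizer
      ((sigmaCore M ⊓ Subgroup.centralizer (K : Set G) : Subgroup G) : Set G))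
    (hKstH : IsPiHallOf (kappa Mstar) (sigmaCore M ⊓ Subgroup.centralizer (K : Set G)) Mstar)
    {N : Subgroup G} (hN : IsCoatom N) {a r : G} (ha : a ∈ sigmaCore N) (ha1 : a ≠ 1)
    (hr : r ∈ supportR N a) (hz : a * r ∈ Zh M K) : False := by
  have hn : sigmaCore M ⊓ Subgroup.centralizer (K : Set G) ≤ Subgroup.normalizer (K : Set G) :=
    inf_le_right.trans (Subgroup.centralizer_le_normalizer _)
  obtain ⟨hzZ, hznot⟩ := hz
  obtain ⟨k, hk, ks, hks, hzk⟩ := exists_mul_of_mem_sup_of_le_normalizer hn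
    (SetLike.mem_coe.mp hzZ)
  have hk1 : k ≠ 1 := by
    rintro rfl
    apply hznot
    right
    rw [hzk, one_mul]; exact hks
  have hks1 : ks ≠ 1 := by
    rintro rfl
    apply hznot
    left
    rw [hzk, mul_one]; exact hk
  have hkks : k * ks = ks * k := (Subgroup.mem_centralizer_iff.mp (Subgroup.mem_inf.mp hks).2) k hk
  have hksσ : IsPiElt (sigma M) ks := fun q hq hd =>
    mem_sigma_of_mem_sigmaCore hG hM (Subgroup.mem_inf.mp hks).1 hq hd
  have hkκ : ∀ q : ℕ, q.Prime → q ∣ orderOf k → q ∈ kappa M := fun q hq hd =>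
    hKU.hall.2.1 q hq (hd.trans (Subgroup.orderOf_dvd_natCard _ hk))
  have hkσ : IsPiElt (sigma M)ᶜ k := fun q hq hd => (hkκ q hq hd).2.2.1
  have haσ : IsPiElt (sigma N) a := fun q hq hd => mem_sigma_of_mem_sigmaCore hG hN ha hq hd
  obtain ⟨q, hq, hqks⟩ := exists_prime_dvd_orderOf hks1
  obtain ⟨q', hq', hq'k⟩ := exists_prime_dvd_orderOf hk1
  have hcopk : (orderOf k).Coprime (orderOf ks) :=
    (Cfsg.Agent.Lib.Helper22.coprime_orderOf hksσ hkσ).symm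
  have hoz : orderOf (a * r) = orderOf k * orderOf ks := by
    rw [hzk]
    exact Commute.orderOf_mul_eq_mul_orderOf_of_coprime hkks hcopk
  by_cases hr1 : r = 1
  · -- `z = a` is a `σ(N)`-element
    rw [hr1, mul_one] at hoz
    have h1 : q ∈ sigma N := haσ q hq (by rw [hoz]; exact hqks.mul_left _)
    have h2 : q' ∈ sigma N := haσ q' hq' (by rw [hoz]; exact hq'k.mul_right _)
    obtain ⟨c, hc⟩ := (Cfsg.Agent.S1378.result hG).2 M N hM hN ⟨q, hksσ q hq hqks, h1⟩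
    rw [hc, sigma_cj hM] at h2
    exact hkσ q' hq' hq'k h2
  · -- `r ≠ 1`
    have hC : ¬ Subgroup.centralizer ({a} : Set G) ≤ N := by
      intro h
      rw [supportR_eq_bot_of_le h, Subgroup.mem_bot] at hr
      exact hr1 hr
    obtain ⟨N₂, ⟨hN₂, haN₂⟩, hNuniq, hsF, -, -, hcomplN, -⟩ := h75 N hN a ha ha1 hC
    have hR : supportR N a = sigmaCore N₂ ⊓ Subgroup.centralizer ({a} : Set G) := by
      rw [supportR_eq_of_unique hC hN₂ haN₂ hNuniq, ← hsF]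
    rw [hR] at hr
    have har : a * r = r * a := comm_of_mem_centralizer_singleton (Subgroup.mem_inf.mp hr).2
    have hrσ : IsPiElt (sigma N₂) r := fun q hq hd =>
      mem_sigma_of_mem_sigmaCore hG hN₂ (Subgroup.mem_inf.mp hr).1 hq hd
    have haaC : a ∈ Subgroup.centralizer ({a} : Set G) := mem_centralizer_singleton rfl
    have haNN : a ∈ N ⊓ N₂ := Subgroup.mem_inf.mpr ⟨sigmaCore_le N ha, haN₂ haaC⟩
    have haσ₂ : IsPiElt (sigma N₂)ᶜ a := fun q hq hd =>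
      Cfsg.Agent.Lib.Helper19.BGCompl.compl_not_mem_sigma hG hN₂ hcomplN hq
        (hd.trans (Subgroup.orderOf_dvd_natCard _ haNN))
    obtain ⟨qa, hqa, hqaa⟩ := exists_prime_dvd_orderOf ha1
    have hdisj : ∀ t : ℕ, t ∈ sigma N → t ∈ sigma N₂ → False := by
      intro t ht1 ht2
      obtain ⟨c, hc⟩ := (Cfsg.Agent.S1378.result hG).2 N N₂ hN hN₂ ⟨t, ht1, ht2⟩
      apply haσ₂ qa hqa hqaa
      rw [hc, sigma_cj hN]
      exact haσ qa hqa hqaa
    have hcopa : (orderOf a).Coprime (orderOf r) :=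
      (Cfsg.Agent.Lib.Helper22.coprime_orderOf hrσ haσ₂).symm
    have hoz' : orderOf (a * r) = orderOf a * orderOf r :=
      Commute.orderOf_mul_eq_mul_orderOf_of_coprime har hcopa
    have hqz : q ∣ orderOf a * orderOf r := by
      rw [← hoz', hoz]; exact hqks.mul_left _
    have hqσM : q ∈ sigma M := hksσ q hq hqks
    have heq : ks * k = a * r := by rw [← hkks, ← hzk]
    rcases (Nat.Prime.dvd_mul hq).mp hqz with hqa' | hqr
    · -- `M` conjugate to `N`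
      obtain ⟨c, hc⟩ := (Cfsg.Agent.S1378.result hG).2 M N hM hN ⟨q, hqσM, haσ q hq hqa'⟩
      have hσeq : sigma N = sigma M := by rw [hc, sigma_cj hM]
      have haσM : IsPiElt (sigma M) a := by rw [← hσeq]; exact haσ
      have hrσM : IsPiElt (sigma M)ᶜ r := by
        intro t ht hd h
        rw [← hσeq] at h
        exact hdisj t h (hrσ t ht hd)
      obtain ⟨h1, -⟩ := pi_decomp_unique (Commute.symm hkks) har heq hksσ hkσ haσM hrσM
      -- `a = k*`, so `C(a) ≤ M`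
      have hCM : Subgroup.centralizer ({a} : Set G) ≤ M := by
        rw [← h1]
        exact Cfsg.Agent.Lib.Helper11.BG14.centralizer_le_of_mem_kstar (p1431_conv h31) hM
          hKU.hall hK1 hks hks1
      have hMN₂ : M = N₂ := hNuniq M hM hCM
      apply hdisj q (haσ q hq hqa')
      rw [← hMN₂]; exact hqσM
    · -- `M` conjugate to `N₂`
      obtain ⟨c, hc⟩ := (Cfsg.Agent.S1378.result hG).2 M N₂ hM hN₂ ⟨q, hqσM, hrσ q hq hqr⟩
      have hσeq : sigma N₂ = sigma M := by rw [hc, sigma_cj hM]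
      have hrσM : IsPiElt (sigma M) r := by rw [← hσeq]; exact hrσ
      have haσM : IsPiElt (sigma M)ᶜ a := by rw [← hσeq]; exact haσ₂
      have heq' : ks * k = r * a := by rw [heq, har]
      obtain ⟨-, h2⟩ := pi_decomp_unique (Commute.symm hkks) (Commute.symm har) heq' hksσ hkσ
        hrσM haσM
      -- `a = k`, so `C(a) ≤ M*`
      have hY : Subgroup.zpowers (k ^ (orderOf k / q')) ≤ K :=
        Subgroup.zpowers_le.mpr (pow_mem hk _)
      have hYc : (Nat.card (Subgroup.zpowers (k ^ (orderOf k / q')))).Prime := by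
        rw [Nat.card_zpowers, Cfsg.Agent.Lib.Helper11.BG14.orderOf_pow_div hq'k]
        exact hq'
      have h3 := ((h67 M hM K U hKU hK1 Mstar hMstar hKst hKstH).2 _ hY hYc).1
      have hCMs : Subgroup.centralizer ({a} : Set G) ≤ Mstar := by
        refine le_trans ?_ h3
        intro y hy
        rw [← h2] at hy
        have hc' : Commute k y := comm_of_mem_centralizer_singleton hy
        rw [Subgroup.mem_centralizer_iff]
        intro h hh
        obtain ⟨i, rfl⟩ := Subgroup.mem_zpowers_iff.mp (SetLike.mem_coe.mp hh)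
        exact ((hc'.pow_left _).zpow_left i).eq
      have hMsN₂ : Mstar = N₂ := hNuniq Mstar hMstar hCMs
      have hKle : K ≤ sigmaCore Mstar := by
        rw [hKst]; exact inf_le_left
      have h4 : q' ∈ sigma Mstar := mem_sigma_of_mem_sigmaCore hG hMstar (hKle hk) hq' hq'k
      rw [hMsN₂, hσeq] at h4
      exact hkσ q' hq' hq'k h4

/-- **S1379, third part, second half**: no conjugate of an element of `Ẑ` lies in any `Ñ`. -/
theorem s1379_zhat_of (hG : IsMinSimpleOddOrder G) (h75 : P1375 G) (h31 : P1431 G)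
    (h67 : P1367 G)
    {M K U Mstar : Subgroup G} (hM : IsCoatom M) (hKU : IsSigmaDecomposition M K U) (hK1 : K ≠ ⊥)
    (hMstar : IsCoatom Mstar)
    (hKst : K = sigmaCore Mstar ⊓ Subgroup.centralizer
      ((sigmaCore M ⊓ Subgroup.centralizer (K : Set G) : Subgroup G) : Set G))
    (hKstH : IsPiHallOf (kappa Mstar) (sigmaCore M ⊓ Subgroup.centralizer (K : Set G)) Mstar)
    (N : Subgroup G) (hN : IsCoatom N) (y z : G) (hz : z ∈ Zh M K) :
    y * z * y⁻¹ ∉ tildeOf N ((sigmaCore N : Set G) \ {1}) := by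
  intro hmem
  obtain ⟨a, ⟨ha, ha1⟩, r, hr, w, hw⟩ := mem_tildeOf_of_conj y hmem
  have ha1' : a ≠ 1 := fun h => ha1 (Set.mem_singleton_iff.mpr h)
  have ha' : w * a * w⁻¹ ∈ sigmaCore (cj w N) := by
    rw [sigmaCore_cj hN]; exact conj_mem_cj ha
  have hr' : w * r * w⁻¹ ∈ supportR (cj w N) (w * a * w⁻¹) := by
    rw [supportR_cj]; exact conj_mem_cj hr
  have hz' : (w * a * w⁻¹) * (w * r * w⁻¹) ∈ Zh M K := by
    have h1 : (w * a * w⁻¹) * (w * r * w⁻¹) = z := by rw [hw]; group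
    rw [h1]; exact hz
  exact zhat_aux hG h75 h31 h67 hM hKU hK1 hMstar hKst hKstH (isCoatom_map_conj w hN) ha'
    (conj_ne_one ha1') hr' hz'

/-! ### The frozen statement -/

/-- **S1379** from the frozen rows S1375, S1430, S1431, S1432, S1433, S1366, S1367 and S1369(2). -/
theorem s1379_of (hG : IsMinSimpleOddOrder G) (h75 : P1375 G) (h32 : P1432 G) (h33 : P1433 G)
    (h30 : P1430 G) (h31 : P1431 G) (h66 : P1366 G) (h67 : P1367 G) (h69 : H69 G) : P1379 G := by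
  refine ⟨fun M N hM hN hnc => s1379_disjoint_of hG h33 hM hN hnc,
    fun hκ g hg => s1379_cover_of_kappa_empty hG h75 h32 h30 hκ g hg, ?_⟩
  intro M K U hM hKU hK1
  obtain ⟨Mstar, ⟨hMstar, hKst, hKstH⟩, -⟩ := h66 M hM K U hKU hK1
  exact ⟨fun g hg => s1379_cover_of hG h75 h32 h30 h69 hM hKU hK1 hMstar hKst hKstH g hg,
    fun N hN y z hz => s1379_zhat_of hG h75 h31 h67 hM hKU hK1 hMstar hKst hKstH N hN y z hz⟩

end Cfsg.Agent.Lib.Helper11.BG14D
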