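import Mathlib
import Cfsg.Prelude
import Cfsg.Agent.Lib.Helper10.BGTwelveG
import Cfsg.Agent.Lib.Helper19.BGCompl
import Cfsg.Agent.Lib.Helper19.BG12A
import Cfsg.Agent.Lib.Helper19.BG12B
import Cfsg.Agent.Lib.Helper9.BGPrime4
import Cfsg.Agent.Lib.Helper9.BGExc7
import Cfsg.Agent.Lib.Helper1.CoprimeSylow
import Cfsg.Agent.Lib.Lead.BGTrans
import Cfsg.Agent.Lib.Helper3.BG14B
import Cfsg.Agent.S1414
import Cfsg.Agent.S1415
import Cfsg.Agent.S1417
import Cfsg.Agent.S1423
import Cfsg.Agent.S1426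
import Cfsg.Agent.S1427
import Cfsg.Agent.S1428
import Cfsg.Agent.S3745

/-!
# Bender--Glauberman, Theorem 13.9: reduction to the `σσ`-configuration (helper11)

If two nonconjugate maximal subgroups `M`, `H` of a minimal simple group of odd order have a
common prime `q ∈ σ(M) ∩ σ(H)`, then (after conjugating `H`) there are a Sylow `q`-subgroup `S`
of `G` inside `M ∩ H`, a prime `p ∈ τ₁(M) ∩ τ₁(H)` and a subgroup `P ≤ M ∩ H` of order `p`
normalizing `S` with `C_S(P) = 1` (`SigmaConfig`).  Hence Theorem 13.9 (row S1378) follows from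
the impossibility of that configuration (Lemma 13.8).
-/

set_option autoImplicit false
open Cfsg
open scoped commutatorElement
open Cfsg.Agent.Lib.Helper10.BG Cfsg.Agent.Lib.Helper9.BGExc Cfsg.Agent.Lib.Helper19.BGCompl
open Cfsg.Agent.Lib.Helper1

namespace Cfsg.Agent.Lib.Helper11.BG13R

variable {G : Type*} [Group G]

/-- the configuration of Lemma 13.8 arising in the proof of Theorem 13.9. -/
def SigmaConfig (M H S P : Subgroup G) (q p : ℕ) : Prop :=
  IsCoatom M ∧ IsCoatom H ∧ (∀ g : G, H ≠ M.map (MulAut.conj g).toMonoidHom) ∧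
    q ∈ sigma M ∧ q ∈ sigma H ∧ IsSylowIn q S ⊤ ∧ S ≤ M ⊓ H ∧ p ∈ tau1 M ∧ p ∈ tau1 H ∧
    P ≤ M ⊓ H ∧ Nat.card P = p ∧ P ≤ Subgroup.normalizer (S : Set G) ∧
    S ⊓ Subgroup.centralizer (P : Set G) = ⊥

variable [Finite G]

/-- every prime divisor of `|G|` lies in `σ(M)` for some maximal subgroup `M`. -/
theorem s1378_first (hG : IsMinSimpleOddOrder G) (p : ℕ) (hp : p.Prime) (hpG : p ∣ Nat.card G) :
    ∃ M : Subgroup G, IsCoatom M ∧ p ∈ sigma M := by
  haveI : Fact p.Prime := ⟨hp⟩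
  obtain ⟨P, hP⟩ := exists_isSylowIn p (⊤ : Subgroup G)
  have hP1 : P ≠ ⊥ := hP.ne_bot_of_dvd (by rw [Subgroup.card_top]; exact hpG)
  have hPtop : P ≠ ⊤ := Cfsg.Agent.Lib.Lead.BGTrans.pgroup_ne_top hG.2 hP.isPGroup
  have hN : Subgroup.normalizer (P : Set G) ≠ ⊤ :=
    Cfsg.Agent.Lib.Lead.BGTrans.normalizer_ne_top hG.2 hP1 hPtop
  obtain ⟨M, hM, hNM⟩ := exists_isCoatom_ge hN
  have hPM : IsSylowIn p P M := hP.of_le (Subgroup.le_normalizer.trans hNM) le_top
  refine ⟨M, hM, hp, ?_, hPM.toSylow, ?_⟩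
  · obtain ⟨k, hk⟩ := hP.isPGroup.exists_card_eq
    have hk0 : k ≠ 0 := by
      rintro rfl
      rw [pow_zero] at hk
      exact hP1 (Subgroup.card_eq_one.mp hk)
    have : p ∣ Nat.card P := by rw [hk]; exact dvd_pow_self p hk0
    exact this.trans (Subgroup.card_dvd_of_le hPM.le)
  · rw [hPM.coe_toSylow, Subgroup.map_subgroupOf_eq_of_le hPM.le]
    exact hNM

/-- two nonconjugate maximal subgroups containing the normalizer of a common Sylow `q`-subgroup
`S` of `G`, `q ∈ σ(M) ∩ σ(H)`. -/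
structure Setup (M H S : Subgroup G) (q : ℕ) : Prop where
  hM : IsCoatom M
  hH : IsCoatom H
  hnc : ∀ g : G, H ≠ M.map (MulAut.conj g).toMonoidHom
  hqM : q ∈ sigma M
  hqH : q ∈ sigma H
  hStop : IsSylowIn q S ⊤
  hNM : Subgroup.normalizer (S : Set G) ≤ M
  hNH : Subgroup.normalizer (S : Set G) ≤ H

namespace Setup

variable {M H S : Subgroup G} {q : ℕ}

theorem symm (h : Setup M H S q) : Setup H M S q where
  hM := h.hH
  hH := h.hM
  hnc := by
    intro g hg
    apply h.hnc g⁻¹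
    rw [hg, map_conj_inv_map_conj]
  hqM := h.hqH
  hqH := h.hqM
  hStop := h.hStop
  hNM := h.hNH
  hNH := h.hNM

theorem hSM (h : Setup M H S q) : S ≤ M := Subgroup.le_normalizer.trans h.hNM

theorem hSH (h : Setup M H S q) : S ≤ H := Subgroup.le_normalizer.trans h.hNH

theorem ne (h : Setup M H S q) : M ≠ H := by
  intro e
  apply h.hnc 1
  rw [map_conj_one, e]

theorem not_unique (h : Setup M H S q) : ¬ InUniqueMaximal S := by
  rintro ⟨M₀, -, hu⟩
  exact h.ne ((hu M ⟨h.hM, h.hSM⟩).trans (hu H ⟨h.hH, h.hSH⟩).symm)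

theorem isSylowIn_M (h : Setup M H S q) : IsSylowIn q S M := h.hStop.of_le h.hSM le_top

theorem ne_bot (h : Setup M H S q) : S ≠ ⊥ :=
  haveI : Fact q.Prime := ⟨h.hqM.1⟩
  h.isSylowIn_M.ne_bot_of_dvd h.hqM.2.1

theorem le_sigmaCore (hG : IsMinSimpleOddOrder G) (h : Setup M H S q) : S ≤ sigmaCore M :=
  haveI : Fact q.Prime := ⟨h.hqM.1⟩
  pgroup_le_sigmaCore hG h.hM h.hqM h.hStop.isPGroup h.hSM

theorem isSylowIn_sigmaCore (hG : IsMinSimpleOddOrder G) (h : Setup M H S q) :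
    IsSylowIn q S (sigmaCore M) := h.hStop.of_le (h.le_sigmaCore hG) le_top

theorem not_nilpotent (hG : IsMinSimpleOddOrder G) (h : Setup M H S q) :
    ¬ Group.IsNilpotent (sigmaCore M) := by
  intro hnil
  haveI : Fact q.Prime := ⟨h.hqM.1⟩
  have h1 := not_dvd_card_sigmaCore_of_nilpotent hG h.hH h.hM hnil h.symm.hnc h.hqH.1 h.hqH
  apply h1
  obtain ⟨k, hk⟩ := h.hStop.isPGroup.exists_card_eq
  have hk0 : k ≠ 0 := by
    rintro rfl
    rw [pow_zero] at hk
    exact h.ne_bot (Subgroup.card_eq_one.mp hk)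
  have : q ∣ Nat.card S := by rw [hk]; exact dvd_pow_self q hk0
  exact this.trans (Subgroup.card_dvd_of_le (h.le_sigmaCore hG))

theorem not_mem_tau2 (hG : IsMinSimpleOddOrder G) (h : Setup M H S q) (r : ℕ) : r ∉ tau2 M := by
  intro hr
  haveI : Fact r.Prime := ⟨hr.1⟩
  obtain ⟨A, hAM, hAe, hAc⟩ := Cfsg.Agent.Lib.Helper19.BG12.tau2_elem_sq hr
  exact h.not_nilpotent hG (Cfsg.Agent.S1417.result hG M h.hM r hr A ⟨hAM, hAe, hAc⟩).1

theorem not_mem_beta (hG : IsMinSimpleOddOrder G) (h : Setup M H S q) : q ∉ beta M :=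
  not_mem_beta_of_not_conj hG h.hH h.hM h.symm.hnc h.hqH.1 h.hqH

/-- `S ∩ (M_σ)' = 1`. -/
theorem inf_commutator (hG : IsMinSimpleOddOrder G) (h : Setup M H S q) :
    S ⊓ ⁅sigmaCore M, sigmaCore M⁆ = ⊥ := by
  by_contra hne
  have hq : q.Prime := h.hqM.1
  haveI : Fact q.Prime := ⟨hq⟩
  have hp : IsPGroup q ↥(S ⊓ ⁅sigmaCore M, sigmaCore M⁆) :=
    h.hStop.isPGroup.to_le inf_le_left
  obtain ⟨k, hk⟩ := hp.exists_card_eq
  have hk0 : k ≠ 0 := by
    rintro rfl
    rw [pow_zero] at hk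
    exact hne (Subgroup.card_eq_one.mp hk)
  have hd : q ∣ Nat.card ↥(S ⊓ ⁅sigmaCore M, sigmaCore M⁆) := by
    rw [hk]; exact dvd_pow_self q hk0
  obtain ⟨x, hx⟩ := exists_prime_orderOf_dvd_card' (G := ↥(S ⊓ ⁅sigmaCore M, sigmaCore M⁆)) q hd
  have hxm : (x : G) ∈ S ⊓ ⁅sigmaCore M, sigmaCore M⁆ := x.2
  have hxo : orderOf (x : G) = q := by rw [Subgroup.orderOf_coe, hx]
  have hS := h.isSylowIn_sigmaCore hG
  have h3 := (Cfsg.Agent.S1423.result hG M h.hM q h.hqM (Subgroup.zpowers (x : G))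
    (Subgroup.zpowers_le.mpr (h.hSM hxm.1)) (by rw [Nat.card_zpowers, hxo]) hS.toSylow
    (Or.inr (Subgroup.zpowers_le.mpr hxm.2))).2.1
  rw [hS.coe_toSylow, Subgroup.map_subgroupOf_eq_of_le hS.le] at h3
  exact h.not_unique h3

/-- a complement of `M_σ` in `M` normalizing `S`. -/
theorem exists_compl (hG : IsMinSimpleOddOrder G) (h : Setup M H S q) :
    ∃ E : Subgroup G, IsComplIn E (sigmaCore M) M ∧ E ≤ Subgroup.normalizer (S : Set G) := by
  haveI : Fact q.Prime := ⟨h.hqM.1⟩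
  obtain ⟨E₀, hE₀, -⟩ := exists_isComplIn_sigmaCore_ge hG h.hM (X := ⊥) bot_le (by
    rw [Subgroup.card_bot]; exact Nat.coprime_one_left _)
  have hact : CoprimeAct E₀ (sigmaCore M) :=
    ⟨hE₀.1.trans (le_normalizer_sigmaCore M), compl_coprime hG h.hM hE₀,
      Or.inl (isSolvable_of_ne_top hG (ne_top_of_le_isCoatom h.hM hE₀.1))⟩
  obtain ⟨Q, hQ, hEQ⟩ := coprime_exists_isSylowIn hact q
  obtain ⟨m, hm, hconj⟩ := hQ.exists_conj (h.isSylowIn_sigmaCore hG)
  refine ⟨cj m E₀, compl_conj hE₀ (sigmaCore_le M hm), ?_⟩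
  rw [hconj]
  exact le_normalizer_cj hEQ

/-- `C_S(E) = 1`. -/
theorem inf_centralizer_compl (hG : IsMinSimpleOddOrder G) (h : Setup M H S q) {E : Subgroup G}
    (hE : IsComplIn E (sigmaCore M) M) : S ⊓ Subgroup.centralizer (E : Set G) = ⊥ := by
  have h1 := (Cfsg.Agent.S1426.result hG M h.hM E hE).1
  rw [eq_bot_iff, ← h.inf_commutator hG]
  exact le_inf inf_le_left ((inf_le_inf_right _ (h.le_sigmaCore hG)).trans h1)

/-- an `r`-element (`r ≠ q`) of `M'` normalizing `S` centralizes `S`. -/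
theorem commute_of_mem_commutator (hG : IsMinSimpleOddOrder G) (h : Setup M H S q) {r : ℕ}
    [Fact r.Prime] (hrq : r ≠ q) {x : G} (hx : x ∈ ⁅M, M⁆) (hxr : IsPGroup r (Subgroup.zpowers x))
    (hxN : x ∈ Subgroup.normalizer (S : Set G)) {s : G} (hs : s ∈ S) : x * s = s * x := by
  haveI : Fact q.Prime := ⟨h.hqM.1⟩
  have hnc := ((Cfsg.Agent.S1414.result hG M h.hM).2.2.2.2 q h.hqM.1 h.hqM.2.1
    (h.not_mem_beta hG)).1
  exact Cfsg.Agent.Lib.Helper19.BG12.commute_of_hasNormalPComplement hrq hnc hx hxr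
    (h.hSM.trans (le_normalizer_commutator_self M)) h.hStop.isPGroup hxN hs

/-- an `r`-element (`r ≠ q`) of `M_σ` normalizing `S` centralizes `S`. -/
theorem commute_of_mem_sigmaCore (hG : IsMinSimpleOddOrder G) (h : Setup M H S q) {r : ℕ}
    [Fact r.Prime] (hrq : r ≠ q) {x : G} (hx : x ∈ sigmaCore M)
    (hxr : IsPGroup r (Subgroup.zpowers x))
    (hxN : x ∈ Subgroup.normalizer (S : Set G)) {s : G} (hs : s ∈ S) : x * s = s * x := by
  haveI : Fact q.Prime := ⟨h.hqM.1⟩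
  have hnc := ((Cfsg.Agent.S1414.result hG M h.hM).2.2.2.2 q h.hqM.1 h.hqM.2.1
    (h.not_mem_beta hG)).2.1
  exact Cfsg.Agent.Lib.Helper19.BG12.commute_of_hasNormalPComplement hrq hnc hx hxr
    (h.hSM.trans (le_normalizer_sigmaCore M)) h.hStop.isPGroup hxN hs

/-- a Sylow `r`-subgroup of `M`, `r ∈ τ₃(M)`, normalizing `S` centralizes `S`. -/
theorem sylow_tau3_le_centralizer (hG : IsMinSimpleOddOrder G) (h : Setup M H S q) {r : ℕ}
    [Fact r.Prime] (hr : r ∈ tau3 M) {R : Subgroup G} (hR : IsSylowIn r R M)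
    (hRN : R ≤ Subgroup.normalizer (S : Set G)) : R ≤ Subgroup.centralizer (S : Set G) := by
  have hr2 : r ≠ 2 :=
    prime_ne_two hG (hr.2.2.1.trans (Subgroup.card_subgroup_dvd_card _))
  have hc : IsCyclic R := isCyclic_of_pRankLE_one hr2 hr.2.2.2 hR.le hR.isPGroup
  have hRM' : R ≤ ⁅M, M⁆ :=
    Cfsg.Agent.Lib.Helper9.BGPrime.isSylowIn_le_commutator_of_cyclic hR hc hr.2.2.1
  have hrq : r ≠ q := by
    rintro rfl
    exact hr.2.1 h.hqM
  intro x hx
  rw [Subgroup.mem_centralizer_iff]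
  intro s hs
  exact (h.commute_of_mem_commutator hG hrq (hRM' hx)
    (hR.isPGroup.to_le (Subgroup.zpowers_le.mpr hx)) (hRN hx) hs).symm

/-- the primes dividing `|E|` lie in `τ₁(M) ∪ τ₃(M)`. -/
theorem mem_tau1_or_tau3 (hG : IsMinSimpleOddOrder G) (h : Setup M H S q) {E : Subgroup G}
    (hE : IsComplIn E (sigmaCore M) M) {r : ℕ} (hr : r.Prime) (hd : r ∣ Nat.card E) :
    r ∈ tau1 M ∨ r ∈ tau3 M := by
  have hrσ : r ∉ sigma M := compl_not_mem_sigma hG h.hM hE hr hd
  have hrM : r ∣ Nat.card M := hd.trans (Subgroup.card_dvd_of_le hE.1)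
  have hr2 : PRankLE r 2 ↥M := alpha_rank M r hr (fun hα => hrσ (alpha_subset_sigma hG h.hM hα))
  have hr1 : PRankLE r 1 ↥M := by
    by_contra h1
    exact h.not_mem_tau2 hG r ⟨hr, hrσ, hr2, h1⟩
  by_cases hd' : r ∣ Nat.card ↥⁅M, M⁆
  · exact Or.inr ⟨hr, hrσ, hd', hr1⟩
  · exact Or.inl ⟨hr, hrσ, hrM, hd', hr1⟩

/-- a Sylow `r`-subgroup of `E`, `r ∉ τ₁(M)`, centralizes `S`. -/
theorem sylow_compl_le_centralizer (hG : IsMinSimpleOddOrder G) (h : Setup M H S q)
    {E : Subgroup G} (hE : IsComplIn E (sigmaCore M) M)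
    (hEN : E ≤ Subgroup.normalizer (S : Set G)) {r : ℕ} [Fact r.Prime] (hr : r ∉ tau1 M)
    {R : Subgroup G} (hR : IsSylowIn r R E) : R ≤ Subgroup.centralizer (S : Set G) := by
  have hrp : r.Prime := Fact.out
  by_cases hR1 : R = ⊥
  · rw [hR1]
    exact bot_le
  have hd : r ∣ Nat.card E := by
    obtain ⟨k, hk⟩ := hR.isPGroup.exists_card_eq
    have hk0 : k ≠ 0 := by
      rintro rfl
      rw [pow_zero] at hk
      exact hR1 (Subgroup.card_eq_one.mp hk)
    have : r ∣ Nat.card R := by rw [hk]; exact dvd_pow_self r hk0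
    exact this.trans (Subgroup.card_dvd_of_le hR.le)
  rcases h.mem_tau1_or_tau3 hG hE hrp hd with h1 | h3
  · exact absurd h1 hr
  · exact h.sylow_tau3_le_centralizer hG h3
      (compl_isSylowIn hG h.hM hE h3.2.1 hR) (hR.le.trans hEN)

/-- some `P ≤ E` of prime order `p ∈ τ₁(M)` acts fixed-point-freely on `S`. -/
theorem exists_tau1 (hG : IsMinSimpleOddOrder G) (h : Setup M H S q) {E : Subgroup G}
    (hE : IsComplIn E (sigmaCore M) M) (hEN : E ≤ Subgroup.normalizer (S : Set G)) :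
    ∃ (p : ℕ) (P : Subgroup G), p ∈ tau1 M ∧ P ≤ E ∧ Nat.card P = p ∧
      S ⊓ Subgroup.centralizer (P : Set G) = ⊥ := by
  have hEtop : E ≠ ⊤ := ne_top_of_le_isCoatom h.hM hE.1
  have hsolv : Group.IsSolvable ↥E := isSolvable_of_ne_top hG hEtop
  have hcop0 : (Nat.card (⊥ : Subgroup G)).Coprime (Nat.card E) := by
    rw [Subgroup.card_bot]; exact Nat.coprime_one_left _
  obtain ⟨E₁, hE₁, -⟩ := (Cfsg.Agent.S3745.result (⊥ : Subgroup G) E bot_le hcop0 hsolv
    (tau1 M)).1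
  have hcyc : IsCyclic E₁ := (Cfsg.Agent.S1415.result hG M h.hM E hE).2.1 E₁ hE₁
  have hcomm : ∀ a ∈ E₁, ∀ b ∈ E₁, a * b = b * a := by
    intro a ha b hb
    have := hcyc
    have h1 : (⟨a, ha⟩ : E₁) * ⟨b, hb⟩ = ⟨b, hb⟩ * ⟨a, ha⟩ :=
      (IsCyclic.isMulCommutative (α := ↥E₁)).is_comm.comm _ _
    exact congrArg Subtype.val h1
  by_cases hE₁1 : E₁ = ⊥
  · -- then `E` centralizes `S`
    exfalso
    have hEC : E ≤ Subgroup.centralizer (S : Set G) := by
      apply le_of_forall_sylow_le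
      intro r hr
      haveI : Fact r.Prime := ⟨hr⟩
      obtain ⟨R, hR⟩ := exists_isSylowIn r E
      refine ⟨R, hR, ?_⟩
      by_cases hrτ : r ∈ tau1 M
      · -- `r ∤ |E|`
        have h1 := hE₁.2.2 r hr hrτ
        rw [hE₁1, Subgroup.relIndex_bot_left] at h1
        have hR1 : R = ⊥ := by
          by_contra hR1
          apply h1
          obtain ⟨k, hk⟩ := hR.isPGroup.exists_card_eq
          have hk0 : k ≠ 0 := by
            rintro rfl
            rw [pow_zero] at hk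
            exact hR1 (Subgroup.card_eq_one.mp hk)
          have : r ∣ Nat.card R := by rw [hk]; exact dvd_pow_self r hk0
          exact this.trans (Subgroup.card_dvd_of_le hR.le)
        rw [hR1]
        exact bot_le
      · exact h.sylow_compl_le_centralizer hG hE hEN hrτ hR
    have hSC : S ≤ Subgroup.centralizer (E : Set G) := by
      intro s hs
      rw [Subgroup.mem_centralizer_iff]
      intro e he
      exact (Subgroup.mem_centralizer_iff.mp (hEC he) s hs).symm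
    have := h.inf_centralizer_compl hG hE
    rw [inf_eq_left.mpr hSC] at this
    exact h.ne_bot this
  · obtain ⟨P, hPE₁, hPp⟩ := Cfsg.Agent.Lib.Helper3.BG14.exists_prime_card_le hE₁1
    have hp : Nat.card P ∈ tau1 M := hE₁.2.1 _ hPp (Subgroup.card_dvd_of_le hPE₁)
    have hPE : P ≤ E := hPE₁.trans hE₁.1
    refine ⟨Nat.card P, P, hp, hPE, rfl, ?_⟩
    rw [eq_bot_iff]
    intro x hx
    obtain ⟨hxS, hxP⟩ := Subgroup.mem_inf.mp hx
    have hxσ : x ∈ sigmaCore M := h.le_sigmaCore hG hxS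
    -- `E` centralizes `x`
    have hEC : E ≤ Subgroup.centralizer ({x} : Set G) := by
      apply le_of_forall_sylow_le
      intro r hr
      haveI : Fact r.Prime := ⟨hr⟩
      by_cases hrτ : r ∈ tau1 M
      · obtain ⟨R, hR⟩ := exists_isSylowIn r E₁
        have hRE : IsSylowIn r R E := hR.of_not_dvd_relIndex hE₁.1 (hE₁.2.2 r hr hrτ)
        refine ⟨R, hRE, ?_⟩
        by_cases hR1 : R = ⊥
        · rw [hR1]
          exact bot_le
        obtain ⟨Y, hYR, hYp⟩ := Cfsg.Agent.Lib.Helper3.BG14.exists_prime_card_le hR1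
        have hYE₁ : Y ≤ E₁ := hYR.trans hR.le
        have hYC : Y ≤ E ⊓ Subgroup.centralizer (P : Set G) := by
          intro y hy
          refine Subgroup.mem_inf.mpr ⟨hE₁.1 (hYE₁ hy), ?_⟩
          rw [Subgroup.mem_centralizer_iff]
          intro a ha
          exact hcomm a (hPE₁ ha) y (hYE₁ hy)
        have h28 := Cfsg.Agent.S1428.result hG M h.hM E hE (Nat.card P) hp P hPE rfl Y hYC hYp
        have hxY : x ∈ sigmaCore M ⊓ Subgroup.centralizer (Y : Set G) :=
          h28 (Subgroup.mem_inf.mpr ⟨hxσ, hxP⟩)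
        -- a generator of `Y`
        obtain ⟨y, hyY, hy1⟩ : ∃ y ∈ Y, y ≠ 1 := by
          rcases Subgroup.bot_or_exists_ne_one Y with hb | h'
          · rw [hb, Subgroup.card_bot] at hYp
            exact absurd hYp Nat.not_prime_one
          · exact h'
        have hr2 : r ≠ 2 := prime_ne_two hG (hrτ.2.2.1.trans (Subgroup.card_subgroup_dvd_card _))
        have hRc : IsCyclic R :=
          isCyclic_of_pRankLE_one hr2 hrτ.2.2.2.2 (hRE.le.trans hE.1) hRE.isPGroup
        have hRc' : IsCyclic ↥((hRE.toSylow : Sylow r ↥E) : Subgroup ↥E) := by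
          rw [hRE.coe_toSylow]
          haveI := hRc
          exact isCyclic_of_surjective (Subgroup.subgroupOfEquivOfLe hRE.le).symm.toMonoidHom
            (Subgroup.subgroupOfEquivOfLe hRE.le).symm.surjective
        have hRne : ((hRE.toSylow : Sylow r ↥E) : Subgroup ↥E) ≠ ⊥ := by
          rw [hRE.coe_toSylow]
          intro hb
          apply hR1
          have := congrArg (Subgroup.map E.subtype) hb
          rwa [Subgroup.map_subgroupOf_eq_of_le hRE.le, Subgroup.map_bot] at this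
        have h27 := Cfsg.Agent.S1427.result hG M h.hM E hE r hRE.toSylow hRne hRc' y (by
          rw [hRE.coe_toSylow, Subgroup.map_subgroupOf_eq_of_le hRE.le]
          exact hYR hyY) hy1
        rw [hRE.coe_toSylow, Subgroup.map_subgroupOf_eq_of_le hRE.le] at h27
        have hxy : x ∈ sigmaCore M ⊓ Subgroup.centralizer ({y} : Set G) := by
          refine Subgroup.mem_inf.mpr ⟨hxσ, ?_⟩
          rw [Subgroup.mem_centralizer_iff]
          intro w hw
          rw [Set.mem_singleton_iff] at hw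
          subst hw
          exact Subgroup.mem_centralizer_iff.mp (Subgroup.mem_inf.mp hxY).2 w hyY
        rw [h27] at hxy
        intro z hz
        rw [Subgroup.mem_centralizer_iff]
        intro w hw
        rw [Set.mem_singleton_iff] at hw
        subst hw
        exact (Subgroup.mem_centralizer_iff.mp (Subgroup.mem_inf.mp hxy).2 z hz).symm
      · obtain ⟨R, hR⟩ := exists_isSylowIn r E
        refine ⟨R, hR, ?_⟩
        intro z hz
        have h1 := h.sylow_compl_le_centralizer hG hE hEN hrτ hR hz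
        rw [Subgroup.mem_centralizer_iff]
        intro w hw
        rw [Set.mem_singleton_iff] at hw
        subst hw
        exact Subgroup.mem_centralizer_iff.mp h1 w hxS
    have hxE : x ∈ S ⊓ Subgroup.centralizer (E : Set G) := by
      refine Subgroup.mem_inf.mpr ⟨hxS, ?_⟩
      rw [Subgroup.mem_centralizer_iff]
      intro e he
      exact (Subgroup.mem_centralizer_iff.mp (hEC he) x rfl).symm
    rw [h.inf_centralizer_compl hG hE] at hxE
    exact hxE

/-- `p ∈ τ₁(H)` as well. -/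
theorem mem_tau1_other (hG : IsMinSimpleOddOrder G) (h : Setup M H S q) {p : ℕ} {P : Subgroup G}
    (hp : p ∈ tau1 M) (hPN : P ≤ Subgroup.normalizer (S : Set G)) (hP : Nat.card P = p)
    (hC : S ⊓ Subgroup.centralizer (P : Set G) = ⊥) : p ∈ tau1 H := by
  have hpp : p.Prime := hp.1
  haveI : Fact p.Prime := ⟨hpp⟩
  have hpq : p ≠ q := by
    rintro rfl
    exact hp.2.1 h.hqM
  have hPH : P ≤ H := hPN.trans h.hNH
  have hPp : IsPGroup p P := IsPGroup.of_card (n := 1) (by rw [hP, pow_one])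
  -- `P` does not centralize `S`
  have key : ¬ (∀ x ∈ P, ∀ s ∈ S, x * s = s * x) := by
    intro hall
    have hSC : S ≤ Subgroup.centralizer (P : Set G) := by
      intro s hs
      rw [Subgroup.mem_centralizer_iff]
      intro x hx
      exact hall x hx s hs
    rw [inf_eq_left.mpr hSC] at hC
    exact h.ne_bot hC
  have hpH : p ∣ Nat.card H := by
    rw [← hP]
    exact Subgroup.card_dvd_of_le hPH
  have hpσ : p ∉ sigma H := by
    intro hpσ
    have hPσ : P ≤ sigmaCore H := pgroup_le_sigmaCore hG h.hH hpσ hPp hPH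
    apply key
    intro x hx s hs
    exact h.symm.commute_of_mem_sigmaCore hG hpq (hPσ hx)
      (hPp.to_le (Subgroup.zpowers_le.mpr hx)) (hPN hx) hs
  have hr2 : PRankLE p 2 ↥H :=
    alpha_rank H p hpp (fun hα => hpσ (alpha_subset_sigma hG h.hH hα))
  have hr1 : PRankLE p 1 ↥H := by
    by_contra h1
    exact h.symm.not_mem_tau2 hG p ⟨hpp, hpσ, hr2, h1⟩
  refine ⟨hpp, hpσ, hpH, ?_, hr1⟩
  intro hd
  obtain ⟨R, hR, hPR⟩ := exists_isSylowIn_ge hPH hPp
  have hp2 : p ≠ 2 := prime_ne_two hG (hpH.trans (Subgroup.card_subgroup_dvd_card _))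
  have hc : IsCyclic R := isCyclic_of_pRankLE_one hp2 hr1 hR.le hR.isPGroup
  have hRH' : R ≤ ⁅H, H⁆ :=
    Cfsg.Agent.Lib.Helper9.BGPrime.isSylowIn_le_commutator_of_cyclic hR hc hd
  apply key
  intro x hx s hs
  exact h.symm.commute_of_mem_commutator hG hpq (hRH' (hPR hx))
    (hPp.to_le (Subgroup.zpowers_le.mpr hx)) (hPN hx) hs

end Setup

/-- **Theorem 13.9 from Lemma 13.8**: if the `σσ`-configuration is impossible, two maximal
subgroups whose `σ`-sets meet are conjugate. -/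
theorem conj_of_sigma_inter (hG : IsMinSimpleOddOrder G)
    (hcfg : ∀ (M H S P : Subgroup G) (q p : ℕ), ¬ SigmaConfig M H S P q p) :
    ∀ M N : Subgroup G, IsCoatom M → IsCoatom N → (sigma M ∩ sigma N).Nonempty →
      ∃ g : G, N = M.map (MulAut.conj g).toMonoidHom := by
  intro M N hM hN hne
  obtain ⟨q, hqM, hqN⟩ := hne
  by_contra hnc
  push Not at hnc
  haveI : Fact q.Prime := ⟨hqM.1⟩
  obtain ⟨S, hS⟩ := exists_isSylowIn q M
  obtain ⟨S', hS'⟩ := exists_isSylowIn q N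
  have hStop := (sigmaProp_of_mem_sigma hM hqM).isSylowIn_top hS
  have hS'top := (sigmaProp_of_mem_sigma hN hqN).isSylowIn_top hS'
  obtain ⟨y, -, hy⟩ := hS'top.exists_conj hStop
  have hH : IsCoatom (cj y N) := isCoatom_map_conj y hN
  have hσH : SigmaProp q (cj y N) := (sigmaProp_of_mem_sigma hN hqN).map_conj y
  have hSH : IsSylowIn q S (cj y N) := by
    rw [hy]
    exact hS'.map_conj_gen y
  have hqH : q ∈ sigma (cj y N) := by
    apply mem_sigma_of_sigmaProp hσH
    rw [card_cj]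
    exact hqN.2.1
  have hsetup : Setup M (cj y N) S q := by
    refine ⟨hM, hH, ?_, hqM, hqH, hStop, (sigmaProp_of_mem_sigma hM hqM).2 S hS, hσH.2 S hSH⟩
    intro g hg
    apply hnc (y⁻¹ * g)
    have h1 : N = cj y⁻¹ (cj y N) := (cj_inv_cj y N).symm
    rw [h1, hg]
    exact cj_cj y⁻¹ g M
  obtain ⟨E, hE, hEN⟩ := hsetup.exists_compl hG
  obtain ⟨p, P, hp, hPE, hP, hC⟩ := hsetup.exists_tau1 hG hE hEN
  have hpH := hsetup.mem_tau1_other hG hp (hPE.trans hEN) hP hC
  exact hcfg M (cj y N) S P q p ⟨hM, hH, hsetup.hnc, hqM, hqH, hStop,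
    le_inf hsetup.hSM hsetup.hSH, hp, hpH,
    le_inf (hPE.trans hE.1) ((hPE.trans hEN).trans hsetup.hNH), hP, hPE.trans hEN, hC⟩

end Cfsg.Agent.Lib.Helper11.BG13R
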