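import Mathlib
import Cfsg.Prelude
import Cfsg.Agent.Lib.Helper10.BGEleven
import Cfsg.Agent.Lib.Helper1.CoprimeAbelian

/-!
# A coprime-action lemma for the last case of Bender--Glauberman, Theorem 13.3

`(Z')`: let `Q` and an element `a` of prime order `r` act on a `p`-group `T` (all inside a solvable
group of odd order), `a` normalizing `Q`, `Q = [Q, ⟨a⟩]`, orders coprime to `p`.  If every fixed
point of `a` on `T` is centralized by `Q`, then `Q` centralizes `T`.
-/

set_option autoImplicit false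

open Cfsg
open scoped commutatorElement

namespace Cfsg.Agent.Lib.Helper11.BG13

universe u

section Basic

variable {X : Type*} [Group X]

theorem commutatorElement_pow_succ (k a : X) (n : ℕ) :
    ⁅k, a ^ (n + 1)⁆ = ⁅k, a⁆ * (a * ⁅k, a ^ n⁆ * a⁻¹) := by
  rw [pow_succ']
  simp only [commutatorElement_def]
  group

theorem commutator_pow_mem {C : Subgroup X} {k a : X}
    (haC : a ∈ Subgroup.normalizer (C : Set X)) (h : ⁅k, a⁆ ∈ C) (n : ℕ) : ⁅k, a ^ n⁆ ∈ C := by
  induction n with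
  | zero => simp [commutatorElement_def]
  | succ n ih =>
    rw [commutatorElement_pow_succ]
    exact mul_mem h ((Subgroup.mem_normalizer_iff.mp haC _).mp ih)

theorem commutator_zpowers_le [Finite X] {Q C : Subgroup X} {a : X}
    (haC : a ∈ Subgroup.normalizer (C : Set X)) (h : ∀ k ∈ Q, ⁅k, a⁆ ∈ C) :
    ⁅Q, Subgroup.zpowers a⁆ ≤ C := by
  rw [Subgroup.commutator_le]
  intro k hk x hx
  have hfin : IsOfFinOrder a := isOfFinOrder_of_finite a
  rw [← hfin.mem_powers_iff_mem_zpowers] at hx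
  obtain ⟨n, rfl⟩ := hx
  exact commutator_pow_mem haC (h k hk) n

/-- an element normalizing `B` and `Q` normalizes `[B, Q]`. -/
theorem mem_normalizer_commutator {B Q : Subgroup X} {a : X}
    (haB : a ∈ Subgroup.normalizer (B : Set X)) (haQ : a ∈ Subgroup.normalizer (Q : Set X)) :
    a ∈ Subgroup.normalizer ((⁅B, Q⁆ : Subgroup X) : Set X) := by
  have key : Subgroup.normalizer (B : Set X) ⊓ Subgroup.normalizer (Q : Set X) ≤
      Subgroup.normalizer ((⁅B, Q⁆ : Subgroup X) : Set X) := by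
    apply Cfsg.Agent.Lib.Helper1.le_normalizer_of_forall_conj_mem
    intro x hx n hn
    have hxB := (Subgroup.mem_inf.mp hx).1
    have hxQ := (Subgroup.mem_inf.mp hx).2
    have hle : ⁅B, Q⁆ ≤ (⁅B, Q⁆ : Subgroup X).comap (MulAut.conj x).toMonoidHom := by
      rw [Subgroup.commutator_le]
      intro b hb k hk
      rw [Subgroup.mem_comap, map_commutatorElement]
      apply Subgroup.commutator_mem_commutator
      · exact (Subgroup.mem_normalizer_iff.mp hxB b).mp hb
      · exact (Subgroup.mem_normalizer_iff.mp hxQ k).mp hk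
    exact hle hn
  exact key (Subgroup.mem_inf.mpr ⟨haB, haQ⟩)

/-- the normalizer of `U` normalizes the centralizer of `U`. -/
theorem mem_normalizer_centralizer {U : Subgroup X} {a : X}
    (haU : a ∈ Subgroup.normalizer (U : Set X)) :
    a ∈ Subgroup.normalizer ((Subgroup.centralizer (U : Set X) : Subgroup X) : Set X) := by
  have key : Subgroup.normalizer (U : Set X) ≤
      Subgroup.normalizer ((Subgroup.centralizer (U : Set X) : Subgroup X) : Set X) := by
    apply Cfsg.Agent.Lib.Helper1.le_normalizer_of_forall_conj_mem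
    intro x hx c hc
    rw [Subgroup.mem_centralizer_iff] at hc ⊢
    intro u hu
    have hu' : x⁻¹ * u * x ∈ U := by
      have := (Subgroup.mem_normalizer_iff.mp (inv_mem hx) u).mp hu
      simpa using this
    have h1 := hc _ hu'
    calc u * (x * c * x⁻¹) = x * ((x⁻¹ * u * x) * c) * x⁻¹ := by group
      _ = x * (c * (x⁻¹ * u * x)) * x⁻¹ := by rw [h1]
      _ = x * c * x⁻¹ * u := by group
  exact key haU

end Basic

section Abelian

variable {X : Type*} [Group X] [Finite X]

/-- `(Z')`, abelian case: `B` an abelian `p`-subgroup normalized by `Q` and `a`, `a` of prime order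
`r` normalizing `Q`, coprime orders; if every fixed point of `a` on `B` is centralized by `Q`, then
`[Q, ⟨a⟩]` centralizes `B`. -/
theorem commutator_le_centralizer_of_abelian {Y B Q : Subgroup X} {a : X} {p r : ℕ}
    [Fact p.Prime]
    (hYs : Group.IsSolvable ↥Y) (hYodd : Odd (Nat.card ↥Y)) (hBY : B ≤ Y) (hQY : Q ≤ Y) (haY : a ∈ Y)
    (hBp : IsPGroup p B) (hBc : ∀ x ∈ B, ∀ y ∈ B, x * y = y * x)
    (hr : r.Prime) (har : a ^ r = 1)
    (hQB : Q ≤ Subgroup.normalizer (B : Set X)) (haB : a ∈ Subgroup.normalizer (B : Set X))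
    (haQ : a ∈ Subgroup.normalizer (Q : Set X))
    (hcop : (Nat.card Q).Coprime (Nat.card B)) (hrB : ¬ r ∣ Nat.card B) (hrQ : ¬ r ∣ Nat.card Q)
    (hfix : ∀ x ∈ B, a * x = x * a → x ∈ Subgroup.centralizer (Q : Set X)) :
    ⁅Q, Subgroup.zpowers a⁆ ≤ Subgroup.centralizer (B : Set X) := by
  classical
  obtain ⟨U, hU⟩ : ∃ U : Subgroup X, U = ⁅B, Q⁆ := ⟨_, rfl⟩
  have hUB : U ≤ B := hU ▸ Cfsg.Agent.Lib.Helper1.commutator_le_of_le_normalizer hQB
  have hQU : Q ≤ Subgroup.normalizer (U : Set X) :=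
    hU ▸ Cfsg.Agent.Lib.Helper1.le_normalizer_commutator_right
  have haU : a ∈ Subgroup.normalizer (U : Set X) := hU ▸ mem_normalizer_commutator haB haQ
  have hUnil : Group.IsNilpotent ↥U := (hBp.to_le hUB).isNilpotent
  have : IsMulCommutative B := ⟨⟨fun x y => Subtype.ext (hBc x x.2 y y.2)⟩⟩
  have hbot := Cfsg.Agent.Lib.Helper1.abelian_centralizer_inf_commutator_eq_bot Q B hQB hcop
  have hfixU : ∀ x ∈ U, a * x = x * a → x = 1 := by
    intro x hx hc
    have h1 : x ∈ (B ⊓ Subgroup.centralizer (Q : Set X)) ⊓ ⁅B, Q⁆ :=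
      Subgroup.mem_inf.mpr ⟨Subgroup.mem_inf.mpr ⟨hUB hx, hfix x (hUB hx) hc⟩, hU ▸ hx⟩
    rw [hbot] at h1
    exact Subgroup.mem_bot.mp h1
  have hcopU : (Nat.card Q).Coprime (Nat.card U) :=
    Nat.Coprime.coprime_dvd_right (Subgroup.card_dvd_of_le hUB) hcop
  have hrU : ¬ r ∣ Nat.card U := fun h => hrB (h.trans (Subgroup.card_dvd_of_le hUB))
  have key := Cfsg.Agent.Lib.Helper10.BG.commutator_centralizes_of_fpf hYs hYodd
    (hUB.trans hBY) hQY haY hUnil hr har hQU haU haQ hcopU hrU hrQ hfixU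
  have haCU := mem_normalizer_centralizer haU
  have h2 : ⁅Q, Subgroup.zpowers a⁆ ≤ Subgroup.centralizer (U : Set X) :=
    commutator_zpowers_le haCU key
  obtain ⟨Q', hQ'⟩ : ∃ Q' : Subgroup X, Q' = ⁅Q, Subgroup.zpowers a⁆ := ⟨_, rfl⟩
  rw [← hQ'] at h2 ⊢
  have hQ'Q : Q' ≤ Q := by
    rw [hQ']
    exact Cfsg.Agent.Lib.Helper1.commutator_le_of_le_normalizer (Subgroup.zpowers_le.mpr haQ)
  have hBs : Group.IsSolvable ↥B :=
    Group.isSolvable_of_isSolvable_injective (Subgroup.inclusion_injective hBY)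
  have hact : Cfsg.Agent.Lib.Helper1.CoprimeAct Q' B :=
    ⟨hQ'Q.trans hQB, Nat.Coprime.coprime_dvd_left (Subgroup.card_dvd_of_le hQ'Q) hcop, Or.inr hBs⟩
  have h3 : ⁅⁅B, Q'⁆, Q'⁆ = ⊥ := by
    rw [Subgroup.commutator_eq_bot_iff_le_centralizer]
    intro x hx
    have hxU : x ∈ U := by
      rw [hU]
      exact Subgroup.commutator_mono le_rfl hQ'Q hx
    rw [Subgroup.mem_centralizer_iff]
    intro k hk
    exact ((Subgroup.mem_centralizer_iff.mp (h2 hk)) x hxU).symm
  rw [hact.commutator_commutator_eq, Subgroup.commutator_comm,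
    Subgroup.commutator_eq_bot_iff_le_centralizer] at h3
  exact h3

end Abelian

section Induction

/-- the centre of a normal subgroup, as a subgroup of the ambient group. -/
def cenOf {X : Type*} [Group X] (T : Subgroup X) : Subgroup X :=
  T ⊓ Subgroup.centralizer (T : Set X)

theorem cenOf_normal {X : Type*} [Group X] (T : Subgroup X) [hT : T.Normal] : (cenOf T).Normal := by
  constructor
  intro z hz g
  obtain ⟨hzT, hzc⟩ := Subgroup.mem_inf.mp hz
  refine Subgroup.mem_inf.mpr ⟨hT.conj_mem z hzT g, ?_⟩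
  rw [Subgroup.mem_centralizer_iff] at hzc ⊢
  intro t ht
  have ht' : g⁻¹ * t * g ∈ T := by
    have := hT.conj_mem t ht g⁻¹
    simpa using this
  have h1 := hzc _ ht'
  calc t * (g * z * g⁻¹) = g * ((g⁻¹ * t * g) * z) * g⁻¹ := by group
    _ = g * (z * (g⁻¹ * t * g)) * g⁻¹ := by rw [h1]
    _ = g * z * g⁻¹ * t := by group

theorem cenOf_ne_bot {X : Type*} [Group X] [Finite X] {p : ℕ} [Fact p.Prime] {T : Subgroup X}
    (hT : IsPGroup p T) (hT1 : T ≠ ⊥) : cenOf T ≠ ⊥ := by
  have : Nontrivial ↥T := (Subgroup.nontrivial_iff_ne_bot T).mpr hT1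
  have hnt := hT.center_nontrivial
  obtain ⟨z, hz1⟩ := exists_ne (1 : ↥(Subgroup.center ↥T))
  intro hbot
  apply hz1
  have hzmem : ((z : ↥T) : X) ∈ cenOf T := by
    refine Subgroup.mem_inf.mpr ⟨(z : ↥T).2, ?_⟩
    rw [Subgroup.mem_centralizer_iff]
    intro t ht
    have := Subgroup.mem_center_iff.mp z.2 ⟨t, ht⟩
    exact congrArg Subtype.val this
  rw [hbot, Subgroup.mem_bot] at hzmem
  apply Subtype.ext
  apply Subtype.ext
  exact hzmem

theorem card_dvd_pow_of_isPGroup_le {X : Type*} [Group X] [Finite X] {p : ℕ} [Fact p.Prime]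
    {T Z : Subgroup X} (hT : IsPGroup p T) (hZT : Z ≤ T) : ∃ k, Nat.card Z ∣ p ^ k := by
  obtain ⟨k, hk⟩ := IsPGroup.iff_card.mp hT
  exact ⟨k, hk ▸ Subgroup.card_dvd_of_le hZT⟩

/-- `(Z')` for a normal `p`-subgroup `T` of a solvable group `X` of odd order; induction on `|T|`
through the quotient by the centre of `T`. -/
theorem le_centralizer_of_fixed_le_aux : ∀ (n : ℕ) (X : Type u) [Group X] [Finite X]
    (T Q : Subgroup X) (a : X) (p r : ℕ) [Fact p.Prime], Nat.card T ≤ n →
    Group.IsSolvable X → Odd (Nat.card X) → T.Normal → IsPGroup p T → r.Prime → a ^ r = 1 →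
    a ∈ Subgroup.normalizer (Q : Set X) → ⁅Q, Subgroup.zpowers a⁆ = Q →
    (Nat.card Q).Coprime p → r ≠ p → ¬ r ∣ Nat.card Q →
    (∀ x ∈ T, a * x = x * a → x ∈ Subgroup.centralizer (Q : Set X)) →
    T ≤ Subgroup.centralizer (Q : Set X) := by
  intro n
  induction n with
  | zero =>
    intro X _ _ T Q a p r _ hcard
    have := Nat.card_pos (α := ↥T)
    omega
  | succ n ih =>
    intro X _ _ T Q a p r _ hcard hXs hXodd hTn hTp hr har haQ hQR hcopQ hrp hrQ hfix
    have hpp : p.Prime := Fact.out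
    by_cases hT1 : T = ⊥
    · rw [hT1]; exact bot_le
    obtain ⟨Z, hZdef⟩ : ∃ Z : Subgroup X, Z = cenOf T := ⟨_, rfl⟩
    have hZn : Z.Normal := hZdef ▸ cenOf_normal T
    have hZ1 : Z ≠ ⊥ := hZdef ▸ cenOf_ne_bot hTp hT1
    have hZT : Z ≤ T := hZdef ▸ inf_le_left
    have hZc : ∀ x ∈ Z, ∀ y ∈ Z, x * y = y * x := by
      intro x hx y hy
      rw [hZdef] at hx hy
      exact ((Subgroup.mem_centralizer_iff.mp (Subgroup.mem_inf.mp hx).2) y
        (Subgroup.mem_inf.mp hy).1).symm
    obtain ⟨kT, hkT⟩ := IsPGroup.iff_card.mp hTp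
    have hcopQT : (Nat.card Q).Coprime (Nat.card T) := by
      rw [hkT]; exact Nat.Coprime.pow_right _ hcopQ
    have hrT : ¬ r ∣ Nat.card T := by
      rw [hkT]
      intro h
      exact hrp ((Nat.prime_dvd_prime_iff_eq hr hpp).mp (hr.dvd_of_dvd_pow h))
    have hTs : Group.IsSolvable ↥T := inferInstance
    have hTops : Group.IsSolvable ↥(⊤ : Subgroup X) := inferInstance
    have hTopodd : Odd (Nat.card ↥(⊤ : Subgroup X)) := by
      rw [Subgroup.card_top]; exact hXodd
    -- `Q` centralizes `Z`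
    have hQZ : Q ≤ Subgroup.centralizer (Z : Set X) := by
      have h1 := commutator_le_centralizer_of_abelian (Y := ⊤) (B := Z) (Q := Q) (a := a) (p := p)
        (r := r) hTops hTopodd le_top le_top (Subgroup.mem_top a) (hTp.to_le hZT) hZc hr har
        (by rw [Subgroup.normalizer_eq_top]; exact le_top)
        (by rw [Subgroup.normalizer_eq_top]; exact Subgroup.mem_top a) haQ
        (Nat.Coprime.coprime_dvd_right (Subgroup.card_dvd_of_le hZT) hcopQT)
        (fun h => hrT (h.trans (Subgroup.card_dvd_of_le hZT))) hrQ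
        (fun x hx hc => hfix x (hZT hx) hc)
      rwa [hQR] at h1
    -- the quotient
    obtain ⟨φ, hφ⟩ : ∃ φ : X →* X ⧸ Z, φ = QuotientGroup.mk' Z := ⟨_, rfl⟩
    have hφs : Function.Surjective φ := hφ ▸ QuotientGroup.mk'_surjective Z
    have hker : ∀ x : X, φ x = 1 ↔ x ∈ Z := by
      intro x
      rw [← MonoidHom.mem_ker, hφ, QuotientGroup.ker_mk']
    have hcardlt : Nat.card ↥(T.map φ) < Nat.card ↥T := by
      by_contra hnot
      have hle : Nat.card ↥T ≤ Nat.card ↥(T.map φ) := not_lt.mp hnot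
      have hbij := (MonoidHom.subgroupMap_surjective φ T).bijective_of_nat_card_le hle
      obtain ⟨z, hz1⟩ := Subgroup.ne_bot_iff_exists_ne_one.mp hZ1
      apply hz1
      have h2 : φ.subgroupMap T ⟨(z : X), hZT z.2⟩ = φ.subgroupMap T 1 := by
        apply Subtype.ext
        rw [map_one]
        show φ (z : X) = 1
        exact (hker _).mpr z.2
      have h3 := hbij.1 h2
      have h4 : (z : X) = 1 := congrArg (fun w : ↥T => (w : X)) h3
      apply Subtype.ext
      exact h4
    have hs' : Group.IsSolvable (X ⧸ Z) := Group.isSolvable_of_surjective hφs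
    have hodd' : Odd (Nat.card (X ⧸ Z)) := hXodd.of_dvd_nat (Subgroup.card_quotient_dvd_card Z)
    have hQdvd : Nat.card ↥(Q.map φ) ∣ Nat.card ↥Q :=
      Subgroup.card_dvd_of_surjective (φ.subgroupMap Q) (MonoidHom.subgroupMap_surjective φ Q)
    have hfix' : ∀ x ∈ T.map φ, φ a * x = x * φ a →
        x ∈ Subgroup.centralizer ((Q.map φ : Subgroup (X ⧸ Z)) : Set (X ⧸ Z)) := by
      rintro _ ⟨t, ht, rfl⟩ hc
      have hact : Cfsg.Agent.Lib.Helper1.CoprimeAct (Subgroup.zpowers a) T := by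
        refine ⟨by rw [Subgroup.normalizer_eq_top]; exact le_top, ?_, Or.inr hTs⟩
        rw [Nat.card_zpowers]
        have hdvd : orderOf a ∣ r := orderOf_dvd_of_pow_eq_one har
        refine Nat.Coprime.coprime_dvd_left hdvd ?_
        rw [hkT]
        exact Nat.Coprime.pow_right _ ((Nat.coprime_primes hr hpp).mpr hrp)
      have hA : Subgroup.zpowers a ≤ (Subgroup.centralizer ({φ t} : Set (X ⧸ Z))).comap φ := by
        rw [Subgroup.zpowers_le, Subgroup.mem_comap, Subgroup.mem_centralizer_singleton_iff]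
        exact hc
      have hx : ∀ a' ∈ Subgroup.zpowers a, t⁻¹ * (a' * t * a'⁻¹) ∈ Z := by
        intro a' ha'
        have h1 := hA ha'
        rw [Subgroup.mem_comap, Subgroup.mem_centralizer_singleton_iff] at h1
        rw [← hker]
        rw [map_mul, map_mul, map_mul, map_inv, map_inv, h1]
        group
      obtain ⟨u, hu, htu⟩ := hact.exists_mul_mem_centralizer hZT
        (by rw [Subgroup.normalizer_eq_top]; exact le_top) t ht hx
      obtain ⟨htuT, htuC⟩ := Subgroup.mem_inf.mp htu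
      have hcc : a * (t * u) = (t * u) * a :=
        (Subgroup.mem_centralizer_iff.mp htuC) a (Subgroup.mem_zpowers a)
      have h4 := hfix (t * u) htuT hcc
      have h5 : φ t = φ (t * u) := by
        rw [map_mul, (hker u).mpr hu, mul_one]
      rw [h5, Subgroup.mem_centralizer_iff]
      rintro _ ⟨k, hk, rfl⟩
      rw [← map_mul, ← map_mul, (Subgroup.mem_centralizer_iff.mp h4) k hk]
    have hih := ih (X ⧸ Z) (T.map φ) (Q.map φ) (φ a) p r (by omega) hs' hodd'
      (hTn.map φ hφs) (hTp.map φ) hr (by rw [← map_pow, har, map_one])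
      (Subgroup.le_normalizer_map φ (Subgroup.mem_map_of_mem φ haQ))
      (by rw [← MonoidHom.map_zpowers, ← Subgroup.map_commutator, hQR])
      (Nat.Coprime.coprime_dvd_left hQdvd hcopQ) hrp (fun h => hrQ (h.trans hQdvd)) hfix'
    -- pull back
    have hTQZ : ⁅T, Q⁆ ≤ Z := by
      rw [Subgroup.commutator_le]
      intro t ht k hk
      rw [← hker, map_commutatorElement, commutatorElement_eq_one_iff_mul_comm]
      exact ((Subgroup.mem_centralizer_iff.mp (hih (Subgroup.mem_map_of_mem φ ht))) _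
        (Subgroup.mem_map_of_mem φ hk)).symm
    have h6 : ⁅⁅T, Q⁆, Q⁆ = ⊥ := by
      rw [Subgroup.commutator_eq_bot_iff_le_centralizer]
      intro x hx
      rw [Subgroup.mem_centralizer_iff]
      intro k hk
      exact ((Subgroup.mem_centralizer_iff.mp (hQZ hk)) x (hTQZ hx)).symm
    have hactQ : Cfsg.Agent.Lib.Helper1.CoprimeAct Q T :=
      ⟨by rw [Subgroup.normalizer_eq_top]; exact le_top, hcopQT, Or.inr hTs⟩
    rw [hactQ.commutator_commutator_eq, Subgroup.commutator_eq_bot_iff_le_centralizer] at h6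
    exact h6

end Induction

section Main

variable {G : Type u} [Group G] [Finite G]

/-- **`(Z')`**: `T` a `p`-subgroup, `Q` a subgroup and `a` an element of prime order `r ≠ p`, all
inside a solvable subgroup `Y` of odd order; `Q` and `a` normalize `T`, `a` normalizes `Q`,
`[Q, ⟨a⟩] = Q`, `|Q|` prime to `p` and to `r`.  If every fixed point of `a` on `T` is centralized
by `Q`, then `Q` centralizes `T`. -/
theorem le_centralizer_of_fixed_le {Y T Q : Subgroup G} {a : G} {p r : ℕ} [Fact p.Prime]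
    (hYs : Group.IsSolvable ↥Y) (hYodd : Odd (Nat.card ↥Y)) (hTY : T ≤ Y) (hQY : Q ≤ Y)
    (haY : a ∈ Y) (hTp : IsPGroup p T) (hr : r.Prime) (har : a ^ r = 1)
    (hQT : Q ≤ Subgroup.normalizer (T : Set G)) (haT : a ∈ Subgroup.normalizer (T : Set G))
    (haQ : a ∈ Subgroup.normalizer (Q : Set G)) (hQR : ⁅Q, Subgroup.zpowers a⁆ = Q)
    (hcop : (Nat.card Q).Coprime p) (hrp : r ≠ p) (hrQ : ¬ r ∣ Nat.card Q)
    (hfix : ∀ x ∈ T, a * x = x * a → x ∈ Subgroup.centralizer (Q : Set G)) :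
    T ≤ Subgroup.centralizer (Q : Set G) := by
  obtain ⟨W, hW⟩ : ∃ W : Subgroup G, W = Y ⊓ Subgroup.normalizer (T : Set G) := ⟨_, rfl⟩
  have hWY : W ≤ Y := hW ▸ inf_le_left
  have hWN : W ≤ Subgroup.normalizer (T : Set G) := hW ▸ inf_le_right
  have hTW : T ≤ W := hW ▸ le_inf hTY Subgroup.le_normalizer
  have hQW : Q ≤ W := hW ▸ le_inf hQY hQT
  have haW : a ∈ W := hW ▸ Subgroup.mem_inf.mpr ⟨haY, haT⟩
  have hWs : Group.IsSolvable ↥W :=
    Group.isSolvable_of_isSolvable_injective (Subgroup.inclusion_injective hWY)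
  have hWodd : Odd (Nat.card ↥W) := hYodd.of_dvd_nat (Subgroup.card_dvd_of_le hWY)
  have hTn : (T.subgroupOf W).Normal := Subgroup.normal_subgroupOf_of_le_normalizer hWN
  have hTp' : IsPGroup p ↥(T.subgroupOf W) := hTp.comap_subtype
  have hcardQ : Nat.card ↥(Q.subgroupOf W) = Nat.card ↥Q :=
    Nat.card_congr (Subgroup.subgroupOfEquivOfLe hQW).toEquiv
  have haQ' : (⟨a, haW⟩ : ↥W) ∈ Subgroup.normalizer ((Q.subgroupOf W : Subgroup ↥W) : Set ↥W) := by
    rw [Subgroup.mem_normalizer_iff]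
    intro h
    rw [Subgroup.mem_subgroupOf, Subgroup.mem_subgroupOf]
    exact Subgroup.mem_normalizer_iff.mp haQ (h : G)
  have hQR' : ⁅Q.subgroupOf W, Subgroup.zpowers (⟨a, haW⟩ : ↥W)⁆ = Q.subgroupOf W := by
    apply Subgroup.map_injective W.subtype_injective
    rw [Subgroup.map_commutator, MonoidHom.map_zpowers, Subgroup.map_subgroupOf_eq_of_le hQW]
    exact hQR
  have key := le_centralizer_of_fixed_le_aux (Nat.card ↥(T.subgroupOf W)) ↥W (T.subgroupOf W)
    (Q.subgroupOf W) ⟨a, haW⟩ p r le_rfl hWs hWodd hTn hTp' hr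
    (by apply Subtype.ext; rw [Subgroup.coe_pow, Subgroup.coe_one]; exact har) haQ' hQR'
    (by rw [hcardQ]; exact hcop) hrp (by rw [hcardQ]; exact hrQ)
    (by
      intro x hx hc
      have h1 := hfix (x : G) (Subgroup.mem_subgroupOf.mp hx) (congrArg Subtype.val hc)
      rw [Subgroup.mem_centralizer_iff] at h1 ⊢
      intro k hk
      apply Subtype.ext
      exact h1 (k : G) (Subgroup.mem_subgroupOf.mp hk))
  intro t ht
  have h1 := key (show (⟨t, hTW ht⟩ : ↥W) ∈ T.subgroupOf W from Subgroup.mem_subgroupOf.mpr ht)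
  rw [Subgroup.mem_centralizer_iff] at h1 ⊢
  intro k hk
  exact congrArg Subtype.val (h1 ⟨k, hQW hk⟩ (Subgroup.mem_subgroupOf.mpr hk))

/-- `(Z')` in subgroup form: `R` of prime order. -/
theorem le_centralizer_of_inf_centralizer_le {Y T Q R : Subgroup G} {p : ℕ} [Fact p.Prime]
    (hYs : Group.IsSolvable ↥Y) (hYodd : Odd (Nat.card ↥Y)) (hTY : T ≤ Y) (hQY : Q ≤ Y)
    (hRY : R ≤ Y) (hTp : IsPGroup p T)
    (hQT : Q ≤ Subgroup.normalizer (T : Set G)) (hRT : R ≤ Subgroup.normalizer (T : Set G))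
    (hRQ : R ≤ Subgroup.normalizer (Q : Set G)) (hQR : ⁅Q, R⁆ = Q)
    (hR : (Nat.card R).Prime) (hcopQ : (Nat.card Q).Coprime p) (hcopR : (Nat.card R).Coprime p)
    (hrQ : (Nat.card R).Coprime (Nat.card Q))
    (hC : T ⊓ Subgroup.centralizer (R : Set G) ≤ Subgroup.centralizer (Q : Set G)) :
    T ≤ Subgroup.centralizer (Q : Set G) := by
  have hpp : p.Prime := Fact.out
  have : Fact (Nat.card ↥R).Prime := ⟨hR⟩
  have : IsCyclic ↥R := isCyclic_of_prime_card rfl
  obtain ⟨g, hg⟩ := IsCyclic.exists_generator (α := ↥R)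
  have hzp : Subgroup.zpowers (g : G) = R := by
    have h1 : Subgroup.zpowers g = ⊤ := (Subgroup.eq_top_iff' _).mpr hg
    have h2 := congrArg (Subgroup.map R.subtype) h1
    rw [MonoidHom.map_zpowers, ← MonoidHom.range_eq_map, Subgroup.range_subtype] at h2
    exact h2
  have har : (g : G) ^ Nat.card ↥R = 1 := by
    have : g ^ Nat.card ↥R = 1 := pow_card_eq_one'
    exact congrArg Subtype.val this
  refine le_centralizer_of_fixed_le (a := (g : G)) (r := Nat.card ↥R) hYs hYodd hTY hQY (hRY g.2)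
    hTp hR har hQT (hRT g.2) (hRQ g.2) (by rw [hzp]; exact hQR) hcopQ ?_ ?_ ?_
  · intro h
    rw [h] at hcopR
    exact hpp.one_lt.ne' ((Nat.coprime_self p).mp hcopR)
  · intro h
    have := Nat.Coprime.eq_one_of_dvd hrQ h
    exact hR.one_lt.ne' this
  · intro x hx hc
    apply hC
    refine Subgroup.mem_inf.mpr ⟨hx, ?_⟩
    rw [← hzp, Subgroup.mem_centralizer_iff]
    intro y hy
    obtain ⟨k, rfl⟩ := Subgroup.mem_zpowers_iff.mp hy
    have hcomm : Commute (g : G) x := hc
    exact (hcomm.zpow_left k).eq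

end Main

end Cfsg.Agent.Lib.Helper11.BG13
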