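import Mathlib
import Cfsg.Prelude.Def_Characters
import Cfsg.Agent.Lib.Helper2.Linear

/-!
Positivity of `classInner` and Bessel's (in)equality for orthonormal finite families.
-/

set_option autoImplicit false

namespace Cfsg.Agent.Lib.Helper11

open Cfsg.Agent.Lib.Helper2
open scoped ComplexConjugate

section Bessel

variable {G : Type*} [Group G] [Fintype G]

theorem classInner_self_eq_ofReal (Y : G → ℂ) :
    Cfsg.classInner Y Y = (((Nat.card G : ℝ)⁻¹ * ∑ g : G, ‖Y g‖ ^ 2 : ℝ) : ℂ) := by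
  rw [classInner_def]
  push_cast
  congr 1
  apply Finset.sum_congr rfl
  intro g _
  rw [Complex.mul_conj, Complex.normSq_eq_norm_sq]
  push_cast
  rfl

theorem classInner_self_re_nonneg (Y : G → ℂ) : 0 ≤ (Cfsg.classInner Y Y).re := by
  rw [classInner_self_eq_ofReal, Complex.ofReal_re]
  positivity

theorem classInner_self_im (Y : G → ℂ) : (Cfsg.classInner Y Y).im = 0 := by
  rw [classInner_self_eq_ofReal, Complex.ofReal_im]

theorem eq_zero_of_classInner_self_re_le_zero (Y : G → ℂ) (h : (Cfsg.classInner Y Y).re ≤ 0) :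
    Y = 0 := by
  apply eq_zero_of_classInner_self_eq_zero
  apply Complex.ext
  · exact le_antisymm h (classInner_self_re_nonneg Y)
  · exact classInner_self_im Y

/-- Bessel's equality for an orthonormal finite family. -/
theorem bessel (F : Finset (G → ℂ))
    (hF : ∀ α ∈ F, ∀ β ∈ F, Cfsg.classInner α β = if α = β then 1 else 0) (X : G → ℂ) :
    Cfsg.classInner (X - ∑ α ∈ F, Cfsg.classInner X α • α) (X - ∑ α ∈ F, Cfsg.classInner X α • α)
      = Cfsg.classInner X X - ((∑ α ∈ F, ‖Cfsg.classInner X α‖ ^ 2 : ℝ) : ℂ) := by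
  classical
  set P := ∑ α ∈ F, Cfsg.classInner X α • α with hP
  have hsq : ∀ α : G → ℂ, Cfsg.classInner X α * conj (Cfsg.classInner X α)
      = ((‖Cfsg.classInner X α‖ ^ 2 : ℝ) : ℂ) := by
    intro α
    rw [Complex.mul_conj, Complex.normSq_eq_norm_sq]
  have h1 : Cfsg.classInner X P = ((∑ α ∈ F, ‖Cfsg.classInner X α‖ ^ 2 : ℝ) : ℂ) := by
    rw [hP, classInner_sum_right]
    push_cast
    apply Finset.sum_congr rfl
    intro α _
    rw [classInner_smul_right, mul_comm, hsq]
    push_cast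
    rfl
  have h2 : Cfsg.classInner P X = ((∑ α ∈ F, ‖Cfsg.classInner X α‖ ^ 2 : ℝ) : ℂ) := by
    rw [← classInner_conj_symm, h1, Complex.conj_ofReal]
  have h3 : Cfsg.classInner P P = ((∑ α ∈ F, ‖Cfsg.classInner X α‖ ^ 2 : ℝ) : ℂ) := by
    rw [hP, classInner_sum_left]
    push_cast
    apply Finset.sum_congr rfl
    intro α hα
    rw [classInner_smul_left, classInner_sum_right]
    rw [Finset.sum_eq_single α]
    · rw [classInner_smul_right, hF α hα α hα, if_pos rfl, mul_one, hsq]
      push_cast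
      rfl
    · intro β hβ hne
      rw [classInner_smul_right, hF α hα β hβ, if_neg (fun h => hne h.symm), mul_zero]
    · intro h; exact absurd hα h
  rw [classInner_sub_left, classInner_sub_right, classInner_sub_right, h1, h2, h3]
  ring

/-- Bessel's inequality. -/
theorem bessel_le (F : Finset (G → ℂ))
    (hF : ∀ α ∈ F, ∀ β ∈ F, Cfsg.classInner α β = if α = β then 1 else 0) (X : G → ℂ) :
    ∑ α ∈ F, ‖Cfsg.classInner X α‖ ^ 2 ≤ (Cfsg.classInner X X).re := by
  have h := classInner_self_re_nonneg (X - ∑ α ∈ F, Cfsg.classInner X α • α)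
  rw [bessel F hF X, Complex.sub_re, Complex.ofReal_re] at h
  linarith

/-- Equality in Bessel's inequality forces `X` to be its projection. -/
theorem eq_proj_of_bessel_eq (F : Finset (G → ℂ))
    (hF : ∀ α ∈ F, ∀ β ∈ F, Cfsg.classInner α β = if α = β then 1 else 0) (X : G → ℂ)
    (h : (Cfsg.classInner X X).re ≤ ∑ α ∈ F, ‖Cfsg.classInner X α‖ ^ 2) :
    X = ∑ α ∈ F, Cfsg.classInner X α • α := by
  have h0 : X - ∑ α ∈ F, Cfsg.classInner X α • α = 0 := by
    apply eq_zero_of_classInner_self_re_le_zero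
    rw [bessel F hF X, Complex.sub_re, Complex.ofReal_re]
    linarith
  exact sub_eq_zero.1 h0

/-- The union of two mutually orthogonal orthonormal families is orthonormal. -/
theorem orthonormal_union [DecidableEq (G → ℂ)] (F₁ F₂ : Finset (G → ℂ))
    (h₁ : ∀ α ∈ F₁, ∀ β ∈ F₁, Cfsg.classInner α β = if α = β then 1 else 0)
    (h₂ : ∀ α ∈ F₂, ∀ β ∈ F₂, Cfsg.classInner α β = if α = β then 1 else 0)
    (h₁₂ : ∀ α ∈ F₁, ∀ β ∈ F₂, Cfsg.classInner α β = 0) :
    (∀ α ∈ F₁ ∪ F₂, ∀ β ∈ F₁ ∪ F₂, Cfsg.classInner α β = if α = β then 1 else 0) ∧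
      Disjoint F₁ F₂ := by
  have hdisj : Disjoint F₁ F₂ := by
    rw [Finset.disjoint_left]
    intro α h1 h2
    have e1 := h₁₂ α h1 α h2
    have e2 := h₁ α h1 α h1
    rw [if_pos rfl] at e2
    rw [e1] at e2
    exact zero_ne_one e2
  refine ⟨?_, hdisj⟩
  intro α hα β hβ
  rcases Finset.mem_union.1 hα with ha | ha <;> rcases Finset.mem_union.1 hβ with hb | hb
  · exact h₁ α ha β hb
  · rw [h₁₂ α ha β hb, if_neg]
    intro h
    subst h
    exact Finset.disjoint_left.1 hdisj ha hb
  · have : Cfsg.classInner α β = 0 := by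
      rw [← classInner_conj_symm, h₁₂ β hb α ha, map_zero]
    rw [this, if_neg]
    intro h
    subst h
    exact Finset.disjoint_left.1 hdisj hb ha
  · exact h₂ α ha β hb

end Bessel

end Cfsg.Agent.Lib.Helper11
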