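import Cfsg.Agent.Lib.Helper11.BLFam2
import Cfsg.Agent.Lib.Helper11.TIInduction
import Cfsg.Agent.Lib.Helper11.Bessel

/-!
Brauer–Leonard set-up, part 4: the trivial-intersection set `{k ∈ K | π k ≠ 1}` inside `G` and the
norm bound for the restriction of an irreducible character of `G` to `K`.
-/

set_option autoImplicit false

namespace Cfsg.Agent.Lib.Helper11

open Cfsg
open Cfsg.Agent.Lib.Helper2
open scoped ComplexConjugate

/-- The trivial-intersection set of the Brauer–Leonard set-up, as a subset of `G`. -/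
def blSet {G : Type*} [Group G] {N : Subgroup G} {K Z : Subgroup N} (π : K →* Z) : Set G :=
  {g | ∃ k : K, ((k : N) : G) = g ∧ π k ≠ 1}

namespace BLData

variable {G : Type*} [Group G] [Fintype G] {N : Subgroup G} [Fintype N] {K Z : Subgroup N}
  [hK : K.Normal] [Fintype K] {π : K →* Z}

omit [Fintype G] [Fintype N] hK [Fintype K] in
theorem not_mem_blSet_iff (l : N) : (l : G) ∉ blSet π ↔ ∀ h : l ∈ K, π ⟨l, h⟩ = 1 := by
  constructor
  · intro hl h
    by_contra hne
    exact hl ⟨⟨l, h⟩, rfl, hne⟩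
  · rintro h ⟨k, hk, hne⟩
    have hkl : (k : N) = l := Subtype.ext hk
    have hlK : l ∈ K := hkl ▸ k.2
    apply hne
    have : k = ⟨l, hlK⟩ := Subtype.ext hkl
    rw [this]
    exact h hlK

open Classical in
/-- The truncation to the trivial-intersection set of the restriction of a class function. -/
noncomputable def trunc (π : K →* Z) (χ : G → ℂ) : N → ℂ :=
  extendByZero K (fun k : K => if π k = 1 then 0 else χ ((k : N) : G))

open Classical in
omit [Fintype G] [Fintype N] hK [Fintype K] in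
theorem trunc_apply_mem (χ : G → ℂ) (k : K) :
    trunc π χ (k : N) = if π k = 1 then 0 else χ ((k : N) : G) := by
  unfold trunc
  rw [extendByZero_coe]

omit [Fintype G] [Fintype N] hK [Fintype K] in
theorem trunc_apply_not_mem (χ : G → ℂ) {l : N} (hl : l ∉ K) : trunc π χ l = 0 := by
  unfold trunc
  exact extendByZero_of_not_mem K _ hl

omit [Fintype G] [Fintype N] hK [Fintype K] in
theorem trunc_vanish (χ : G → ℂ) (l : N) (hl : (l : G) ∉ blSet π) : trunc π χ l = 0 := by
  by_cases hlK : l ∈ K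
  · have := trunc_apply_mem (π := π) χ ⟨l, hlK⟩
    simp only at this
    rw [this, if_pos ((not_mem_blSet_iff l).1 hl hlK)]
  · exact trunc_apply_not_mem χ hlK

omit [Fintype G] [Fintype N] hK [Fintype K] in
theorem trunc_eq_or (χ : G → ℂ) (l : N) : trunc π χ l = 0 ∨ trunc π χ l = χ (l : G) := by
  by_cases hlK : l ∈ K
  · have := trunc_apply_mem (π := π) χ ⟨l, hlK⟩
    simp only at this
    by_cases h1 : π ⟨l, hlK⟩ = 1
    · left; rw [this, if_pos h1]
    · right; rw [this, if_neg h1]
  · left; exact trunc_apply_not_mem χ hlK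

omit [Fintype G] in
theorem trunc_isClassFunction (D : BLData K Z π) {χ : G → ℂ} (hχ : IsClassFunction G χ) :
    IsClassFunction N (trunc π χ) := by
  intro l n
  by_cases hlK : l ∈ K
  · have hnl : n * l * n⁻¹ ∈ K := hK.conj_mem l hlK n
    have h1 := trunc_apply_mem (π := π) χ ⟨n * l * n⁻¹, hnl⟩
    have h2 := trunc_apply_mem (π := π) χ ⟨l, hlK⟩
    simp only at h1 h2
    rw [h1, h2]
    have hχ' : χ ((n * l * n⁻¹ : N) : G) = χ (l : G) := by
      have := hχ (l : G) (n : G)
      simpa using this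
    have hiff : π ⟨n * l * n⁻¹, hnl⟩ = 1 ↔ π ⟨l, hlK⟩ = 1 := by
      constructor
      · intro h
        have h3 := D.equivar n ⟨l, hlK⟩ hnl
        rw [h] at h3
        apply Subtype.ext
        have h4 : (n : N) * ((π ⟨l, hlK⟩ : Z) : N) * n⁻¹ = 1 := by
          rw [← h3]; rfl
        have h5 : ((π ⟨l, hlK⟩ : Z) : N) = n⁻¹ * 1 * n := by
          rw [← h4]; group
        rw [h5]; simp
      · intro h
        exact D.pi_conj_eq_one n ⟨l, hlK⟩ h
    by_cases h1 : π ⟨l, hlK⟩ = 1
    · rw [if_pos h1, if_pos (hiff.2 h1)]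
    · rw [if_neg h1, if_neg (fun h => h1 (hiff.1 h)), hχ']
  · have hnl : n * l * n⁻¹ ∉ K := by
      intro h
      apply hlK
      have := hK.conj_mem _ h n⁻¹
      simpa [mul_assoc] using this
    rw [trunc_apply_not_mem χ hlK, trunc_apply_not_mem χ hnl]

/-- The norm of the truncation of an irreducible character is at most one. -/
theorem trunc_norm_le (D : BLData K Z π)
    (hTI : ∀ a ∈ blSet π, ∀ x : G, x⁻¹ * a * x ∈ blSet π → x ∈ N)
    {χ : G → ℂ} (hχ : IsIrrCharacter G χ) :
    (classInner (trunc π χ) (trunc π χ)).re ≤ 1 := by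
  classical
  have hχcf : IsClassFunction G χ := IsCharacter.isClassFunction (IsIrrCharacter.isCharacter hχ)
  set f := trunc π χ with hf
  have hfcf : IsClassFunction N f := D.trunc_isClassFunction hχcf
  have hfA : ∀ l : N, (l : G) ∉ blSet π → f l = 0 := fun l hl => trunc_vanish χ l hl
  have hiso : classInner (indFun N f) (indFun N f) = classInner f f :=
    classInner_indFun_indFun_of_TI N (blSet π) hTI f f hfA hfcf hfA
  have hrec : classInner (indFun N f) χ = classInner f f := by
    rw [frobenius_reciprocity N f χ hχcf, classInner_def, classInner_def]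
    congr 1
    apply Finset.sum_congr rfl
    intro l _
    rcases trunc_eq_or (π := π) χ l with h | h
    · rw [← hf] at h
      rw [h, zero_mul, zero_mul]
    · rw [← hf] at h
      rw [h]
  have hbes := bessel_le {χ} (by
    intro α hα β hβ
    rw [Finset.mem_singleton] at hα hβ
    rw [hα, hβ, if_pos rfl]
    exact classInner_irrCharacter_self (⟨χ, hχ⟩ : IrrCharacter G)) (indFun N f)
  rw [Finset.sum_singleton, hrec, hiso] at hbes
  have hw := classInner_self_eq_ofReal f
  set w : ℝ := (Nat.card N : ℝ)⁻¹ * ∑ g : N, ‖f g‖ ^ 2 with hwdef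
  rw [hw] at hbes ⊢
  rw [Complex.ofReal_re] at hbes ⊢
  rw [Complex.norm_real, Real.norm_eq_abs, sq_abs] at hbes
  have hw0 : 0 ≤ w := by rw [hwdef]; positivity
  nlinarith

open Classical in
/-- The sum of `‖χ k‖²` over the elements of `K` with `π k ≠ 1` is at most `|N|`. -/
theorem sum_norm_sq_le (D : BLData K Z π)
    (hTI : ∀ a ∈ blSet π, ∀ x : G, x⁻¹ * a * x ∈ blSet π → x ∈ N)
    {χ : G → ℂ} (hχ : IsIrrCharacter G χ) :
    ∑ k : K, (if π k = 1 then 0 else ‖χ ((k : N) : G)‖ ^ 2) ≤ (Nat.card N : ℝ) := by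
  classical
  have h1 := D.trunc_norm_le hTI hχ
  rw [classInner_self_eq_ofReal, Complex.ofReal_re] at h1
  have hN : (0 : ℝ) < Nat.card N := by exact_mod_cast Nat.card_pos
  have h2 : ∑ g : N, ‖trunc π χ g‖ ^ 2 ≤ (Nat.card N : ℝ) := by
    rw [inv_mul_le_iff₀ hN] at h1
    linarith
  have h3 : ∑ g : N, ‖trunc π χ g‖ ^ 2
      = ∑ k : K, (if π k = 1 then 0 else ‖χ ((k : N) : G)‖ ^ 2) := by
    have hext : ∀ l : N, ((‖trunc π χ l‖ ^ 2 : ℝ) : ℂ)
        = extendByZero K (fun k : K =>
            (((if π k = 1 then 0 else ‖χ ((k : N) : G)‖ ^ 2 : ℝ)) : ℂ)) l := by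
      intro l
      by_cases hl : l ∈ K
      · rw [extendByZero_of_mem K _ hl]
        have := trunc_apply_mem (π := π) χ ⟨l, hl⟩
        simp only at this
        rw [this]
        by_cases h1 : π ⟨l, hl⟩ = 1
        · rw [if_pos h1, if_pos h1]; simp
        · rw [if_neg h1, if_neg h1]
      · rw [extendByZero_of_not_mem K _ hl, trunc_apply_not_mem χ hl]; simp
    have h4 : ∑ g : N, ((‖trunc π χ g‖ ^ 2 : ℝ) : ℂ)
        = ∑ k : K, (((if π k = 1 then 0 else ‖χ ((k : N) : G)‖ ^ 2 : ℝ)) : ℂ) := by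
      rw [Finset.sum_congr rfl (fun l _ => hext l)]
      rw [sum_extendByZero K _]
    exact_mod_cast h4
  rw [← h3]
  exact h2

end BLData

end Cfsg.Agent.Lib.Helper11
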