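import Cfsg.Agent.Lib.Helper11.Clifford

/-!
Elements that are central modulo the kernel of an irreducible character have character values of
maximal norm; the bound `χ(1)^2 |D| ≤ |C|`.
-/

set_option autoImplicit false

namespace Cfsg.Agent.Lib.Helper11

open Cfsg.Agent.Lib.Helper2
open scoped ComplexConjugate

section CentralChar

variable {C : Type*} [Group C] [Finite C]

/-- If all commutators `d c d⁻¹ c⁻¹` lie in the kernel of the irreducible character `ξ`, then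
`‖ξ d‖ = ‖ξ 1‖`. -/
theorem IsIrrCharacter.norm_eq_of_commutators_in_ker {ξ : C → ℂ} (hξ : Cfsg.IsIrrCharacter C ξ)
    (d : C) (hd : ∀ c : C, ξ (d * c * d⁻¹ * c⁻¹) = ξ 1) : ‖ξ d‖ = ‖ξ 1‖ := by
  obtain ⟨n, ρ, hirr, rfl⟩ := hξ
  have h1 : ρ.character 1 = (Module.finrank ℂ (Fin n → ℂ) : ℂ) := Representation.char_one ρ
  have hcomm : ∀ c : C, ρ d ∘ₗ ρ c = ρ c ∘ₗ ρ d := by
    intro c
    have h2 := hd c
    rw [h1, char_eq_finrank_iff] at h2
    have h3 : ρ d * ρ c = ρ (d * c * d⁻¹ * c⁻¹) * (ρ c * ρ d) := by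
      rw [← map_mul, ← map_mul, ← map_mul]
      congr 1
      group
    rw [h2] at h3
    exact h3
  let T : Representation.IntertwiningMap ρ ρ := ⟨ρ d, fun c => hcomm c⟩
  obtain ⟨a, ha⟩ :=
    (Representation.IsIrreducible.algebraMap_intertwiningMap_bijective_of_isAlgClosed
      (ρ := ρ)).2 T
  have hT : ρ d = a • LinearMap.id := by
    have := congrArg Representation.IntertwiningMap.toLinearMap ha
    rw [Algebra.algebraMap_eq_smul_one] at this
    exact this.symm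
  rw [(norm_char_eq_finrank_iff ρ d).2 ⟨a, hT⟩, h1, Complex.norm_natCast]

/-- If `‖ξ d‖ = ‖ξ 1‖` on a subgroup `D`, then `ξ(1)^2 |D| ≤ |C|`. -/
theorem IsIrrCharacter.degree_sq_mul_card_le {ξ : C → ℂ} (hξ : Cfsg.IsIrrCharacter C ξ)
    (D : Subgroup C) (hD : ∀ d ∈ D, ‖ξ d‖ = ‖ξ 1‖) :
    ‖ξ 1‖ ^ 2 * (Nat.card D : ℝ) ≤ (Nat.card C : ℝ) := by
  classical
  have : Fintype C := Fintype.ofFinite C
  have hnorm : Cfsg.classInner ξ ξ = 1 := classInner_irrCharacter_self (⟨ξ, hξ⟩ : Cfsg.IrrCharacter C)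
  rw [classInner_def] at hnorm
  have hne : (Nat.card C : ℂ) ≠ 0 := card_ne_zero_complex
  have hsum : ∑ g : C, ξ g * conj (ξ g) = (Nat.card C : ℂ) := by
    field_simp at hnorm
    exact hnorm
  have hsumR : ∑ g : C, ‖ξ g‖ ^ 2 = (Nat.card C : ℝ) := by
    have h2 : ∀ g : C, ξ g * conj (ξ g) = ((‖ξ g‖ ^ 2 : ℝ) : ℂ) := by
      intro g
      rw [Complex.mul_conj, Complex.normSq_eq_norm_sq]
    simp only [h2] at hsum
    rw [← Complex.ofReal_sum] at hsum
    exact_mod_cast hsum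
  rw [← hsumR]
  have hDcard : (Nat.card D : ℝ) = ((Finset.univ.filter (fun g : C => g ∈ D)).card : ℝ) := by
    rw [Nat.card_eq_fintype_card, Fintype.card_subtype]
  calc ‖ξ 1‖ ^ 2 * (Nat.card D : ℝ)
      = ∑ g ∈ Finset.univ.filter (fun g : C => g ∈ D), ‖ξ 1‖ ^ 2 := by
        rw [Finset.sum_const, nsmul_eq_mul, hDcard, mul_comm]
    _ = ∑ g ∈ Finset.univ.filter (fun g : C => g ∈ D), ‖ξ g‖ ^ 2 := by
        apply Finset.sum_congr rfl
        intro g hg
        rw [hD g (Finset.mem_filter.1 hg).2]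
    _ ≤ ∑ g : C, ‖ξ g‖ ^ 2 := by
        apply Finset.sum_le_sum_of_subset_of_nonneg (Finset.filter_subset _ _)
        intro g _ _
        positivity

end CentralChar

end Cfsg.Agent.Lib.Helper11
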