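import Cfsg.Agent.Lib.Helper11.Clifford2
import Cfsg.Agent.Lib.Helper11.CharSep
import Cfsg.Agent.Lib.Helper2.DirectProduct

/-!
Twisting irreducible characters by linear characters; for `N` normal in `K` with `K/N` abelian, two
irreducible characters of `K` whose restrictions to `N` are not orthogonal differ by a linear
character trivial on `N`.
-/

set_option autoImplicit false

namespace Cfsg.Agent.Lib.Helper11

open Cfsg.Agent.Lib.Helper2
open scoped ComplexConjugate

section Twist

variable {K : Type*} [Group K] [Fintype K]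

/-- The product of an irreducible character with a linear character is irreducible. -/
theorem isIrrCharacter_twist (lam : K →* ℂˣ) {μ : K → ℂ} (hμ : Cfsg.IsIrrCharacter K μ) :
    Cfsg.IsIrrCharacter K (fun k => (lam k : ℂ) * μ k) := by
  apply isIrrCharacter_of_classInner_self_eq_one
  · have h1 : Cfsg.IsCharacter K (fun k => (lam k : ℂ)) :=
      IsIrrCharacter.isCharacter (isIrrCharacter_of_monoidHom lam)
    exact isCharacter_mul h1 (IsIrrCharacter.isCharacter hμ)
  · have h1 : Cfsg.classInner μ μ = 1 :=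
      classInner_irrCharacter_self (⟨μ, hμ⟩ : Cfsg.IrrCharacter K)
    rw [← h1, classInner_def, classInner_def]
    congr 1
    apply Finset.sum_congr rfl
    intro k _
    have hn : (lam k : ℂ) * conj (lam k : ℂ) = 1 := by
      rw [Complex.mul_conj, Complex.normSq_eq_norm_sq, linChar_norm]
      simp
    rw [map_mul]
    calc (lam k : ℂ) * μ k * (conj (lam k : ℂ) * conj (μ k))
        = ((lam k : ℂ) * conj (lam k : ℂ)) * (μ k * conj (μ k)) := by ring
      _ = μ k * conj (μ k) := by rw [hn, one_mul]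

omit [Fintype K] in
/-- Separation by linear characters modulo a normal subgroup with abelian quotient. -/
theorem exists_char_trivial_ne_one_of_abelian_quotient [Finite K] (N : Subgroup K) [N.Normal]
    (hab : ∀ x y : K, x * y * x⁻¹ * y⁻¹ ∈ N) {t : K} (ht : t ∉ N) :
    ∃ φ : K →* ℂˣ, (∀ n ∈ N, φ n = 1) ∧ φ t ≠ 1 := by
  have hcommQ : ∀ a b : K ⧸ N, a * b = b * a := by
    intro a b
    induction a using QuotientGroup.induction_on with
    | H x =>
      induction b using QuotientGroup.induction_on with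
      | H y =>
        rw [← QuotientGroup.mk_mul, ← QuotientGroup.mk_mul, QuotientGroup.eq]
        have := hab y⁻¹ x⁻¹
        simpa [mul_assoc] using this
  have hne : (QuotientGroup.mk t : K ⧸ N) ∉ (⊥ : Subgroup (K ⧸ N)) := by
    rw [Subgroup.mem_bot, QuotientGroup.eq_one_iff]
    exact ht
  obtain ⟨φ, _, hφ⟩ := exists_char_trivial_ne_one hcommQ ⊥ hne
  refine ⟨φ.comp (QuotientGroup.mk' N), ?_, hφ⟩
  intro n hn
  rw [MonoidHom.comp_apply, QuotientGroup.mk'_apply, (QuotientGroup.eq_one_iff n).2 hn, map_one]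

omit [Fintype K] in
/-- Sum of the values at `t` of the linear characters trivial on `N` (abelian quotient). -/
theorem sum_char_trivialOn_of_abelian_quotient [Finite K] (N : Subgroup K) [N.Normal]
    (hab : ∀ x y : K, x * y * x⁻¹ * y⁻¹ ∈ N) [Fintype (K →* ℂˣ)]
    [DecidablePred (fun φ : K →* ℂˣ => ∀ y ∈ N, φ y = 1)] (u : K) [Decidable (u ∈ N)] :
    ∑ φ ∈ Finset.univ.filter (fun φ : K →* ℂˣ => ∀ y ∈ N, φ y = 1), (φ u : ℂ)
      = if u ∈ N then ((Finset.univ.filter (fun φ : K →* ℂˣ => ∀ y ∈ N, φ y = 1)).card : ℂ)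
        else 0 := by
  by_cases hu : u ∈ N
  · rw [if_pos hu]
    have : ∀ φ ∈ Finset.univ.filter (fun φ : K →* ℂˣ => ∀ y ∈ N, φ y = 1), (φ u : ℂ) = 1 := by
      intro φ hφ
      rw [Finset.mem_filter] at hφ
      rw [hφ.2 u hu]; simp
    rw [Finset.sum_congr rfl this]
    simp
  · rw [if_neg hu]
    obtain ⟨φ₀, hφ₀, hφ₀u⟩ := exists_char_trivial_ne_one_of_abelian_quotient N hab hu
    set S := ∑ φ ∈ Finset.univ.filter (fun φ : K →* ℂˣ => ∀ y ∈ N, φ y = 1), (φ u : ℂ) with hS
    have h1 : S = (φ₀ u : ℂ) * S := by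
      rw [hS, Finset.mul_sum]
      apply Finset.sum_nbij' (fun φ => φ₀⁻¹ * φ) (fun φ => φ₀ * φ)
      · intro φ hφ
        rw [Finset.mem_filter] at hφ ⊢
        refine ⟨Finset.mem_univ _, fun y hy => ?_⟩
        simp [hφ.2 y hy, hφ₀ y hy]
      · intro φ hφ
        rw [Finset.mem_filter] at hφ ⊢
        refine ⟨Finset.mem_univ _, fun y hy => ?_⟩
        simp [hφ.2 y hy, hφ₀ y hy]
      · intro φ _
        ext y; simp
      · intro φ _
        ext y; simp
      · intro φ _
        simp
    have h2 : (1 - (φ₀ u : ℂ)) * S = 0 := by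
      linear_combination h1
    rcases mul_eq_zero.1 h2 with h | h
    · exfalso
      apply hφ₀u
      have : (φ₀ u : ℂ) = 1 := by linear_combination -h
      exact Units.ext (by simpa using this)
    · exact h

/-- If `K/N` is abelian and the restrictions to `N` of two irreducible characters of `K` are not
orthogonal, the characters differ by a linear character trivial on `N`. -/
theorem exists_twist_eq (N : Subgroup K) [N.Normal] [Fintype N]
    (hab : ∀ x y : K, x * y * x⁻¹ * y⁻¹ ∈ N) {μ ν : K → ℂ}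
    (hμ : Cfsg.IsIrrCharacter K μ) (hν : Cfsg.IsIrrCharacter K ν)
    (h : Cfsg.classInner (fun n : N => μ n) (fun n : N => ν n) ≠ 0) :
    ∃ lam : K →* ℂˣ, (∀ n ∈ N, lam n = 1) ∧ ν = fun k => (lam k : ℂ) * μ k := by
  classical
  have : Fintype (K →* ℂˣ) := Fintype.ofFinite _
  set Λ := Finset.univ.filter (fun φ : K →* ℂˣ => ∀ y ∈ N, φ y = 1) with hΛ
  by_contra hno
  have hzero : ∀ lam ∈ Λ, Cfsg.classInner (fun k => (lam k : ℂ) * μ k) ν = 0 := by
    intro lam hlam
    by_contra hne
    apply hno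
    exact ⟨lam, (Finset.mem_filter.1 hlam).2,
      (eq_of_irr_of_classInner_ne_zero (isIrrCharacter_twist lam hμ) hν hne).symm⟩
  have hsum : ∑ lam ∈ Λ, Cfsg.classInner (fun k => (lam k : ℂ) * μ k) ν = 0 :=
    Finset.sum_eq_zero hzero
  have hone : (1 : K →* ℂˣ) ∈ Λ := by
    rw [hΛ, Finset.mem_filter]
    exact ⟨Finset.mem_univ _, fun y _ => rfl⟩
  have hcard : (Λ.card : ℂ) ≠ 0 := by
    have : Λ.card ≠ 0 := Finset.card_ne_zero.2 ⟨1, hone⟩
    exact_mod_cast this
  apply h
  have hexp : ∑ lam ∈ Λ, Cfsg.classInner (fun k => (lam k : ℂ) * μ k) ν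
      = (Nat.card K : ℂ)⁻¹ * ((Λ.card : ℂ) * ∑ n : N, μ n * conj (ν n)) := by
    simp only [classInner_def]
    rw [← Finset.mul_sum, Finset.sum_comm]
    congr 1
    have h1 : ∀ k : K, ∑ lam ∈ Λ, (lam k : ℂ) * μ k * conj (ν k)
        = (if k ∈ N then (Λ.card : ℂ) else 0) * (μ k * conj (ν k)) := by
      intro k
      rw [← sum_char_trivialOn_of_abelian_quotient N hab k, Finset.sum_mul]
      apply Finset.sum_congr rfl
      intro lam _
      ring
    simp only [h1]
    rw [Finset.mul_sum]
    have h2 : ∑ k : K, (if k ∈ N then (Λ.card : ℂ) else 0) * (μ k * conj (ν k))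
        = ∑ k ∈ Finset.univ.filter (fun k : K => k ∈ N), (Λ.card : ℂ) * (μ k * conj (ν k)) := by
      rw [Finset.sum_filter]
      apply Finset.sum_congr rfl
      intro k _
      by_cases hk : k ∈ N
      · rw [if_pos hk, if_pos hk]
      · rw [if_neg hk, if_neg hk, zero_mul]
    rw [h2]
    exact Finset.sum_subtype (Finset.univ.filter (fun k : K => k ∈ N)) (fun x => by simp)
      (fun k => (Λ.card : ℂ) * (μ k * conj (ν k)))
  rw [hexp] at hsum
  have hK : (Nat.card K : ℂ)⁻¹ ≠ 0 := inv_ne_zero card_ne_zero_complex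
  have h3 : ∑ n : N, μ n * conj (ν n) = 0 := by
    rcases mul_eq_zero.1 hsum with h | h
    · exact absurd h hK
    · rcases mul_eq_zero.1 h with h | h
      · exact absurd h hcard
      · exact h
  rw [classInner_def, h3, mul_zero]

end Twist

end Cfsg.Agent.Lib.Helper11
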