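import Cfsg.Agent.Lib.Helper11.LinChar

/-!
Linear characters of an internal direct product `W₁ ⊔ W₂` (`W₁ ⊓ W₂ = ⊥`, commuting elementwise):
the equivalence `(W₁ →* ℂˣ) × (W₂ →* ℂˣ) ≃ (↥(W₁ ⊔ W₂) →* ℂˣ)` and cardinalities.
-/

set_option autoImplicit false

namespace Cfsg.Agent.Lib.Helper11

section Prod

variable {G : Type*} [Group G] (W₁ W₂ : Subgroup G)

theorem commute_subtype (hcomm : ∀ a ∈ W₁, ∀ b ∈ W₂, a * b = b * a) (a : W₁) (b : W₂) :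
    Commute (W₁.subtype a) (W₂.subtype b) := by
  show (a : G) * (b : G) = (b : G) * (a : G)
  exact hcomm a a.2 b b.2

/-- The product map `W₁ × W₂ → W₁ ⊔ W₂`. -/
def prodToSup (hcomm : ∀ a ∈ W₁, ∀ b ∈ W₂, a * b = b * a) : W₁ × W₂ →* ↥(W₁ ⊔ W₂) :=
  (MonoidHom.noncommCoprod W₁.subtype W₂.subtype (commute_subtype W₁ W₂ hcomm)).codRestrict
    (W₁ ⊔ W₂) (fun p => mul_mem (Subgroup.mem_sup_left p.1.2) (Subgroup.mem_sup_right p.2.2))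

theorem prodToSup_coe (hcomm : ∀ a ∈ W₁, ∀ b ∈ W₂, a * b = b * a) (p : W₁ × W₂) :
    ((prodToSup W₁ W₂ hcomm p : ↥(W₁ ⊔ W₂)) : G) = (p.1 : G) * (p.2 : G) := rfl

theorem prodToSup_bijective (hdisj : W₁ ⊓ W₂ = ⊥) (hcomm : ∀ a ∈ W₁, ∀ b ∈ W₂, a * b = b * a) :
    Function.Bijective (prodToSup W₁ W₂ hcomm) := by
  constructor
  · rw [injective_iff_map_eq_one]
    rintro ⟨a, b⟩ h
    have h' : (a : G) * (b : G) = 1 := by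
      have := congrArg (fun w : ↥(W₁ ⊔ W₂) => (w : G)) h
      simpa [prodToSup_coe] using this
    have ha : (a : G) ∈ W₁ ⊓ W₂ := by
      refine ⟨a.2, ?_⟩
      have : (a : G) = (b : G)⁻¹ := eq_inv_of_mul_eq_one_left h'
      rw [this]
      exact W₂.inv_mem b.2
    rw [hdisj, Subgroup.mem_bot] at ha
    have hb : (b : G) = 1 := by rw [ha, one_mul] at h'; exact h'
    ext
    · exact ha
    · exact hb
  · intro w
    have hrange : (MonoidHom.noncommCoprod W₁.subtype W₂.subtype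
        (commute_subtype W₁ W₂ hcomm)).range = W₁ ⊔ W₂ := by
      rw [MonoidHom.noncommCoprod_range, Subgroup.range_subtype, Subgroup.range_subtype]
    have hw : (w : G) ∈ (MonoidHom.noncommCoprod W₁.subtype W₂.subtype
        (commute_subtype W₁ W₂ hcomm)).range := by rw [hrange]; exact w.2
    obtain ⟨p, hp⟩ := hw
    exact ⟨p, Subtype.ext hp⟩

/-- The isomorphism `W₁ × W₂ ≃* W₁ ⊔ W₂`. -/
noncomputable def prodEquivSup (hdisj : W₁ ⊓ W₂ = ⊥)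
    (hcomm : ∀ a ∈ W₁, ∀ b ∈ W₂, a * b = b * a) : W₁ × W₂ ≃* ↥(W₁ ⊔ W₂) :=
  MulEquiv.ofBijective (prodToSup W₁ W₂ hcomm) (prodToSup_bijective W₁ W₂ hdisj hcomm)

theorem prodEquivSup_coe (hdisj : W₁ ⊓ W₂ = ⊥) (hcomm : ∀ a ∈ W₁, ∀ b ∈ W₂, a * b = b * a)
    (p : W₁ × W₂) :
    ((prodEquivSup W₁ W₂ hdisj hcomm p : ↥(W₁ ⊔ W₂)) : G) = (p.1 : G) * (p.2 : G) := rfl

theorem prodEquivSup_symm_of_mem_left (hdisj : W₁ ⊓ W₂ = ⊥)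
    (hcomm : ∀ a ∈ W₁, ∀ b ∈ W₂, a * b = b * a) (w : ↥(W₁ ⊔ W₂)) (hw : (w : G) ∈ W₁) :
    (prodEquivSup W₁ W₂ hdisj hcomm).symm w = (⟨w, hw⟩, 1) := by
  rw [MulEquiv.symm_apply_eq]
  apply Subtype.ext
  rw [prodEquivSup_coe]
  simp

theorem prodEquivSup_symm_of_mem_right (hdisj : W₁ ⊓ W₂ = ⊥)
    (hcomm : ∀ a ∈ W₁, ∀ b ∈ W₂, a * b = b * a) (w : ↥(W₁ ⊔ W₂)) (hw : (w : G) ∈ W₂) :
    (prodEquivSup W₁ W₂ hdisj hcomm).symm w = (1, ⟨w, hw⟩) := by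
  rw [MulEquiv.symm_apply_eq]
  apply Subtype.ext
  rw [prodEquivSup_coe]
  simp

/-- Lift of a character of `W₁` to `W₁ ⊔ W₂`, trivial on `W₂`. -/
noncomputable def liftLeft (hdisj : W₁ ⊓ W₂ = ⊥) (hcomm : ∀ a ∈ W₁, ∀ b ∈ W₂, a * b = b * a)
    (θ : W₁ →* ℂˣ) : ↥(W₁ ⊔ W₂) →* ℂˣ :=
  (θ.comp (MonoidHom.fst W₁ W₂)).comp (prodEquivSup W₁ W₂ hdisj hcomm).symm.toMonoidHom

/-- Lift of a character of `W₂` to `W₁ ⊔ W₂`, trivial on `W₁`. -/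
noncomputable def liftRight (hdisj : W₁ ⊓ W₂ = ⊥) (hcomm : ∀ a ∈ W₁, ∀ b ∈ W₂, a * b = b * a)
    (θ : W₂ →* ℂˣ) : ↥(W₁ ⊔ W₂) →* ℂˣ :=
  (θ.comp (MonoidHom.snd W₁ W₂)).comp (prodEquivSup W₁ W₂ hdisj hcomm).symm.toMonoidHom

variable (hdisj : W₁ ⊓ W₂ = ⊥) (hcomm : ∀ a ∈ W₁, ∀ b ∈ W₂, a * b = b * a)

theorem liftLeft_of_mem_left (θ : W₁ →* ℂˣ) (w : ↥(W₁ ⊔ W₂)) (hw : (w : G) ∈ W₁) :
    liftLeft W₁ W₂ hdisj hcomm θ w = θ ⟨w, hw⟩ := by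
  simp only [liftLeft, MonoidHom.comp_apply, MulEquiv.coe_toMonoidHom]
  rw [prodEquivSup_symm_of_mem_left W₁ W₂ hdisj hcomm w hw]
  rfl

theorem liftLeft_of_mem_right (θ : W₁ →* ℂˣ) (w : ↥(W₁ ⊔ W₂)) (hw : (w : G) ∈ W₂) :
    liftLeft W₁ W₂ hdisj hcomm θ w = 1 := by
  simp only [liftLeft, MonoidHom.comp_apply, MulEquiv.coe_toMonoidHom]
  rw [prodEquivSup_symm_of_mem_right W₁ W₂ hdisj hcomm w hw]
  simp

theorem liftRight_of_mem_right (θ : W₂ →* ℂˣ) (w : ↥(W₁ ⊔ W₂)) (hw : (w : G) ∈ W₂) :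
    liftRight W₁ W₂ hdisj hcomm θ w = θ ⟨w, hw⟩ := by
  simp only [liftRight, MonoidHom.comp_apply, MulEquiv.coe_toMonoidHom]
  rw [prodEquivSup_symm_of_mem_right W₁ W₂ hdisj hcomm w hw]
  rfl

theorem liftRight_of_mem_left (θ : W₂ →* ℂˣ) (w : ↥(W₁ ⊔ W₂)) (hw : (w : G) ∈ W₁) :
    liftRight W₁ W₂ hdisj hcomm θ w = 1 := by
  simp only [liftRight, MonoidHom.comp_apply, MulEquiv.coe_toMonoidHom]
  rw [prodEquivSup_symm_of_mem_left W₁ W₂ hdisj hcomm w hw]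
  simp

/-- Restriction of a character of `W₁ ⊔ W₂` to `W₁`. -/
def resLeft (ω : ↥(W₁ ⊔ W₂) →* ℂˣ) : W₁ →* ℂˣ :=
  ω.comp (Subgroup.inclusion le_sup_left)

/-- Restriction of a character of `W₁ ⊔ W₂` to `W₂`. -/
def resRight (ω : ↥(W₁ ⊔ W₂) →* ℂˣ) : W₂ →* ℂˣ :=
  ω.comp (Subgroup.inclusion le_sup_right)

theorem resLeft_apply (ω : ↥(W₁ ⊔ W₂) →* ℂˣ) (a : W₁) :
    resLeft W₁ W₂ ω a = ω ⟨a, Subgroup.mem_sup_left a.2⟩ := rfl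

theorem resRight_apply (ω : ↥(W₁ ⊔ W₂) →* ℂˣ) (b : W₂) :
    resRight W₁ W₂ ω b = ω ⟨b, Subgroup.mem_sup_right b.2⟩ := rfl

theorem liftLeft_mul_liftRight_res (ω : ↥(W₁ ⊔ W₂) →* ℂˣ) :
    liftLeft W₁ W₂ hdisj hcomm (resLeft W₁ W₂ ω) * liftRight W₁ W₂ hdisj hcomm (resRight W₁ W₂ ω)
      = ω := by
  apply hom_eq_of_eqOn
  · intro w hw
    rw [MonoidHom.mul_apply, liftLeft_of_mem_left W₁ W₂ hdisj hcomm _ w hw,
      liftRight_of_mem_left W₁ W₂ hdisj hcomm _ w hw, mul_one, resLeft_apply]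
  · intro w hw
    rw [MonoidHom.mul_apply, liftLeft_of_mem_right W₁ W₂ hdisj hcomm _ w hw,
      liftRight_of_mem_right W₁ W₂ hdisj hcomm _ w hw, one_mul, resRight_apply]

theorem resLeft_liftLeft_mul_liftRight (θ₁ : W₁ →* ℂˣ) (θ₂ : W₂ →* ℂˣ) :
    resLeft W₁ W₂ (liftLeft W₁ W₂ hdisj hcomm θ₁ * liftRight W₁ W₂ hdisj hcomm θ₂) = θ₁ := by
  ext a
  rw [resLeft_apply, MonoidHom.mul_apply,
    liftLeft_of_mem_left W₁ W₂ hdisj hcomm θ₁ ⟨a, Subgroup.mem_sup_left a.2⟩ a.2,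
    liftRight_of_mem_left W₁ W₂ hdisj hcomm θ₂ ⟨a, Subgroup.mem_sup_left a.2⟩ a.2, mul_one]

theorem resRight_liftLeft_mul_liftRight (θ₁ : W₁ →* ℂˣ) (θ₂ : W₂ →* ℂˣ) :
    resRight W₁ W₂ (liftLeft W₁ W₂ hdisj hcomm θ₁ * liftRight W₁ W₂ hdisj hcomm θ₂) = θ₂ := by
  ext b
  rw [resRight_apply, MonoidHom.mul_apply,
    liftLeft_of_mem_right W₁ W₂ hdisj hcomm θ₁ ⟨b, Subgroup.mem_sup_right b.2⟩ b.2,
    liftRight_of_mem_right W₁ W₂ hdisj hcomm θ₂ ⟨b, Subgroup.mem_sup_right b.2⟩ b.2, one_mul]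

/-- Linear characters of `W₁ ⊔ W₂` correspond to pairs of linear characters of `W₁`, `W₂`. -/
noncomputable def linCharProdEquiv :
    (W₁ →* ℂˣ) × (W₂ →* ℂˣ) ≃ (↥(W₁ ⊔ W₂) →* ℂˣ) where
  toFun p := liftLeft W₁ W₂ hdisj hcomm p.1 * liftRight W₁ W₂ hdisj hcomm p.2
  invFun ω := (resLeft W₁ W₂ ω, resRight W₁ W₂ ω)
  left_inv p := by
    ext1
    · exact resLeft_liftLeft_mul_liftRight W₁ W₂ hdisj hcomm p.1 p.2
    · exact resRight_liftLeft_mul_liftRight W₁ W₂ hdisj hcomm p.1 p.2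
  right_inv ω := liftLeft_mul_liftRight_res W₁ W₂ hdisj hcomm ω

end Prod

section Card

/-- A finite group with commuting elements has as many linear characters as elements. -/
theorem card_linChar_of_comm {H : Type*} [Group H] [Finite H] (hc : ∀ a b : H, a * b = b * a) :
    Nat.card (H →* ℂˣ) = Nat.card H := by
  let _ : CommGroup H := { ‹Group H› with mul_comm := hc }
  exact CommGroup.card_monoidHom_of_hasEnoughRootsOfUnity H ℂ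

end Card

end Cfsg.Agent.Lib.Helper11
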