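import Cfsg.Agent.Lib.Helper11.IndIrr
import Cfsg.Agent.Lib.Helper11.Clifford3
import Cfsg.Agent.Lib.Helper11.CentralChar
import Cfsg.Agent.Lib.Helper11.LinCharProd

/-!
Brauer–Leonard set-up, part 1: a finite group `L` with a normal subgroup `K`, a subgroup `Z ≤ K`
central in `K`, a retraction `π : K →* Z` compatible with conjugation by `L`, such that elements of
`L` outside `K` centralise no nonidentity element of `Z`.  Central characters, conjugates and twists
of irreducible characters of `K`.
-/

set_option autoImplicit false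

namespace Cfsg.Agent.Lib.Helper11

open Cfsg
open Cfsg.Agent.Lib.Helper2
open scoped ComplexConjugate

/-- A central element acts on an irreducible character through a scalar. -/
theorem IsIrrCharacter.central_mul {K' : Type*} [Group K'] [Finite K'] {θ : K' → ℂ}
    (hθ : IsIrrCharacter K' θ) (z : K') (hz : ∀ k : K', z * k = k * z) (k : K') :
    θ (z * k) * θ 1 = θ z * θ k := by
  obtain ⟨n, ρ, hirr, rfl⟩ := hθ
  have hcomm : ∀ c : K', ρ z ∘ₗ ρ c = ρ c ∘ₗ ρ z := by
    intro c
    have h3 : ρ z * ρ c = ρ c * ρ z := by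
      rw [← map_mul, ← map_mul, hz c]
    exact h3
  let T : Representation.IntertwiningMap ρ ρ := ⟨ρ z, fun c => hcomm c⟩
  obtain ⟨a, ha⟩ :=
    (Representation.IsIrreducible.algebraMap_intertwiningMap_bijective_of_isAlgClosed
      (ρ := ρ)).2 T
  have hT : ρ z = a • LinearMap.id := by
    have := congrArg Representation.IntertwiningMap.toLinearMap ha
    rw [Algebra.algebraMap_eq_smul_one] at this
    exact this.symm
  have hzk : ρ (z * k) = a • ρ k := by
    rw [map_mul, hT]
    ext v
    simp
  have h1 : ρ.character (z * k) = a * ρ.character k := by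
    simp only [Representation.character, hzk, map_smul, smul_eq_mul]
  have h2 : ρ.character z = a * ρ.character 1 := by
    have := h1
    have hz1 : ρ.character (z * 1) = a * ρ.character 1 := by
      simp only [Representation.character, map_mul, hT, map_one]
      rw [mul_one, map_smul, smul_eq_mul]
      rfl
    rw [mul_one] at hz1
    exact hz1
  rw [h1, h2]
  ring

/-- The data of the Brauer–Leonard set-up inside the group `L`. -/
structure BLData {L : Type*} [Group L] (K Z : Subgroup L) (π : K →* Z) : Prop where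
  hZK : Z ≤ K
  central : ∀ z ∈ Z, ∀ k ∈ K, z * k = k * z
  retract : ∀ (z : L) (hz : z ∈ Z), π ⟨z, hZK hz⟩ = ⟨z, hz⟩
  equivar : ∀ (n : L) (k : K) (h : n * k * n⁻¹ ∈ K),
    ((π ⟨n * k * n⁻¹, h⟩ : Z) : L) = n * (π k : L) * n⁻¹
  free : ∀ n : L, ∀ z ∈ Z, z ≠ 1 → n * z = z * n → n ∈ K

end Cfsg.Agent.Lib.Helper11
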