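import Cfsg.Agent.Lib.Helper11.BLFamily
import Cfsg.Agent.Lib.Helper11.GenChar

/-!
General character lemmas for the Brauer–Leonard argument: degrees and multiplicities, inner products
with functions supported on a subgroup.
-/

set_option autoImplicit false

namespace Cfsg.Agent.Lib.Helper11

open Cfsg
open Cfsg.Agent.Lib.Helper2
open scoped ComplexConjugate

section Degree

variable {K : Type*} [Group K] [Fintype K]

/-- The degree of a character as the sum of multiplicities times degrees. -/
theorem IsCharacter.sum_inner_mul_degree [Fintype (IrrCharacter K)] {ψ : K → ℂ}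
    (hψ : IsCharacter K ψ) :
    ∃ (a d : IrrCharacter K → ℕ), (∀ θ : IrrCharacter K, classInner ψ (θ : K → ℂ) = (a θ : ℂ)) ∧
      (∀ θ : IrrCharacter K, (θ : K → ℂ) 1 = (d θ : ℂ) ∧ 0 < d θ) ∧
      ψ 1 = ((∑ θ : IrrCharacter K, a θ * d θ : ℕ) : ℂ) := by
  classical
  have ha : ∀ θ : IrrCharacter K, ∃ n : ℕ, classInner ψ (θ : K → ℂ) = (n : ℂ) :=
    fun θ => IsCharacter.inner_irr_nat hψ θ
  have hd : ∀ θ : IrrCharacter K, ∃ n : ℕ, 0 < n ∧ (θ : K → ℂ) 1 = (n : ℂ) :=
    fun θ => IsIrrCharacter.apply_one θ.2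
  choose a ha using ha
  choose d hd using hd
  refine ⟨a, d, ha, fun θ => ⟨(hd θ).2, (hd θ).1⟩, ?_⟩
  have hexp := classFunction_expansion ψ (IsCharacter.isClassFunction hψ)
  have h1 := congrFun hexp 1
  rw [Finset.sum_apply] at h1
  rw [h1]
  push_cast
  apply Finset.sum_congr rfl
  intro θ _
  rw [Pi.smul_apply, smul_eq_mul, ha θ, (hd θ).2]

/-- If a character contains each member of a finite injective family of irreducible characters
with multiplicity at least `c`, its degree is at least `c` times the size of the family. -/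
theorem IsCharacter.card_mul_le_degree {ψ : K → ℂ} (hψ : IsCharacter K ψ) {ι : Type*}
    (s : Finset ι) (θ : ι → K → ℂ) (hθ : ∀ i ∈ s, IsIrrCharacter K (θ i))
    (hinj : ∀ i ∈ s, ∀ j ∈ s, θ i = θ j → i = j) (c m : ℕ)
    (hc : ∀ i ∈ s, classInner ψ (θ i) = (c : ℂ)) (hm : ψ 1 = (m : ℂ)) : c * s.card ≤ m := by
  classical
  have : Fintype (IrrCharacter K) := Fintype.ofFinite _
  obtain ⟨a, d, ha, hd, hsum⟩ := IsCharacter.sum_inner_mul_degree hψ
  rw [hm] at hsum
  have hm' : m = ∑ θ : IrrCharacter K, a θ * d θ := by exact_mod_cast hsum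
  -- the image of the family
  let F : Finset (IrrCharacter K) := s.attach.image (fun i => ⟨θ i.1, hθ i.1 i.2⟩)
  have hFcard : F.card = s.card := by
    rw [Finset.card_image_of_injective, Finset.card_attach]
    intro i j hij
    apply Subtype.ext
    have := congrArg Subtype.val hij
    exact hinj i.1 i.2 j.1 j.2 this
  have hFa : ∀ μ ∈ F, c ≤ a μ * d μ := by
    intro μ hμ
    obtain ⟨i, -, rfl⟩ := Finset.mem_image.1 hμ
    have h1 := ha ⟨θ i.1, hθ i.1 i.2⟩
    simp only at h1
    rw [hc i.1 i.2] at h1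
    have h2 : c = a ⟨θ i.1, hθ i.1 i.2⟩ := by exact_mod_cast h1
    rw [← h2]
    exact Nat.le_mul_of_pos_right c (hd _).2
  calc c * s.card = ∑ _μ ∈ F, c := by rw [Finset.sum_const, smul_eq_mul, hFcard, mul_comm]
    _ ≤ ∑ μ ∈ F, a μ * d μ := Finset.sum_le_sum hFa
    _ ≤ ∑ μ : IrrCharacter K, a μ * d μ :=
        Finset.sum_le_sum_of_subset (Finset.subset_univ F)
    _ = m := hm'.symm

/-- Multiplicity times degree of a constituent is at most the degree. -/
theorem IsCharacter.mul_degree_le {ψ ξ : K → ℂ} (hψ : IsCharacter K ψ) (hξ : IsIrrCharacter K ξ)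
    (a d m : ℕ) (ha : classInner ψ ξ = (a : ℂ)) (hd : ξ 1 = (d : ℂ)) (hm : ψ 1 = (m : ℂ)) :
    a * d ≤ m := by
  classical
  have : Fintype (IrrCharacter K) := Fintype.ofFinite _
  obtain ⟨a', d', ha', hd', hsum⟩ := IsCharacter.sum_inner_mul_degree hψ
  rw [hm] at hsum
  have hm' : m = ∑ θ : IrrCharacter K, a' θ * d' θ := by exact_mod_cast hsum
  have h1 : a = a' ⟨ξ, hξ⟩ := by
    have := ha' ⟨ξ, hξ⟩
    simp only at this
    rw [ha] at this
    exact_mod_cast this
  have h2 : d = d' ⟨ξ, hξ⟩ := by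
    have := (hd' ⟨ξ, hξ⟩).1
    simp only at this
    rw [hd] at this
    exact_mod_cast this
  rw [hm', h1, h2]
  exact Finset.single_le_sum (f := fun θ => a' θ * d' θ) (fun _ _ => Nat.zero_le _)
    (Finset.mem_univ _)

end Degree

section Support

variable {L : Type*} [Group L] [Fintype L] (K : Subgroup L) [Fintype K]

/-- Inner product with a function vanishing off the subgroup `K`. -/
theorem classInner_of_vanish_off (φ ψ : L → ℂ) (hψ : ∀ l : L, l ∉ K → ψ l = 0) :
    classInner φ ψ = (Nat.card K : ℂ) / (Nat.card L : ℂ) *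
      classInner (fun k : K => φ k) (fun k : K => ψ k) := by
  classical
  rw [classInner_def, classInner_def]
  have hK : (Nat.card K : ℂ) ≠ 0 := card_subgroup_ne_zero K
  have hL : (Nat.card L : ℂ) ≠ 0 := card_ne_zero_complex
  have h1 : ∑ l : L, φ l * conj (ψ l) = ∑ k : K, φ k * conj (ψ k) := by
    have hext : ∀ l : L, φ l * conj (ψ l)
        = extendByZero K (fun k : K => φ k * conj (ψ k)) l := by
      intro l
      by_cases hl : l ∈ K
      · rw [extendByZero_of_mem K _ hl]
      · rw [extendByZero_of_not_mem K _ hl, hψ l hl, map_zero, mul_zero]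
    rw [Finset.sum_congr rfl (fun l _ => hext l)]
    exact sum_extendByZero K _
  rw [h1]
  field_simp

end Support

end Cfsg.Agent.Lib.Helper11
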