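import Cfsg.Agent.Lib.Helper11.Coherence

/-!
Extending a linear isometry (in the sense of `Cfsg.IsLinearIsometryOn`) from the integer span of a
set `S₀` to the integer span of `insert χ S₀`, for `χ` orthogonal to `S₀`.
-/

set_option autoImplicit false

namespace Cfsg.Agent.Lib.Helper11

open Cfsg
open Cfsg.Agent.Lib.Helper2
open scoped ComplexConjugate

section Extend

variable {L : Type*} [Group L] [Fintype L] {G : Type*} [Group G] [Fintype G]

omit [Fintype G] in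
theorem isLinIso_map_zero {E : Set (L → ℂ)} {τ₀ : (L → ℂ) → (G → ℂ)} [Fintype G]
    (h₀ : IsLinearIsometryOn E τ₀) (h0 : (0 : L → ℂ) ∈ E) : τ₀ 0 = 0 := by
  have := h₀.2.1 0 h0 0
  simpa using this

/-- Orthogonality to `χ` propagates from `S₀` to its integer span. -/
theorem classInner_eq_zero_of_mem_zspan {S₀ : Set (L → ℂ)} {χ : L → ℂ}
    (horth : ∀ φ ∈ S₀, classInner φ χ = 0) {β : L → ℂ} (hβ : β ∈ zspan S₀) :
    classInner β χ = 0 := by
  induction hβ using Submodule.span_induction with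
  | mem x hx => exact horth x hx
  | zero => exact classInner_zero_left χ
  | add x y _ _ hx hy => rw [classInner_add_left, hx, hy, add_zero]
  | smul a x _ hx =>
    have e1 : (a • x : L → ℂ) = (a : ℂ) • x := by ext z; simp
    rw [e1, classInner_smul_left, hx, mul_zero]

/-- Orthogonality of the images to `X` propagates from `S₀` to its integer span. -/
theorem classInner_map_eq_zero_of_mem_zspan {S₀ : Set (L → ℂ)} {τ₀ : (L → ℂ) → (G → ℂ)}
    (h₀ : IsLinearIsometryOn (zspan S₀) τ₀) {X : G → ℂ}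
    (hXorth : ∀ φ ∈ S₀, classInner (τ₀ φ) X = 0) {β : L → ℂ} (hβ : β ∈ zspan S₀) :
    classInner (τ₀ β) X = 0 := by
  have key : ∀ β ∈ Submodule.span ℤ S₀, classInner (τ₀ β) X = 0 := by
    intro β hβ
    induction hβ using Submodule.span_induction with
    | mem x hx => exact hXorth x hx
    | zero =>
      rw [isLinIso_map_zero h₀ (Submodule.zero_mem _)]
      exact classInner_zero_left X
    | add x y hx' hy' hx hy =>
      rw [h₀.1 x hx' y hy', classInner_add_left, hx, hy, add_zero]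
    | smul a x hx' hx =>
      have e2 : (a • τ₀ x : G → ℂ) = (a : ℂ) • τ₀ x := by ext z; simp
      rw [h₀.2.1 x hx' a, e2, classInner_smul_left, hx, mul_zero]
  exact key β hβ

theorem isometry_extend_one (S₀ : Set (L → ℂ)) (τ₀ : (L → ℂ) → (G → ℂ))
    (h₀ : IsLinearIsometryOn (zspan S₀) τ₀) (χ : L → ℂ) (n : ℕ) (hn : classInner χ χ = (n : ℂ))
    (hn0 : n ≠ 0) (horth : ∀ φ ∈ S₀, classInner φ χ = 0) (X : G → ℂ)
    (hXgen : IsGeneralizedCharacter G X) (hXX : classInner X X = (n : ℂ))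
    (hXorth : ∀ φ ∈ S₀, classInner (τ₀ φ) X = 0) :
    ∃ τ' : (L → ℂ) → (G → ℂ), IsLinearIsometryOn (zspan (insert χ S₀)) τ' ∧
      (∀ f ∈ zspan S₀, τ' f = τ₀ f) ∧ τ' χ = X := by
  classical
  have hnC : (n : ℂ) ≠ 0 := by exact_mod_cast hn0
  set c : (L → ℂ) → ℂ := fun f => classInner f χ / (n : ℂ) with hc
  set τ' : (L → ℂ) → (G → ℂ) := fun f => τ₀ (f - c f • χ) + c f • X with hτ'
  have hτ₀0 : τ₀ 0 = 0 := isLinIso_map_zero h₀ (Submodule.zero_mem _)
  -- decomposition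
  have hdec : ∀ f ∈ zspan (insert χ S₀), ∃ β ∈ zspan S₀, ∃ p : ℤ, f = β + (p : ℂ) • χ := by
    intro f hf
    obtain ⟨a, z, hz, rfl⟩ := Submodule.mem_span_insert.1 hf
    refine ⟨z, hz, a, ?_⟩
    have : (a • χ : L → ℂ) = (a : ℂ) • χ := by ext w; simp
    rw [this, add_comm]
  have hcdec : ∀ β ∈ zspan S₀, ∀ p : ℤ, c (β + (p : ℂ) • χ) = (p : ℂ) := by
    intro β hβ p
    simp only [hc]
    rw [classInner_add_left, classInner_eq_zero_of_mem_zspan horth hβ, zero_add,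
      classInner_smul_left, hn, mul_div_assoc, div_self hnC, mul_one]
  have hτ'dec : ∀ β ∈ zspan S₀, ∀ p : ℤ, τ' (β + (p : ℂ) • χ) = τ₀ β + (p : ℂ) • X := by
    intro β hβ p
    simp only [hτ']
    rw [hcdec β hβ p, add_sub_cancel_right]
  have hinner : ∀ β₁ ∈ zspan S₀, ∀ β₂ ∈ zspan S₀, ∀ p₁ p₂ : ℤ,
      classInner (τ₀ β₁ + (p₁ : ℂ) • X) (τ₀ β₂ + (p₂ : ℂ) • X)
        = classInner (β₁ + (p₁ : ℂ) • χ) (β₂ + (p₂ : ℂ) • χ) := by
    intro β₁ h₁ β₂ h₂ p₁ p₂
    have e1 : classInner (τ₀ β₁) X = 0 := classInner_map_eq_zero_of_mem_zspan h₀ hXorth h₁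
    have e2 : classInner X (τ₀ β₂) = 0 := by
      rw [← classInner_conj_symm, classInner_map_eq_zero_of_mem_zspan h₀ hXorth h₂, map_zero]
    have e3 : classInner β₁ χ = 0 := classInner_eq_zero_of_mem_zspan horth h₁
    have e4 : classInner χ β₂ = 0 := by
      rw [← classInner_conj_symm, classInner_eq_zero_of_mem_zspan horth h₂, map_zero]
    rw [classInner_add_left, classInner_add_right, classInner_add_right, classInner_add_left,
      classInner_add_right, classInner_add_right]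
    simp only [classInner_smul_left, classInner_smul_right]
    rw [e1, e2, e3, e4, hXX, hn, h₀.2.2.1 β₁ h₁ β₂ h₂]
  refine ⟨τ', ⟨?_, ?_, ?_, ?_⟩, ?_, ?_⟩
  · intro f hf g hg
    obtain ⟨β₁, h₁, p₁, rfl⟩ := hdec f hf
    obtain ⟨β₂, h₂, p₂, rfl⟩ := hdec g hg
    have : β₁ + (p₁ : ℂ) • χ + (β₂ + (p₂ : ℂ) • χ) = (β₁ + β₂) + ((p₁ + p₂ : ℤ) : ℂ) • χ := by
      push_cast
      rw [add_smul]; abel
    rw [this, hτ'dec _ (Submodule.add_mem _ h₁ h₂), hτ'dec _ h₁, hτ'dec _ h₂, h₀.1 β₁ h₁ β₂ h₂]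
    push_cast
    rw [add_smul]; abel
  · intro f hf k
    obtain ⟨β, hβ, p, rfl⟩ := hdec f hf
    have : k • (β + (p : ℂ) • χ) = (k • β) + ((k * p : ℤ) : ℂ) • χ := by
      ext w
      simp
      ring
    rw [this, hτ'dec _ (Submodule.smul_mem _ k hβ), hτ'dec _ hβ, h₀.2.1 β hβ k]
    ext w
    simp
    ring
  · intro f hf g hg
    obtain ⟨β₁, h₁, p₁, rfl⟩ := hdec f hf
    obtain ⟨β₂, h₂, p₂, rfl⟩ := hdec g hg
    rw [hτ'dec _ h₁, hτ'dec _ h₂]
    exact hinner β₁ h₁ β₂ h₂ p₁ p₂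
  · intro f hf
    obtain ⟨β, hβ, p, rfl⟩ := hdec f hf
    rw [hτ'dec _ hβ]
    exact isGenChar_add (h₀.2.2.2 β hβ) (isGenChar_intCast_smul p hXgen)
  · intro f hf
    have := hτ'dec f hf 0
    simpa using this
  · have := hτ'dec 0 (Submodule.zero_mem _) 1
    simpa [hτ₀0] using this

end Extend

end Cfsg.Agent.Lib.Helper11
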