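import Cfsg.Agent.Lib.Helper11.Coherence4

/-!
A finite orthogonal family of functions on `L` together with generalized characters of `G` having
the same Gram matrix yields a linear isometry on the integer span of the family.
-/

set_option autoImplicit false

namespace Cfsg.Agent.Lib.Helper11

open Cfsg
open Cfsg.Agent.Lib.Helper2
open scoped ComplexConjugate

section Gram

variable {L : Type*} [Group L] [Fintype L] {G : Type*} [Group G] [Fintype G]

/-- Extension of a Gram-matrix-preserving assignment on a finite orthogonal family to a linear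
isometry on its integer span.  The extension is additive and `ℤ`-homogeneous everywhere. -/
theorem exists_isometry_of_gram (S : Set (L → ℂ)) (hfin : S.Finite) (n : (L → ℂ) → ℕ)
    (hn0 : ∀ ξ ∈ S, n ξ ≠ 0) (hnorm : ∀ ξ ∈ S, classInner ξ ξ = (n ξ : ℂ))
    (horth : ∀ ξ ∈ S, ∀ ξ' ∈ S, ξ ≠ ξ' → classInner ξ ξ' = 0)
    (T : (L → ℂ) → (G → ℂ)) (hTgen : ∀ ξ ∈ S, IsGeneralizedCharacter G (T ξ))
    (hgram : ∀ ξ ∈ S, ∀ ξ' ∈ S, classInner (T ξ) (T ξ') = classInner ξ ξ') :
    ∃ ρ : (L → ℂ) → (G → ℂ), IsLinearIsometryOn (zspan S) ρ ∧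
      (∀ f g : L → ℂ, ρ (f + g) = ρ f + ρ g) ∧ (∀ (m : ℤ) (f : L → ℂ), ρ (m • f) = m • ρ f) ∧
      ∀ ξ ∈ S, ρ ξ = T ξ := by
  classical
  set Sf := hfin.toFinset with hSfdef
  have hSf : ∀ ξ, ξ ∈ Sf ↔ ξ ∈ S := fun ξ => hfin.mem_toFinset
  set ρ : (L → ℂ) → (G → ℂ) :=
    fun f => ∑ ξ ∈ Sf, (classInner f ξ / classInner ξ ξ) • T ξ with hρ
  have hadd : ∀ f g : L → ℂ, ρ (f + g) = ρ f + ρ g := by
    intro f g
    simp only [hρ]
    rw [← Finset.sum_add_distrib]
    apply Finset.sum_congr rfl
    intro ξ _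
    rw [classInner_add_left, add_div, add_smul]
  have hsmul : ∀ (m : ℤ) (f : L → ℂ), ρ (m • f) = m • ρ f := by
    intro m f
    simp only [hρ]
    rw [Finset.smul_sum]
    apply Finset.sum_congr rfl
    intro ξ _
    have : (m • f : L → ℂ) = (m : ℂ) • f := by ext x; simp
    rw [this, classInner_smul_left, mul_div_assoc, mul_smul]
    ext g; simp
  have hρS : ∀ ξ ∈ S, ρ ξ = T ξ := by
    intro ξ hξ
    simp only [hρ]
    rw [Finset.sum_eq_single ξ]
    · have : classInner ξ ξ ≠ 0 := by rw [hnorm ξ hξ]; exact_mod_cast hn0 ξ hξ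
      rw [div_self this, one_smul]
    · intro ξ' hξ' hne
      rw [horth ξ hξ ξ' ((hSf ξ').1 hξ') (fun h => hne h.symm), zero_div, zero_smul]
    · intro h; exact absurd ((hSf ξ).2 hξ) h
  have hρzero : ρ 0 = 0 := by
    have := hsmul 0 0
    simpa using this
  have hgen : ∀ f ∈ zspan S, IsGeneralizedCharacter G (ρ f) := by
    intro f hf
    induction hf using Submodule.span_induction with
    | mem x hx => rw [hρS x hx]; exact hTgen x hx
    | zero => rw [hρzero]; exact isGenChar_zero
    | add x y _ _ hx hy => rw [hadd]; exact isGenChar_add hx hy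
    | smul a x _ hx => rw [hsmul]; exact isGenChar_zsmul a hx
  have hiso1 : ∀ ξ ∈ S, ∀ g ∈ zspan S, classInner (ρ ξ) (ρ g) = classInner ξ g := by
    intro ξ hξ g hg
    induction hg using Submodule.span_induction with
    | mem x hx => rw [hρS ξ hξ, hρS x hx, hgram ξ hξ x hx]
    | zero => rw [hρzero, classInner_zero_right, classInner_zero_right]
    | add x y _ _ hx hy => rw [hadd, classInner_add_right, classInner_add_right, hx, hy]
    | smul a x _ hx =>
      have e1 : (a • x : L → ℂ) = (a : ℂ) • x := by ext z; simp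
      have e2 : (a • ρ x : G → ℂ) = (a : ℂ) • ρ x := by ext z; simp
      rw [hsmul, e1, e2, classInner_smul_right, classInner_smul_right, hx]
  have hiso : ∀ f ∈ zspan S, ∀ g ∈ zspan S, classInner (ρ f) (ρ g) = classInner f g := by
    intro f hf g hg
    induction hf using Submodule.span_induction with
    | mem x hx => exact hiso1 x hx g hg
    | zero => rw [hρzero, classInner_zero_left, classInner_zero_left]
    | add x y _ _ hx hy => rw [hadd, classInner_add_left, classInner_add_left, hx, hy]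
    | smul a x _ hx =>
      have e1 : (a • x : L → ℂ) = (a : ℂ) • x := by ext z; simp
      have e2 : (a • ρ x : G → ℂ) = (a : ℂ) • ρ x := by ext z; simp
      rw [hsmul, e1, e2, classInner_smul_left, classInner_smul_left, hx]
  exact ⟨ρ, ⟨fun α _ β _ => hadd α β, fun α _ m => hsmul m α, hiso, hgen⟩, hadd, hsmul, hρS⟩

/-- Two maps that are additive and `ℤ`-homogeneous on a span and agree on the generators agree on
the span. -/
theorem eq_on_zspan_of_eq_on {S : Set (L → ℂ)} {ρ σ : (L → ℂ) → (G → ℂ)}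
    (hρadd : ∀ f g : L → ℂ, ρ (f + g) = ρ f + ρ g) (hρsmul : ∀ (m : ℤ) (f : L → ℂ), ρ (m • f) = m • ρ f)
    (hσ : IsLinearIsometryOn (zspan S) σ) (h : ∀ ξ ∈ S, ρ ξ = σ ξ) :
    ∀ f ∈ zspan S, ρ f = σ f := by
  intro f hf
  have hρzero : ρ 0 = 0 := by
    have := hρsmul 0 0
    simpa using this
  have hσzero : σ 0 = 0 := by
    have := hσ.2.1 0 (Submodule.zero_mem _) 0
    simpa using this
  induction hf using Submodule.span_induction with
  | mem x hx => exact h x hx
  | zero => rw [hρzero, hσzero]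
  | add x y hx' hy' hx hy => rw [hρadd, hσ.1 x hx' y hy', hx, hy]
  | smul a x hx' hx => rw [hρsmul, hσ.2.1 x hx' a, hx]

end Gram

end Cfsg.Agent.Lib.Helper11
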