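import Cfsg.Agent.Lib.Helper11.SignedFamily
import Cfsg.Agent.Lib.Helper11.IsoGram
import Cfsg.Agent.Lib.Helper11.IsoExtend
import Cfsg.Agent.Lib.Helper11.FrobTI

/-!
* A finite set of at least two irreducible characters of the same degree is coherent, for any
  linear isometry on the integer combinations vanishing at `1` whose values vanish at `1`.
* A Frobenius kernel of even index is abelian.
-/

set_option autoImplicit false

namespace Cfsg.Agent.Lib.Helper11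

open Cfsg
open Cfsg.Agent.Lib.Helper2
open scoped ComplexConjugate

section EqualDegree

variable {L : Type*} [Group L] [Fintype L] {G : Type*} [Group G] [Fintype G]

omit [Fintype L] in
/-- Elements of `zspanOn S {1}ᶜ` are integer combinations of the differences `ξ - χ₁`, when all
members of `S` take the same nonzero value at `1`. -/
theorem zspanOn_le_span_diff (S : Set (L → ℂ)) (hdeg : ∀ φ ∈ S, ∀ ψ ∈ S, φ 1 = ψ 1)
    {χ₁ : L → ℂ} (hχ₁ : χ₁ ∈ S) (hχ1 : χ₁ 1 ≠ 0) {α : L → ℂ} (hα : α ∈ zspanOn S {1}ᶜ) :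
    α ∈ Submodule.span ℤ {δ : L → ℂ | ∃ ξ ∈ S, δ = ξ - χ₁} := by
  set D : Set (L → ℂ) := {δ : L → ℂ | ∃ ξ ∈ S, δ = ξ - χ₁} with hD
  have h1 : ∀ β ∈ Submodule.span ℤ S, ∃ m : ℤ, β - m • χ₁ ∈ Submodule.span ℤ D := by
    intro β hβ
    induction hβ using Submodule.span_induction with
    | mem x hx =>
      refine ⟨1, ?_⟩
      rw [one_smul]
      exact Submodule.subset_span ⟨x, hx, rfl⟩
    | zero => exact ⟨0, by simp⟩
    | add x y _ _ hx hy =>
      obtain ⟨m₁, h₁⟩ := hx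
      obtain ⟨m₂, h₂⟩ := hy
      refine ⟨m₁ + m₂, ?_⟩
      have : x + y - (m₁ + m₂) • χ₁ = (x - m₁ • χ₁) + (y - m₂ • χ₁) := by
        rw [add_smul]; abel
      rw [this]
      exact Submodule.add_mem _ h₁ h₂
    | smul a x _ hx =>
      obtain ⟨m, h⟩ := hx
      refine ⟨a * m, ?_⟩
      have : a • x - (a * m) • χ₁ = a • (x - m • χ₁) := by
        rw [smul_sub, mul_smul]
      rw [this]
      exact Submodule.smul_mem _ a h
  have h2 : ∀ β ∈ Submodule.span ℤ D, β 1 = 0 := by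
    intro β hβ
    induction hβ using Submodule.span_induction with
    | mem x hx =>
      obtain ⟨ξ, hξ, rfl⟩ := hx
      rw [Pi.sub_apply, hdeg ξ hξ χ₁ hχ₁, sub_self]
    | zero => rfl
    | add x y _ _ hx hy => rw [Pi.add_apply, hx, hy, add_zero]
    | smul a x _ hx => rw [Pi.smul_apply, hx, smul_zero]
  obtain ⟨m, hm⟩ := h1 α hα.1
  have h3 := h2 _ hm
  have hα1 : α 1 = 0 := hα.2 1 (by simp)
  rw [Pi.sub_apply, hα1, zero_sub, Pi.smul_apply, neg_eq_zero] at h3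
  have hm0 : m = 0 := by
    have : (m : ℂ) * χ₁ 1 = 0 := by simpa using h3
    rcases mul_eq_zero.1 this with h | h
    · exact_mod_cast h
    · exact absurd h hχ1
  rw [hm0, zero_smul, sub_zero] at hm
  exact hm

set_option maxHeartbeats 1000000 in
/-- A finite set of at least two irreducible characters of the same degree is coherent. -/
theorem coherent_of_equal_degree (S : Set (L → ℂ)) (hfin : S.Finite)
    (hirr : ∀ χ ∈ S, IsIrrCharacter L χ) (hdeg : ∀ φ ∈ S, ∀ ψ ∈ S, φ 1 = ψ 1)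
    (h2 : ∃ χ ∈ S, ∃ ψ ∈ S, χ ≠ ψ) (τ : (L → ℂ) → (G → ℂ))
    (hτ : IsLinearIsometryOn (zspanOn S {1}ᶜ) τ) (hτ1 : ∀ α ∈ zspanOn S {1}ᶜ, τ α 1 = 0) :
    IsCoherent S {1}ᶜ τ := by
  classical
  obtain ⟨χ₁, hχ₁, χ₂, hχ₂, h12⟩ := h2
  have hmem : ∀ ξ ∈ S, ∀ ξ' ∈ S, ξ - ξ' ∈ zspanOn S {1}ᶜ := by
    intro ξ hξ ξ' hξ'
    refine ⟨Submodule.sub_mem _ (Submodule.subset_span hξ) (Submodule.subset_span hξ'), ?_⟩
    intro x hx
    have hx1 : x = 1 := by simpa using hx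
    rw [hx1, Pi.sub_apply, hdeg ξ hξ ξ' hξ', sub_self]
  have hinnerS : ∀ ξ ∈ S, ∀ ξ' ∈ S, classInner ξ ξ' = if ξ = ξ' then 1 else 0 :=
    fun ξ hξ ξ' hξ' => classInner_irr_eq_ite (hirr ξ hξ) (hirr ξ' hξ')
  have hinner4 : ∀ a ∈ S, ∀ b ∈ S, ∀ c ∈ S, ∀ d ∈ S, classInner (τ (a - b)) (τ (c - d))
      = (if a = c then 1 else 0) - (if a = d then 1 else 0)
        - ((if b = c then 1 else 0) - (if b = d then 1 else 0)) := by
    intro a ha b hb c hc d hd
    rw [hτ.2.2.1 _ (hmem a ha b hb) _ (hmem c hc d hd), classInner_sub_left,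
      classInner_sub_right, classInner_sub_right, hinnerS a ha c hc, hinnerS a ha d hd,
      hinnerS b hb c hc, hinnerS b hb d hd]
  -- the family of differences
  obtain ⟨β, hβdef⟩ : ∃ β : S → S → (G → ℂ),
      β = fun (i j : S) => τ ((i : L → ℂ) - (j : L → ℂ)) := ⟨_, rfl⟩
  have hβ' : ∀ i j : S, β i j = τ ((i : L → ℂ) - (j : L → ℂ)) := by
    intro i j
    rw [hβdef]
  have hadd : ∀ i j k : S, β i j + β j k = β i k := by
    intro i j k
    rw [hβ', hβ', hβ', ← hτ.1 _ (hmem i.1 i.2 j.1 j.2) _ (hmem j.1 j.2 k.1 k.2),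
      sub_add_sub_cancel]
  have hirrβ : ∀ i j : S, i ≠ j → ∃ a b : G → ℂ, IsIrrCharacter G a ∧ IsIrrCharacter G b ∧
      a ≠ b ∧ β i j = a - b := by
    intro i j hij
    have hne : (i : L → ℂ) ≠ j := fun h => hij (Subtype.ext h)
    have hnorm : classInner (β i j) (β i j) = 2 := by
      rw [hβ', hinner4 i.1 i.2 j.1 j.2 i.1 i.2 j.1 j.2, if_pos rfl, if_pos rfl, if_neg hne,
        if_neg (Ne.symm hne)]
      norm_num
    have hgen : IsGeneralizedCharacter G (β i j) := by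
      rw [hβ']
      exact hτ.2.2.2 _ (hmem i.1 i.2 j.1 j.2)
    have hone : β i j 1 = 0 := by
      rw [hβ']
      exact hτ1 _ (hmem i.1 i.2 j.1 j.2)
    obtain ⟨μ₁, μ₂, hμ, heq⟩ := IsGeneralizedCharacter.eq_sub_of_norm_two hgen hnorm hone
    exact ⟨μ₁.1, μ₂.1, μ₁.2, μ₂.2, fun h => hμ (Subtype.ext h), heq⟩
  have hinnerβ : ∀ i j k : S, i ≠ j → i ≠ k → j ≠ k → classInner (β i j) (β i k) = 1 := by
    intro i j k hij hik hjk
    have h1 : (i : L → ℂ) ≠ j := fun h => hij (Subtype.ext h)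
    have h2 : (i : L → ℂ) ≠ k := fun h => hik (Subtype.ext h)
    have h3 : (j : L → ℂ) ≠ k := fun h => hjk (Subtype.ext h)
    rw [hβ', hβ', hinner4 i.1 i.2 j.1 j.2 i.1 i.2 k.1 k.2, if_pos rfl, if_neg h2,
      if_neg (Ne.symm h1), if_neg h3]
    norm_num
  have hI : ∀ i : S, ∃ j, i ≠ j := by
    intro i
    by_cases h : i = ⟨χ₁, hχ₁⟩
    · refine ⟨⟨χ₂, hχ₂⟩, ?_⟩
      rw [h]
      intro h'
      exact h12 (congrArg Subtype.val h')
    · exact ⟨⟨χ₁, hχ₁⟩, h⟩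
  obtain ⟨δ, μ, hδ, hμirr, hμinj, hβ⟩ := exists_signed_family β hadd hirrβ hinnerβ hI
  -- the images of the members of `S`
  obtain ⟨T, hTdef⟩ : ∃ T : (L → ℂ) → (G → ℂ),
      T = fun ξ => if h : ξ ∈ S then δ • μ ⟨ξ, h⟩ else 0 := ⟨_, rfl⟩
  have hT : ∀ ξ (h : ξ ∈ S), T ξ = δ • μ ⟨ξ, h⟩ := by
    intro ξ h
    rw [hTdef]
    exact dif_pos h
  have hδδ : δ * conj δ = 1 := by
    rcases hδ with rfl | rfl <;> simp
  have hTgen : ∀ ξ ∈ S, IsGeneralizedCharacter G (T ξ) := by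
    intro ξ hξ
    rw [hT ξ hξ]
    have h1 := isGenChar_of_isChar (IsIrrCharacter.isCharacter (hμirr ⟨ξ, hξ⟩))
    rcases hδ with rfl | rfl
    · rw [one_smul]
      exact h1
    · rw [neg_one_smul]
      exact isGenChar_neg h1
  have hgram : ∀ ξ ∈ S, ∀ ξ' ∈ S, classInner (T ξ) (T ξ') = classInner ξ ξ' := by
    intro ξ hξ ξ' hξ'
    rw [hT ξ hξ, hT ξ' hξ', classInner_smul_left, classInner_smul_right, ← mul_assoc, hδδ,
      one_mul, classInner_irr_eq_ite (hμirr _) (hμirr _), hinnerS ξ hξ ξ' hξ']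
    by_cases h : ξ = ξ'
    · subst h
      rw [if_pos rfl, if_pos rfl]
    · rw [if_neg h, if_neg]
      intro h'
      exact h (congrArg Subtype.val (hμinj h'))
  obtain ⟨ρ, hρiso, hρadd, hρsmul, hρS⟩ := exists_isometry_of_gram S hfin (fun _ => 1)
    (fun _ _ => one_ne_zero)
    (fun ξ hξ => by rw [hinnerS ξ hξ ξ hξ, if_pos rfl]; simp)
    (fun ξ hξ ξ' hξ' hne => by rw [hinnerS ξ hξ ξ' hξ', if_neg hne]) T hTgen hgram
  have hρzero : ρ 0 = 0 := by
    have := hρsmul 0 0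
    simpa using this
  have h0mem : (0 : L → ℂ) ∈ zspanOn S {1}ᶜ := (zspanOnSubmodule S {1}ᶜ).zero_mem
  have hτzero : τ 0 = 0 := isLinIso_map_zero hτ h0mem
  have hχ1ne : χ₁ 1 ≠ 0 := IsSignedIrr.apply_one_ne_zero (Or.inl (hirr χ₁ hχ₁))
  -- agreement with τ
  have hagree : ∀ α ∈ zspanOn S {1}ᶜ, ρ α = τ α := by
    intro α hα
    have hspan := zspanOn_le_span_diff S hdeg hχ₁ hχ1ne hα
    have key : ∀ β' ∈ Submodule.span ℤ {δ' : L → ℂ | ∃ ξ ∈ S, δ' = ξ - χ₁},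
        β' ∈ zspanOn S {1}ᶜ ∧ ρ β' = τ β' := by
      intro β' hβ'
      induction hβ' using Submodule.span_induction with
      | mem x hx =>
        obtain ⟨ξ, hξ, rfl⟩ := hx
        refine ⟨hmem ξ hξ χ₁ hχ₁, ?_⟩
        have e1 : ρ (ξ - χ₁) = ρ ξ - ρ χ₁ := by
          have := hρadd (ξ - χ₁) χ₁
          rw [sub_add_cancel] at this
          rw [this]
          abel
        have e2 := hβ ⟨ξ, hξ⟩ ⟨χ₁, hχ₁⟩
        rw [hβ'] at e2
        rw [e1, hρS ξ hξ, hρS χ₁ hχ₁, hT ξ hξ, hT χ₁ hχ₁, e2, smul_sub]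
      | zero => exact ⟨h0mem, by rw [hρzero, hτzero]⟩
      | add x y _ _ hx hy =>
        refine ⟨(zspanOnSubmodule S {1}ᶜ).add_mem hx.1 hy.1, ?_⟩
        rw [hρadd, hx.2, hy.2, hτ.1 x hx.1 y hy.1]
      | smul a x _ hx =>
        refine ⟨(zspanOnSubmodule S {1}ᶜ).smul_mem a hx.1, ?_⟩
        rw [hρsmul, hx.2, hτ.2.1 x hx.1 a]
    exact (key α hspan).2
  exact ⟨⟨χ₁ - χ₂, hmem χ₁ hχ₁ χ₂ hχ₂, sub_ne_zero.2 h12⟩, ρ, hρiso, hagree⟩

end EqualDegree

section FrobEven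

/-- A Frobenius kernel of even index is abelian. -/
theorem frob_kernel_comm_of_even {Λ : Type*} [Group Λ] [Finite Λ] (K : Subgroup Λ)
    [hK : K.Normal] (hF : ∀ k ∈ K, k ≠ 1 → ∀ x : Λ, x * k = k * x → x ∈ K)
    (heven : Even K.index) : ∀ a ∈ K, ∀ b ∈ K, a * b = b * a := by
  classical
  obtain ⟨-, W, hsup, hinf, hfpf⟩ := exists_complement_of_frob K hF
  have hcompl : Subgroup.IsComplement' K W := by
    apply Subgroup.isComplement'_of_disjoint_and_mul_eq_univ (disjoint_iff.2 hinf)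
    rw [← Subgroup.normal_mul, hsup]
    rfl
  have hWcard : Nat.card W = K.index := by
    have h1 := hcompl.card_mul_card
    have h2 := Subgroup.card_mul_index K
    have hpos : 0 < Nat.card K := Nat.card_pos
    apply Nat.eq_of_mul_eq_mul_left hpos
    rw [h1, h2]
  have h2dvd : 2 ∣ Nat.card W := by
    rw [hWcard]
    exact even_iff_two_dvd.1 heven
  haveI : Fact (Nat.Prime 2) := ⟨Nat.prime_two⟩
  obtain ⟨w, hw⟩ := exists_prime_orderOf_dvd_card' 2 h2dvd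
  have hwΛ : orderOf (w : Λ) = 2 := by rw [Subgroup.orderOf_coe, hw]
  have hw1 : (w : Λ) ≠ 1 := by
    intro h1
    rw [h1, orderOf_one] at hwΛ
    omega
  have hww : (w : Λ) * w = 1 := by
    rw [← sq, ← hwΛ]
    exact pow_orderOf_eq_one _
  obtain ⟨φ, hφdef⟩ : ∃ φ : Λ ≃* Λ, φ = MulAut.conj (w : Λ) := ⟨_, rfl⟩
  have hφapp : ∀ x : Λ, φ x = w * x * (w : Λ)⁻¹ := by
    intro x
    rw [hφdef, MulAut.conj_apply]
  have hφφ : ∀ x : Λ, φ (φ x) = x := by
    intro x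
    rw [hφapp, hφapp]
    calc (w : Λ) * (w * x * (w : Λ)⁻¹) * (w : Λ)⁻¹
        = ((w : Λ) * w) * x * ((w : Λ) * w)⁻¹ := by group
      _ = x := by rw [hww]; group
  have hφK : ∀ k ∈ K, φ k ∈ K := by
    intro k hk
    rw [hφapp]
    exact hK.conj_mem k hk w
  have hfix : ∀ k ∈ K, φ k = k → k = 1 := by
    intro k hk h
    rw [hφapp] at h
    apply hfpf w w.2 hw1 k hk
    calc (w : Λ) * k = (w : Λ) * k * (w : Λ)⁻¹ * w := by group
      _ = k * w := by rw [h]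
  -- the map `a ↦ a⁻¹ φ(a)` on `K`
  let f : K → K := fun a => ⟨(a : Λ)⁻¹ * φ a, K.mul_mem (K.inv_mem a.2) (hφK a a.2)⟩
  have hfinj : Function.Injective f := by
    intro a b hab
    have h1 : (a : Λ)⁻¹ * φ a = (b : Λ)⁻¹ * φ b := congrArg Subtype.val hab
    have h2 : φ ((b : Λ) * (a : Λ)⁻¹) = (b : Λ) * (a : Λ)⁻¹ := by
      rw [map_mul, map_inv]
      have h3 : φ b = (b : Λ) * ((a : Λ)⁻¹ * φ a) := by
        rw [h1]; group
      rw [h3]
      group
    have h4 := hfix _ (K.mul_mem b.2 (K.inv_mem a.2)) h2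
    apply Subtype.ext
    exact (mul_inv_eq_one.1 h4).symm
  have hfsurj : Function.Surjective f := Finite.surjective_of_injective hfinj
  have hinv : ∀ k ∈ K, φ k = k⁻¹ := by
    intro k hk
    obtain ⟨a, ha⟩ := hfsurj ⟨k, hk⟩
    have hka : k = (a : Λ)⁻¹ * φ a := (congrArg Subtype.val ha).symm
    rw [hka, map_mul, map_inv, hφφ, mul_inv_rev, inv_inv]
  intro a ha b hb
  have h1 : φ (a * b) = (a * b)⁻¹ := hinv _ (K.mul_mem ha hb)
  rw [map_mul, hinv a ha, hinv b hb, ← mul_inv_rev] at h1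
  exact (inv_injective h1).symm

end FrobEven

end Cfsg.Agent.Lib.Helper11
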