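import Cfsg.Agent.Lib.Helper11.BLStep1
import Cfsg.Agent.Lib.Helper11.EqualDegree

/-!
Coherence of a finite set of irreducible characters of equal degree of a subgroup `N` of `G` whose
differences vanish off a set `A` controlling its own fusion, and first consequences.
-/

set_option autoImplicit false

namespace Cfsg.Agent.Lib.Helper11

open Cfsg
open Cfsg.Agent.Lib.Helper2
open scoped ComplexConjugate

section Coh

variable {G : Type*} [Group G] [Fintype G] (N : Subgroup G) [Fintype N]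

omit [Fintype G] [Fintype N] in
theorem span_irr_props (S : Set (N → ℂ)) (hirr : ∀ ξ ∈ S, IsIrrCharacter N ξ) {α : N → ℂ}
    (hα : α ∈ Submodule.span ℤ S) : IsClassFunction N α ∧ IsGeneralizedCharacter N α := by
  induction hα using Submodule.span_induction with
  | mem x hx =>
    exact ⟨IsCharacter.isClassFunction (IsIrrCharacter.isCharacter (hirr x hx)),
      isGenChar_of_isChar (IsIrrCharacter.isCharacter (hirr x hx))⟩
  | zero => exact ⟨fun _ _ => rfl, isGenChar_zero⟩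
  | add x y _ _ hx hy =>
    exact ⟨fun g h => by rw [Pi.add_apply, Pi.add_apply, hx.1 g h, hy.1 g h],
      isGenChar_add hx.2 hy.2⟩
  | smul n x _ hx =>
    exact ⟨fun g h => by rw [Pi.smul_apply, Pi.smul_apply, hx.1 g h], isGenChar_zsmul n hx.2⟩

set_option maxHeartbeats 800000 in
/-- A finite set of at least two irreducible characters of `N` of equal degree whose differences
vanish off a fusion-controlling set is coherent. -/
theorem ti_equal_degree_coherent (A : Set G)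
    (hTI : ∀ a ∈ A, ∀ x : G, x⁻¹ * a * x ∈ A → x ∈ N)
    (S : Set (N → ℂ)) (hfin : S.Finite) (hirr : ∀ ξ ∈ S, IsIrrCharacter N ξ)
    (hdeg : ∀ φ ∈ S, ∀ ψ ∈ S, φ 1 = ψ 1) (h2 : ∃ χ ∈ S, ∃ ψ ∈ S, χ ≠ ψ)
    (hvan : ∀ ξ ∈ S, ∀ ξ' ∈ S, ∀ l : N, (l : G) ∉ A → (ξ - ξ') l = 0) :
    ∃ τ₁ : (N → ℂ) → (G → ℂ),
      (∀ ξ ∈ S, IsSignedIrr (τ₁ ξ)) ∧
      (∀ ξ ∈ S, ∀ ξ' ∈ S, classInner (τ₁ ξ) (τ₁ ξ') = if ξ = ξ' then 1 else 0) ∧
      (∀ ξ ∈ S, ∀ ξ' ∈ S, τ₁ ξ - τ₁ ξ' = indFun N (ξ - ξ')) := by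
  classical
  have h2' := h2
  obtain ⟨χ₁, hχ₁, -⟩ := h2'
  have hχ1 : χ₁ 1 ≠ 0 := IsIrrCharacter.apply_one_ne_zero (hirr χ₁ hχ₁)
  have hvanish : ∀ α ∈ zspanOn S {1}ᶜ, ∀ l : N, (l : G) ∉ A → α l = 0 := by
    intro α hα l hl
    have h1 := zspanOn_le_span_diff S hdeg hχ₁ hχ1 hα
    clear hα
    induction h1 using Submodule.span_induction with
    | mem x hx =>
      obtain ⟨ξ, hξ, rfl⟩ := hx
      exact hvan ξ hξ χ₁ hχ₁ l hl
    | zero => rfl
    | add x y _ _ hx hy => rw [Pi.add_apply, hx, hy, add_zero]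
    | smul n x _ hx => rw [Pi.smul_apply, hx, smul_zero]
  have hτ : IsLinearIsometryOn (zspanOn S {1}ᶜ) (fun α : N → ℂ => indFun N α) := by
    refine ⟨?_, ?_, ?_, ?_⟩
    · intro α _ β _
      exact indFun_add N α β
    · intro α _ n
      show indFun N (n • α) = n • indFun N α
      rw [zsmul_eq_complex_smul, zsmul_eq_complex_smul, indFun_smul]
    · intro α hα β hβ
      exact classInner_indFun_indFun_of_TI N A hTI α β (hvanish α hα)
        (span_irr_props N S hirr hβ.1).1 (hvanish β hβ)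
    · intro α hα
      exact isGenChar_indFun N (span_irr_props N S hirr hα.1).2
  have hτ1 : ∀ α ∈ zspanOn S {1}ᶜ, (fun α : N → ℂ => indFun N α) α 1 = 0 := by
    intro α hα
    show indFun N α 1 = 0
    rw [indFun_apply_one, hα.2 1 (by simp), mul_zero]
  obtain ⟨-, τ₁, hiso, hagree⟩ := coherent_of_equal_degree S hfin hirr hdeg h2 _ hτ hτ1
  have hmemS : ∀ ξ ∈ S, ξ ∈ Submodule.span ℤ S := fun ξ hξ => Submodule.subset_span hξ
  refine ⟨τ₁, ?_, ?_, ?_⟩
  · intro ξ hξ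
    apply IsGeneralizedCharacter.isSignedIrr_of_norm_one (hiso.2.2.2 ξ (hmemS ξ hξ))
    rw [hiso.2.2.1 ξ (hmemS ξ hξ) ξ (hmemS ξ hξ)]
    exact classInner_irrCharacter_self (⟨ξ, hirr ξ hξ⟩ : IrrCharacter N)
  · intro ξ hξ ξ' hξ'
    rw [hiso.2.2.1 ξ (hmemS ξ hξ) ξ' (hmemS ξ' hξ')]
    exact classInner_irr_eq_ite (hirr ξ hξ) (hirr ξ' hξ')
  · intro ξ hξ ξ' hξ'
    rw [← isLinIso_sub (Submodule.span ℤ S) hiso (hmemS ξ hξ) (hmemS ξ' hξ')]
    apply hagree
    refine ⟨Submodule.sub_mem _ (hmemS ξ hξ) (hmemS ξ' hξ'), ?_⟩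
    intro x hx
    have hx1 : x = 1 := by simpa using hx
    rw [hx1, Pi.sub_apply, hdeg ξ hξ ξ' hξ', sub_self]

end Coh

end Cfsg.Agent.Lib.Helper11
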