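import Cfsg.Agent.Lib.Helper11.BLOrth2

/-!
Brauer–Leonard set-up, part 10: counting lemmas.
-/

set_option autoImplicit false

namespace Cfsg.Agent.Lib.Helper11

open Cfsg
open Cfsg.Agent.Lib.Helper2
open scoped ComplexConjugate

section Degree

variable {K : Type*} [Group K] [Fintype K]

/-- The multiplicities of the members of an injective family of irreducible characters in a
character add up to at most its degree. -/
theorem IsCharacter.sum_inner_le_degree {ψ : K → ℂ} (hψ : IsCharacter K ψ) {ι : Type*}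
    (s : Finset ι) (θ : ι → K → ℂ) (hθ : ∀ i ∈ s, IsIrrCharacter K (θ i))
    (hinj : ∀ i ∈ s, ∀ j ∈ s, θ i = θ j → i = j) (c : ι → ℕ) (m : ℕ)
    (hc : ∀ i ∈ s, classInner ψ (θ i) = (c i : ℂ)) (hm : ψ 1 = (m : ℂ)) :
    ∑ i ∈ s, c i ≤ m := by
  classical
  have : Fintype (IrrCharacter K) := Fintype.ofFinite _
  obtain ⟨a, d, ha, hd, hsum⟩ := IsCharacter.sum_inner_mul_degree hψ
  rw [hm] at hsum
  have hm' : m = ∑ θ : IrrCharacter K, a θ * d θ := by exact_mod_cast hsum
  let f : {i // i ∈ s} → IrrCharacter K := fun i => ⟨θ i.1, hθ i.1 i.2⟩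
  have hf : Function.Injective f := by
    intro i j hij
    apply Subtype.ext
    have := congrArg Subtype.val hij
    exact hinj i.1 i.2 j.1 j.2 this
  have hci : ∀ i : {i // i ∈ s}, c i.1 ≤ a (f i) * d (f i) := by
    intro i
    have h1 := ha (f i)
    simp only [f] at h1
    rw [hc i.1 i.2] at h1
    have h2 : c i.1 = a (f i) := by exact_mod_cast h1
    rw [h2]
    exact Nat.le_mul_of_pos_right _ (hd _).2
  calc ∑ i ∈ s, c i = ∑ i : {i // i ∈ s}, c i.1 := (Finset.sum_coe_sort s c).symm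
    _ ≤ ∑ i : {i // i ∈ s}, a (f i) * d (f i) := Finset.sum_le_sum (fun i _ => hci i)
    _ = ∑ μ ∈ Finset.univ.image f, a μ * d μ := by
        rw [Finset.sum_image (fun i _ j _ h => hf h)]
    _ ≤ ∑ μ : IrrCharacter K, a μ * d μ :=
        Finset.sum_le_sum_of_subset (Finset.subset_univ _)
    _ = m := hm'.symm

end Degree

namespace BLData

variable {L : Type*} [Group L] [Fintype L] {K Z : Subgroup L} [hK : K.Normal] [Fintype K]
  {π : K →* Z}

open Classical in
/-- All but at most one twist of an irreducible character are not `Z`-trivial. -/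
theorem card_nt_ge (D : BLData K Z π) [Finite Z] [Fintype (Z →* ℂˣ)] {θ₁ : K → ℂ}
    (hθ₁ : IsIrrCharacter K θ₁) :
    Nat.card Z ≤ (Finset.univ.filter
      (fun lam : Z →* ℂˣ => ¬ ZTriv Z (twist π lam θ₁))).card + 1 := by
  have hIc : (Finset.univ.filter (fun lam : Z →* ℂˣ => ZTriv Z (twist π lam θ₁))).card ≤ 1 := by
    apply Finset.card_le_one.2
    intro a ha b hb
    exact D.ztriv_twist_unique hθ₁ (Finset.mem_filter.1 ha).2 (Finset.mem_filter.1 hb).2
  have h1 := Finset.card_filter_add_card_filter_not (s := (Finset.univ : Finset (Z →* ℂˣ)))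
    (fun lam : Z →* ℂˣ => ZTriv Z (twist π lam θ₁))
  rw [Finset.card_univ, ← Nat.card_eq_fintype_card, D.card_hom] at h1
  omega

open Classical in
/-- At most `[L : K]` twists of `θ₁` induce a given irreducible character. -/
theorem fiber_le (D : BLData K Z π) [Fintype (Z →* ℂˣ)] {θ₁ : K → ℂ}
    (hθ₁ : IsIrrCharacter K θ₁) (I : Finset (Z →* ℂˣ)) {lam₀ : Z →* ℂˣ}
    (hnt₀ : ¬ ZTriv Z (twist π lam₀ θ₁)) :
    (I.filter (fun lam => indFun K (twist π lam θ₁) = indFun K (twist π lam₀ θ₁))).card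
      ≤ K.index := by
  have : Fintype (IrrCharacter K) := Fintype.ofFinite _
  have hirr₀ : IsIrrCharacter K (twist π lam₀ θ₁) := twist_irr lam₀ hθ₁
  let θ₀ : IrrCharacter K := ⟨twist π lam₀ θ₁, hirr₀⟩
  have hcf := card_fiber_indFun K θ₀
  have hn1 : classInner (indFun K (θ₀ : K → ℂ)) (indFun K (θ₀ : K → ℂ)) = 1 :=
    classInner_irrCharacter_self (⟨_, D.irr_indFun hirr₀ hnt₀⟩ : IrrCharacter L)
  rw [hn1, mul_one] at hcf
  have hcf' : (Finset.univ.filter (fun θ' : IrrCharacter K =>
      indFun K (θ' : K → ℂ) = indFun K (θ₀ : K → ℂ))).card = K.index := by exact_mod_cast hcf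
  rw [← hcf']
  apply Finset.card_le_card_of_injOn (fun lam => ⟨twist π lam θ₁, twist_irr lam hθ₁⟩)
  · intro lam hlam
    simp only [Finset.coe_filter, Set.mem_ofPred_eq] at hlam
    simp only [Finset.coe_filter, Finset.mem_univ, true_and, Set.mem_ofPred_eq]
    exact hlam.2
  · intro lam _ lam' _ h
    have := congrArg Subtype.val h
    exact D.twist_injective hθ₁ this

end BLData

end Cfsg.Agent.Lib.Helper11
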