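import Cfsg.Agent.Lib.Helper11.BLMain
import Cfsg.Agent.Lib.Helper2.Linear

/-!
Brauer–Leonard, faithful version: a Sylow `p`-subgroup `P` with uniform centralizers is normal when
`G` has a faithful character of degree `x` with `x² + 1 < |P|`.
-/

set_option autoImplicit false

namespace Cfsg.Agent.Lib.Helper11

open Cfsg
open Cfsg.Agent.Lib.Helper2
open scoped ComplexConjugate

universe u

/-- The uniform centralizer hypothesis passes to subgroups containing `P₀`. -/
theorem UnifCent.subgroupOf {G : Type u} [Group G] {P₀ : Subgroup G} (h : UnifCent P₀)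
    (M : Subgroup G) (hPM : P₀ ≤ M) : UnifCent (P₀.subgroupOf M) := by
  intro x hx hx1
  have hx' : (x : G) ∈ P₀ := Subgroup.mem_subgroupOf.1 hx
  have hx1' : (x : G) ≠ 1 := fun h0 => hx1 (Subtype.ext h0)
  have hc := h (x : G) hx' hx1'
  ext g
  rw [Subgroup.mem_centralizer_iff, Subgroup.mem_centralizer_iff]
  have h1 : (g : G) ∈ Subgroup.centralizer ({(x : G)} : Set G) ↔
      (g : G) ∈ Subgroup.centralizer (P₀ : Set G) := by rw [hc]
  rw [Subgroup.mem_centralizer_iff, Subgroup.mem_centralizer_iff] at h1
  constructor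
  · intro hg y hy
    have hy' : (y : G) ∈ P₀ := Subgroup.mem_subgroupOf.1 hy
    have h2 : ∀ z ∈ ({(x : G)} : Set G), z * (g : G) = (g : G) * z := by
      intro z hz
      rw [Set.mem_singleton_iff] at hz
      rw [hz]
      have := hg x (Set.mem_singleton x)
      exact congrArg Subtype.val this
    apply Subtype.ext
    exact h1.1 h2 (y : G) hy'
  · intro hg y hy
    rw [Set.mem_singleton_iff] at hy
    rw [hy]
    have h2 : ∀ z ∈ (P₀ : Set G), z * (g : G) = (g : G) * z := by
      intro z hz
      have := hg ⟨z, hPM hz⟩ (Subgroup.mem_subgroupOf.2 hz)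
      exact congrArg Subtype.val this
    apply Subtype.ext
    exact h1.2 h2 (x : G) (Set.mem_singleton _)

/-- If all irreducible constituents of a faithful character are linear, the group is abelian. -/
theorem comm_of_faithful_of_linear_constituents {G : Type u} [Group G] [Fintype G] {χ : G → ℂ}
    (hχ : IsCharacter G χ) (hfaith : ∀ g : G, χ g = χ 1 → g = 1)
    (hlin : ∀ ψ : G → ℂ, IsIrrCharacter G ψ → classInner χ ψ ≠ 0 → ψ 1 = 1) :
    ∀ a b : G, a * b = b * a := by
  classical
  have : Fintype (IrrCharacter G) := Fintype.ofFinite _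
  intro a b
  have hc : a * b * a⁻¹ * b⁻¹ = 1 := by
    apply hfaith
    have hexp := classFunction_expansion χ (IsCharacter.isClassFunction hχ)
    have h1 := congrFun hexp (a * b * a⁻¹ * b⁻¹)
    have h2 := congrFun hexp 1
    rw [Finset.sum_apply] at h1 h2
    rw [h1, h2]
    apply Finset.sum_congr rfl
    intro ψ _
    rw [Pi.smul_apply, Pi.smul_apply]
    by_cases h0 : classInner χ (ψ : G → ℂ) = 0
    · rw [h0, zero_smul, zero_smul]
    · have hψ1 := hlin ψ ψ.2 h0
      obtain ⟨φ, hφ⟩ := exists_monoidHom_of_isIrrCharacter_of_apply_one ψ.2 hψ1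
      rw [hφ]
      simp only [map_mul, map_inv, map_one]
      congr 1
      have : φ a * φ b * (φ a)⁻¹ * (φ b)⁻¹ = 1 := by
        rw [mul_comm (φ a) (φ b)]
        group
      rw [this]
  calc a * b = (a * b * a⁻¹ * b⁻¹) * (b * a) := by group
    _ = b * a := by rw [hc, one_mul]

/-- The induction. -/
theorem sylow_normal_of_faithful_small_aux (n : ℕ) :
    ∀ (G : Type u) [Group G] [Finite G], Nat.card G = n → ∀ (p : ℕ) [Fact p.Prime]
      (P : Sylow p G), UnifCent (P : Subgroup G) → ∀ (χ : G → ℂ), IsCharacter G χ →
      (∀ g : G, χ g = χ 1 → g = 1) → ∀ x : ℕ, χ 1 = (x : ℂ) → x ^ 2 + 1 < Nat.card P →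
      (P : Subgroup G).Normal := by
  induction n using Nat.strong_induction_on with
  | _ n ih =>
    intro G _ _ hcard p _ P hstar χ hχ hfaith x hx hdeg
    classical
    haveI : Fintype G := Fintype.ofFinite G
    by_cases hex : ∃ M : Subgroup G, M.Normal ∧ M ≠ ⊤ ∧ (P : Subgroup G) ≤ M
    · obtain ⟨M, hM, hMtop, hPM⟩ := hex
      have hlt : Nat.card M < n := by
        rw [← hcard]
        have h1 := Subgroup.card_mul_index M
        have h2 : M.index ≠ 1 := fun h => hMtop (Subgroup.index_eq_one.1 h)
        have h3 : M.index ≠ 0 := Subgroup.index_ne_zero_of_finite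
        have h4 : 0 < Nat.card M := Nat.card_pos
        have h5 : 2 ≤ M.index := by omega
        nlinarith
      have hnorm : ((P.subtype hPM : Sylow p M) : Subgroup M).Normal := by
        apply ih (Nat.card M) hlt M rfl p (P.subtype hPM)
        · rw [Sylow.coe_subtype]
          exact hstar.subgroupOf M hPM
        · exact IsCharacter.restrict hχ M
        · intro g hg
          apply Subtype.ext
          exact hfaith (g : G) hg
        · exact hx
        · have : Nat.card (P.subtype hPM : Sylow p M) = Nat.card P := by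
            exact Nat.card_congr (Subgroup.subgroupOfEquivOfLe hPM).toEquiv
          rw [this]
          exact hdeg
      haveI hchar : ((P.subtype hPM : Sylow p M) : Subgroup M).Characteristic :=
        Sylow.characteristic_of_normal _ hnorm
      have h6 : (((P.subtype hPM : Sylow p M) : Subgroup M).map M.subtype).Normal :=
        ConjAct.normal_of_characteristic_of_normal
      rw [Sylow.coe_subtype, Subgroup.subgroupOf_map_subtype, inf_of_le_left hPM] at h6
      exact h6
    · have hno : ∀ M : Subgroup G, M.Normal → (P : Subgroup G) ≤ M → M = ⊤ := by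
        intro M hM hPM
        by_contra h
        exact hex ⟨M, hM, h, hPM⟩
      have hlin : ∀ ψ : G → ℂ, IsIrrCharacter G ψ → classInner χ ψ ≠ 0 → ψ 1 = 1 := by
        intro ψ hψ hne
        by_cases hψ1 : ψ = fun _ => 1
        · rw [hψ1]
        · obtain ⟨d, hdpos, hd⟩ := IsIrrCharacter.apply_one hψ
          obtain ⟨a, ha⟩ := IsCharacter.inner_irr_nat hχ ⟨ψ, hψ⟩
          have ha0 : a ≠ 0 := by
            intro h
            apply hne
            rw [ha, h, Nat.cast_zero]
          have hle := IsCharacter.mul_degree_le hχ hψ a d x ha hd hx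
          have hdx : d ≤ x := by
            calc d ≤ a * d := Nat.le_mul_of_pos_left _ (Nat.pos_of_ne_zero ha0)
              _ ≤ x := hle
          have hd2 : d ^ 2 ≤ x ^ 2 := Nat.pow_le_pow_left hdx 2
          have := (brauer_leonard_main p P hstar hno hψ hψ1 d hd (by omega)).2
          rw [hd, this, Nat.cast_one]
      have hcomm := comm_of_faithful_of_linear_constituents hχ hfaith hlin
      constructor
      intro y hy g
      have : g * y * g⁻¹ = y := by
        rw [hcomm g y]
        group
      rw [this]
      exact hy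

/-- Brauer–Leonard, faithful version. -/
theorem sylow_normal_of_faithful_small {G : Type u} [Group G] [Finite G] (p : ℕ) [Fact p.Prime]
    (P : Sylow p G) (hstar : UnifCent (P : Subgroup G)) {χ : G → ℂ} (hχ : IsCharacter G χ)
    (hfaith : ∀ g : G, χ g = χ 1 → g = 1) (x : ℕ) (hx : χ 1 = (x : ℂ))
    (hdeg : x ^ 2 + 1 < Nat.card P) : (P : Subgroup G).Normal :=
  sylow_normal_of_faithful_small_aux (Nat.card G) G rfl p P hstar χ hχ hfaith x hx hdeg

end Cfsg.Agent.Lib.Helper11
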