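import Cfsg.Agent.Lib.Helper11.BLChar

/-!
Brauer–Leonard set-up, part 3: the family of irreducible characters of `L` induced from the twists
of a fixed irreducible character of `K`; its size.
-/

set_option autoImplicit false

namespace Cfsg.Agent.Lib.Helper11

open Cfsg
open Cfsg.Agent.Lib.Helper2
open scoped ComplexConjugate

/-- The family attached to `θ₁`: the characters of `L` induced from the twists of `θ₁` that are not
`Z`-trivial. -/
def famSet {L : Type*} [Group L] [Fintype L] {K Z : Subgroup L} (π : K →* Z) (θ₁ : K → ℂ) :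
    Set (L → ℂ) :=
  {ξ | ∃ lam : Z →* ℂˣ, ¬ ZTriv Z (twist π lam θ₁) ∧ ξ = indFun K (twist π lam θ₁)}

namespace BLData

variable {L : Type*} [Group L] [Fintype L] {K Z : Subgroup L} [hK : K.Normal] [Fintype K]
  {π : K →* Z}

omit hK [Fintype K] in
theorem famSet_finite [Finite Z] (θ₁ : K → ℂ) : (famSet π θ₁).Finite := by
  apply Set.Finite.subset (Set.finite_range (fun lam : Z →* ℂˣ => indFun K (twist π lam θ₁)))
  rintro ξ ⟨lam, -, rfl⟩
  exact ⟨lam, rfl⟩

theorem famSet_irr (D : BLData K Z π) {θ₁ : K → ℂ} (hθ₁ : IsIrrCharacter K θ₁) :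
    ∀ ξ ∈ famSet π θ₁, IsIrrCharacter L ξ := by
  rintro ξ ⟨lam, hnt, rfl⟩
  exact D.irr_indFun (twist_irr lam hθ₁) hnt

omit hK [Fintype K] in
theorem famSet_degree (θ₁ : K → ℂ) : ∀ ξ ∈ famSet π θ₁, ξ 1 = (K.index : ℂ) * θ₁ 1 := by
  rintro ξ ⟨lam, -, rfl⟩
  rw [indFun_apply_one, twist_apply_one]

/-- Differences of members of a family vanish off the set where `π ≠ 1`. -/
theorem famSet_sub_vanish (D : BLData K Z π) (θ₁ : K → ℂ) :
    ∀ ξ ∈ famSet π θ₁, ∀ ξ' ∈ famSet π θ₁, ∀ l : L, (∀ h : l ∈ K, π ⟨l, h⟩ = 1) →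
      (ξ - ξ') l = 0 := by
  rintro ξ ⟨lam, -, rfl⟩ ξ' ⟨lam', -, rfl⟩ l hl
  rw [Pi.sub_apply, D.indFun_twist_eq lam lam' θ₁ l hl, sub_self]

omit [Fintype L] hK [Fintype K] in
theorem mem_famSet_self {θ : K → ℂ} (hnt : ¬ ZTriv Z θ) [Fintype L] :
    indFun K θ ∈ famSet π θ :=
  ⟨1, by rw [twist_one]; exact hnt, by rw [twist_one]⟩

/-- The group `Z` has as many linear characters as elements. -/
theorem card_hom (D : BLData K Z π) [Finite Z] : Nat.card (Z →* ℂˣ) = Nat.card Z := by
  apply card_linChar_of_comm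
  intro a b
  apply Subtype.ext
  exact D.central a a.2 b (D.hZK b.2)

set_option maxHeartbeats 800000 in
/-- A family has more than `e` members when `e * e < |Z| - 1`, `e` the index of `K`. -/
theorem card_fam_ge (D : BLData K Z π) [Finite Z] {θ₁ : K → ℂ} (hθ₁ : IsIrrCharacter K θ₁) (e : ℕ)
    (he : K.index = e) (hq : e * e + 1 < Nat.card Z) :
    ∃ F : Finset (L → ℂ), (↑F : Set (L → ℂ)) = famSet π θ₁ ∧ e + 1 ≤ F.card := by
  classical
  have : Fintype (Z →* ℂˣ) := Fintype.ofFinite _
  have : Fintype (IrrCharacter K) := Fintype.ofFinite _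
  let I : Finset (Z →* ℂˣ) := Finset.univ.filter (fun lam => ¬ ZTriv Z (twist π lam θ₁))
  let g : (Z →* ℂˣ) → (L → ℂ) := fun lam => indFun K (twist π lam θ₁)
  refine ⟨I.image g, ?_, ?_⟩
  · ext ξ
    simp only [Finset.coe_image, Set.mem_image, Finset.mem_coe, famSet, Set.mem_ofPred_eq]
    constructor
    · rintro ⟨lam, hlam, rfl⟩
      exact ⟨lam, (Finset.mem_filter.1 hlam).2, rfl⟩
    · rintro ⟨lam, hnt, rfl⟩
      exact ⟨lam, Finset.mem_filter.2 ⟨Finset.mem_univ _, hnt⟩, rfl⟩
  · -- the complement of `I` has at most one element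
    have hIc : (Finset.univ.filter (fun lam : Z →* ℂˣ => ZTriv Z (twist π lam θ₁))).card ≤ 1 := by
      apply Finset.card_le_one.2
      intro a ha b hb
      exact D.ztriv_twist_unique hθ₁ (Finset.mem_filter.1 ha).2 (Finset.mem_filter.1 hb).2
    have hIcard : Nat.card Z ≤ I.card + 1 := by
      have h1 := Finset.card_filter_add_card_filter_not (s := (Finset.univ : Finset (Z →* ℂˣ)))
        (fun lam : Z →* ℂˣ => ZTriv Z (twist π lam θ₁))
      rw [Finset.card_univ, ← Nat.card_eq_fintype_card, D.card_hom] at h1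
      have hI : (Finset.univ.filter (fun a : Z →* ℂˣ => ¬ ZTriv Z (twist π a θ₁))).card = I.card :=
        rfl
      omega
    -- fibres have at most `e` elements
    have hfib : ∀ ξ ∈ I.image g, (I.filter (fun lam => g lam = ξ)).card ≤ e := by
      intro ξ hξ
      obtain ⟨lam₀, hlam₀, rfl⟩ := Finset.mem_image.1 hξ
      have hnt₀ := (Finset.mem_filter.1 hlam₀).2
      have hirr₀ : IsIrrCharacter K (twist π lam₀ θ₁) := twist_irr lam₀ hθ₁
      let θ₀ : IrrCharacter K := ⟨twist π lam₀ θ₁, hirr₀⟩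
      have hcf := card_fiber_indFun K θ₀
      have hn1 : classInner (indFun K (θ₀ : K → ℂ)) (indFun K (θ₀ : K → ℂ)) = 1 :=
        classInner_irrCharacter_self (⟨_, D.irr_indFun hirr₀ hnt₀⟩ : IrrCharacter L)
      rw [hn1, mul_one, he] at hcf
      have hcf' : (Finset.univ.filter (fun θ' : IrrCharacter K =>
          indFun K (θ' : K → ℂ) = indFun K (θ₀ : K → ℂ))).card = e := by exact_mod_cast hcf
      rw [← hcf']
      apply Finset.card_le_card_of_injOn (fun lam => ⟨twist π lam θ₁, twist_irr lam hθ₁⟩)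
      · intro lam hlam
        simp only [Finset.coe_filter, Set.mem_ofPred_eq] at hlam
        simp only [Finset.coe_filter, Finset.mem_univ, true_and, Set.mem_ofPred_eq]
        exact hlam.2
      · intro lam _ lam' _ h
        have := congrArg Subtype.val h
        exact D.twist_injective hθ₁ this
    have hmul := Finset.card_le_mul_card_image (f := g) I e hfib
    by_contra hlt
    have hle : (I.image g).card ≤ e := by omega
    have : I.card ≤ e * e := le_trans hmul (Nat.mul_le_mul_left e hle)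
    omega

omit hK [Fintype K] [Fintype L] in
/-- Twists of the principal character. -/
theorem twist_triv (lam : Z →* ℂˣ) :
    twist π lam (fun _ : K => (1 : ℂ)) = fun k => ((lam (π k) : ℂˣ) : ℂ) := by
  funext k
  simp [twist]

omit hK [Fintype K] [Fintype L] in
theorem ztriv_twist_triv_iff (D : BLData K Z π) (lam : Z →* ℂˣ) :
    ZTriv Z (twist π lam (fun _ : K => (1 : ℂ))) ↔ lam = 1 := by
  constructor
  · intro h
    ext z
    have h1 := h ⟨z, D.hZK z.2⟩ z.2
    rw [D.twist_apply_Z lam _ ⟨z, D.hZK z.2⟩ z.2, twist_apply_one, mul_one] at h1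
    simpa using h1
  · rintro rfl
    intro k _
    simp [twist]

end BLData

end Cfsg.Agent.Lib.Helper11
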