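import Cfsg.Agent.Lib.Helper11.BLCentral

/-!
Brauer–Leonard set-up, part 2: `Z`-trivial characters of `K`, conjugates, twists by the linear
characters `λ ∘ π`, irreducibility of the induced characters, and the vanishing of differences of
induced twists off the set `{k ∈ K | π k ≠ 1}`.
-/

set_option autoImplicit false

namespace Cfsg.Agent.Lib.Helper11

open Cfsg
open Cfsg.Agent.Lib.Helper2
open scoped ComplexConjugate

/-- `θ` is constant (equal to its degree) on `Z`. -/
def ZTriv {L : Type*} [Group L] {K : Subgroup L} (Z : Subgroup L) (θ : K → ℂ) : Prop :=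
  ∀ k : K, (k : L) ∈ Z → θ k = θ 1

/-- The twist of `θ` by the linear character `lam ∘ π`. -/
def twist {L : Type*} [Group L] {K Z : Subgroup L} (π : K →* Z) (lam : Z →* ℂˣ) (θ : K → ℂ) :
    K → ℂ :=
  fun k => ((lam (π k) : ℂˣ) : ℂ) * θ k

namespace BLData

variable {L : Type*} [Group L] {K Z : Subgroup L} {π : K →* Z}

theorem twist_one (θ : K → ℂ) : twist π 1 θ = θ := by
  funext k
  simp [twist]

theorem twist_apply_one (lam : Z →* ℂˣ) (θ : K → ℂ) : twist π lam θ 1 = θ 1 := by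
  simp [twist]

theorem twist_apply_Z (D : BLData K Z π) (lam : Z →* ℂˣ) (θ : K → ℂ) (k : K) (hk : (k : L) ∈ Z) :
    twist π lam θ k = ((lam ⟨k, hk⟩ : ℂˣ) : ℂ) * θ k := by
  have h1 : π k = ⟨k, hk⟩ := D.retract (k : L) hk
  simp only [twist]
  rw [h1]

theorem twist_of_ker (lam : Z →* ℂˣ) (θ : K → ℂ) (k : K) (hk : π k = 1) :
    twist π lam θ k = θ k := by
  simp [twist, hk]

theorem twist_eq_comp (lam : Z →* ℂˣ) (θ : K → ℂ) :
    twist π lam θ = fun k => (((lam.comp π) k : ℂˣ) : ℂ) * θ k := rfl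

theorem central_elt (D : BLData K Z π) (k : K) (hk : (k : L) ∈ Z) (k' : K) : k * k' = k' * k := by
  apply Subtype.ext
  exact D.central k hk k' k'.2

section Fin

variable [Fintype L] [hK : K.Normal] [Fintype K]

theorem twist_irr (lam : Z →* ℂˣ) {θ : K → ℂ} (hθ : IsIrrCharacter K θ) :
    IsIrrCharacter K (twist π lam θ) := by
  rw [twist_eq_comp]
  exact isIrrCharacter_twist (lam.comp π) hθ

/-- Values of an irreducible character of `K` on `Z` are nonzero. -/
theorem apply_Z_ne_zero (D : BLData K Z π) {θ : K → ℂ} (hθ : IsIrrCharacter K θ) (k : K)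
    (hk : (k : L) ∈ Z) : θ k ≠ 0 := by
  have h1 : ‖θ k‖ = ‖θ 1‖ := by
    apply IsIrrCharacter.norm_eq_of_commutators_in_ker hθ k
    intro c
    have : k * c * k⁻¹ * c⁻¹ = 1 := by
      rw [D.central_elt k hk c]
      group
    rw [this]
  intro h0
  rw [h0, norm_zero] at h1
  exact IsIrrCharacter.apply_one_ne_zero hθ (norm_eq_zero.1 h1.symm)

/-- Distinct twists of an irreducible character are distinct. -/
theorem twist_injective (D : BLData K Z π) {θ : K → ℂ} (hθ : IsIrrCharacter K θ)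
    {lam lam' : Z →* ℂˣ} (h : twist π lam θ = twist π lam' θ) : lam = lam' := by
  ext z
  have h1 := congrFun h ⟨z, D.hZK z.2⟩
  rw [D.twist_apply_Z lam θ ⟨z, D.hZK z.2⟩ z.2, D.twist_apply_Z lam' θ ⟨z, D.hZK z.2⟩ z.2] at h1
  have h2 := mul_right_cancel₀ (D.apply_Z_ne_zero hθ ⟨z, D.hZK z.2⟩ z.2) h1
  exact h2

/-- At most one twist of an irreducible character is `Z`-trivial. -/
theorem ztriv_twist_unique (D : BLData K Z π) {θ : K → ℂ} (hθ : IsIrrCharacter K θ)
    {lam lam' : Z →* ℂˣ} (h : ZTriv Z (twist π lam θ)) (h' : ZTriv Z (twist π lam' θ)) :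
    lam = lam' := by
  ext z
  have h1 := h ⟨z, D.hZK z.2⟩ z.2
  have h2 := h' ⟨z, D.hZK z.2⟩ z.2
  rw [D.twist_apply_Z lam θ ⟨z, D.hZK z.2⟩ z.2, twist_apply_one] at h1
  rw [D.twist_apply_Z lam' θ ⟨z, D.hZK z.2⟩ z.2, twist_apply_one] at h2
  have h3 := mul_right_cancel₀ (D.apply_Z_ne_zero hθ ⟨z, D.hZK z.2⟩ z.2) (h1.trans h2.symm)
  exact h3

/-- An element outside `K` fixes no irreducible character of `K` that is not `Z`-trivial. -/
theorem conjFn_ne (D : BLData K Z π) {θ : K → ℂ} (hθ : IsIrrCharacter K θ) (hnt : ¬ ZTriv Z θ)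
    {n : L} (hn : n ∉ K) : conjFn K n θ ≠ θ := by
  classical
  intro hfix
  apply hnt
  have hZn : ∀ z ∈ Z, n * z * n⁻¹ ∈ Z := by
    intro z hz
    have h1 := D.equivar n ⟨z, D.hZK hz⟩ (hK.conj_mem z (D.hZK hz) n)
    rw [D.retract z hz] at h1
    rw [← h1]
    exact (π _).2
  -- the map `z ↦ z⁻¹ (n z n⁻¹)` on `Z`
  let f : Z → Z := fun z => ⟨(z : L)⁻¹ * (n * z * n⁻¹), Z.mul_mem (Z.inv_mem z.2) (hZn z z.2)⟩
  have hcommZ : ∀ a b : L, a ∈ Z → b ∈ Z → a * b = b * a :=
    fun a b ha hb => D.central a ha b (D.hZK hb)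
  have hfinj : Function.Injective f := by
    intro z w hzw
    have h1 : (z : L)⁻¹ * (n * z * n⁻¹) = (w : L)⁻¹ * (n * w * n⁻¹) := congrArg Subtype.val hzw
    -- `w z⁻¹` is fixed by `n`
    have h2 : n * ((w : L) * (z : L)⁻¹) = ((w : L) * (z : L)⁻¹) * n := by
      have h3 : n * (w : L) * n⁻¹ = (w : L) * (z : L)⁻¹ * (n * z * n⁻¹) := by
        rw [mul_assoc (w : L), h1]
        group
      have h4 : (n * (z : L) * n⁻¹) * ((w : L) * (z : L)⁻¹) = ((w : L) * (z : L)⁻¹) * (n * z * n⁻¹) :=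
        hcommZ _ _ (hZn z z.2) (Z.mul_mem w.2 (Z.inv_mem z.2))
      calc n * ((w : L) * (z : L)⁻¹) = (n * w * n⁻¹) * (n * (z : L) * n⁻¹)⁻¹ * n := by group
        _ = ((w : L) * (z : L)⁻¹ * (n * z * n⁻¹)) * (n * (z : L) * n⁻¹)⁻¹ * n := by rw [h3]
        _ = ((w : L) * (z : L)⁻¹) * n := by group
    by_contra hne
    have hne' : (w : L) * (z : L)⁻¹ ≠ 1 := by
      intro h
      apply hne
      apply Subtype.ext
      have : (w : L) = z := by
        have := mul_inv_eq_one.1 h
        exact this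
      exact this.symm
    exact hn (D.free n _ (Z.mul_mem w.2 (Z.inv_mem z.2)) hne' h2)
  have hfsurj : Function.Surjective f := Finite.surjective_of_injective hfinj
  intro k hk
  obtain ⟨w, hw⟩ := hfsurj ⟨k, hk⟩
  have hwL : (w : L)⁻¹ * (n * w * n⁻¹) = k := congrArg Subtype.val hw
  -- elements of `K`
  let w₁ : K := ⟨w, D.hZK w.2⟩
  let w₂ : K := ⟨n * w * n⁻¹, hK.conj_mem w (D.hZK w.2) n⟩
  have hk' : k = w₁⁻¹ * w₂ := by
    apply Subtype.ext
    simp only [w₁, w₂, Subgroup.coe_mul, Subgroup.coe_inv]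
    exact hwL.symm
  have hw₂ : θ w₂ = θ w₁ := by
    have := congrFun hfix w₁
    rw [conjFn_apply] at this
    exact this
  have hc1 := IsIrrCharacter.central_mul hθ w₁⁻¹
    (fun c => D.central_elt w₁⁻¹ (by simpa [w₁] using Z.inv_mem w.2) c) w₂
  have hc2 := IsIrrCharacter.central_mul hθ w₁⁻¹
    (fun c => D.central_elt w₁⁻¹ (by simpa [w₁] using Z.inv_mem w.2) c) w₁
  rw [inv_mul_cancel] at hc2
  rw [← hk', hw₂, ← hc2] at hc1
  exact mul_right_cancel₀ (IsIrrCharacter.apply_one_ne_zero hθ) hc1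

/-- The character induced from an irreducible character of `K` that is not `Z`-trivial is
irreducible. -/
theorem irr_indFun (D : BLData K Z π) {θ : K → ℂ} (hθ : IsIrrCharacter K θ) (hnt : ¬ ZTriv Z θ) :
    IsIrrCharacter L (indFun K θ) := by
  classical
  have hθcf : IsClassFunction K θ := IsCharacter.isClassFunction (IsIrrCharacter.isCharacter hθ)
  have hcard : Nat.card {g : L // conjFn K g θ = θ} = Nat.card K := by
    apply Nat.card_congr
    apply Equiv.subtypeEquivRight
    intro g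
    constructor
    · intro h
      by_contra hg
      exact D.conjFn_ne hθ hnt hg h
    · intro hg
      exact conjFn_of_mem K hθcf hg
  have hnorm : classInner (indFun K θ) (indFun K θ) = 1 := by
    rw [classInner_indFun_self_of_irr K hθ, hcard]
    exact div_self (card_subgroup_ne_zero K)
  exact isIrrCharacter_of_classInner_self_eq_one
    (indFun_isCharacter K θ (IsIrrCharacter.isCharacter hθ)) hnorm

/-- Conjugation preserves the retraction being trivial. -/
theorem pi_conj_eq_one (D : BLData K Z π) (n : L) (k : K) (hk : π k = 1) :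
    π ⟨n * k * n⁻¹, hK.conj_mem k k.2 n⟩ = 1 := by
  apply Subtype.ext
  rw [D.equivar n k (hK.conj_mem k k.2 n), hk]
  simp

/-- The characters induced from two twists of the same character agree off the set where
`π ≠ 1`. -/
theorem indFun_twist_eq (D : BLData K Z π) (lam lam' : Z →* ℂˣ) (θ : K → ℂ) (l : L)
    (hl : ∀ h : l ∈ K, π ⟨l, h⟩ = 1) :
    indFun K (twist π lam θ) l = indFun K (twist π lam' θ) l := by
  by_cases hlK : l ∈ K
  · have h1 := indFun_apply_of_normal K (twist π lam θ) ⟨l, hlK⟩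
    have h2 := indFun_apply_of_normal K (twist π lam' θ) ⟨l, hlK⟩
    simp only at h1 h2
    rw [h1, h2]
    congr 1
    apply Finset.sum_congr rfl
    intro g _
    rw [conjFn_apply, conjFn_apply]
    have h3 := D.pi_conj_eq_one g ⟨l, hlK⟩ (hl hlK)
    rw [twist_of_ker lam θ _ h3, twist_of_ker lam' θ _ h3]
  · rw [indFun_apply_of_not_mem K _ hlK, indFun_apply_of_not_mem K _ hlK]

end Fin

end BLData

end Cfsg.Agent.Lib.Helper11
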