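import Cfsg.Agent.Lib.Helper11.BLCoh
import Cfsg.Agent.Lib.Helper11.Coherence4
import Cfsg.Agent.Lib.Helper2.BurnsidePQ

/-!
Brauer–Leonard set-up, part 6: the test functions `1_K^N - (λ ∘ π)^N` and their induction to `G`.
-/

set_option autoImplicit false

namespace Cfsg.Agent.Lib.Helper11

open Cfsg
open Cfsg.Agent.Lib.Helper2
open scoped ComplexConjugate

section BesselIdx

variable {G : Type*} [Group G] [Fintype G]

theorem bessel_indexed_le {ι : Type*} [DecidableEq ι] (F : Finset ι) (e : ι → G → ℂ)
    (horth : ∀ i ∈ F, ∀ j ∈ F, classInner (e i) (e j) = if i = j then 1 else 0) (X : G → ℂ) :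
    ∑ i ∈ F, ‖classInner X (e i)‖ ^ 2 ≤ (classInner X X).re := by
  have h := classInner_self_re_nonneg (X - ∑ i ∈ F, classInner X (e i) • e i)
  rw [bessel_indexed F e horth X, Complex.sub_re, Complex.ofReal_re] at h
  linarith

theorem eq_proj_of_bessel_indexed_eq {ι : Type*} [DecidableEq ι] (F : Finset ι) (e : ι → G → ℂ)
    (horth : ∀ i ∈ F, ∀ j ∈ F, classInner (e i) (e j) = if i = j then 1 else 0) (X : G → ℂ)
    (h : (classInner X X).re ≤ ∑ i ∈ F, ‖classInner X (e i)‖ ^ 2) :
    X = ∑ i ∈ F, classInner X (e i) • e i := by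
  have h0 : X - ∑ i ∈ F, classInner X (e i) • e i = 0 := by
    apply eq_zero_of_classInner_self_re_le_zero
    rw [bessel_indexed F e horth X, Complex.sub_re, Complex.ofReal_re]
    linarith
  exact sub_eq_zero.1 h0

end BesselIdx

/-- The linear character `λ ∘ π` of `K` as a function. -/
def extC {L : Type*} [Group L] {K Z : Subgroup L} (π : K →* Z) (lam : Z →* ℂˣ) : K → ℂ :=
  fun k => ((lam (π k) : ℂˣ) : ℂ)

/-- The test function `1_K^L - (λ ∘ π)^L`. -/
noncomputable def blAlpha {L : Type*} [Group L] [Fintype L] {K Z : Subgroup L} (π : K →* Z)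
    (lam : Z →* ℂˣ) : L → ℂ :=
  indFun K (fun _ : K => (1 : ℂ)) - indFun K (extC π lam)

namespace BLData

section Local

variable {L : Type*} [Group L] [Fintype L] {K Z : Subgroup L} [hK : K.Normal] [Fintype K]
  {π : K →* Z}

omit [Fintype L] hK [Fintype K] in
theorem extC_eq_twist (lam : Z →* ℂˣ) : extC π lam = twist π lam (fun _ : K => (1 : ℂ)) := by
  funext k
  simp [extC, twist]

omit [Fintype L] hK [Fintype K] in
theorem extC_irr [Finite K] (lam : Z →* ℂˣ) : IsIrrCharacter K (extC π lam) :=
  isIrrCharacter_of_monoidHom (lam.comp π)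

omit [Fintype L] hK [Fintype K] in
theorem extC_not_ztriv (D : BLData K Z π) {lam : Z →* ℂˣ} (hlam : lam ≠ 1) :
    ¬ ZTriv Z (extC π lam) := by
  rw [extC_eq_twist]
  exact fun h => hlam ((D.ztriv_twist_triv_iff lam).1 h)

theorem extC_indFun_irr (D : BLData K Z π) {lam : Z →* ℂˣ} (hlam : lam ≠ 1) :
    IsIrrCharacter L (indFun K (extC π lam)) :=
  D.irr_indFun (extC_irr lam) (D.extC_not_ztriv hlam)

omit [Fintype L] [Fintype K] in
/-- A conjugate of a character that is not `Z`-trivial is not the principal character. -/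
theorem conjFn_ne_one {θ : K → ℂ} (hnt : ¬ ZTriv Z θ) (g : L) :
    conjFn K g θ ≠ fun _ => 1 := by
  intro h
  apply hnt
  have h1 : θ = conjFn K g⁻¹ (fun _ => 1) := by
    rw [← h, conjFn_inv_conjFn]
  intro k _
  rw [h1]
  rfl

/-- The character induced from the principal character of `K` is orthogonal to those induced from
characters that are not `Z`-trivial. -/
theorem inner_indFun_one (D : BLData K Z π) {θ : K → ℂ} (hθ : IsIrrCharacter K θ)
    (hnt : ¬ ZTriv Z θ) :
    classInner (indFun K (fun _ : K => (1 : ℂ))) (indFun K θ) = 0 := by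
  classical
  rw [classInner_indFun_indFun]
  have : ∀ g : L, classInner (fun _ : K => (1 : ℂ)) (conjFn K g θ) = 0 := by
    intro g
    rw [classInner_irr_eq_ite isIrrCharacter_one (conjFn_isIrrCharacter K g hθ),
      if_neg (fun h => conjFn_ne_one hnt g h.symm)]
  simp [this]

/-- The norm of the character induced from the principal character of `K`. -/
theorem norm_indFun_one :
    classInner (indFun K (fun _ : K => (1 : ℂ))) (indFun K (fun _ : K => (1 : ℂ)))
      = (K.index : ℂ) := by
  rw [classInner_indFun_self_of_irr K isIrrCharacter_one]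
  have h1 : Nat.card {g : L // conjFn K g (fun _ : K => (1 : ℂ)) = fun _ => 1} = Nat.card L := by
    have : ∀ g : L, conjFn K g (fun _ : K => (1 : ℂ)) = fun _ => 1 := fun g => rfl
    rw [Nat.card_congr (Equiv.subtypeUnivEquiv this)]
  rw [h1, ← Subgroup.card_mul_index K]
  have hK0 : (Nat.card K : ℂ) ≠ 0 := card_subgroup_ne_zero K
  push_cast
  field_simp

theorem blAlpha_isClassFunction (lam : Z →* ℂˣ) : IsClassFunction L (blAlpha π lam) := by
  unfold blAlpha
  exact isClassFunction_sub (Cfsg.Agent.Lib.Helper2.indFun_isClassFunction K _)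
    (Cfsg.Agent.Lib.Helper2.indFun_isClassFunction K _)

theorem blAlpha_isGenChar (lam : Z →* ℂˣ) : IsGeneralizedCharacter L (blAlpha π lam) :=
  ⟨_, _, indFun_isCharacter K _ (IsIrrCharacter.isCharacter isIrrCharacter_one),
    indFun_isCharacter K _ (IsIrrCharacter.isCharacter (extC_irr lam)), rfl⟩

theorem blAlpha_vanish (D : BLData K Z π) (lam : Z →* ℂˣ) (l : L)
    (hl : ∀ h : l ∈ K, π ⟨l, h⟩ = 1) : blAlpha π lam l = 0 := by
  unfold blAlpha
  have h := D.indFun_twist_eq 1 lam (fun _ : K => (1 : ℂ)) l hl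
  rw [twist_one, ← extC_eq_twist] at h
  rw [Pi.sub_apply, h, sub_self]

/-- Inner product of the test function with a member of a family. -/
theorem inner_blAlpha (D : BLData K Z π) {lam : Z →* ℂˣ} (hlam : lam ≠ 1) {θ : K → ℂ}
    (hθ : IsIrrCharacter K θ) (hnt : ¬ ZTriv Z θ) [Decidable (indFun K (extC π lam) = indFun K θ)] :
    classInner (blAlpha π lam) (indFun K θ)
      = if indFun K (extC π lam) = indFun K θ then -1 else 0 := by
  unfold blAlpha
  rw [classInner_sub_left, D.inner_indFun_one hθ hnt, zero_sub,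
    classInner_irr_eq_ite (D.extC_indFun_irr hlam) (D.irr_indFun hθ hnt)]
  split_ifs <;> simp

/-- The norm of the test function. -/
theorem norm_blAlpha (D : BLData K Z π) {lam : Z →* ℂˣ} (hlam : lam ≠ 1) :
    classInner (blAlpha π lam) (blAlpha π lam) = (K.index : ℂ) + 1 := by
  classical
  have h1 := D.inner_blAlpha hlam (extC_irr lam) (D.extC_not_ztriv hlam)
  rw [if_pos rfl] at h1
  have h2 : classInner (blAlpha π lam) (indFun K (fun _ : K => (1 : ℂ))) = (K.index : ℂ) := by
    unfold blAlpha
    rw [classInner_sub_left, norm_indFun_one, ← classInner_conj_symm,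
      D.inner_indFun_one (extC_irr lam) (D.extC_not_ztriv hlam), map_zero, sub_zero]
  have h3 : blAlpha π lam
      = indFun K (fun _ : K => (1 : ℂ)) - indFun K (extC π lam) := rfl
  calc classInner (blAlpha π lam) (blAlpha π lam)
      = classInner (blAlpha π lam)
          (indFun K (fun _ : K => (1 : ℂ)) - indFun K (extC π lam)) := by rw [← h3]
    _ = (K.index : ℂ) + 1 := by
        rw [classInner_sub_right, h1, h2]
        ring

/-- The test function contains the principal character once. -/
theorem blAlpha_inner_one (D : BLData K Z π) {lam : Z →* ℂˣ} (hlam : lam ≠ 1) :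
    classInner (blAlpha π lam) (fun _ : L => (1 : ℂ)) = 1 := by
  classical
  unfold blAlpha
  rw [classInner_sub_left, frobenius_reciprocity K _ _ (fun _ _ => rfl),
    frobenius_reciprocity K _ _ (fun _ _ => rfl)]
  have h1 : classInner (fun _ : K => (1 : ℂ)) (fun _ : K => (1 : ℂ)) = 1 :=
    classInner_irrCharacter_self (⟨_, isIrrCharacter_one⟩ : IrrCharacter K)
  have h2 : classInner (extC π lam) (fun _ : K => (1 : ℂ)) = 0 := by
    rw [classInner_irr_eq_ite (extC_irr lam) isIrrCharacter_one]
    rw [if_neg]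
    intro h
    apply D.extC_not_ztriv hlam
    rw [h]
    intro k _
    rfl
  rw [h1, h2, sub_zero]

end Local

end BLData

end Cfsg.Agent.Lib.Helper11
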