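import Cfsg.Agent.Lib.Helper11.BLGamma

/-!
Brauer–Leonard set-up, part 7: the generalized characters `Γ_λ` of `G` induced from the test
functions, and coherent families.
-/

set_option autoImplicit false

namespace Cfsg.Agent.Lib.Helper11

open Cfsg
open Cfsg.Agent.Lib.Helper2
open scoped ComplexConjugate

/-- The generalized character of `G` induced from the test function. -/
noncomputable def blGamma {G : Type*} [Group G] [Fintype G] {N : Subgroup G} [Fintype N]
    {K Z : Subgroup N} (π : K →* Z) (lam : Z →* ℂˣ) : G → ℂ :=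
  indFun N (blAlpha π lam)

namespace BLData

variable {G : Type*} [Group G] [Fintype G] {N : Subgroup G} [Fintype N] {K Z : Subgroup N}
  [hK : K.Normal] [Fintype K] {π : K →* Z}

theorem blAlpha_vanish' (D : BLData K Z π) (lam : Z →* ℂˣ) (l : N) (hl : (l : G) ∉ blSet π) :
    blAlpha π lam l = 0 :=
  D.blAlpha_vanish lam l ((not_mem_blSet_iff l).1 hl)

theorem blGamma_isGenChar (lam : Z →* ℂˣ) : IsGeneralizedCharacter G (blGamma π lam) :=
  isGenChar_indFun N (blAlpha_isGenChar lam)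

theorem blGamma_norm (D : BLData K Z π)
    (hTI : ∀ a ∈ blSet π, ∀ x : G, x⁻¹ * a * x ∈ blSet π → x ∈ N)
    {lam : Z →* ℂˣ} (hlam : lam ≠ 1) :
    classInner (blGamma π lam) (blGamma π lam) = (K.index : ℂ) + 1 := by
  unfold blGamma
  rw [classInner_indFun_indFun_of_TI N (blSet π) hTI _ _ (D.blAlpha_vanish' lam)
    (blAlpha_isClassFunction lam) (D.blAlpha_vanish' lam), D.norm_blAlpha hlam]

theorem blGamma_inner_one (D : BLData K Z π) {lam : Z →* ℂˣ} (hlam : lam ≠ 1) :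
    classInner (blGamma π lam) (fun _ : G => (1 : ℂ)) = 1 := by
  unfold blGamma
  rw [frobenius_reciprocity N _ _ (fun _ _ => rfl)]
  exact D.blAlpha_inner_one hlam

theorem blGamma_apply_one (lam : Z →* ℂˣ) : blGamma π lam 1 = 0 := by
  unfold blGamma blAlpha
  rw [indFun_apply_one, Pi.sub_apply, indFun_apply_one, indFun_apply_one]
  simp [extC]

/-- Inner product of a class function of `G` with `Γ_λ`. -/
theorem inner_blGamma {ζ : G → ℂ} (hζ : IsClassFunction G ζ) (lam : Z →* ℂˣ) :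
    classInner ζ (blGamma π lam)
      = classInner (fun k : K => ζ ((k : N) : G)) (fun _ : K => (1 : ℂ))
        - classInner (fun k : K => ζ ((k : N) : G)) (extC π lam) := by
  unfold blGamma blAlpha
  have hζN : IsClassFunction N (fun h : N => ζ h) := by
    intro g h
    have := hζ (g : G) (h : G)
    simpa using this
  rw [classInner_indFun_right N _ ζ hζ, classInner_sub_right,
    classInner_indFun_right K _ _ hζN, classInner_indFun_right K _ _ hζN]

/-- Coherence of a family. -/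
theorem fam_coherent (D : BLData K Z π) [Finite Z]
    (hTI : ∀ a ∈ blSet π, ∀ x : G, x⁻¹ * a * x ∈ blSet π → x ∈ N)
    (hq : K.index * K.index + 1 < Nat.card Z) {θ₁ : K → ℂ} (hθ₁ : IsIrrCharacter K θ₁) :
    ∃ τ₁ : (N → ℂ) → (G → ℂ),
      (∀ ξ ∈ famSet π θ₁, IsSignedIrr (τ₁ ξ)) ∧
      (∀ ξ ∈ famSet π θ₁, ∀ ξ' ∈ famSet π θ₁,
        classInner (τ₁ ξ) (τ₁ ξ') = if ξ = ξ' then 1 else 0) ∧
      (∀ ξ ∈ famSet π θ₁, ∀ ξ' ∈ famSet π θ₁, τ₁ ξ - τ₁ ξ' = indFun N (ξ - ξ')) := by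
  classical
  obtain ⟨F, hFS, hFcard⟩ := D.card_fam_ge hθ₁ K.index rfl hq
  have h2 : ∃ χ ∈ famSet π θ₁, ∃ ψ ∈ famSet π θ₁, χ ≠ ψ := by
    have hpos : 0 < K.index := Nat.pos_of_ne_zero Subgroup.index_ne_zero_of_finite
    have h1 : 1 < F.card := by omega
    obtain ⟨a, ha, b, hb, hab⟩ := Finset.one_lt_card.1 h1
    refine ⟨a, ?_, b, ?_, hab⟩
    · rw [← hFS]; exact ha
    · rw [← hFS]; exact hb
  apply ti_equal_degree_coherent N (blSet π) hTI (famSet π θ₁) (famSet_finite θ₁)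
    (D.famSet_irr hθ₁) ?_ h2 ?_
  · intro φ hφ ψ hψ
    rw [famSet_degree θ₁ φ hφ, famSet_degree θ₁ ψ hψ]
  · intro ξ hξ ξ' hξ' l hl
    exact D.famSet_sub_vanish θ₁ ξ hξ ξ' hξ' l ((not_mem_blSet_iff l).1 hl)

end BLData

end Cfsg.Agent.Lib.Helper11
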