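import Cfsg.Agent.Lib.Helper11.BLRetract
import Cfsg.Agent.Lib.Helper11.BLBound

/-!
Brauer–Leonard set-up, part 13: the set `{k ∈ K | π k ≠ 1}` is a trivial-intersection set with
controller `N`, when the centralizer in `G` of every nonidentity element of `Z` is `K` and `N`
contains the normalizer of `Z`.
-/

set_option autoImplicit false

namespace Cfsg.Agent.Lib.Helper11

open Cfsg

namespace BLData

variable {G : Type*} [Group G] {N : Subgroup G} {K Z : Subgroup N} {π : K →* Z}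

/-- Decomposition of an element of `K`: modulo the kernel of `π` it is `π k`. -/
theorem mul_inv_pi_mem_ker (D : BLData K Z π) (k : K) :
    π (k * (⟨(π k : N), D.hZK (π k).2⟩ : K)⁻¹) = 1 := by
  rw [map_mul, map_inv, D.retract _ (π k).2, mul_inv_cancel]

/-- The `|ker π|`-th power of `k` is that of `π k`. -/
theorem pow_card_ker (D : BLData K Z π) (k : K) :
    k ^ Nat.card π.ker = (⟨(π k : N), D.hZK (π k).2⟩ : K) ^ Nat.card π.ker := by
  set zK : K := ⟨(π k : N), D.hZK (π k).2⟩ with hzK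
  have hd := D.mul_inv_pi_mem_ker k
  rw [← hzK] at hd
  have hk : k = (k * zK⁻¹) * zK := by group
  have hcomm : Commute (k * zK⁻¹) zK := (D.central_elt zK (π k).2 (k * zK⁻¹)).symm
  conv_lhs => rw [hk]
  rw [hcomm.mul_pow, pow_card_ker_eq_one π _ hd, one_mul]

/-- For `π k ≠ 1`, the `|ker π|`-th power of `k` is a nonidentity element of `Z`. -/
theorem pow_card_ker_mem (D : BLData K Z π) [Finite Z]
    (hcop : Nat.Coprime (Nat.card Z) (Nat.card π.ker)) (k : K) (hk : π k ≠ 1) :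
    ((k : N) ^ Nat.card π.ker ∈ Z) ∧ (k : N) ^ Nat.card π.ker ≠ 1 := by
  have h1 := congrArg Subtype.val (D.pow_card_ker k)
  rw [Subgroup.coe_pow, Subgroup.coe_pow] at h1
  rw [h1]
  refine ⟨Z.pow_mem (π k).2 _, ?_⟩
  intro h2
  apply hk
  apply eq_one_of_pow_eq_one_of_coprime (a := Nat.card Z) (b := Nat.card π.ker) pow_card_eq_one' _
    hcop
  apply Subtype.ext
  rw [Subgroup.coe_pow]
  exact h2

/-- An element of `K` killed by `|Z|` lies in `Z`. -/
theorem mem_Z_of_pow_card (D : BLData K Z π) [Finite Z]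
    (hcop : Nat.Coprime (Nat.card Z) (Nat.card π.ker)) (k : K) (hk : k ^ Nat.card Z = 1) :
    (k : N) ∈ Z := by
  set zK : K := ⟨(π k : N), D.hZK (π k).2⟩ with hzK
  have hd := D.mul_inv_pi_mem_ker k
  rw [← hzK] at hd
  have hcomm0 : Commute k zK := (D.central_elt zK (π k).2 k).symm
  have hcomm : Commute k zK⁻¹ := hcomm0.inv_right
  have hzq : zK ^ Nat.card Z = 1 := by
    apply Subtype.ext
    have h1 : (π k) ^ Nat.card Z = 1 := pow_card_eq_one'
    have h2 := congrArg Subtype.val h1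
    rw [Subgroup.coe_pow] at h2
    rw [Subgroup.coe_pow]
    exact h2
  have h1 : (k * zK⁻¹) ^ Nat.card Z = 1 := by
    rw [hcomm.mul_pow, hk, inv_pow, hzq, inv_one, one_mul]
  have h2 : k * zK⁻¹ = 1 :=
    eq_one_of_pow_eq_one_of_coprime h1 (pow_card_ker_eq_one π _ hd) hcop
  have h3 : k = zK := by
    have := mul_inv_eq_one.1 h2
    exact this
  rw [h3]
  exact (π k).2

/-- Half of the trivial-intersection property: a conjugation taking an element of the set to the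
set maps `Z` into `Z`. -/
theorem conj_Z_of_blSet (D : BLData K Z π) [Finite Z]
    (hcop : Nat.Coprime (Nat.card Z) (Nat.card π.ker))
    (hcentG : ∀ z : N, z ∈ Z → z ≠ 1 → ∀ g : G, g * (z : G) = (z : G) * g →
      ∃ h : g ∈ N, (⟨g, h⟩ : N) ∈ K)
    (a : G) (ha : a ∈ blSet π) (x : G) (hx : x⁻¹ * a * x ∈ blSet π) (y : N) (hy : y ∈ Z) :
    ∃ h : x⁻¹ * (y : G) * x ∈ N, (⟨x⁻¹ * (y : G) * x, h⟩ : N) ∈ Z := by
  obtain ⟨k, hka, hk⟩ := ha
  obtain ⟨k', hka', hk'⟩ := hx
  set m := Nat.card π.ker with hm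
  obtain ⟨hu, hu1⟩ := D.pow_card_ker_mem hcop k hk
  obtain ⟨hu', hu1'⟩ := D.pow_card_ker_mem hcop k' hk'
  rw [← hm] at hu hu1 hu' hu1'
  -- the conjugation relation between the powers
  have hconj : ((k' : N) : G) ^ m = x⁻¹ * ((k : N) : G) ^ m * x := by
    rw [hka', hka]
    have := conj_pow (a := x⁻¹) (b := a) (i := m)
    rw [inv_inv] at this
    exact this
  -- `x⁻¹ y x` commutes with `u'`
  have hyK : y ∈ K := D.hZK hy
  have hcomm : (x⁻¹ * (y : G) * x) * (((k' : N) ^ m : N) : G)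
      = (((k' : N) ^ m : N) : G) * (x⁻¹ * (y : G) * x) := by
    have h1 : ((k : N) ^ m) * y = y * ((k : N) ^ m) := D.central _ hu y hyK
    have h2 : (((k : N) ^ m : N) : G) * (y : G) = (y : G) * (((k : N) ^ m : N) : G) := by
      have := congrArg Subtype.val h1
      exact this
    rw [Subgroup.coe_pow] at h2 ⊢
    rw [hconj]
    calc x⁻¹ * (y : G) * x * (x⁻¹ * ((k : N) : G) ^ m * x)
        = x⁻¹ * ((y : G) * ((k : N) : G) ^ m) * x := by group
      _ = x⁻¹ * (((k : N) : G) ^ m * (y : G)) * x := by rw [h2]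
      _ = x⁻¹ * ((k : N) : G) ^ m * x * (x⁻¹ * (y : G) * x) := by group
  obtain ⟨hN, hK'⟩ := hcentG _ hu' hu1' _ hcomm
  refine ⟨hN, ?_⟩
  have hpow : (⟨⟨x⁻¹ * (y : G) * x, hN⟩, hK'⟩ : K) ^ Nat.card Z = 1 := by
    apply Subtype.ext
    apply Subtype.ext
    rw [Subgroup.coe_pow, Subgroup.coe_pow]
    show (x⁻¹ * (y : G) * x) ^ Nat.card Z = 1
    have := conj_pow (a := x⁻¹) (b := (y : G)) (i := Nat.card Z)
    rw [inv_inv] at this
    rw [this]
    have h1 : (⟨y, hy⟩ : Z) ^ Nat.card Z = 1 := pow_card_eq_one'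
    have h2 : (y : G) ^ Nat.card Z = 1 := by
      have h3 := congrArg Subtype.val h1
      rw [Subgroup.coe_pow] at h3
      have h4 := congrArg Subtype.val h3
      rw [Subgroup.coe_pow] at h4
      exact h4
    rw [h2]
    group
  exact D.mem_Z_of_pow_card hcop _ hpow

/-- The trivial-intersection property. -/
theorem ti_of_centralizers (D : BLData K Z π) [Finite Z]
    (hcop : Nat.Coprime (Nat.card Z) (Nat.card π.ker))
    (hcentG : ∀ z : N, z ∈ Z → z ≠ 1 → ∀ g : G, g * (z : G) = (z : G) * g →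
      ∃ h : g ∈ N, (⟨g, h⟩ : N) ∈ K)
    (hNorm : ∀ x : G, (∀ y : N, y ∈ Z → ∃ h : x⁻¹ * (y : G) * x ∈ N, (⟨_, h⟩ : N) ∈ Z) →
      (∀ y : N, y ∈ Z → ∃ h : x * (y : G) * x⁻¹ ∈ N, (⟨_, h⟩ : N) ∈ Z) → x ∈ N) :
    ∀ a ∈ blSet π, ∀ x : G, x⁻¹ * a * x ∈ blSet π → x ∈ N := by
  intro a ha x hx
  apply hNorm x
  · intro y hy
    exact D.conj_Z_of_blSet hcop hcentG a ha x hx y hy
  · intro y hy
    have h1 : (x⁻¹)⁻¹ * (x⁻¹ * a * x) * x⁻¹ ∈ blSet π := by
      have : (x⁻¹)⁻¹ * (x⁻¹ * a * x) * x⁻¹ = a := by group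
      rw [this]
      exact ha
    have := D.conj_Z_of_blSet hcop hcentG (x⁻¹ * a * x) hx x⁻¹ h1 y hy
    rw [inv_inv] at this
    exact this

end BLData

end Cfsg.Agent.Lib.Helper11
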