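import Cfsg.Agent.Lib.Helper11.BLStep2
import Cfsg.Agent.Lib.Helper11.BLTI
import Cfsg.Agent.Lib.Helper11.CentralChar
import Cfsg.Agent.Lib.Helper25.Kernel

/-!
Brauer–Leonard set-up, part 14: the concrete situation.  A Sylow `p`-subgroup `P` of `G` all of whose
nonidentity elements have centralizer `C_G(P)`; the main theorem.
-/

set_option autoImplicit false

namespace Cfsg.Agent.Lib.Helper11

open Cfsg
open Cfsg.Agent.Lib.Helper2
open scoped ComplexConjugate

section Concrete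

variable {G : Type*} [Group G]

/-- The uniform centralizer hypothesis: all nonidentity elements of `P₀` have centralizer
`C_G(P₀)`. -/
def UnifCent (P₀ : Subgroup G) : Prop :=
  ∀ x ∈ P₀, x ≠ 1 → Subgroup.centralizer ({x} : Set G) = Subgroup.centralizer (P₀ : Set G)

theorem UnifCent.le_centralizer {P₀ : Subgroup G} (h : UnifCent P₀) :
    P₀ ≤ Subgroup.centralizer (P₀ : Set G) := by
  intro x hx
  by_cases h1 : x = 1
  · rw [h1]
    exact Subgroup.one_mem _
  · rw [← h x hx h1, Subgroup.mem_centralizer_iff]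
    intro y hy
    rw [Set.mem_singleton_iff] at hy
    rw [hy]

/-- The centralizer is normal in the normalizer. -/
theorem centralizer_normal_in_normalizer (P₀ : Subgroup G) :
    ((Subgroup.centralizer (P₀ : Set G)).subgroupOf (Subgroup.normalizer (P₀ : Set G))).Normal := by
  constructor
  intro c hc n
  rw [Subgroup.mem_subgroupOf] at hc ⊢
  rw [Subgroup.mem_centralizer_iff] at hc ⊢
  intro y hy
  have hn : (n : G) ∈ Subgroup.normalizer (P₀ : Set G) := n.2
  have h1 : (n : G)⁻¹ * y * (n : G) ∈ P₀ := (Subgroup.mem_normalizer_iff''.1 hn y).1 hy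
  have h2 := hc _ h1
  show y * ((n : G) * (c : G) * (n : G)⁻¹) = (n : G) * (c : G) * (n : G)⁻¹ * y
  calc y * ((n : G) * (c : G) * (n : G)⁻¹)
      = (n : G) * ((n : G)⁻¹ * y * (n : G) * (c : G)) * (n : G)⁻¹ := by group
    _ = (n : G) * ((c : G) * ((n : G)⁻¹ * y * (n : G))) * (n : G)⁻¹ := by rw [h2]
    _ = (n : G) * (c : G) * (n : G)⁻¹ * y := by group

/-- An irreducible character constant on a subgroup contained in no proper normal subgroup is
principal. -/
theorem eq_one_of_const_on [Finite G] {P₀ : Subgroup G}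
    (hno : ∀ M : Subgroup G, M.Normal → P₀ ≤ M → M = ⊤) {ζ : G → ℂ} (hζ : IsIrrCharacter G ζ)
    (hconst : ∀ y ∈ P₀, ζ y = ζ 1) : ζ = fun _ => 1 := by
  classical
  haveI : Fintype G := Fintype.ofFinite G
  obtain ⟨M, hM, hmem⟩ := Cfsg.Agent.Lib.Helper25.exists_kernel (IsIrrCharacter.isCharacter hζ)
  have hPM : P₀ ≤ M := fun y hy => (hmem y).2 (hconst y hy)
  have htop := hno M hM hPM
  have hall : ∀ g : G, ζ g = ζ 1 := by
    intro g
    apply (hmem g).1
    rw [htop]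
    exact Subgroup.mem_top g
  obtain ⟨d, hdpos, hd⟩ := IsIrrCharacter.apply_one hζ
  have hinner : classInner ζ (fun _ : G => (1 : ℂ)) = (d : ℂ) := by
    rw [classInner_def]
    have : ∀ g : G, ζ g * conj ((fun _ : G => (1 : ℂ)) g) = (d : ℂ) := by
      intro g
      rw [hall g, hd, map_one, mul_one]
    rw [Finset.sum_congr rfl (fun g _ => this g), Finset.sum_const, Finset.card_univ,
      nsmul_eq_mul, ← Nat.card_eq_fintype_card]
    have hne : (Nat.card G : ℂ) ≠ 0 := card_ne_zero_complex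
    field_simp
  rw [classInner_irr_eq_ite hζ isIrrCharacter_one] at hinner
  by_contra hne
  rw [if_neg hne] at hinner
  have : d = 0 := by exact_mod_cast hinner.symm
  omega

/-- An irreducible character of maximal norm on a subgroup contained in no proper normal subgroup is
linear. -/
theorem degree_one_of_norm_const_on [Finite G] {P₀ : Subgroup G}
    (hno : ∀ M : Subgroup G, M.Normal → P₀ ≤ M → M = ⊤) {χ : G → ℂ} (hχ : IsIrrCharacter G χ)
    (hconst : ∀ y ∈ P₀, ‖χ y‖ = ‖χ 1‖) : ‖χ 1‖ ≤ 1 := by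
  classical
  haveI : Fintype G := Fintype.ofFinite G
  have hall : ∀ g : G, ‖χ g‖ = ‖χ 1‖ := by
    obtain ⟨n, ρ, hirr, rfl⟩ := hχ
    have h1 : ρ.character 1 = (Module.finrank ℂ (Fin n → ℂ) : ℂ) := Representation.char_one ρ
    have hPS : P₀ ≤ scalarSubgroup ρ := by
      intro y hy
      rw [mem_scalarSubgroup, ← norm_char_eq_finrank_iff, hconst y hy, h1, Complex.norm_natCast]
    have htop := hno _ (scalarSubgroup_normal ρ) hPS
    intro g
    have hg : g ∈ scalarSubgroup ρ := by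
      rw [htop]
      exact Subgroup.mem_top g
    rw [mem_scalarSubgroup, ← norm_char_eq_finrank_iff] at hg
    rw [hg, h1, Complex.norm_natCast]
  have hle := IsIrrCharacter.degree_sq_mul_card_le hχ ⊤ (fun d _ => hall d)
  rw [Subgroup.card_top] at hle
  have hpos : (0 : ℝ) < Nat.card G := by exact_mod_cast Nat.card_pos
  have h2 : ‖χ 1‖ ^ 2 ≤ 1 := by
    by_contra h
    push Not at h
    have : (Nat.card G : ℝ) < ‖χ 1‖ ^ 2 * (Nat.card G : ℝ) := by
      have := mul_lt_mul_of_pos_right h hpos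
      linarith
    linarith
  have h3 : 0 ≤ ‖χ 1‖ := norm_nonneg _
  nlinarith


set_option maxHeartbeats 1600000 in
/-- The Brauer–Leonard theorem, main case: if no proper normal subgroup contains `P`, then `G` has a
normal subgroup of index `|P|` and `χ` is linear. -/
theorem brauer_leonard_main [Finite G] (p : ℕ) [hp : Fact p.Prime] (P : Sylow p G)
    (hstar : UnifCent (P : Subgroup G))
    (hno : ∀ M : Subgroup G, M.Normal → (P : Subgroup G) ≤ M → M = ⊤)
    {χ : G → ℂ} (hχ : IsIrrCharacter G χ) (h1 : χ ≠ fun _ => 1) (x : ℕ) (hx : χ 1 = (x : ℂ))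
    (hdeg : x ^ 2 + 1 < Nat.card P) :
    (∃ N : Subgroup G, N.Normal ∧ N.index = Nat.card P) ∧ x = 1 := by
  classical
  haveI : Fintype G := Fintype.ofFinite G
  obtain ⟨P₀, hP₀⟩ : ∃ P₀ : Subgroup G, P₀ = (P : Subgroup G) := ⟨_, rfl⟩
  obtain ⟨N₀, hN₀⟩ : ∃ N₀ : Subgroup G, N₀ = Subgroup.normalizer (P₀ : Set G) := ⟨_, rfl⟩
  obtain ⟨C₀, hC₀⟩ : ∃ C₀ : Subgroup G, C₀ = Subgroup.centralizer (P₀ : Set G) := ⟨_, rfl⟩
  rw [← hP₀] at hstar hno
  have hPC : P₀ ≤ C₀ := by rw [hC₀]; exact hstar.le_centralizer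
  have hCN : C₀ ≤ N₀ := by rw [hC₀, hN₀]; exact Subgroup.centralizer_le_normalizer _
  have hPN : P₀ ≤ N₀ := hPC.trans hCN
  haveI : Fintype N₀ := Fintype.ofFinite _
  obtain ⟨K, hK⟩ : ∃ K : Subgroup N₀, K = C₀.subgroupOf N₀ := ⟨_, rfl⟩
  obtain ⟨Z, hZ⟩ : ∃ Z : Subgroup N₀, Z = P₀.subgroupOf N₀ := ⟨_, rfl⟩
  haveI : Fintype K := Fintype.ofFinite _
  have hmemK : ∀ l : N₀, l ∈ K ↔ (l : G) ∈ C₀ := by
    intro l
    rw [hK, Subgroup.mem_subgroupOf]
  have hmemZ : ∀ l : N₀, l ∈ Z ↔ (l : G) ∈ P₀ := by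
    intro l
    rw [hZ, Subgroup.mem_subgroupOf]
  have hmemC : ∀ g : G, g ∈ C₀ ↔ ∀ y ∈ P₀, y * g = g * y := by
    intro g
    rw [hC₀, Subgroup.mem_centralizer_iff]
    rfl
  haveI hKn : K.Normal := by
    rw [hK, hC₀, hN₀]
    exact centralizer_normal_in_normalizer P₀
  have hZK : Z ≤ K := fun z hz => (hmemK z).2 (hPC ((hmemZ z).1 hz))
  have hcent : ∀ z ∈ Z, ∀ k ∈ K, z * k = k * z := by
    intro z hz k hk
    apply Subtype.ext
    exact (hmemC _).1 ((hmemK k).1 hk) (z : G) ((hmemZ z).1 hz)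
  have hZcard0 : Nat.card Z = Nat.card P₀ := by
    rw [hZ]
    exact Nat.card_congr (Subgroup.subgroupOfEquivOfLe hPN).toEquiv
  have hZcard : Nat.card Z = Nat.card P := by
    rw [hZcard0, hP₀]
  have hcop0 : Nat.Coprime (Nat.card Z) (Z.relIndex K) := by
    rw [hZcard0, hZ, hK, Subgroup.relIndex_subgroupOf hCN]
    have h2 := Subgroup.relIndex_mul_index hPC
    have h3 := P.card_coprime_index
    rw [← hP₀, ← h2] at h3
    exact Nat.Coprime.coprime_mul_right_right h3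
  obtain ⟨π, hπ⟩ := exists_retraction_central K Z hZK hcent hcop0
  have hker : Nat.card π.ker = Z.relIndex K := card_ker_retraction hZK π hπ
  have hcop : Nat.Coprime (Nat.card Z) (Nat.card π.ker) := by rw [hker]; exact hcop0
  have hnormZ : ∀ n : N₀, ∀ z ∈ Z, n * z * n⁻¹ ∈ Z := by
    intro n z hz
    rw [hmemZ] at hz ⊢
    have hn : (n : G) ∈ Subgroup.normalizer (P₀ : Set G) := by rw [← hN₀]; exact n.2
    exact (Subgroup.mem_normalizer_iff.1 hn (z : G)).1 hz
  have hstar' : ∀ z : G, z ∈ P₀ → z ≠ 1 → ∀ g : G, g * z = z * g → g ∈ C₀ := by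
    intro z hz hz1 g hg
    rw [hC₀, ← hstar z hz hz1, Subgroup.mem_centralizer_iff]
    intro y hy
    rw [Set.mem_singleton_iff] at hy
    rw [hy]
    exact hg.symm
  have hfree : ∀ n : N₀, ∀ z ∈ Z, z ≠ 1 → n * z = z * n → n ∈ K := by
    intro n z hz hz1 hcomm
    rw [hmemK]
    have hz1' : (z : G) ≠ 1 := fun h => hz1 (Subtype.ext h)
    exact hstar' (z : G) ((hmemZ z).1 hz) hz1' (n : G) (congrArg Subtype.val hcomm)
  have D : BLData K Z π := blData_of_retraction hZK hcent hnormZ hfree π hπ hcop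
  have hcentG : ∀ z : N₀, z ∈ Z → z ≠ 1 → ∀ g : G, g * (z : G) = (z : G) * g →
      ∃ h : g ∈ N₀, (⟨g, h⟩ : N₀) ∈ K := by
    intro z hz hz1 g hg
    have hz1' : (z : G) ≠ 1 := fun h => hz1 (Subtype.ext h)
    have hgC := hstar' (z : G) ((hmemZ z).1 hz) hz1' g hg
    exact ⟨hCN hgC, (hmemK _).2 hgC⟩
  have hNorm : ∀ x : G, (∀ y : N₀, y ∈ Z → ∃ h : x⁻¹ * (y : G) * x ∈ N₀, (⟨_, h⟩ : N₀) ∈ Z) →
      (∀ y : N₀, y ∈ Z → ∃ h : x * (y : G) * x⁻¹ ∈ N₀, (⟨_, h⟩ : N₀) ∈ Z) → x ∈ N₀ := by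
    intro x hx1 hx2
    rw [hN₀, Subgroup.mem_normalizer_iff]
    intro y
    constructor
    · intro hy
      obtain ⟨h, hm⟩ := hx2 ⟨y, hPN hy⟩ ((hmemZ _).2 hy)
      exact (hmemZ _).1 hm
    · intro hy
      obtain ⟨h, hm⟩ := hx1 ⟨x * y * x⁻¹, hPN hy⟩ ((hmemZ _).2 hy)
      have h3 := (hmemZ _).1 hm
      have h4 : x⁻¹ * (x * y * x⁻¹) * x = y := by group
      rw [← h4]
      exact h3
  have hTI := D.ti_of_centralizers hcop hcentG hNorm
  have Hc : ∀ ζ : G → ℂ, IsIrrCharacter G ζ → ZTriv Z (fun k : K => ζ ((k : N₀) : G)) →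
      ζ = fun _ => 1 := by
    intro ζ hζ hzt
    apply eq_one_of_const_on hno hζ
    intro y hy
    exact hzt ⟨⟨y, hPN hy⟩, (hmemK _).2 (hPC hy)⟩ ((hmemZ _).2 hy)
  have hnt : ¬ ZTriv Z (fun k : K => χ ((k : N₀) : G)) := fun h => h1 (Hc χ hχ h)
  have hidx : K.index = 1 :=
    D.step2 hTI Hc hχ x hx (by rw [hZcard]; exact hdeg) hnt
  have hKtop : K = ⊤ := Subgroup.index_eq_one.1 hidx
  have hNC : Subgroup.normalizer ((P : Subgroup G) : Set G)
      ≤ Subgroup.centralizer ((P : Subgroup G) : Set G) := by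
    rw [← hP₀, ← hN₀, ← hC₀]
    intro n hn
    have : (⟨n, hn⟩ : N₀) ∈ K := by
      rw [hKtop]
      exact Subgroup.mem_top _
    exact (hmemK _).1 this
  refine ⟨⟨(MonoidHom.transferSylow P hNC).ker, MonoidHom.normal_ker _, ?_⟩, ?_⟩
  · exact (MonoidHom.ker_transferSylow_isComplement' P hNC).symm.index_eq_card
  · -- the degree
    obtain ⟨hnorm, -⟩ := D.step1 hTI hχ x hx (by rw [hZcard]; omega) hnt
    rw [hidx, Nat.cast_one] at hnorm
    have hχK : IsCharacter K (fun k : K => χ ((k : N₀) : G)) :=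
      IsCharacter.restrict (IsCharacter.restrict (IsIrrCharacter.isCharacter hχ) N₀) K
    have hθ : IsIrrCharacter K (fun k : K => χ ((k : N₀) : G)) :=
      isIrrCharacter_of_classInner_self_eq_one hχK hnorm
    have hconst : ∀ y ∈ P₀, ‖χ y‖ = ‖χ 1‖ := by
      intro y hy
      let k : K := ⟨⟨y, hPN hy⟩, (hmemK _).2 (hPC hy)⟩
      have hkZ : (k : N₀) ∈ Z := (hmemZ _).2 hy
      have := IsIrrCharacter.norm_eq_of_commutators_in_ker hθ k (by
        intro c
        have : k * c * k⁻¹ * c⁻¹ = 1 := by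
          rw [D.central_elt k hkZ c]
          group
        rw [this])
      exact this
    have hle := degree_one_of_norm_const_on hno hχ hconst
    rw [hx, Complex.norm_natCast] at hle
    have hx1 : x ≤ 1 := by exact_mod_cast hle
    obtain ⟨d, hdpos, hd⟩ := IsIrrCharacter.apply_one hχ
    have : d = x := by
      rw [hx] at hd
      exact_mod_cast hd.symm
    omega

end Concrete

end Cfsg.Agent.Lib.Helper11
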