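import Cfsg.Agent.Lib.Helper11.BLGamma2

/-!
Brauer–Leonard set-up, part 8: the generalized character `Γ_λ` is orthogonal to the exceptional
characters of every family, apart from the one attached to `λ` itself.
-/

set_option autoImplicit false

namespace Cfsg.Agent.Lib.Helper11

open Cfsg
open Cfsg.Agent.Lib.Helper2
open scoped ComplexConjugate

namespace BLData

variable {G : Type*} [Group G] [Fintype G] {N : Subgroup G} [Fintype N] {K Z : Subgroup N}
  [hK : K.Normal] [Fintype K] {π : K →* Z}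

/-- Inner product of the test function with the members of a family. -/
theorem inner_blAlpha_fam (D : BLData K Z π) {lam : Z →* ℂˣ} (hlam : lam ≠ 1) {θ₁ : K → ℂ}
    (hθ₁ : IsIrrCharacter K θ₁) {ξ : N → ℂ} (hξ : ξ ∈ famSet π θ₁)
    [Decidable (indFun K (extC π lam) = ξ)] :
    classInner (blAlpha π lam) ξ = if indFun K (extC π lam) = ξ then -1 else 0 := by
  classical
  obtain ⟨lam', hnt, rfl⟩ := hξ
  have := D.inner_blAlpha hlam (twist_irr lam' hθ₁) hnt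
  convert this

/-- Members of a family are orthogonal to the principal character. -/
theorem fam_inner_one (D : BLData K Z π) {θ₁ : K → ℂ} (hθ₁ : IsIrrCharacter K θ₁) {ξ : N → ℂ}
    (hξ : ξ ∈ famSet π θ₁) : classInner (fun _ : N => (1 : ℂ)) ξ = 0 := by
  classical
  obtain ⟨lam', hnt, rfl⟩ := hξ
  rw [classInner_indFun_right K _ _ (fun _ _ => rfl),
    classInner_irr_eq_ite isIrrCharacter_one (twist_irr lam' hθ₁), if_neg]
  intro h
  apply hnt
  rw [← h]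
  intro k _
  rfl

omit [Fintype K] in
theorem fam_isClassFunction {θ₁ : K → ℂ} {ξ : N → ℂ} (hξ : ξ ∈ famSet π θ₁) :
    IsClassFunction N ξ := by
  obtain ⟨lam', -, rfl⟩ := hξ
  exact Cfsg.Agent.Lib.Helper2.indFun_isClassFunction K _

/-- Differences of inner products of `Γ_λ` with the exceptional characters. -/
theorem blGamma_inner_sub (D : BLData K Z π)
    (hTI : ∀ a ∈ blSet π, ∀ x : G, x⁻¹ * a * x ∈ blSet π → x ∈ N) (lam : Z →* ℂˣ)
    {θ₁ : K → ℂ} (τ₁ : (N → ℂ) → (G → ℂ))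
    (h3 : ∀ ξ ∈ famSet π θ₁, ∀ ξ' ∈ famSet π θ₁, τ₁ ξ - τ₁ ξ' = indFun N (ξ - ξ'))
    {ξ ξ' : N → ℂ} (hξ : ξ ∈ famSet π θ₁) (hξ' : ξ' ∈ famSet π θ₁) :
    classInner (blGamma π lam) (τ₁ ξ) - classInner (blGamma π lam) (τ₁ ξ')
      = classInner (blAlpha π lam) ξ - classInner (blAlpha π lam) ξ' := by
  rw [← classInner_sub_right, h3 ξ hξ ξ' hξ', ← classInner_sub_right]
  unfold blGamma
  apply classInner_indFun_indFun_of_TI N (blSet π) hTI _ _ (D.blAlpha_vanish' lam)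
  · exact isClassFunction_sub (fam_isClassFunction hξ) (fam_isClassFunction hξ')
  · intro l hl
    exact D.famSet_sub_vanish θ₁ ξ hξ ξ' hξ' l ((not_mem_blSet_iff l).1 hl)

/-- The exceptional characters of a family are orthogonal to the principal character. -/
theorem one_inner_tau (D : BLData K Z π) {θ₁ : K → ℂ} (hθ₁ : IsIrrCharacter K θ₁)
    (τ₁ : (N → ℂ) → (G → ℂ))
    (h1 : ∀ ξ ∈ famSet π θ₁, IsSignedIrr (τ₁ ξ))
    (h2 : ∀ ξ ∈ famSet π θ₁, ∀ ξ' ∈ famSet π θ₁,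
      classInner (τ₁ ξ) (τ₁ ξ') = if ξ = ξ' then 1 else 0)
    (h3 : ∀ ξ ∈ famSet π θ₁, ∀ ξ' ∈ famSet π θ₁, τ₁ ξ - τ₁ ξ' = indFun N (ξ - ξ'))
    (hex : ∀ ξ ∈ famSet π θ₁, ∃ ξ' ∈ famSet π θ₁, ξ' ≠ ξ)
    {ξ : N → ℂ} (hξ : ξ ∈ famSet π θ₁) : classInner (fun _ : G => (1 : ℂ)) (τ₁ ξ) = 0 := by
  classical
  obtain ⟨ξ', hξ', hne⟩ := hex ξ hξ
  have hsub : classInner (fun _ : G => (1 : ℂ)) (τ₁ ξ) = classInner (fun _ : G => (1 : ℂ)) (τ₁ ξ') := by
    have h4 : classInner (fun _ : G => (1 : ℂ)) (τ₁ ξ - τ₁ ξ') = 0 := by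
      rw [h3 ξ hξ ξ' hξ', classInner_indFun_right N _ _ (fun _ _ => rfl), classInner_sub_right,
        D.fam_inner_one hθ₁ hξ, D.fam_inner_one hθ₁ hξ', sub_zero]
    rw [classInner_sub_right] at h4
    exact sub_eq_zero.1 h4
  by_contra hne0
  have h1G : IsSignedIrr (fun _ : G => (1 : ℂ)) := Or.inl isIrrCharacter_one
  have hne0' : classInner (fun _ : G => (1 : ℂ)) (τ₁ ξ') ≠ 0 := by rw [← hsub]; exact hne0
  have hc1 := IsSignedIrr.inner_cases h1G (h1 ξ hξ)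
  have hc2 := IsSignedIrr.inner_cases h1G (h1 ξ' hξ')
  have h22 := h2 ξ hξ ξ' hξ'
  rw [if_neg (fun h => hne h.symm)] at h22
  have hself := IsSignedIrr.inner_self h1G
  rcases hc1 with ⟨h0, -, -⟩ | ⟨ha, -⟩ | ⟨ha, -⟩
  · exact hne0 h0
  · rcases hc2 with ⟨h0, -, -⟩ | ⟨hb, -⟩ | ⟨hb, -⟩
    · exact hne0' h0
    · rw [← ha, ← hb, hself] at h22
      exact one_ne_zero h22
    · have hb' : τ₁ ξ' = -(fun _ : G => (1 : ℂ)) := by rw [hb]; simp
      rw [← ha, hb', classInner_neg_right, hself] at h22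
      norm_num at h22
  · have ha' : τ₁ ξ = -(fun _ : G => (1 : ℂ)) := by rw [ha]; simp
    rcases hc2 with ⟨h0, -, -⟩ | ⟨hb, -⟩ | ⟨hb, -⟩
    · exact hne0' h0
    · rw [ha', ← hb, classInner_neg_left, hself] at h22
      norm_num at h22
    · have hb' : τ₁ ξ' = -(fun _ : G => (1 : ℂ)) := by rw [hb]; simp
      rw [ha', hb', classInner_neg_left, classInner_neg_right, hself] at h22
      norm_num at h22

end BLData

end Cfsg.Agent.Lib.Helper11
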