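import Cfsg.Agent.Lib.Helper11.BLOrth

/-!
Brauer–Leonard set-up, part 9: `Γ_λ` is orthogonal to the exceptional characters of every family,
apart from the one attached to `λ` itself.
-/

set_option autoImplicit false

namespace Cfsg.Agent.Lib.Helper11

open Cfsg
open Cfsg.Agent.Lib.Helper2
open scoped ComplexConjugate

theorem IsSignedIrr.isGenChar {X : Type*} [Group X] [Fintype X] {a : X → ℂ} (h : IsSignedIrr a) :
    IsGeneralizedCharacter X a := by
  rcases h with h | h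
  · exact isGenChar_of_isChar (IsIrrCharacter.isCharacter h)
  · have := isGenChar_neg (isGenChar_of_isChar (IsIrrCharacter.isCharacter h))
    simpa using this

namespace BLData

variable {G : Type*} [Group G] [Fintype G] {N : Subgroup G} [Fintype N] {K Z : Subgroup N}
  [hK : K.Normal] [Fintype K] {π : K →* Z}

set_option maxHeartbeats 1600000 in
/-- `Γ_λ` is orthogonal to the exceptional characters of every family, apart from the one attached
to `λ`. -/
theorem gamma_orth (D : BLData K Z π) [Finite Z]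
    (hTI : ∀ a ∈ blSet π, ∀ x : G, x⁻¹ * a * x ∈ blSet π → x ∈ N)
    (he2 : 2 ≤ K.index) (hq : K.index * K.index + 1 < Nat.card Z)
    {θ₁ : K → ℂ} (hθ₁ : IsIrrCharacter K θ₁) (τ₁ : (N → ℂ) → (G → ℂ))
    (h1 : ∀ ξ ∈ famSet π θ₁, IsSignedIrr (τ₁ ξ))
    (h2 : ∀ ξ ∈ famSet π θ₁, ∀ ξ' ∈ famSet π θ₁,
      classInner (τ₁ ξ) (τ₁ ξ') = if ξ = ξ' then 1 else 0)
    (h3 : ∀ ξ ∈ famSet π θ₁, ∀ ξ' ∈ famSet π θ₁, τ₁ ξ - τ₁ ξ' = indFun N (ξ - ξ'))
    {lam : Z →* ℂˣ} (hlam : lam ≠ 1) {ξ₀ : N → ℂ} (hξ₀ : ξ₀ ∈ famSet π θ₁)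
    (hne : ξ₀ ≠ indFun K (extC π lam)) :
    classInner (blGamma π lam) (τ₁ ξ₀) = 0 := by
  classical
  obtain ⟨F, hFS, hFcard⟩ := D.card_fam_ge hθ₁ K.index rfl hq
  have hmemF : ∀ ξ, ξ ∈ F ↔ ξ ∈ famSet π θ₁ := by
    intro ξ
    rw [← hFS, Finset.mem_coe]
  obtain ⟨e, he⟩ : ∃ e : ℕ, e = K.index := ⟨_, rfl⟩
  rw [← he] at he2 hq hFcard
  obtain ⟨ξl, hξl⟩ : ∃ ξl : N → ℂ, ξl = indFun K (extC π lam) := ⟨_, rfl⟩
  rw [← hξl] at hne
  have hex : ∀ ξ ∈ famSet π θ₁, ∃ ξ' ∈ famSet π θ₁, ξ' ≠ ξ := by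
    intro ξ _
    have h1c : 1 < F.card := by omega
    obtain ⟨b, hb, hbne⟩ := Finset.exists_mem_ne h1c ξ
    exact ⟨b, (hmemF b).1 hb, hbne⟩
  have h1G : ∀ ξ ∈ famSet π θ₁, classInner (fun _ : G => (1 : ℂ)) (τ₁ ξ) = 0 :=
    fun ξ hξ => D.one_inner_tau hθ₁ τ₁ h1 h2 h3 hex hξ
  obtain ⟨n, hn⟩ := IsGeneralizedCharacter.inner_int (blGamma_isGenChar (π := π) lam)
    (IsSignedIrr.isGenChar (h1 ξ₀ hξ₀))
  -- values of the inner products
  have hval : ∀ ξ ∈ famSet π θ₁, classInner (blGamma π lam) (τ₁ ξ)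
      = ((n + (if ξl = ξ then -1 else 0) : ℤ) : ℂ) := by
    intro ξ hξ
    have h4 := D.blGamma_inner_sub hTI lam τ₁ h3 hξ hξ₀
    rw [D.inner_blAlpha_fam hlam hθ₁ hξ, D.inner_blAlpha_fam hlam hθ₁ hξ₀, ← hξl,
      if_neg (show ¬ (ξl = ξ₀) from fun h => hne h.symm), sub_zero, hn] at h4
    have h5 : classInner (blGamma π lam) (τ₁ ξ) = (n : ℂ) + (if ξl = ξ then -1 else 0) := by
      rw [← h4]; ring
    rw [h5]
    split_ifs <;> push_cast <;> ring
  -- the generalized character `X' = Γ - 1`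
  obtain ⟨X', hX'⟩ : ∃ X' : G → ℂ, X' = blGamma π lam - fun _ : G => (1 : ℂ) := ⟨_, rfl⟩
  have hX'inner : ∀ ξ ∈ famSet π θ₁, classInner X' (τ₁ ξ)
      = ((n + (if ξl = ξ then -1 else 0) : ℤ) : ℂ) := by
    intro ξ hξ
    rw [hX', classInner_sub_left, h1G ξ hξ, sub_zero, hval ξ hξ]
  have h11 : classInner (fun _ : G => (1 : ℂ)) (fun _ : G => (1 : ℂ)) = 1 :=
    classInner_irrCharacter_self (⟨_, isIrrCharacter_one⟩ : IrrCharacter G)
  have hX'norm : classInner X' X' = (e : ℂ) := by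
    have hΓ1 := D.blGamma_inner_one hlam
    have h1Γ : classInner (fun _ : G => (1 : ℂ)) (blGamma π lam) = 1 := by
      rw [← classInner_conj_symm, hΓ1, map_one]
    rw [hX', classInner_sub_left, classInner_sub_right, classInner_sub_right,
      D.blGamma_norm hTI hlam, hΓ1, h1Γ, h11, ← he]
    ring
  have horth : ∀ ξ ∈ F, ∀ ξ' ∈ F, classInner (τ₁ ξ) (τ₁ ξ') = if ξ = ξ' then 1 else 0 :=
    fun ξ hξ ξ' hξ' => h2 ξ ((hmemF ξ).1 hξ) ξ' ((hmemF ξ').1 hξ')
  have hbes := bessel_indexed_le F τ₁ horth X'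
  have hXre : (classInner X' X').re = (e : ℝ) := by rw [hX'norm, Complex.natCast_re]
  rw [hXre] at hbes
  have hterm : ∀ ξ ∈ F, ‖classInner X' (τ₁ ξ)‖ ^ 2
      = (((n + (if ξl = ξ then -1 else 0)) ^ 2 : ℤ) : ℝ) := by
    intro ξ hξ
    rw [hX'inner ξ ((hmemF ξ).1 hξ), Complex.norm_intCast, sq_abs]
    push_cast
    rfl
  have hsumR : ∑ ξ ∈ F, ‖classInner X' (τ₁ ξ)‖ ^ 2
      = ((∑ ξ ∈ F, (n + (if ξl = ξ then -1 else 0)) ^ 2 : ℤ) : ℝ) := by
    rw [Finset.sum_congr rfl hterm, ← Int.cast_sum]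
  rw [hsumR] at hbes
  have hbesZ : ∑ ξ ∈ F, (n + (if ξl = ξ then -1 else 0)) ^ 2 ≤ (e : ℤ) := by
    exact_mod_cast hbes
  rw [hn]
  by_contra hn0
  have hn0' : n ≠ 0 := by
    intro h
    apply hn0
    rw [h, Int.cast_zero]
  have hn1 : 1 ≤ n ^ 2 := by
    have : 0 < n ^ 2 := by positivity
    omega
  by_cases hlF : ξl ∈ F
  · -- the principal family
    have hsum : ∑ ξ ∈ F, (n + (if ξl = ξ then -1 else 0)) ^ 2
        = (n - 1) ^ 2 + ((F.card : ℤ) - 1) * n ^ 2 := by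
      rw [← Finset.add_sum_erase F _ hlF, if_pos rfl]
      have : ∀ ξ ∈ F.erase ξl, (n + (if ξl = ξ then -1 else 0)) ^ 2 = n ^ 2 := by
        intro ξ hξ
        rw [if_neg (fun h => (Finset.ne_of_mem_erase hξ) h.symm), add_zero]
      rw [Finset.sum_congr rfl this, Finset.sum_const, Finset.card_erase_of_mem hlF, nsmul_eq_mul]
      have hc1 : 1 ≤ F.card := by omega
      push_cast [Nat.cast_sub hc1]
      ring
    rw [hsum] at hbesZ
    have hFe : (e : ℤ) ≤ (F.card : ℤ) - 1 := by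
      have : e + 1 ≤ F.card := hFcard
      omega
    have he2' : (2 : ℤ) ≤ e := by exact_mod_cast he2
    -- `n = 1` and `|F| = e + 1`
    have hnle : n ^ 2 ≤ 1 := by
      by_contra hgt
      have : 2 ≤ n ^ 2 := by omega
      nlinarith [sq_nonneg (n - 1)]
    have hn_eq : n = 1 := by
      have hsq : n ^ 2 = 1 := le_antisymm hnle hn1
      rcases int_sq_eq_one hsq with h | h
      · exact h
      · exfalso
        rw [h] at hbesZ
        nlinarith
    rw [hn_eq] at hbesZ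
    have hFeq : (F.card : ℤ) - 1 = e := by
      have : ((F.card : ℤ) - 1) ≤ e := by nlinarith
      omega
    -- equality in Bessel
    have hproj := eq_proj_of_bessel_indexed_eq F τ₁ horth X' (by
      rw [hXre, hsumR, hsum, hn_eq, hFeq]
      push_cast
      norm_num)
    rw [hn_eq] at hX'inner
    have hproj1 := congrFun hproj 1
    rw [Finset.sum_apply] at hproj1
    have hdeg : ∀ ξ ∈ famSet π θ₁, τ₁ ξ 1 = τ₁ ξ₀ 1 := by
      intro ξ hξ
      have h4 := congrFun (h3 ξ hξ ξ₀ hξ₀) 1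
      rw [Pi.sub_apply, indFun_apply_one, Pi.sub_apply, famSet_degree θ₁ ξ hξ,
        famSet_degree θ₁ ξ₀ hξ₀, sub_self, mul_zero] at h4
      exact sub_eq_zero.1 h4
    have hsum1 : ∑ ξ ∈ F, (classInner X' (τ₁ ξ) • τ₁ ξ) 1 = (e : ℂ) * τ₁ ξ₀ 1 := by
      rw [← Finset.add_sum_erase F _ hlF]
      have hl0 : (classInner X' (τ₁ ξl) • τ₁ ξl) 1 = 0 := by
        rw [Pi.smul_apply, hX'inner ξl ((hmemF ξl).1 hlF), if_pos rfl]
        simp
      have hrest : ∀ ξ ∈ F.erase ξl, (classInner X' (τ₁ ξ) • τ₁ ξ) 1 = τ₁ ξ₀ 1 := by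
        intro ξ hξ
        have hξF := Finset.mem_of_mem_erase hξ
        rw [Pi.smul_apply, hX'inner ξ ((hmemF ξ).1 hξF),
          if_neg (fun h => (Finset.ne_of_mem_erase hξ) h.symm), hdeg ξ ((hmemF ξ).1 hξF)]
        simp
      rw [hl0, zero_add, Finset.sum_congr rfl hrest, Finset.sum_const,
        Finset.card_erase_of_mem hlF, nsmul_eq_mul]
      congr 1
      have hc1 : 1 ≤ F.card := by omega
      have : F.card - 1 = e := by omega
      rw [this]
    rw [hsum1, hX', Pi.sub_apply, blGamma_apply_one, zero_sub] at hproj1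
    obtain ⟨χ', ε, hε, hτε⟩ := (h1 ξ₀ hξ₀).exists_rep
    obtain ⟨m, hmpos, hm⟩ := IsIrrCharacter.apply_one χ'.2
    rw [hτε, Pi.smul_apply, hm, smul_eq_mul] at hproj1
    rcases hε with rfl | rfl
    · have h5 : ((e * m : ℕ) : ℂ) = -1 := by
        push_cast
        rw [hproj1]
        ring
      have h6 : ((e * m : ℕ) : ℤ) = -1 := by exact_mod_cast h5
      have : (0 : ℤ) ≤ ((e * m : ℕ) : ℤ) := Int.natCast_nonneg _
      omega
    · have h5 : ((e * m : ℕ) : ℂ) = 1 := by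
        push_cast
        have : (e : ℂ) * (-1 * (m : ℂ)) = -((e : ℂ) * (m : ℂ)) := by ring
        rw [this] at hproj1
        exact neg_injective hproj1.symm
      have h6 : e * m = 1 := by exact_mod_cast h5
      have : e = 1 := Nat.eq_one_of_mul_eq_one_right h6
      omega
  · -- a family not containing `ξl`
    have hsum : ∑ ξ ∈ F, (n + (if ξl = ξ then -1 else 0)) ^ 2 = (F.card : ℤ) * n ^ 2 := by
      have : ∀ ξ ∈ F, (n + (if ξl = ξ then -1 else 0)) ^ 2 = n ^ 2 := by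
        intro ξ hξ
        rw [if_neg (show ¬ (ξl = ξ) from fun h => hlF (by rw [h]; exact hξ)), add_zero]
      rw [Finset.sum_congr rfl this, Finset.sum_const, nsmul_eq_mul]
    rw [hsum] at hbesZ
    have hFe : (e : ℤ) + 1 ≤ (F.card : ℤ) := by exact_mod_cast hFcard
    nlinarith

end BLData

end Cfsg.Agent.Lib.Helper11
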