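import Cfsg.Agent.Lib.Helper11.BLCentral

/-!
Brauer–Leonard set-up, part 12: construction of the retraction `π : K →* Z` for a central subgroup
`Z` of `K` of order coprime to its index, via the transfer; the resulting `BLData`.
-/

set_option autoImplicit false

namespace Cfsg.Agent.Lib.Helper11

open Cfsg

theorem eq_one_of_pow_eq_one_of_coprime {X : Type*} [Group X] {x : X} {a b : ℕ}
    (ha : x ^ a = 1) (hb : x ^ b = 1) (hab : Nat.Coprime a b) : x = 1 := by
  have h1 := orderOf_dvd_of_pow_eq_one ha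
  have h2 := orderOf_dvd_of_pow_eq_one hb
  have h3 : orderOf x ∣ 1 := by
    have := Nat.dvd_gcd h1 h2
    rwa [hab] at this
  exact orderOf_eq_one_iff.1 (Nat.dvd_one.1 h3)

/-- A central subgroup whose order is coprime to its index is a retract (by the transfer). -/
theorem exists_retraction_aux {X : Type*} [Group X] [Finite X] (Q : Subgroup X)
    (hcent : ∀ z ∈ Q, ∀ k : X, z * k = k * z) (hcop : Nat.Coprime (Nat.card Q) Q.index) :
    ∃ π : X →* Q, ∀ z : Q, π (z : X) = z := by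
  classical
  letI : CommGroup Q := { (inferInstance : Group Q) with
    mul_comm := fun a b => Subtype.ext (hcent a a.2 b) }
  let T : X →* Q := MonoidHom.transfer (MonoidHom.id Q)
  have hT : ∀ z : Q, T (z : X) = z ^ Q.index := by
    intro z
    have key : ∀ (k : ℕ) (g₀ : X), g₀⁻¹ * (z : X) ^ k * g₀ ∈ Q →
        g₀⁻¹ * (z : X) ^ k * g₀ = (z : X) ^ k := by
      intro k g₀ _
      have h1 : (z : X) ^ k * g₀ = g₀ * (z : X) ^ k := hcent _ (Q.pow_mem z.2 k) g₀
      rw [mul_assoc, h1, ← mul_assoc, inv_mul_cancel, one_mul]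
    have h2 := MonoidHom.transfer_eq_pow (MonoidHom.id Q) (z : X) key
    show MonoidHom.transfer (MonoidHom.id Q) (z : X) = z ^ Q.index
    rw [h2]
    apply Subtype.ext
    simp
  let a : ℤ := Nat.gcdA Q.index (Nat.card Q)
  let b : ℤ := Nat.gcdB Q.index (Nat.card Q)
  have hab : (Q.index : ℤ) * a + (Nat.card Q : ℤ) * b = 1 := by
    have := Nat.gcd_eq_gcd_ab Q.index (Nat.card Q)
    rw [Nat.Coprime.symm hcop] at this
    simpa using this.symm
  refine ⟨(zpowGroupHom a).comp T, fun z => ?_⟩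
  show (T (z : X)) ^ a = z
  rw [hT z, ← zpow_natCast, ← zpow_mul]
  have h3 : (Q.index : ℤ) * a = 1 - (Nat.card Q : ℤ) * b := by linarith
  rw [h3, zpow_sub, zpow_one, zpow_mul, zpow_natCast, pow_card_eq_one', one_zpow, inv_one, mul_one]

/-- The retraction for subgroups `Z ≤ K` of a group. -/
theorem exists_retraction_central {L : Type*} [Group L] [Finite L] (K Z : Subgroup L) (hZK : Z ≤ K)
    (hcent : ∀ z ∈ Z, ∀ k ∈ K, z * k = k * z) (hcop : Nat.Coprime (Nat.card Z) (Z.relIndex K)) :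
    ∃ π : K →* Z, ∀ (z : L) (hz : z ∈ Z), π ⟨z, hZK hz⟩ = ⟨z, hz⟩ := by
  have hcard : Nat.card (Z.subgroupOf K) = Nat.card Z :=
    Nat.card_congr (Subgroup.subgroupOfEquivOfLe hZK).toEquiv
  obtain ⟨π₀, hπ₀⟩ := exists_retraction_aux (Z.subgroupOf K)
    (fun z hz k => Subtype.ext (hcent z hz k k.2)) (by rw [hcard]; exact hcop)
  refine ⟨(Subgroup.subgroupOfEquivOfLe hZK).toMonoidHom.comp π₀, fun z hz => ?_⟩
  have := hπ₀ ⟨⟨z, hZK hz⟩, hz⟩
  show Subgroup.subgroupOfEquivOfLe hZK (π₀ ⟨z, hZK hz⟩) = ⟨z, hz⟩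
  rw [this]
  rfl


section Data

variable {L : Type*} [Group L] [Finite L] {K Z : Subgroup L}

/-- The kernel of a retraction has order the index. -/
theorem card_ker_retraction (hZK : Z ≤ K) (π : K →* Z)
    (hπ : ∀ (z : L) (hz : z ∈ Z), π ⟨z, hZK hz⟩ = ⟨z, hz⟩) :
    Nat.card π.ker = Z.relIndex K := by
  have hsurj : Function.Surjective π := fun z => ⟨⟨z, hZK z.2⟩, hπ z z.2⟩
  have h1 := Subgroup.card_mul_index π.ker
  rw [Subgroup.index_ker, MonoidHom.range_eq_top.2 hsurj, Subgroup.card_top] at h1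
  have h2 := Subgroup.card_mul_index (Z.subgroupOf K)
  have hcard : Nat.card (Z.subgroupOf K) = Nat.card Z :=
    Nat.card_congr (Subgroup.subgroupOfEquivOfLe hZK).toEquiv
  rw [hcard, mul_comm] at h2
  have hZpos : 0 < Nat.card Z := Nat.card_pos
  have : Nat.card π.ker * Nat.card Z = Z.relIndex K * Nat.card Z := by
    rw [h1]
    exact h2.symm
  exact Nat.eq_of_mul_eq_mul_right hZpos this

omit [Finite L] in
/-- Elements of the kernel of the retraction are killed by the index. -/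
theorem pow_card_ker_eq_one (π : K →* Z) (d : K) (hd : π d = 1) : d ^ Nat.card π.ker = 1 := by
  have h1 : (⟨d, hd⟩ : π.ker) ^ Nat.card π.ker = 1 := pow_card_eq_one'
  have := congrArg Subtype.val h1
  simpa using this

/-- The Brauer–Leonard data from a retraction. -/
theorem blData_of_retraction [hK : K.Normal] (hZK : Z ≤ K)
    (hcent : ∀ z ∈ Z, ∀ k ∈ K, z * k = k * z) (hnorm : ∀ n : L, ∀ z ∈ Z, n * z * n⁻¹ ∈ Z)
    (hfree : ∀ n : L, ∀ z ∈ Z, z ≠ 1 → n * z = z * n → n ∈ K)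
    (π : K →* Z) (hπ : ∀ (z : L) (hz : z ∈ Z), π ⟨z, hZK hz⟩ = ⟨z, hz⟩)
    (hcop : Nat.Coprime (Nat.card Z) (Nat.card π.ker)) : BLData K Z π := by
  refine ⟨hZK, hcent, hπ, ?_, hfree⟩
  intro n k h
  -- decompose `k = d * z`
  set z : Z := π k with hz
  let zK : K := ⟨z, hZK z.2⟩
  have hπz : π zK = z := hπ z z.2
  let d : K := k * zK⁻¹
  have hd : π d = 1 := by
    show π (k * zK⁻¹) = 1
    rw [map_mul, map_inv, hπz, ← hz, mul_inv_cancel]
  have hdK : n * (d : L) * n⁻¹ ∈ K := hK.conj_mem _ d.2 n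
  have hzZ : n * (z : L) * n⁻¹ ∈ Z := hnorm n z z.2
  let d' : K := ⟨n * (d : L) * n⁻¹, hdK⟩
  let z' : K := ⟨n * (z : L) * n⁻¹, hZK hzZ⟩
  have hprod : (⟨n * k * n⁻¹, h⟩ : K) = d' * z' := by
    apply Subtype.ext
    show n * (k : L) * n⁻¹ = n * ((k : L) * ((z : L))⁻¹) * n⁻¹ * (n * (z : L) * n⁻¹)
    group
  have hπz' : π z' = ⟨n * (z : L) * n⁻¹, hzZ⟩ := hπ _ hzZ
  have hπd' : π d' = 1 := by
    apply eq_one_of_pow_eq_one_of_coprime (a := Nat.card Z) (b := Nat.card π.ker) pow_card_eq_one' _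
      hcop
    rw [← map_pow]
    have h1 : d' ^ Nat.card π.ker = 1 := by
      apply Subtype.ext
      show (n * (d : L) * n⁻¹) ^ Nat.card π.ker = 1
      rw [conj_pow]
      have h2 := congrArg Subtype.val (pow_card_ker_eq_one π d hd)
      rw [Subgroup.coe_pow] at h2
      rw [h2]
      simp
    rw [h1, map_one]
  rw [hprod, map_mul, hπd', one_mul, hπz']

end Data

end Cfsg.Agent.Lib.Helper11
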