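import Cfsg.Agent.Lib.Helper11.BLBound

/-!
Brauer–Leonard set-up, part 5: for an irreducible character `χ` of `G` of degree `x` with
`x² < |Z|` that is not constant on `Z`, the restriction to `K` has norm exactly `[N : K]`, and
`[N : K] ≤ x`.
-/

set_option autoImplicit false

namespace Cfsg.Agent.Lib.Helper11

open Cfsg
open Cfsg.Agent.Lib.Helper2
open scoped ComplexConjugate

namespace BLData

variable {G : Type*} [Group G] [Fintype G] {N : Subgroup G} [Fintype N] {K Z : Subgroup N}
  [hK : K.Normal] [Fintype K] {π : K →* Z}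

omit [Fintype G] [Fintype N] hK [Fintype K] in
theorem pi_surjective (D : BLData K Z π) : Function.Surjective π := by
  intro z
  exact ⟨⟨z, D.hZK z.2⟩, D.retract z z.2⟩

omit [Fintype G] [Fintype N] hK in
/-- `|ker π| * |Z| = |K|`. -/
theorem card_ker_mul (D : BLData K Z π) [Finite Z] :
    Nat.card π.ker * Nat.card Z = Nat.card K := by
  have h1 := Subgroup.card_mul_index π.ker
  rw [Subgroup.index_ker, MonoidHom.range_eq_top.2 D.pi_surjective, Subgroup.card_top] at h1
  exact h1

open Classical in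
/-- The norm of the restriction to `K` of an irreducible character of small degree is at most the
index of `K` in `N`. -/
theorem norm_restrict_le (D : BLData K Z π) [Finite Z]
    (hTI : ∀ a ∈ blSet π, ∀ x : G, x⁻¹ * a * x ∈ blSet π → x ∈ N)
    {χ : G → ℂ} (hχ : IsIrrCharacter G χ) (x : ℕ) (hx : χ 1 = (x : ℂ))
    (hxq : x ^ 2 < Nat.card Z) (m : ℕ)
    (hm : classInner (fun k : K => χ ((k : N) : G)) (fun k : K => χ ((k : N) : G)) = (m : ℂ)) :
    m ≤ K.index := by
  have hχc : IsCharacter G χ := IsIrrCharacter.isCharacter hχ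
  obtain ⟨x', hx', hbound⟩ := IsCharacter.exists_degree_norm_le hχc
  have hxx' : x' = x := by
    rw [hx] at hx'
    exact_mod_cast hx'.symm
  subst hxx'
  have hW := D.sum_norm_sq_le hTI hχ
  -- the total sum
  have hKpos : (0 : ℝ) < Nat.card K := by exact_mod_cast Nat.card_pos
  have hM : ∑ k : K, ‖χ ((k : N) : G)‖ ^ 2 = (m : ℝ) * Nat.card K := by
    rw [classInner_self_eq_ofReal] at hm
    have h1 : (Nat.card K : ℝ)⁻¹ * ∑ k : K, ‖χ ((k : N) : G)‖ ^ 2 = (m : ℝ) := by
      exact_mod_cast hm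
    field_simp at h1
    linarith
  have hsplit : ∑ k : K, ‖χ ((k : N) : G)‖ ^ 2
      = ∑ k : K, (if π k = 1 then 0 else ‖χ ((k : N) : G)‖ ^ 2)
        + ∑ k : K, (if π k = 1 then ‖χ ((k : N) : G)‖ ^ 2 else 0) := by
    rw [← Finset.sum_add_distrib]
    apply Finset.sum_congr rfl
    intro k _
    split_ifs <;> simp
  have hS : ∑ k : K, (if π k = 1 then ‖χ ((k : N) : G)‖ ^ 2 else 0)
      ≤ (Nat.card π.ker : ℝ) * (x' : ℝ) ^ 2 := by
    have h1 : ∑ k : K, (if π k = 1 then ‖χ ((k : N) : G)‖ ^ 2 else 0)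
        ≤ ∑ k : K, (if π k = 1 then (x' : ℝ) ^ 2 else 0) := by
      apply Finset.sum_le_sum
      intro k _
      split_ifs
      · have := hbound ((k : N) : G)
        have h0 : 0 ≤ ‖χ ((k : N) : G)‖ := norm_nonneg _
        nlinarith
      · exact le_refl _
    have h2 : ∑ k : K, (if π k = 1 then (x' : ℝ) ^ 2 else 0)
        = (Nat.card π.ker : ℝ) * (x' : ℝ) ^ 2 := by
      rw [← Finset.sum_filter, Finset.sum_const, nsmul_eq_mul]
      congr 2
      rw [Nat.card_eq_fintype_card, Fintype.card_subtype]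
      congr 1
      ext k
      simp [MonoidHom.mem_ker]
    rw [← h2]
    exact h1
  have hker := D.card_ker_mul
  have hidx : (Nat.card N : ℝ) = (K.index : ℝ) * Nat.card K := by
    have := Subgroup.card_mul_index K
    rw [mul_comm] at this
    exact_mod_cast this.symm
  have hkerR : (Nat.card π.ker : ℝ) * Nat.card Z = Nat.card K := by exact_mod_cast hker
  have hxqR : (x' : ℝ) ^ 2 + 1 ≤ Nat.card Z := by exact_mod_cast hxq
  have hkpos : (0 : ℝ) < Nat.card π.ker := by exact_mod_cast Nat.card_pos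
  -- combine
  have hfin : (m : ℝ) * Nat.card K < ((K.index : ℝ) + 1) * Nat.card K := by
    have h1 : (m : ℝ) * Nat.card K ≤ (K.index : ℝ) * Nat.card K
        + (Nat.card π.ker : ℝ) * (x' : ℝ) ^ 2 := by
      rw [← hM, hsplit, ← hidx]
      linarith
    have h2 : (Nat.card π.ker : ℝ) * (x' : ℝ) ^ 2 < Nat.card K := by
      rw [← hkerR]
      have : (x' : ℝ) ^ 2 < Nat.card Z := by linarith
      exact mul_lt_mul_of_pos_left this hkpos
    linarith
  have hlt : (m : ℝ) < (K.index : ℝ) + 1 := lt_of_mul_lt_mul_right hfin hKpos.le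
  have : m < K.index + 1 := by exact_mod_cast hlt
  omega

omit [Fintype G] [Fintype N] hK in
/-- A character of `K` that is not constant on `Z` has an irreducible constituent that is not
constant on `Z`. -/
theorem exists_constituent_not_ztriv {ψ : K → ℂ} (hψ : IsCharacter K ψ) (hnt : ¬ ZTriv Z ψ) :
    ∃ θ : K → ℂ, IsIrrCharacter K θ ∧ classInner ψ θ ≠ 0 ∧ ¬ ZTriv Z θ := by
  classical
  have : Fintype (IrrCharacter K) := Fintype.ofFinite _
  by_contra hcon
  apply hnt
  intro k hk
  have hexp := classFunction_expansion ψ (IsCharacter.isClassFunction hψ)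
  have h1 := congrFun hexp k
  have h2 := congrFun hexp 1
  rw [Finset.sum_apply] at h1 h2
  rw [h1, h2]
  apply Finset.sum_congr rfl
  intro θ _
  rw [Pi.smul_apply, Pi.smul_apply]
  by_cases h0 : classInner ψ (θ : K → ℂ) = 0
  · rw [h0, zero_smul, zero_smul]
  · have hz : ZTriv Z (θ : K → ℂ) := by
      by_contra hz
      exact hcon ⟨θ, θ.2, h0, hz⟩
    rw [hz k hk]

/-- Step 1 of the Brauer–Leonard argument. -/
theorem step1 (D : BLData K Z π) [Finite Z]
    (hTI : ∀ a ∈ blSet π, ∀ x : G, x⁻¹ * a * x ∈ blSet π → x ∈ N)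
    {χ : G → ℂ} (hχ : IsIrrCharacter G χ) (x : ℕ) (hx : χ 1 = (x : ℂ))
    (hxq : x ^ 2 < Nat.card Z) (hnt : ¬ ZTriv Z (fun k : K => χ ((k : N) : G))) :
    classInner (fun k : K => χ ((k : N) : G)) (fun k : K => χ ((k : N) : G)) = (K.index : ℂ) ∧
      K.index ≤ x := by
  classical
  have hχc : IsCharacter G χ := IsIrrCharacter.isCharacter hχ
  have hχN : IsCharacter N (fun h : N => χ h) := IsCharacter.restrict hχc N
  have hχK : IsCharacter K (fun k : K => χ ((k : N) : G)) := IsCharacter.restrict hχN K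
  obtain ⟨m, hm⟩ := classInner_isCharacter_nat hχK hχK
  have hme := D.norm_restrict_le hTI hχ x hx hxq m hm
  obtain ⟨θ₀, hθ₀, hne₀, hnt₀⟩ := exists_constituent_not_ztriv hχK hnt
  obtain ⟨a, ha⟩ := classInner_isCharacter_nat hχK (IsIrrCharacter.isCharacter hθ₀)
  have ha0 : a ≠ 0 := by
    intro h
    apply hne₀
    rw [ha, h, Nat.cast_zero]
  have hξ₀ : IsIrrCharacter N (indFun K θ₀) := D.irr_indFun hθ₀ hnt₀
  have hrec : classInner (fun h : N => χ h) (indFun K θ₀) = (a : ℂ) := by
    rw [← classInner_conj_symm, frobenius_reciprocity K θ₀ _ (IsCharacter.isClassFunction hχN),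
      classInner_conj_symm]
    exact ha
  -- the truncation of `χ` to `K`
  set ψ : N → ℂ := extendByZero K (fun k : K => χ ((k : N) : G)) with hψ
  have hψK : (fun k : K => ψ k) = fun k : K => χ ((k : N) : G) := by
    funext k
    rw [hψ, extendByZero_coe]
  have hψψ : classInner ψ ψ = (Nat.card K : ℂ) / (Nat.card N : ℂ) * (m : ℂ) := by
    rw [classInner_of_vanish_off K ψ ψ (fun l hl => extendByZero_of_not_mem K _ hl), hψK, hm]
  have hψξ : classInner ψ (indFun K θ₀) = (a : ℂ) := by
    rw [← hrec, classInner_def, classInner_def]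
    congr 1
    apply Finset.sum_congr rfl
    intro l _
    by_cases hl : l ∈ K
    · rw [hψ, extendByZero_of_mem K _ hl]
    · rw [indFun_apply_of_not_mem K θ₀ hl, map_zero, mul_zero, mul_zero]
  have hbes := bessel_le {indFun K θ₀} (by
    intro α hα β hβ
    rw [Finset.mem_singleton] at hα hβ
    rw [hα, hβ, if_pos rfl]
    exact classInner_irrCharacter_self (⟨_, hξ₀⟩ : IrrCharacter N)) ψ
  rw [Finset.sum_singleton, hψξ, hψψ] at hbes
  have hidx : (Nat.card N : ℝ) = (K.index : ℝ) * Nat.card K := by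
    have := Subgroup.card_mul_index K
    rw [mul_comm] at this
    exact_mod_cast this.symm
  have hKpos : (0 : ℝ) < Nat.card K := by exact_mod_cast Nat.card_pos
  have hepos : (0 : ℝ) < K.index := by
    have : 0 < K.index := Nat.pos_of_ne_zero Subgroup.index_ne_zero_of_finite
    exact_mod_cast this
  have hre : ((Nat.card K : ℂ) / (Nat.card N : ℂ) * (m : ℂ)).re = (m : ℝ) / (K.index : ℝ) := by
    have : ((Nat.card K : ℂ) / (Nat.card N : ℂ) * (m : ℂ))
        = (((Nat.card K : ℝ) / (Nat.card N : ℝ) * (m : ℝ) : ℝ) : ℂ) := by push_cast; rfl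
    rw [this, Complex.ofReal_re, hidx]
    field_simp
  rw [hre, Complex.norm_natCast] at hbes
  have ha1 : (1 : ℝ) ≤ (a : ℝ) := by
    have : 1 ≤ a := Nat.one_le_iff_ne_zero.2 ha0
    exact_mod_cast this
  have hem : (K.index : ℝ) ≤ (m : ℝ) := by
    have h1 : (1 : ℝ) ≤ (m : ℝ) / (K.index : ℝ) := by nlinarith
    rw [le_div_iff₀ hepos] at h1
    linarith
  have hem' : K.index ≤ m := by exact_mod_cast hem
  have hmeq : m = K.index := le_antisymm hme hem'
  refine ⟨by rw [hm, hmeq], ?_⟩
  -- the degree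
  obtain ⟨d, hdpos, hd⟩ := IsIrrCharacter.apply_one hθ₀
  have hξ1 : indFun K θ₀ 1 = ((K.index * d : ℕ) : ℂ) := by
    rw [indFun_apply_one, hd]
    push_cast
    rfl
  have hdeg := IsCharacter.mul_degree_le hχN hξ₀ a (K.index * d) x hrec hξ1 hx
  calc K.index ≤ K.index * d := Nat.le_mul_of_pos_right _ hdpos
    _ ≤ a * (K.index * d) := Nat.le_mul_of_pos_left _ (Nat.pos_of_ne_zero ha0)
    _ ≤ x := hdeg

end BLData

end Cfsg.Agent.Lib.Helper11
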