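import Cfsg.Agent.Lib.Helper11.BLCount
import Cfsg.Agent.Lib.Helper2.DirectProduct

/-!
Brauer–Leonard set-up, part 11: the second step.  If every irreducible character of `G` constant on
`Z` is principal, and `G` has an irreducible character of degree `x` with `x² + 1 < |Z|` that is not
constant on `Z`, then `N = K`.
-/

set_option autoImplicit false

namespace Cfsg.Agent.Lib.Helper11

open Cfsg
open Cfsg.Agent.Lib.Helper2
open scoped ComplexConjugate

namespace BLData

variable {G : Type*} [Group G] [Fintype G] {N : Subgroup G} [Fintype N] {K Z : Subgroup N}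
  [hK : K.Normal] [Fintype K] {π : K →* Z}

omit [Fintype N] hK in
/-- Expansion of the inner product of a restriction. -/
theorem restrict_inner_expansion [Fintype (IrrCharacter G)] {ψ : G → ℂ}
    (hψ : IsClassFunction G ψ) (θ : K → ℂ) :
    classInner (fun k : K => ψ ((k : N) : G)) θ
      = ∑ ζ : IrrCharacter G, classInner ψ (ζ : G → ℂ) *
          classInner (fun k : K => (ζ : G → ℂ) ((k : N) : G)) θ := by
  have hexp := classFunction_expansion ψ hψ
  have h1 : (fun k : K => ψ ((k : N) : G)) = ∑ ζ : IrrCharacter G,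
      classInner ψ (ζ : G → ℂ) • (fun k : K => (ζ : G → ℂ) ((k : N) : G)) := by
    funext k
    have h2 := congrFun hexp ((k : N) : G)
    rw [Finset.sum_apply] at h2
    rw [Finset.sum_apply]
    exact h2
  rw [h1, classInner_sum_left]
  apply Finset.sum_congr rfl
  intro ζ _
  rw [classInner_smul_left]

omit [Fintype N] hK in
/-- An irreducible constituent of `ψ` restricts to `K` without the constituents that the
restriction of `ψ` does not have. -/
theorem constituent_restrict_zero {ψ ζ : G → ℂ} (hψ : IsCharacter G ψ) (hζ : IsIrrCharacter G ζ)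
    (hne : classInner ψ ζ ≠ 0) {θ : K → ℂ} (hθ : IsCharacter K θ)
    (h0 : classInner (fun k : K => ψ ((k : N) : G)) θ = 0) :
    classInner (fun k : K => ζ ((k : N) : G)) θ = 0 := by
  classical
  have : Fintype (IrrCharacter G) := Fintype.ofFinite _
  have hres : ∀ μ : IrrCharacter G, IsCharacter K (fun k : K => (μ : G → ℂ) ((k : N) : G)) :=
    fun μ => IsCharacter.restrict (IsCharacter.restrict (IsIrrCharacter.isCharacter μ.2) N) K
  have ha : ∀ μ : IrrCharacter G, ∃ n : ℕ, classInner ψ (μ : G → ℂ) = (n : ℂ) :=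
    fun μ => IsCharacter.inner_irr_nat hψ μ
  have hb : ∀ μ : IrrCharacter G, ∃ n : ℕ,
      classInner (fun k : K => (μ : G → ℂ) ((k : N) : G)) θ = (n : ℂ) :=
    fun μ => classInner_isCharacter_nat (hres μ) hθ
  choose a ha using ha
  choose b hb using hb
  have hexp := restrict_inner_expansion (N := N) (K := K) (IsCharacter.isClassFunction hψ) θ
  rw [h0] at hexp
  have hsum : ∑ μ : IrrCharacter G, a μ * b μ = 0 := by
    have : ((∑ μ : IrrCharacter G, a μ * b μ : ℕ) : ℂ) = 0 := by
      rw [hexp]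
      push_cast
      apply Finset.sum_congr rfl
      intro μ _
      rw [ha μ, hb μ]
    exact_mod_cast this
  have hz := (Finset.sum_eq_zero_iff.1 hsum) ⟨ζ, hζ⟩ (Finset.mem_univ _)
  have ha0 : a ⟨ζ, hζ⟩ ≠ 0 := by
    intro h
    apply hne
    have := ha ⟨ζ, hζ⟩
    simp only at this
    rw [this, h, Nat.cast_zero]
  have hb0 : b ⟨ζ, hζ⟩ = 0 := by
    rcases Nat.mul_eq_zero.1 hz with h | h
    · exact absurd h ha0
    · exact h
  have := hb ⟨ζ, hζ⟩
  simp only at this
  rw [this, hb0, Nat.cast_zero]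


omit [Fintype N] hK in
/-- The inner product of `χ χ̄` with the principal character is the norm of `χ`. -/
theorem inner_mul_conj_one {X : Type*} [Group X] [Fintype X] (φ : X → ℂ) :
    classInner (fun g => φ g * conj (φ g)) (fun _ : X => (1 : ℂ)) = classInner φ φ := by
  rw [classInner_def, classInner_def]
  congr 1
  apply Finset.sum_congr rfl
  intro g _
  rw [map_one, mul_one]

omit [Fintype N] hK in
/-- If the restriction of `χ` to `K` has norm at least two, then `χ χ̄` has a nonprincipal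
irreducible constituent whose restriction to `K` contains the principal character. -/
theorem exists_zeta {χ : G → ℂ} (hχ : IsIrrCharacter G χ) (e : ℕ) (he : 2 ≤ e)
    (hnorm : classInner (fun k : K => χ ((k : N) : G)) (fun k : K => χ ((k : N) : G)) = (e : ℂ)) :
    ∃ ζ : G → ℂ, IsIrrCharacter G ζ ∧ ζ ≠ (fun _ => 1) ∧
      classInner (fun g => χ g * conj (χ g)) ζ ≠ 0 ∧
      classInner (fun k : K => ζ ((k : N) : G)) (fun _ : K => (1 : ℂ)) ≠ 0 := by
  classical
  have : Fintype (IrrCharacter G) := Fintype.ofFinite _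
  by_contra hcon
  have hη : IsCharacter G (fun g => χ g * conj (χ g)) :=
    isCharacter_mul (IsIrrCharacter.isCharacter hχ)
      (IsIrrCharacter.isCharacter (isIrrCharacter_conj hχ))
  have hexp := restrict_inner_expansion (N := N) (K := K) (IsCharacter.isClassFunction hη)
    (fun _ : K => (1 : ℂ))
  have h1 : classInner (fun k : K => (fun g => χ g * conj (χ g)) ((k : N) : G))
      (fun _ : K => (1 : ℂ)) = (e : ℂ) := by
    rw [← hnorm]
    exact inner_mul_conj_one (fun k : K => χ ((k : N) : G))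
  rw [h1] at hexp
  let one : IrrCharacter G := ⟨fun _ => 1, isIrrCharacter_one⟩
  rw [Finset.sum_eq_single one] at hexp
  · have h2 : classInner (fun g => χ g * conj (χ g)) (one : G → ℂ) = 1 := by
      show classInner (fun g => χ g * conj (χ g)) (fun _ : G => (1 : ℂ)) = 1
      rw [inner_mul_conj_one]
      exact classInner_irrCharacter_self (⟨χ, hχ⟩ : IrrCharacter G)
    have h3 : classInner (fun k : K => (one : G → ℂ) ((k : N) : G)) (fun _ : K => (1 : ℂ)) = 1 :=
      classInner_irrCharacter_self (⟨_, isIrrCharacter_one⟩ : IrrCharacter K)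
    rw [h2, h3, mul_one] at hexp
    have : e = 1 := by exact_mod_cast hexp
    omega
  · intro μ _ hμ
    by_contra h0
    apply hcon
    refine ⟨μ, μ.2, ?_, ?_, ?_⟩
    · intro h
      apply hμ
      exact Subtype.ext h
    · intro h
      apply h0
      rw [h, zero_mul]
    · intro h
      apply h0
      rw [h, mul_zero]
  · intro h
    exact absurd (Finset.mem_univ _) h


omit [Fintype G] in
/-- Two linear characters `λ₁, λ₂` of `Z` outside a character `ψ` of `K` of small degree whose
extensions induce different characters of `N`. -/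
theorem exists_two_lam (D : BLData K Z π) [Finite Z] {ψ : K → ℂ} (hψ : IsCharacter K ψ) (m : ℕ)
    (hm : ψ 1 = (m : ℂ)) (he : classInner ψ (fun _ : K => (1 : ℂ)) = (K.index : ℂ))
    (hq : m + 1 < Nat.card Z) :
    ∃ lam₁ lam₂ : Z →* ℂˣ, lam₁ ≠ 1 ∧ lam₂ ≠ 1 ∧ classInner ψ (extC π lam₁) = 0 ∧
      classInner ψ (extC π lam₂) = 0 ∧ indFun K (extC π lam₁) ≠ indFun K (extC π lam₂) := by
  classical
  have : Fintype (Z →* ℂˣ) := Fintype.ofFinite _
  have hc : ∀ lam : Z →* ℂˣ, ∃ n : ℕ, classInner ψ (extC π lam) = (n : ℂ) :=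
    fun lam => classInner_isCharacter_nat hψ (IsIrrCharacter.isCharacter (extC_irr lam))
  choose c hc using hc
  have hext1 : extC π (1 : Z →* ℂˣ) = fun _ : K => (1 : ℂ) := by
    funext k
    simp [extC]
  have hc1 : c 1 = K.index := by
    have := hc 1
    rw [hext1, he] at this
    exact_mod_cast this.symm
  have hinj : ∀ lam lam' : Z →* ℂˣ, extC π lam = extC π lam' → lam = lam' := by
    intro lam lam' h
    rw [extC_eq_twist, extC_eq_twist] at h
    exact D.twist_injective isIrrCharacter_one h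
  let B : Finset (Z →* ℂˣ) := Finset.univ.filter (fun lam => lam ≠ 1 ∧ c lam ≠ 0)
  let Z0 : Finset (Z →* ℂˣ) := Finset.univ.filter (fun lam => lam ≠ 1 ∧ c lam = 0)
  have h1B : (1 : Z →* ℂˣ) ∉ B := by
    intro h
    exact (Finset.mem_filter.1 h).2.1 rfl
  have hsum := IsCharacter.sum_inner_le_degree hψ (insert 1 B) (fun lam => extC π lam)
    (fun lam _ => extC_irr lam) (fun lam _ lam' _ h => hinj lam lam' h) c m
    (fun lam _ => hc lam) hm
  rw [Finset.sum_insert h1B, hc1] at hsum
  have hBle : B.card ≤ ∑ lam ∈ B, c lam := by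
    calc B.card = ∑ _lam ∈ B, 1 := by simp
      _ ≤ ∑ lam ∈ B, c lam := Finset.sum_le_sum (fun lam hlam =>
          Nat.one_le_iff_ne_zero.2 (Finset.mem_filter.1 hlam).2.2)
  -- counting
  have hcard : Z0.card + B.card + 1 = Nat.card Z := by
    rw [← D.card_hom, Nat.card_eq_fintype_card, ← Finset.card_univ]
    have hdisj : Disjoint Z0 B := by
      rw [Finset.disjoint_left]
      intro lam h1 h2
      exact (Finset.mem_filter.1 h2).2.2 (Finset.mem_filter.1 h1).2.2
    have h1ZB : (1 : Z →* ℂˣ) ∉ Z0 ∪ B := by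
      intro h
      rcases Finset.mem_union.1 h with h | h
      · exact (Finset.mem_filter.1 h).2.1 rfl
      · exact h1B h
    have huniv : (Finset.univ : Finset (Z →* ℂˣ)) = insert 1 (Z0 ∪ B) := by
      ext lam
      simp only [Finset.mem_univ, Finset.mem_insert, Finset.mem_union, true_iff]
      by_cases h1 : lam = 1
      · exact Or.inl h1
      · right
        by_cases h2 : c lam = 0
        · exact Or.inl (Finset.mem_filter.2 ⟨Finset.mem_univ _, h1, h2⟩)
        · exact Or.inr (Finset.mem_filter.2 ⟨Finset.mem_univ _, h1, h2⟩)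
    rw [huniv, Finset.card_insert_of_notMem h1ZB, Finset.card_union_of_disjoint hdisj]
  have hZ0 : K.index + 1 ≤ Z0.card := by omega
  -- the fibres of induction on `Z0`
  have hnt : ∀ lam ∈ Z0, ¬ ZTriv Z (twist π lam (fun _ : K => (1 : ℂ))) := by
    intro lam hlam
    rw [← extC_eq_twist]
    exact D.extC_not_ztriv (Finset.mem_filter.1 hlam).2.1
  have hfib : ∀ a ∈ Z0.image (fun lam => indFun K (extC π lam)),
      (Z0.filter (fun lam => indFun K (extC π lam) = a)).card ≤ K.index := by
    intro a ha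
    obtain ⟨lam₀, hlam₀, rfl⟩ := Finset.mem_image.1 ha
    have := D.fiber_le isIrrCharacter_one Z0 (hnt lam₀ hlam₀)
    simp only [← extC_eq_twist] at this
    exact this
  have hmul := Finset.card_le_mul_card_image (s := Z0) (f := fun lam => indFun K (extC π lam))
    K.index hfib
  have himg : 1 < (Z0.image (fun lam => indFun K (extC π lam))).card := by
    by_contra h
    have h' : (Z0.image (fun lam => indFun K (extC π lam))).card ≤ 1 := by omega
    have : K.index * (Z0.image (fun lam => indFun K (extC π lam))).card ≤ K.index * 1 :=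
      Nat.mul_le_mul_left _ h'
    omega
  obtain ⟨a, ha, b, hb, hab⟩ := Finset.one_lt_card.1 himg
  obtain ⟨lam₁, hlam₁, rfl⟩ := Finset.mem_image.1 ha
  obtain ⟨lam₂, hlam₂, rfl⟩ := Finset.mem_image.1 hb
  refine ⟨lam₁, lam₂, (Finset.mem_filter.1 hlam₁).2.1, (Finset.mem_filter.1 hlam₂).2.1, ?_, ?_, hab⟩
  · rw [hc lam₁, (Finset.mem_filter.1 hlam₁).2.2, Nat.cast_zero]
  · rw [hc lam₂, (Finset.mem_filter.1 hlam₂).2.2, Nat.cast_zero]


/-- An irreducible character `ζ` of small degree which is not orthogonal to `Γ_λ₁` and `Γ_λ₂` has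
no constituent on `K` that is not constant on `Z`. -/
theorem zeta_family_zero (D : BLData K Z π) [Finite Z]
    (hTI : ∀ a ∈ blSet π, ∀ x : G, x⁻¹ * a * x ∈ blSet π → x ∈ N)
    (he2 : 2 ≤ K.index) (hq : K.index * K.index + 1 < Nat.card Z)
    {ζ : G → ℂ} (hζ : IsIrrCharacter G ζ) {lam₁ lam₂ : Z →* ℂˣ} (hlam₁ : lam₁ ≠ 1)
    (hlam₂ : lam₂ ≠ 1) (hne12 : indFun K (extC π lam₁) ≠ indFun K (extC π lam₂))
    (hu₁ : classInner ζ (blGamma π lam₁) ≠ 0) (hu₂ : classInner ζ (blGamma π lam₂) ≠ 0)
    (d : ℕ) (hd : ζ 1 = (d : ℂ)) (hdq : d + 1 < Nat.card Z)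
    {θ : K → ℂ} (hθ : IsIrrCharacter K θ) (hnt : ¬ ZTriv Z θ) :
    classInner (fun k : K => ζ ((k : N) : G)) θ = 0 := by
  classical
  have : Fintype (Z →* ℂˣ) := Fintype.ofFinite _
  have hζc : IsCharacter G ζ := IsIrrCharacter.isCharacter hζ
  have hζcf : IsClassFunction G ζ := IsCharacter.isClassFunction hζc
  have hζN : IsCharacter N (fun h : N => ζ h) := IsCharacter.restrict hζc N
  have hζNcf : IsClassFunction N (fun h : N => ζ h) := IsCharacter.isClassFunction hζN
  have hζK : IsCharacter K (fun k : K => ζ ((k : N) : G)) := IsCharacter.restrict hζN K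
  obtain ⟨τ₁, h1, h2, h3⟩ := D.fam_coherent hTI hq hθ
  -- `ζ` is orthogonal to the exceptional characters
  have horth : ∀ ξ ∈ famSet π θ, classInner ζ (τ₁ ξ) = 0 := by
    intro ξ hξ
    have key : ∀ lam : Z →* ℂˣ, lam ≠ 1 → classInner ζ (blGamma π lam) ≠ 0 →
        ξ ≠ indFun K (extC π lam) → classInner ζ (τ₁ ξ) = 0 := by
      intro lam hlam hu hne
      have hg := D.gamma_orth hTI he2 hq hθ τ₁ h1 h2 h3 hlam hξ hne
      rcases IsSignedIrr.inner_cases (Or.inl hζ : IsSignedIrr ζ) (h1 ξ hξ) with h | h | h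
      · exact h.1
      · exfalso
        apply hu
        rw [h.1, ← classInner_conj_symm, hg, map_zero]
      · exfalso
        apply hu
        rw [h.1, classInner_neg_left, ← classInner_conj_symm, hg, map_zero, neg_zero]
    by_cases hξ1 : ξ = indFun K (extC π lam₁)
    · apply key lam₂ hlam₂ hu₂
      rw [hξ1]
      exact hne12
    · exact key lam₁ hlam₁ hu₁ hξ1
  -- hence the multiplicities in `ζ` on `N` are constant on the family
  have hconst : ∀ ξ ∈ famSet π θ, ∀ ξ' ∈ famSet π θ,
      classInner (fun h : N => ζ h) ξ = classInner (fun h : N => ζ h) ξ' := by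
    intro ξ hξ ξ' hξ'
    have h4 : classInner ζ (τ₁ ξ - τ₁ ξ') = 0 := by
      rw [classInner_sub_right, horth ξ hξ, horth ξ' hξ', sub_zero]
    rw [h3 ξ hξ ξ' hξ', classInner_indFun_right N _ ζ hζcf, classInner_sub_right] at h4
    exact sub_eq_zero.1 h4
  have hmem : indFun K θ ∈ famSet π θ := mem_famSet_self hnt
  obtain ⟨c', hc'⟩ := classInner_isCharacter_nat hζK (IsIrrCharacter.isCharacter hθ)
  let s : Finset (Z →* ℂˣ) := Finset.univ.filter (fun lam => ¬ ZTriv Z (twist π lam θ))
  have hcs : ∀ lam ∈ s, classInner (fun k : K => ζ ((k : N) : G)) (twist π lam θ) = (c' : ℂ) := by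
    intro lam hlam
    have hnt' : ¬ ZTriv Z (twist π lam θ) := (Finset.mem_filter.1 hlam).2
    have hmem' : indFun K (twist π lam θ) ∈ famSet π θ := ⟨lam, hnt', rfl⟩
    have h5 := hconst _ hmem' _ hmem
    rw [classInner_indFun_right K _ _ hζNcf, classInner_indFun_right K _ _ hζNcf] at h5
    rw [← hc']
    exact h5
  have hζK1 : (fun k : K => ζ ((k : N) : G)) 1 = (d : ℂ) := by
    show ζ (((1 : K) : N) : G) = (d : ℂ)
    rw [← hd]
    rfl
  have hle := IsCharacter.card_mul_le_degree hζK s (fun lam => twist π lam θ)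
    (fun lam _ => twist_irr lam hθ) (fun lam _ lam' _ h => D.twist_injective hθ h) c' d hcs hζK1
  have hcard := D.card_nt_ge hθ
  have hc0 : c' = 0 := by
    by_contra h
    have h1' : 1 ≤ c' := Nat.one_le_iff_ne_zero.2 h
    have : s.card ≤ c' * s.card := Nat.le_mul_of_pos_left _ h1'
    have hs : Nat.card Z ≤ s.card + 1 := hcard
    omega
  rw [hc', hc0, Nat.cast_zero]


/-- Step 2 of the Brauer–Leonard argument: `N = K`. -/
theorem step2 (D : BLData K Z π) [Finite Z]
    (hTI : ∀ a ∈ blSet π, ∀ x : G, x⁻¹ * a * x ∈ blSet π → x ∈ N)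
    (Hc : ∀ ζ : G → ℂ, IsIrrCharacter G ζ → ZTriv Z (fun k : K => ζ ((k : N) : G)) →
      ζ = fun _ => 1)
    {χ : G → ℂ} (hχ : IsIrrCharacter G χ) (x : ℕ) (hx : χ 1 = (x : ℂ))
    (hxq : x ^ 2 + 1 < Nat.card Z) (hnt : ¬ ZTriv Z (fun k : K => χ ((k : N) : G))) :
    K.index = 1 := by
  classical
  by_contra he1
  have hepos : 0 < K.index := Nat.pos_of_ne_zero Subgroup.index_ne_zero_of_finite
  have he2 : 2 ≤ K.index := by omega
  obtain ⟨hnorm, hex⟩ := D.step1 hTI hχ x hx (by omega) hnt
  have hq : K.index * K.index + 1 < Nat.card Z := by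
    have : K.index * K.index ≤ x * x := Nat.mul_le_mul hex hex
    have h2 : x ^ 2 = x * x := sq x
    omega
  obtain ⟨ζ, hζ, hζ1, hηζ, hu⟩ := exists_zeta (N := N) (K := K) hχ K.index he2 hnorm
  have hχc : IsCharacter G χ := IsIrrCharacter.isCharacter hχ
  have hη : IsCharacter G (fun g => χ g * conj (χ g)) :=
    isCharacter_mul hχc (IsIrrCharacter.isCharacter (isIrrCharacter_conj hχ))
  have hηN : IsCharacter N (fun h : N => (fun g => χ g * conj (χ g)) (h : G)) :=
    IsCharacter.restrict hη N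
  have hηK : IsCharacter K (fun k : K => (fun g => χ g * conj (χ g)) ((k : N) : G)) :=
    IsCharacter.restrict hηN K
  have hη1 : (fun g => χ g * conj (χ g)) 1 = ((x ^ 2 : ℕ) : ℂ) := by
    show χ 1 * conj (χ 1) = _
    rw [hx, Complex.conj_natCast]
    push_cast
    ring
  -- the degree of `ζ`
  obtain ⟨d, hdpos, hd⟩ := IsIrrCharacter.apply_one hζ
  obtain ⟨a, ha⟩ := IsCharacter.inner_irr_nat hη ⟨ζ, hζ⟩
  have ha0 : a ≠ 0 := by
    intro h
    apply hηζ
    rw [ha, h, Nat.cast_zero]
  have hdeg := IsCharacter.mul_degree_le hη hζ a d (x ^ 2) ha hd hη1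
  have hdle : d ≤ x ^ 2 := by
    calc d ≤ a * d := Nat.le_mul_of_pos_left _ (Nat.pos_of_ne_zero ha0)
      _ ≤ x ^ 2 := hdeg
  -- the two linear characters
  have hηK1 : (fun k : K => (fun g => χ g * conj (χ g)) ((k : N) : G)) 1 = ((x ^ 2 : ℕ) : ℂ) := hη1
  have hηKe : classInner (fun k : K => (fun g => χ g * conj (χ g)) ((k : N) : G))
      (fun _ : K => (1 : ℂ)) = (K.index : ℂ) := by
    rw [← hnorm]
    exact inner_mul_conj_one (fun k : K => χ ((k : N) : G))
  obtain ⟨lam₁, lam₂, hlam₁, hlam₂, h0₁, h0₂, hne12⟩ :=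
    D.exists_two_lam hηK (x ^ 2) hηK1 hηKe hxq
  have hζcf : IsClassFunction G ζ := IsCharacter.isClassFunction (IsIrrCharacter.isCharacter hζ)
  have hgam : ∀ lam : Z →* ℂˣ,
      classInner (fun k : K => (fun g => χ g * conj (χ g)) ((k : N) : G)) (extC π lam) = 0 →
      classInner ζ (blGamma π lam) ≠ 0 := by
    intro lam h0
    rw [inner_blGamma hζcf lam,
      constituent_restrict_zero hη hζ hηζ (IsIrrCharacter.isCharacter (extC_irr lam)) h0, sub_zero]
    exact hu
  -- `ζ` is constant on `Z`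
  have hζK : IsCharacter K (fun k : K => ζ ((k : N) : G)) :=
    IsCharacter.restrict (IsCharacter.restrict (IsIrrCharacter.isCharacter hζ) N) K
  have hzt : ZTriv Z (fun k : K => ζ ((k : N) : G)) := by
    by_contra hzt
    obtain ⟨θ, hθ, hne, hntθ⟩ := exists_constituent_not_ztriv hζK hzt
    apply hne
    exact D.zeta_family_zero hTI he2 hq hζ hlam₁ hlam₂ hne12 (hgam lam₁ h0₁) (hgam lam₂ h0₂) d hd
      (by omega) hθ hntθ
  exact hζ1 (Hc ζ hζ hzt)

end BLData

end Cfsg.Agent.Lib.Helper11
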