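import Cfsg.Agent.Lib.Helper28.CG.Defs

set_option autoImplicit false

/-! S3412 farm (architect helper28), leaf [C1] (SPARE by helper11): the Levi graph of `PG(2,3)` has at
most `11232` automorphisms.  An automorphism is determined by the images of a quadrangle (rigidity:
two distinct vertices have at most one common neighbour, and the quadrangle generates everything),
and the images form a quadruple of vertices of the same type, pairwise distinct, no three with a
common neighbour; there are `2 * 13 * 12 * 9 * 4 = 11232` such quadruples (kernel-checked). -/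

namespace Cfsg.Agent.Lib.Helper28.CG

namespace Helper11

/-- the incidence table: bit `j` of row `i` is set iff the point `i` lies on the line `j` -/
def incTab : List ℕ := [7680, 804, 658, 4544, 2132, 1122, 4152, 1164, 2314, 4103, 2209, 1297, 585]

/-- fast incidence -/
def incB (i j : ℕ) : Bool := (incTab.getD i 0).testBit j

theorem incB_iff : ∀ i j : Fin 13, incB i.1 j.1 = true ↔ inc i j := by decide

/-- fast adjacency in the Levi graph -/
def adjB : Om → Om → Bool
  | Sum.inl i, Sum.inr j => incB i.1 j.1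
  | Sum.inr j, Sum.inl i => incB i.1 j.1
  | _, _ => false

theorem adjB_iff (a b : Om) : adjB a b = true ↔ LeviAdj a b := by
  cases a <;> cases b <;> simp [adjB, LeviAdj, incB_iff]

theorem adjB_map {σ : Equiv.Perm Om} (hσ : σ ∈ LeviAut) (a b : Om) :
    adjB (σ a) (σ b) = adjB a b := by
  have h := (mem_LeviAut σ).mp hσ a b
  rw [← adjB_iff, ← adjB_iff] at h
  exact Bool.eq_iff_iff.mpr h

/-- two distinct vertices have at most one common neighbour -/
theorem common_le_one : ∀ a b : Om, a ≠ b →
    (Finset.univ.filter fun c => adjB a c = true ∧ adjB b c = true).card ≤ 1 := by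
  decide

theorem common_unique {a b c c' : Om} (hab : a ≠ b) (h1 : adjB a c = true) (h2 : adjB b c = true)
    (h3 : adjB a c' = true) (h4 : adjB b c' = true) : c = c' :=
  Finset.card_le_one.mp (common_le_one a b hab) c (by simp [h1, h2]) c' (by simp [h3, h4])

/-- one step of the closure under "common neighbour of two distinct vertices" -/
def step (S : Finset Om) : Finset Om :=
  Finset.univ.filter fun c => c ∈ S ∨ ∃ a ∈ S, ∃ b ∈ S, a ≠ b ∧ adjB a c = true ∧ adjB b c = true

theorem step_fixed {σ : Equiv.Perm Om} (hσ : σ ∈ LeviAut) {S : Finset Om}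
    (hS : ∀ a ∈ S, σ a = a) : ∀ c ∈ step S, σ c = c := by
  intro c hc
  rw [step, Finset.mem_filter] at hc
  rcases hc.2 with h | ⟨a, ha, b, hb, hab, h1, h2⟩
  · exact hS c h
  · have e1 : adjB a (σ c) = true := by
      have := adjB_map hσ a c
      rw [hS a ha] at this
      rw [this]; exact h1
    have e2 : adjB b (σ c) = true := by
      have := adjB_map hσ b c
      rw [hS b hb] at this
      rw [this]; exact h2
    exact common_unique hab e1 e2 h1 h2

/-- the quadrangle `(1,0,0), (0,1,0), (0,0,1), (1,1,1)` -/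
def q1 : Om := Sum.inl 0
/-- second point of the quadrangle -/
def q2 : Om := Sum.inl 9
/-- third point of the quadrangle -/
def q3 : Om := Sum.inl 12
/-- fourth point of the quadrangle -/
def q4 : Om := Sum.inl 4

/-- the quadrangle as a finset -/
def quad : Finset Om := {q1, q2, q3, q4}

theorem closure_quad : step (step (step (step (step quad)))) = Finset.univ := by decide

theorem eq_one_of_fix {σ : Equiv.Perm Om} (hσ : σ ∈ LeviAut) (h1 : σ q1 = q1) (h2 : σ q2 = q2)
    (h3 : σ q3 = q3) (h4 : σ q4 = q4) : σ = 1 := by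
  have h0 : ∀ a ∈ quad, σ a = a := by
    intro a ha
    simp only [quad, Finset.mem_insert, Finset.mem_singleton] at ha
    rcases ha with rfl | rfl | rfl | rfl <;> assumption
  have h5 := step_fixed hσ (step_fixed hσ (step_fixed hσ (step_fixed hσ (step_fixed hσ h0))))
  rw [closure_quad] at h5
  ext c
  exact h5 c (Finset.mem_univ c)

/-- same type (both points or both lines) -/
def sameT : Om → Om → Bool
  | Sum.inl _, Sum.inl _ => true
  | Sum.inr _, Sum.inr _ => true
  | _, _ => false

theorem sameT_of_common {a b c : Om} (h1 : adjB a c = true) (h2 : adjB b c = true) :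
    sameT a b = true := by
  cases a <;> cases b <;> cases c <;> simp_all [adjB, sameT]

/-- three vertices with a common neighbour -/
def colB (a b c : Om) : Bool :=
  decide (∃ d : Om, adjB a d = true ∧ adjB b d = true ∧ adjB c d = true)

theorem colB_map {σ : Equiv.Perm Om} (hσ : σ ∈ LeviAut) (a b c : Om) :
    colB (σ a) (σ b) (σ c) = colB a b c := by
  unfold colB
  congr 1
  apply propext
  constructor
  · rintro ⟨d, h1, h2, h3⟩
    refine ⟨σ⁻¹ d, ?_, ?_, ?_⟩
    · rw [← adjB_map hσ]; simpa using h1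
    · rw [← adjB_map hσ]; simpa using h2
    · rw [← adjB_map hσ]; simpa using h3
  · rintro ⟨d, h1, h2, h3⟩
    exact ⟨σ d, by rw [adjB_map hσ]; exact h1, by rw [adjB_map hσ]; exact h2,
      by rw [adjB_map hσ]; exact h3⟩

/-- candidates for the second vertex -/
def N1 (t1 : Om) : Finset Om := Finset.univ.filter fun t2 => sameT t1 t2 = true ∧ t2 ≠ t1

/-- candidates for the third vertex -/
def N2 (t1 t2 : Om) : Finset Om :=
  Finset.univ.filter fun t3 => sameT t1 t3 = true ∧ t3 ≠ t1 ∧ t3 ≠ t2 ∧ colB t1 t2 t3 = false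

/-- candidates for the fourth vertex -/
def N3 (t1 t2 t3 : Om) : Finset Om :=
  Finset.univ.filter fun t4 => sameT t1 t4 = true ∧ t4 ≠ t1 ∧ t4 ≠ t2 ∧ t4 ≠ t3 ∧
    colB t1 t2 t4 = false ∧ colB t1 t3 t4 = false ∧ colB t2 t3 t4 = false

/-- the quadruples that can be the image of the quadrangle -/
def Valid : Finset (Om × Om × Om × Om) :=
  Finset.univ.biUnion fun t1 => (N1 t1).biUnion fun t2 => (N2 t1 t2).biUnion fun t3 =>
    (N3 t1 t2 t3).image fun t4 => (t1, t2, t3, t4)

set_option maxRecDepth 100000 in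
theorem count : (∑ t1 : Om, ∑ t2 ∈ N1 t1, ∑ t3 ∈ N2 t1 t2, (N3 t1 t2 t3).card) = 11232 := by
  decide +kernel

theorem card_Valid_le : Valid.card ≤ 11232 := by
  rw [← count]
  unfold Valid
  refine Finset.card_biUnion_le.trans (Finset.sum_le_sum fun t1 _ => ?_)
  refine Finset.card_biUnion_le.trans (Finset.sum_le_sum fun t2 _ => ?_)
  refine Finset.card_biUnion_le.trans (Finset.sum_le_sum fun t3 _ => ?_)
  exact Finset.card_image_le

theorem quad_facts :
    adjB q1 (Sum.inr 12) = true ∧ adjB q2 (Sum.inr 12) = true ∧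
    adjB q1 (Sum.inr 9) = true ∧ adjB q3 (Sum.inr 9) = true ∧
    adjB q1 (Sum.inr 11) = true ∧ adjB q4 (Sum.inr 11) = true ∧
    q2 ≠ q1 ∧ q3 ≠ q1 ∧ q3 ≠ q2 ∧ q4 ≠ q1 ∧ q4 ≠ q2 ∧ q4 ≠ q3 ∧
    colB q1 q2 q3 = false ∧ colB q1 q2 q4 = false ∧ colB q1 q3 q4 = false ∧
    colB q2 q3 q4 = false := by
  decide +kernel

/-- the images of the quadrangle -/
def Phi (σ : Equiv.Perm Om) : Om × Om × Om × Om := (σ q1, σ q2, σ q3, σ q4)

set_option maxRecDepth 100000 in
theorem Phi_mem {σ : Equiv.Perm Om} (hσ : σ ∈ LeviAut) : Phi σ ∈ Valid := by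
  obtain ⟨a1, a2, a3, a4, a5, a6, d21, d31, d32, d41, d42, d43, c1, c2, c3, c4⟩ := quad_facts
  have s12 : sameT (σ q1) (σ q2) = true :=
    sameT_of_common (c := σ (Sum.inr 12)) (by rw [adjB_map hσ]; exact a1)
      (by rw [adjB_map hσ]; exact a2)
  have s13 : sameT (σ q1) (σ q3) = true :=
    sameT_of_common (c := σ (Sum.inr 9)) (by rw [adjB_map hσ]; exact a3)
      (by rw [adjB_map hσ]; exact a4)
  have s14 : sameT (σ q1) (σ q4) = true :=
    sameT_of_common (c := σ (Sum.inr 11)) (by rw [adjB_map hσ]; exact a5)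
      (by rw [adjB_map hσ]; exact a6)
  have inj : ∀ {a b : Om}, a ≠ b → σ a ≠ σ b := fun h h' => h (σ.injective h')
  unfold Valid Phi
  simp only [Finset.mem_biUnion, Finset.mem_image, Finset.mem_univ, true_and]
  refine ⟨σ q1, σ q2, ?_, σ q3, ?_, σ q4, ?_, rfl⟩
  · simp only [N1, Finset.mem_filter, Finset.mem_univ, true_and]
    exact ⟨s12, inj d21⟩
  · simp only [N2, Finset.mem_filter, Finset.mem_univ, true_and]
    exact ⟨s13, inj d31, inj d32, by rw [colB_map hσ]; exact c1⟩
  · simp only [N3, Finset.mem_filter, Finset.mem_univ, true_and]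
    exact ⟨s14, inj d41, inj d42, inj d43, by rw [colB_map hσ]; exact c2,
      by rw [colB_map hσ]; exact c3, by rw [colB_map hσ]; exact c4⟩

theorem Phi_injOn {σ τ : Equiv.Perm Om} (hσ : σ ∈ LeviAut) (hτ : τ ∈ LeviAut)
    (h : Phi σ = Phi τ) : σ = τ := by
  simp only [Phi, Prod.mk.injEq] at h
  obtain ⟨h1, h2, h3, h4⟩ := h
  have hmem : τ⁻¹ * σ ∈ LeviAut := LeviAut.mul_mem (LeviAut.inv_mem hτ) hσ
  have aux : ∀ q : Om, σ q = τ q → (τ⁻¹ * σ) q = q := by
    intro q hq
    rw [Equiv.Perm.mul_apply, hq]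
    simp
  have key : τ⁻¹ * σ = 1 :=
    eq_one_of_fix hmem (aux q1 h1) (aux q2 h2) (aux q3 h3) (aux q4 h4)
  have := congrArg (fun x => τ * x) key
  simpa [← mul_assoc] using this

end Helper11

set_option maxRecDepth 100000 in
/-- [C1] (spare) the Levi graph of `PG(2,3)` has at most 11232 automorphisms -/
theorem Helper11.card_LeviAut_le_spare : Nat.card LeviAut ≤ 11232 := by
  let f : LeviAut → {t // t ∈ Helper11.Valid} := fun σ => ⟨Helper11.Phi σ.1, Helper11.Phi_mem σ.2⟩
  have hf : Function.Injective f := by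
    intro σ τ h
    have h' : Helper11.Phi σ.1 = Helper11.Phi τ.1 := congrArg Subtype.val h
    exact Subtype.ext (Helper11.Phi_injOn σ.2 τ.2 h')
  have h1 := Nat.card_le_card_of_injective f hf
  have h2 : Nat.card {t // t ∈ Helper11.Valid} = Helper11.Valid.card := by
    rw [Nat.card_eq_fintype_card, Fintype.card_coe]
  rw [h2] at h1
  exact h1.trans Helper11.card_Valid_le

end Cfsg.Agent.Lib.Helper28.CG
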