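import Cfsg.Agent.Lib.Helper28.CG.Defs

set_option autoImplicit false

/-! S3412 farm (architect helper28), leaf [G1]: a commuting-graph isomorphism preserves
centralizer orders. -/

namespace Cfsg.Agent.Lib.Helper28.CG

namespace Helper11

open Classical in
/-- the centralizer of `x` is `1` together with the neighbours of `x` -/
noncomputable def centEquiv {X : Type*} [Group X] (x : V X) :
    ↥(Subgroup.centralizer ({x.1} : Set X)) ≃ Option {y : V X // comm y x} where
  toFun y := if h : y.1 = 1 then none else
    some ⟨⟨y.1, h⟩, Subgroup.mem_centralizer_singleton_iff.mp y.2⟩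
  invFun o := match o with
    | none => 1
    | some y => ⟨y.1.1, Subgroup.mem_centralizer_singleton_iff.mpr y.2⟩
  left_inv y := by
    by_cases h : y.1 = 1
    · simp only [h, dite_true]
      exact Subtype.ext h.symm
    · simp only [h, dite_false]
  right_inv o := by
    cases o with
    | none => simp
    | some y =>
      have h : ¬ y.1.1 = 1 := y.1.2
      simp only [h, dite_false]

end Helper11

/-- [G1] a commuting-graph isomorphism preserves centralizer orders -/
theorem cdeg_eq_of_iso {H S : Type*} [Group H] [Group S] [Finite H] [Finite S]
    (f : V H ≃ V S) (hf : ∀ x y, comm (f x) (f y) ↔ comm x y) (x : V H) :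
    cdeg (f x) = cdeg x := by
  unfold cdeg
  rw [Nat.card_congr (Helper11.centEquiv (f x)), Nat.card_congr (Helper11.centEquiv x)]
  refine Nat.card_congr (Equiv.optionCongr ?_).symm
  exact Equiv.subtypeEquiv f (fun y => (hf y x).symm)

end Cfsg.Agent.Lib.Helper28.CG
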