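import Cfsg.Agent.Lib.Helper28.CG.Defs

set_option autoImplicit false

/-! S3412 farm (architect helper28), leaf [G2]: a graph automorphism preserving centralizer
orders maps `KK` to `KK`. -/

namespace Cfsg.Agent.Lib.Helper28.CG

/-- [G2] a graph automorphism preserving centralizer orders maps `KK` to `KK` -/
theorem image_mem_KK {X : Type*} [Group X] (σ : Equiv.Perm (V X)) (hσ : σ ∈ GAut X)
    (hdeg : ∀ x, cdeg (σ x) = cdeg x) (K : Set (V X)) (hK : K ∈ KK X) : σ '' K ∈ KK X := by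
  have hc : ∀ x y, comm (σ x) (σ y) ↔ comm x y := (mem_GAut σ).mp hσ
  have hTT : ∀ x, σ x ∈ TT X ↔ x ∈ TT X := by
    intro x
    show 27 ∣ cdeg (σ x) ↔ 27 ∣ cdeg x
    rw [hdeg]
  obtain ⟨t, ht, u, hu, htu, hnt, rfl⟩ := hK
  refine ⟨σ t, (hTT t).mpr ht, σ u, (hTT u).mpr hu, (hc t u).mpr htu, ?_, ?_⟩
  · intro htw
    apply hnt
    intro w hw
    have := htw (σ w) ((hTT w).mpr hw)
    rw [hc, hc] at this
    exact this
  · ext w'
    constructor
    · rintro ⟨w, ⟨hw1, hw2, hw3⟩, rfl⟩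
      exact ⟨(hTT w).mpr hw1, (hc w t).mpr hw2, (hc w u).mpr hw3⟩
    · rintro ⟨hw1, hw2, hw3⟩
      refine ⟨σ⁻¹ w', ?_, by simp⟩
      have e : σ (σ⁻¹ w') = w' := by simp
      rw [← e] at hw1 hw2 hw3
      exact ⟨(hTT _).mp hw1, (hc _ t).mp hw2, (hc _ u).mp hw3⟩

end Cfsg.Agent.Lib.Helper28.CG
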