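import Mathlib
import Cfsg.Agent.Lib.Helper1.Nilpotent
import Cfsg.Agent.Lib.Helper10.FittingHall
import Cfsg.Agent.Lib.Helper7.PPart

/-!
Sylow subgroups of finite nilpotent groups: elements of `p`-power order lie in the Sylow `p`-subgroup,
and an element of the Sylow `p`-subgroup central in it is central in the whole group.
-/

set_option autoImplicit false

namespace Cfsg.Agent.Lib.Helper11

open Cfsg.Agent.Lib.Helper1 Cfsg.Agent.Lib.Helper10 Cfsg.Agent.Lib.Helper7

variable {N : Type*} [Group N] [Finite N] [hN : Group.IsNilpotent N]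

/-- In a finite nilpotent group, an element of `p`-power order lies in the Sylow `p`-subgroup. -/
theorem mem_sylow_of_orderOf_eq_prime_pow {p : ℕ} [Fact p.Prime] (P : Sylow p N) {h : N} {k : ℕ}
    (hk : orderOf h = p ^ k) : h ∈ P := by
  have hz : IsPGroup p (Subgroup.zpowers h) := by
    apply IsPGroup.of_card (n := k)
    rw [Nat.card_zpowers, hk]
  obtain ⟨Q, hQ⟩ := hz.exists_le_sylow
  have hnorm : P.Normal := inferInstance
  have := Sylow.unique_of_normal P hnorm
  have e : Q = P := Subsingleton.elim _ _
  rw [← e]
  exact hQ (Subgroup.mem_zpowers h)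

/-- In a finite nilpotent group, an element of a Sylow `p`-subgroup commuting with that Sylow subgroup
is central. -/
theorem mem_center_of_sylow_central {p : ℕ} [Fact p.Prime] (P : Sylow p N) {x : N} (hx : x ∈ P)
    (hc : ∀ y ∈ P, x * y = y * x) : x ∈ Subgroup.center N := by
  rw [Subgroup.mem_center_iff]
  intro h
  obtain ⟨z, y, hzy, _, ⟨k, hk⟩, hy⟩ := exists_isPPart p h (isOfFinOrder_of_finite h)
  have hzP : z ∈ P := mem_sylow_of_orderOf_eq_prime_pow P hk
  have h1 : x * z = z * x := hc z hzP
  obtain ⟨j, hj⟩ := (IsPGroup.iff_orderOf.1 P.isPGroup') ⟨x, hx⟩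
  have hj' : orderOf x = p ^ j := by
    rw [← hj]; exact Subgroup.orderOf_coe (⟨x, hx⟩ : (P : Subgroup N))
  have hcop : (orderOf x).Coprime (orderOf y) := by
    rw [hj']
    exact Nat.Coprime.pow_left j ((Nat.Prime.coprime_iff_not_dvd Fact.out).2 hy)
  have h2 : x * y = y * x := commute_of_coprime_orderOf N x y hcop
  rw [← hzy]
  calc z * y * x = z * (y * x) := by group
    _ = z * (x * y) := by rw [h2]
    _ = (z * x) * y := by group
    _ = (x * z) * y := by rw [h1]
    _ = x * (z * y) := by group

end Cfsg.Agent.Lib.Helper11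

namespace Cfsg.Agent.Lib.Helper11

open Cfsg.Agent.Lib.Helper7

/-- A subgroup of a finite group containing all elements of prime power order is the whole group. -/
theorem mem_of_forall_prime_pow_mem {C : Type*} [Group C] [Finite C] (K : Subgroup C)
    (hK : ∀ (c : C) (r k : ℕ), r.Prime → orderOf c = r ^ k → c ∈ K) : ∀ c : C, c ∈ K := by
  have key : ∀ n : ℕ, ∀ c : C, orderOf c = n → c ∈ K := by
    intro n
    induction n using Nat.strong_induction_on with
    | _ n ih =>
      intro c hc
      by_cases hn1 : n = 1
      · rw [hn1, orderOf_eq_one_iff] at hc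
        rw [hc]; exact K.one_mem
      · obtain ⟨r, hr, hrn⟩ := Nat.exists_prime_and_dvd hn1
        have : Fact r.Prime := ⟨hr⟩
        obtain ⟨z, y, hzy, hcomm, ⟨k, hk⟩, hy⟩ := exists_isPPart r c (isOfFinOrder_of_finite c)
        have hzK : z ∈ K := hK z r k hr hk
        have hcop : (orderOf z).Coprime (orderOf y) := by
          rw [hk]
          exact Nat.Coprime.pow_left k ((Nat.Prime.coprime_iff_not_dvd hr).2 hy)
        have hord : orderOf c = orderOf z * orderOf y := by
          rw [← hzy]
          exact hcomm.orderOf_mul_eq_mul_orderOf_of_coprime hcop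
        have hz2 : 2 ≤ orderOf z := by
          have h1 : r ∣ orderOf z * orderOf y := by rw [← hord, hc]; exact hrn
          have h2 : r ∣ orderOf z := by
            rcases (Nat.Prime.dvd_mul hr).1 h1 with h | h
            · exact h
            · exact absurd h hy
          have h3 : 0 < orderOf z := orderOf_pos z
          exact le_trans hr.two_le (Nat.le_of_dvd h3 h2)
        have hypos : 0 < orderOf y := orderOf_pos y
        have hlt : orderOf y < n := by
          rw [← hc, hord]
          nlinarith
        have hyK : y ∈ K := ih (orderOf y) hlt y rfl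
        rw [← hzy]
        exact K.mul_mem hzK hyK
  intro c
  exact key _ c rfl

end Cfsg.Agent.Lib.Helper11
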