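import Mathlib
import Cfsg.Prelude.Def_LieExceptional
import Cfsg.Agent.Lib.Helper11.NilSylow

/-!
Maximal nilpotent subgroups of finite CN-groups: they are Hall subgroups; if their order is not a prime
power they are TI; and TI ones contain the centralizers of their nonidentity elements.
-/

set_option autoImplicit false

namespace Cfsg.Agent.Lib.Helper11

open Cfsg.Agent.Lib.Helper1 Cfsg.Agent.Lib.Helper10

variable {G : Type*} [Group G] [Finite G]

/-- `H` is a maximal nilpotent subgroup of the CN-group `G`. -/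
structure MaxNil (H : Subgroup G) : Prop where
  cn : Cfsg.IsCNGroup G
  nil : Group.IsNilpotent H
  max : ∀ L : Subgroup G, Group.IsNilpotent L → H ≤ L → L = H

namespace MaxNil

variable {H : Subgroup G}

omit [Finite G] in
/-- The centralizer of a nonidentity central element of `H` is `H`. -/
theorem centralizer_eq (h : MaxNil H) {x : G} (hx1 : x ≠ 1)
    (hc : ∀ y ∈ H, x * y = y * x) : Subgroup.centralizer ({x} : Set G) = H := by
  apply h.max _ (h.cn x hx1)
  intro y hy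
  rw [Subgroup.mem_centralizer_iff]
  intro z hz
  rw [Set.mem_singleton_iff] at hz
  rw [hz]
  exact hc y hy

omit [Finite G] in
theorem centralizer_eq' (h : MaxNil H) {x : H} (hx1 : x ≠ 1)
    (hc : x ∈ Subgroup.center H) : Subgroup.centralizer ({(x : G)} : Set G) = H := by
  apply h.centralizer_eq (fun e => hx1 (Subtype.ext e))
  intro y hy
  have := (Subgroup.mem_center_iff.1 hc) ⟨y, hy⟩
  exact (congrArg Subtype.val this).symm

/-- A Sylow `p`-subgroup of `G` containing a nontrivial Sylow `p`-subgroup of `H` lies in `H`. -/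
theorem sylow_le (h : MaxNil H) {p : ℕ} [Fact p.Prime] (P' : Sylow p H)
    (hP' : (P' : Subgroup H) ≠ ⊥) (S : Sylow p G)
    (hPS : (P' : Subgroup H).map H.subtype ≤ S) : (S : Subgroup G) ≤ H := by
  have := h.nil
  have hx := inf_center_ne_bot_of_normal (P' : Subgroup H) hP'
  obtain ⟨⟨x', hx'⟩, hx'1⟩ := Subgroup.ne_bot_iff_exists_ne_one.1 hx
  have hx'1' : x' ≠ 1 := fun e => hx'1 (Subtype.ext e)
  have hCx := h.centralizer_eq' hx'1' hx'.2
  have hxS : (x' : G) ∈ S := hPS ⟨x', hx'.1, rfl⟩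
  have hxne : (x' : G) ≠ 1 := fun e => hx'1' (Subtype.ext e)
  have : Nontrivial S := ⟨⟨⟨(x' : G), hxS⟩, 1, fun e => hxne (congrArg Subtype.val e)⟩⟩
  have := IsPGroup.center_nontrivial S.isPGroup'
  obtain ⟨z', hz'1⟩ := exists_ne (1 : Subgroup.center (S : Subgroup G))
  have hzS : ((z' : S) : G) ∈ S := (z' : S).2
  have hzne : ((z' : S) : G) ≠ 1 := by
    intro e
    apply hz'1
    apply Subtype.ext
    apply Subtype.ext
    exact e
  have hzcomm : ∀ s ∈ (S : Subgroup G), ((z' : S) : G) * s = s * ((z' : S) : G) := by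
    intro s hs
    have := (Subgroup.mem_center_iff.1 z'.2) ⟨s, hs⟩
    exact (congrArg Subtype.val this).symm
  have hzH : ((z' : S) : G) ∈ H := by
    rw [← hCx, Subgroup.mem_centralizer_iff]
    intro y hy
    rw [Set.mem_singleton_iff] at hy
    rw [hy]
    exact (hzcomm _ hxS).symm
  obtain ⟨k, hk⟩ := (IsPGroup.iff_orderOf.1 S.isPGroup') (z' : S)
  have hk' : orderOf (⟨((z' : S) : G), hzH⟩ : H) = p ^ k := by
    rw [← hk, ← Subgroup.orderOf_coe (z' : S)]
    exact (Subgroup.orderOf_coe (⟨((z' : S) : G), hzH⟩ : H)).symm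
  have hzP' : (⟨((z' : S) : G), hzH⟩ : H) ∈ P' := mem_sylow_of_orderOf_eq_prime_pow P' hk'
  have hzcenter : (⟨((z' : S) : G), hzH⟩ : H) ∈ Subgroup.center H := by
    apply mem_center_of_sylow_central P' hzP'
    intro y hy
    apply Subtype.ext
    exact hzcomm _ (hPS ⟨y, hy, rfl⟩)
  have hCz := h.centralizer_eq' (x := ⟨((z' : S) : G), hzH⟩)
    (fun e => hzne (congrArg Subtype.val e)) hzcenter
  intro s hs
  rw [← hCz, Subgroup.mem_centralizer_iff]
  intro y hy
  rw [Set.mem_singleton_iff] at hy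
  rw [hy]
  exact hzcomm s hs

/-- `H` is a Hall subgroup. -/
theorem coprime (h : MaxNil H) : (Nat.card H).Coprime H.index := by
  apply Nat.coprime_of_dvd
  intro p hp hpH hpI
  have : Fact p.Prime := ⟨hp⟩
  have P' : Sylow p H := default
  have hP' : (P' : Subgroup H) ≠ ⊥ := P'.ne_bot_of_dvd_card hpH
  obtain ⟨S, hS⟩ := (P'.isPGroup'.map H.subtype).exists_le_sylow
  have hSH := h.sylow_le P' hP' S hS
  have h1 : H.index ∣ (S : Subgroup G).index := Subgroup.index_dvd_of_le hSH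
  exact S.not_dvd_index (hpI.trans h1)

/-- Elements of `r`-power order normalizing `H` (in the sense `H^c = H`, `H^(c⁻¹) = H`), `r ∣ |H|`,
lie in `H`. -/
theorem mem_of_normalizes (h : MaxNil H) {r : ℕ} [Fact r.Prime] (hr : r ∣ Nat.card H) {c : G}
    {k : ℕ} (hk : orderOf c = r ^ k)
    (hc : ∀ y ∈ H, c * y * c⁻¹ ∈ H) (hc' : ∀ y ∈ H, c⁻¹ * y * c ∈ H) : c ∈ H := by
  have := h.nil
  have R' : Sylow r H := default
  have hR' : (R' : Subgroup H) ≠ ⊥ := R'.ne_bot_of_dvd_card hr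
  obtain ⟨S, hS⟩ := (R'.isPGroup'.map H.subtype).exists_le_sylow
  have hSH := h.sylow_le R' hR' S hS
  -- `r`-elements of `H` lie in `S`
  have hmemS : ∀ y ∈ H, (∃ j : ℕ, orderOf y = r ^ j) → y ∈ S := by
    rintro y hy ⟨j, hj⟩
    have hj' : orderOf (⟨y, hy⟩ : H) = r ^ j := by
      rw [← hj]; exact (Subgroup.orderOf_coe (⟨y, hy⟩ : H)).symm
    have := mem_sylow_of_orderOf_eq_prime_pow R' hj'
    exact hS ⟨⟨y, hy⟩, this, rfl⟩
  have hordS : ∀ y ∈ (S : Subgroup G), ∃ j : ℕ, orderOf y = r ^ j := by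
    intro y hy
    obtain ⟨j, hj⟩ := (IsPGroup.iff_orderOf.1 S.isPGroup') ⟨y, hy⟩
    exact ⟨j, by rw [← hj]; exact Subgroup.orderOf_coe (⟨y, hy⟩ : (S : Subgroup G))⟩
  have hnorm : c ∈ Subgroup.normalizer ((S : Subgroup G) : Set G) := by
    rw [Subgroup.mem_normalizer_iff]
    intro y
    constructor
    · intro hy
      apply hmemS _ (hc y (hSH hy))
      obtain ⟨j, hj⟩ := hordS y hy
      refine ⟨j, ?_⟩
      rw [← hj]
      exact (MulAut.conj c).orderOf_eq y
    · intro hy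
      have e : y = c⁻¹ * (c * y * c⁻¹) * c := by group
      rw [e]
      apply hmemS _ (hc' _ (hSH hy))
      obtain ⟨j, hj⟩ := hordS _ hy
      refine ⟨j, ?_⟩
      rw [← hj]
      have := (MulAut.conj c⁻¹).orderOf_eq (c * y * c⁻¹)
      simp only [MulAut.conj_apply, inv_inv] at this
      exact this
  have hzp : IsPGroup r (Subgroup.zpowers c) := by
    apply IsPGroup.of_card (n := k)
    rw [Nat.card_zpowers, hk]
  have hT := hzp.to_sup_of_normal_right' S.isPGroup' (Subgroup.zpowers_le.2 hnorm)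
  have hTS := S.is_maximal' hT le_sup_right
  apply hSH
  rw [← hTS]
  exact Subgroup.mem_sup_left (Subgroup.mem_zpowers c)

/-- If `H` is TI then it contains the centralizers of its nonidentity elements. -/
theorem centralizer_le (h : MaxNil H)
    (hTI : ∀ g : G, H.map (MulAut.conj g).toMonoidHom ≠ H →
      H ⊓ H.map (MulAut.conj g).toMonoidHom = ⊥) {x : G} (hx : x ∈ H) (hx1 : x ≠ 1) :
    Subgroup.centralizer ({x} : Set G) ≤ H := by
  have := h.nil
  have hCnil : Group.IsNilpotent (Subgroup.centralizer ({x} : Set G)) := h.cn x hx1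
  -- elements of the centralizer normalize `H`
  have hnorm : ∀ c ∈ Subgroup.centralizer ({x} : Set G), H.map (MulAut.conj c).toMonoidHom = H := by
    intro c hc
    by_contra hne
    have hbot := hTI c hne
    have hxc : x * c = c * x := (Subgroup.mem_centralizer_iff.1 hc) x rfl
    have : x ∈ H ⊓ H.map (MulAut.conj c).toMonoidHom := by
      refine ⟨hx, x, hx, ?_⟩
      simp only [MulEquiv.coe_toMonoidHom, MulAut.conj_apply]
      rw [← hxc]; group
    rw [hbot, Subgroup.mem_bot] at this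
    exact hx1 this
  have hconj : ∀ c ∈ Subgroup.centralizer ({x} : Set G), ∀ y ∈ H, c * y * c⁻¹ ∈ H := by
    intro c hc y hy
    have : c * y * c⁻¹ ∈ H.map (MulAut.conj c).toMonoidHom := ⟨y, hy, by simp⟩
    rw [hnorm c hc] at this
    exact this
  -- a nonidentity central element of `H`
  have : Nontrivial H := ⟨⟨⟨x, hx⟩, 1, fun e => hx1 (congrArg Subtype.val e)⟩⟩
  have hZ := Group.IsNilpotent.center_ne_bot (G := H)
  obtain ⟨⟨z', hz'⟩, hz'1⟩ := Subgroup.ne_bot_iff_exists_ne_one.1 hZ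
  have hz'1' : z' ≠ 1 := fun e => hz'1 (Subtype.ext e)
  have hCz := h.centralizer_eq' hz'1' hz'
  have hzx : (z' : G) * x = x * (z' : G) := by
    have := (Subgroup.mem_center_iff.1 hz') ⟨x, hx⟩
    exact (congrArg Subtype.val this).symm
  have hzC : (z' : G) ∈ Subgroup.centralizer ({x} : Set G) := by
    rw [Subgroup.mem_centralizer_iff]
    intro y hy
    rw [Set.mem_singleton_iff] at hy
    rw [hy]
    exact hzx.symm
  -- prime power order elements of the centralizer lie in `H`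
  have key : ∀ (c : Subgroup.centralizer ({x} : Set G)) (r k : ℕ), r.Prime → orderOf c = r ^ k →
      c ∈ H.subgroupOf (Subgroup.centralizer ({x} : Set G)) := by
    intro c r k hr hk
    have : Fact r.Prime := ⟨hr⟩
    rw [Subgroup.mem_subgroupOf]
    have hk' : orderOf (c : G) = r ^ k := by rw [← hk]; exact Subgroup.orderOf_coe c
    by_cases hrH : r ∣ Nat.card H
    · apply h.mem_of_normalizes hrH hk' (hconj c c.2)
      intro y hy
      have := hconj c⁻¹ (Subgroup.inv_mem _ c.2) y hy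
      simpa using this
    · have hcop : (orderOf c).Coprime (orderOf (⟨(z' : G), hzC⟩ : Subgroup.centralizer ({x} : Set G))) := by
        rw [hk]
        apply Nat.Coprime.pow_left
        rw [Nat.Prime.coprime_iff_not_dvd hr]
        intro hdvd
        apply hrH
        have e1 : orderOf (⟨(z' : G), hzC⟩ : Subgroup.centralizer ({x} : Set G)) = orderOf z' := by
          rw [← Subgroup.orderOf_coe z']
          exact (Subgroup.orderOf_coe (⟨(z' : G), hzC⟩ : Subgroup.centralizer ({x} : Set G))).symm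
        rw [e1] at hdvd
        exact hdvd.trans (orderOf_dvd_natCard z')
      have hcomm := commute_of_coprime_orderOf (Subgroup.centralizer ({x} : Set G)) c
        ⟨(z' : G), hzC⟩ hcop
      have hcomm' : (c : G) * (z' : G) = (z' : G) * (c : G) := congrArg Subtype.val hcomm
      rw [← hCz, Subgroup.mem_centralizer_iff]
      intro y hy
      rw [Set.mem_singleton_iff] at hy
      rw [hy]
      exact hcomm'.symm
  intro c hc
  have := mem_of_forall_prime_pow_mem _ key ⟨c, hc⟩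
  rw [Subgroup.mem_subgroupOf] at this
  exact this

/-- If `|H|` is not a prime power then `H` is TI. -/
theorem ti (h : MaxNil H) (hnpp : ¬ IsPrimePow (Nat.card H)) (g : G)
    (hg : H.map (MulAut.conj g).toMonoidHom ≠ H) :
    H ⊓ H.map (MulAut.conj g).toMonoidHom = ⊥ := by
  have := h.nil
  by_contra hne
  obtain ⟨⟨x, hx⟩, hx1⟩ := Subgroup.ne_bot_iff_exists_ne_one.1 hne
  have hx1' : x ≠ 1 := fun e => hx1 (Subtype.ext e)
  obtain ⟨hxH, h₀, hh₀, hh₀x⟩ := hx
  simp only [MulEquiv.coe_toMonoidHom, MulAut.conj_apply] at hh₀x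
  have hh₀1 : h₀ ≠ 1 := by
    rintro rfl
    apply hx1'
    rw [← hh₀x]; group
  -- reduce to prime order
  obtain ⟨p, hp, hpdvd⟩ := Nat.exists_prime_and_dvd (fun e => hh₀1 (orderOf_eq_one_iff.1 e))
  have : Fact p.Prime := ⟨hp⟩
  set m := orderOf h₀ / p with hm
  have hord₁ : orderOf (h₀ ^ m) = p := orderOf_pow_orderOf_div (orderOf_pos h₀).ne' hpdvd
  have hh₁H : h₀ ^ m ∈ H := H.pow_mem hh₀ m
  have hx₁ : g * h₀ ^ m * g⁻¹ = x ^ m := by rw [← hh₀x, conj_pow]
  have hx₁H : g * h₀ ^ m * g⁻¹ ∈ H := by rw [hx₁]; exact H.pow_mem hxH m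
  obtain ⟨h₁, hh₁⟩ : ∃ h₁, h₁ = h₀ ^ m := ⟨_, rfl⟩
  rw [← hh₁] at hord₁ hh₁H hx₁H
  clear hx₁ hh₀x hh₀ hh₀1 hx1' hxH hx1 hpdvd hm hh₁
  have hord₁' : orderOf (g * h₁ * g⁻¹) = p := by
    rw [← hord₁]; exact (MulAut.conj g).orderOf_eq h₁
  have hx₁1 : g * h₁ * g⁻¹ ≠ 1 := by
    intro e
    rw [e, orderOf_one] at hord₁'
    exact hp.one_lt.ne hord₁'
  -- a second prime
  have hpH : p ∣ Nat.card H := by
    rw [← hord₁]; exact Subgroup.orderOf_dvd_natCard H hh₁H
  obtain ⟨q, hq, hqH, hqp⟩ : ∃ q : ℕ, q.Prime ∧ q ∣ Nat.card H ∧ q ≠ p := by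
    by_contra hno
    push Not at hno
    apply hnpp
    rw [isPrimePow_iff_unique_prime_dvd]
    exact ⟨p, ⟨hp, hpH⟩, fun q hq => hno q hq.1 hq.2⟩
  have : Fact q.Prime := ⟨hq⟩
  have Q' : Sylow q H := default
  have hQ' : (Q' : Subgroup H) ≠ ⊥ := Q'.ne_bot_of_dvd_card hqH
  obtain ⟨S, hS⟩ := (Q'.isPGroup'.map H.subtype).exists_le_sylow
  have hSH := h.sylow_le Q' hQ' S hS
  have hordS : ∀ y ∈ (S : Subgroup G), ∃ j : ℕ, orderOf y = q ^ j := by
    intro y hy
    obtain ⟨j, hj⟩ := (IsPGroup.iff_orderOf.1 S.isPGroup') ⟨y, hy⟩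
    exact ⟨j, by rw [← hj]; exact Subgroup.orderOf_coe (⟨y, hy⟩ : (S : Subgroup G))⟩
  have hmemQ' : ∀ y (hy : y ∈ H), (∃ j : ℕ, orderOf y = q ^ j) → (⟨y, hy⟩ : H) ∈ Q' := by
    rintro y hy ⟨j, hj⟩
    have hj' : orderOf (⟨y, hy⟩ : H) = q ^ j := by
      rw [← hj]; exact (Subgroup.orderOf_coe (⟨y, hy⟩ : H)).symm
    exact mem_sylow_of_orderOf_eq_prime_pow Q' hj'
  -- elements of `S` commute with elements of `H` of order `p`
  have hcommS : ∀ u ∈ (S : Subgroup G), ∀ t ∈ H, orderOf t = p → u * t = t * u := by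
    intro u hu t ht hto
    obtain ⟨j, hj⟩ := hordS u hu
    have hcop : (orderOf (⟨u, hSH hu⟩ : H)).Coprime (orderOf (⟨t, ht⟩ : H)) := by
      have e1 : orderOf (⟨u, hSH hu⟩ : H) = q ^ j := by
        rw [← hj]; exact (Subgroup.orderOf_coe (⟨u, hSH hu⟩ : H)).symm
      have e2 : orderOf (⟨t, ht⟩ : H) = p := by
        rw [← hto]; exact (Subgroup.orderOf_coe (⟨t, ht⟩ : H)).symm
      rw [e1, e2]
      apply Nat.Coprime.pow_left
      exact (Nat.coprime_primes hq hp).2 hqp
    exact congrArg Subtype.val (commute_of_coprime_orderOf H ⟨u, hSH hu⟩ ⟨t, ht⟩ hcop)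
  -- the centralizer of `x₁ = g h₁ g⁻¹`
  have hCnil : Group.IsNilpotent (Subgroup.centralizer ({g * h₁ * g⁻¹} : Set G)) :=
    h.cn _ hx₁1
  have hSC : (S : Subgroup G) ≤ Subgroup.centralizer ({g * h₁ * g⁻¹} : Set G) := by
    intro u hu
    rw [Subgroup.mem_centralizer_iff]
    intro y hy
    rw [Set.mem_singleton_iff] at hy
    rw [hy]
    exact (hcommS u hu _ hx₁H hord₁').symm
  have hSgC : (S : Subgroup G).map (MulAut.conj g).toMonoidHom
      ≤ Subgroup.centralizer ({g * h₁ * g⁻¹} : Set G) := by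
    rintro _ ⟨u, hu, rfl⟩
    rw [Subgroup.mem_centralizer_iff]
    intro y hy
    rw [Set.mem_singleton_iff] at hy
    rw [hy]
    simp only [MulEquiv.coe_toMonoidHom, MulAut.conj_apply]
    have := hcommS u hu h₁ hh₁H hord₁
    calc g * h₁ * g⁻¹ * (g * u * g⁻¹) = g * (h₁ * u) * g⁻¹ := by group
      _ = g * (u * h₁) * g⁻¹ := by rw [this]
      _ = g * u * g⁻¹ * (g * h₁ * g⁻¹) := by group
  -- `S^g ≤ S`
  have hSg : (S : Subgroup G).map (MulAut.conj g).toMonoidHom ≤ S := by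
    intro u' hu'
    have hu'C := hSgC hu'
    obtain ⟨u, hu, rfl⟩ := hu'
    obtain ⟨j, hj⟩ := hordS u hu
    have hj' : orderOf (⟨(MulAut.conj g).toMonoidHom u, hu'C⟩ :
        Subgroup.centralizer ({g * h₁ * g⁻¹} : Set G)) = q ^ j := by
      rw [← hj, ← (MulAut.conj g).orderOf_eq u]
      exact (Subgroup.orderOf_coe (⟨(MulAut.conj g).toMonoidHom u, hu'C⟩ :
        Subgroup.centralizer ({g * h₁ * g⁻¹} : Set G))).symm
    have := mem_sylow_of_orderOf_eq_prime_pow (S.subtype hSC) hj'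
    have this' : (⟨(MulAut.conj g).toMonoidHom u, hu'C⟩ :
        Subgroup.centralizer ({g * h₁ * g⁻¹} : Set G)) ∈
          ((S.subtype hSC : Sylow q _) : Subgroup (Subgroup.centralizer ({g * h₁ * g⁻¹} : Set G))) :=
      this
    rw [Sylow.coe_subtype, Subgroup.mem_subgroupOf] at this'
    exact this'
  have hSgeq : (S : Subgroup G).map (MulAut.conj g).toMonoidHom = S := by
    apply Subgroup.eq_of_le_of_card_ge hSg
    rw [Subgroup.card_map_of_injective (MulAut.conj g).injective]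
  -- a central element of `H` in `Q'`
  have hy := inf_center_ne_bot_of_normal (Q' : Subgroup H) hQ'
  obtain ⟨⟨y', hy'⟩, hy'1⟩ := Subgroup.ne_bot_iff_exists_ne_one.1 hy
  have hy'1' : y' ≠ 1 := fun e => hy'1 (Subtype.ext e)
  have hyS : (y' : G) ∈ S := hS ⟨y', hy'.1, rfl⟩
  have hycomm : ∀ t ∈ H, (y' : G) * t = t * (y' : G) := by
    intro t ht
    have := (Subgroup.mem_center_iff.1 hy'.2) ⟨t, ht⟩
    exact (congrArg Subtype.val this).symm
  -- `w = g y g⁻¹`
  have hwS : g * (y' : G) * g⁻¹ ∈ (S : Subgroup G) := by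
    rw [← hSgeq]; exact ⟨(y' : G), hyS, by simp⟩
  have hwH : g * (y' : G) * g⁻¹ ∈ H := hSH hwS
  have hw1 : g * (y' : G) * g⁻¹ ≠ 1 := by
    intro e
    apply hy'1'
    apply Subtype.ext
    have : (y' : G) = g⁻¹ * (g * (y' : G) * g⁻¹) * g := by group
    rw [this, e]; simp
  have hwQ' : (⟨g * (y' : G) * g⁻¹, hwH⟩ : H) ∈ Q' := hmemQ' _ hwH (hordS _ hwS)
  have hwcenter : (⟨g * (y' : G) * g⁻¹, hwH⟩ : H) ∈ Subgroup.center H := by
    apply mem_center_of_sylow_central Q' hwQ'
    intro t ht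
    apply Subtype.ext
    have htS : (t : G) ∈ (S : Subgroup G) := hS ⟨t, ht, rfl⟩
    rw [← hSgeq] at htS
    obtain ⟨u, hu, hut⟩ := htS
    simp only [MulEquiv.coe_toMonoidHom, MulAut.conj_apply] at hut
    show g * (y' : G) * g⁻¹ * (t : G) = (t : G) * (g * (y' : G) * g⁻¹)
    rw [← hut]
    have := hycomm u (hSH hu)
    calc g * (y' : G) * g⁻¹ * (g * u * g⁻¹) = g * ((y' : G) * u) * g⁻¹ := by group
      _ = g * (u * (y' : G)) * g⁻¹ := by rw [this]
      _ = g * u * g⁻¹ * (g * (y' : G) * g⁻¹) := by group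
  have hCw := h.centralizer_eq' (x := ⟨g * (y' : G) * g⁻¹, hwH⟩)
    (fun e => hw1 (congrArg Subtype.val e)) hwcenter
  -- `H^g ≤ C(w) = H`
  apply hg
  apply Subgroup.eq_of_le_of_card_ge
  · rintro _ ⟨t, ht, rfl⟩
    rw [← hCw, Subgroup.mem_centralizer_iff]
    intro z hz
    rw [Set.mem_singleton_iff] at hz
    rw [hz]
    simp only [MulEquiv.coe_toMonoidHom, MulAut.conj_apply]
    have := hycomm t ht
    calc g * (y' : G) * g⁻¹ * (g * t * g⁻¹) = g * ((y' : G) * t) * g⁻¹ := by group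
      _ = g * (t * (y' : G)) * g⁻¹ := by rw [this]
      _ = g * t * g⁻¹ * (g * (y' : G) * g⁻¹) := by group
  · rw [Subgroup.card_map_of_injective (MulAut.conj g).injective]

end MaxNil

end Cfsg.Agent.Lib.Helper11
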