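import Cfsg.Agent.Lib.Helper2.Integrality
import Cfsg.Agent.Lib.Helper2.Completeness
import Cfsg.Agent.Lib.Helper2.CharBasic

/-!
The class-sum identity for an irreducible character:
`∑_{t ~ y} χ(x t) = |y^G| χ(x) χ(y) / χ(1)`.
-/

set_option autoImplicit false

namespace Cfsg.Agent.Lib.Helper11

open Cfsg
open Cfsg.Agent.Lib.Helper2
open Module

section ClassSum
open Classical

variable {G : Type*} [Group G] [Fintype G]
variable {V : Type*} [AddCommGroup V] [Module ℂ V] [FiniteDimensional ℂ V]

/-- `∑_{t ~ y} χ(x t) = |y^G| χ(x) χ(y) / χ(1)` for the character `χ` of an irreducible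
representation. -/
theorem sum_isConj_char_mul (ρ : Representation ℂ G V) [ρ.IsIrreducible] (x y : G) :
    ∑ t ∈ Finset.univ.filter (fun t : G => IsConj y t), ρ.character (x * t)
      = ((Finset.univ.filter (fun t : G => IsConj y t)).card : ℂ) * ρ.character x
          * ρ.character y / (finrank ℂ V : ℂ) := by
  set c : G → ℂ := fun t => if IsConj y t then 1 else 0 with hc
  have hcf : IsClassFunction G c := by
    intro g h
    simp only [hc]
    have : IsConj y (h * g * h⁻¹) ↔ IsConj y g := by
      constructor
      · intro h1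
        exact h1.trans (isConj_iff.2 ⟨h⁻¹, by group⟩)
      · intro h1
        exact h1.trans (isConj_iff.2 ⟨h, rfl⟩)
    rw [if_congr this rfl rfl]
  have h1 := repSum_irreducible ρ c hcf
  have h2 : ∑ g : G, c g * ρ.character g
      = ((Finset.univ.filter (fun t : G => IsConj y t)).card : ℂ) * ρ.character y := by
    simp only [hc, ite_mul, one_mul, zero_mul]
    rw [← Finset.sum_filter]
    have : ∀ t ∈ Finset.univ.filter (fun t : G => IsConj y t),
        ρ.character t = ρ.character y := by
      intro t ht
      obtain ⟨g, hg⟩ := isConj_iff.1 (Finset.mem_filter.1 ht).2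
      rw [← hg]
      exact Representation.char_conj ρ y g
    rw [Finset.sum_congr rfl this, Finset.sum_const, nsmul_eq_mul]
  have h3 : LinearMap.trace ℂ V (ρ x ∘ₗ repSum ρ c)
      = ∑ t ∈ Finset.univ.filter (fun t : G => IsConj y t), ρ.character (x * t) := by
    have hcomp : ρ x ∘ₗ repSum ρ c = ∑ g : G, c g • (ρ x ∘ₗ ρ g) := by
      ext v
      simp only [LinearMap.comp_apply, repSum_apply, map_sum, map_smul, LinearMap.sum_apply,
        LinearMap.smul_apply]
    rw [hcomp, map_sum]
    simp only [map_smul, smul_eq_mul]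
    rw [Finset.sum_filter]
    apply Finset.sum_congr rfl
    intro g _
    simp only [hc, ite_mul, one_mul, zero_mul]
    have : ρ x ∘ₗ ρ g = ρ (x * g) := by rw [map_mul]; rfl
    rw [this]
    rfl
  rw [← h3, h1, h2]
  simp only [LinearMap.comp_smul, LinearMap.comp_id, map_smul, smul_eq_mul]
  have : LinearMap.trace ℂ V (ρ x) = ρ.character x := rfl
  rw [this]
  ring

end ClassSum

end Cfsg.Agent.Lib.Helper11
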