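import Cfsg.Agent.Lib.Helper11.Clifford3

/-!
Clifford theory over an inertia group with abelian quotient: `Ind_H^G θ = e Σ_{χ ∈ C} χ`.
-/

set_option autoImplicit false

namespace Cfsg.Agent.Lib.Helper11

open Cfsg.Agent.Lib.Helper2
open scoped ComplexConjugate

section AbelianInertia

variable {G : Type*} [Group G] [Fintype G] (H T : Subgroup G) [hN : H.Normal]

theorem clifford_abelian_quotient (θ : H → ℂ) (hθ : Cfsg.IsIrrCharacter H θ)
    (hT : ∀ g : G, g ∈ T ↔ conjFn H g θ = θ)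
    (hab : ∀ x ∈ T, ∀ y ∈ T, x * y * x⁻¹ * y⁻¹ ∈ H) :
    ∃ (e : ℕ) (C : Finset (G → ℂ)), 0 < e ∧ (∀ χ ∈ C, Cfsg.IsIrrCharacter G χ) ∧
      e ^ 2 * C.card * Nat.card H = Nat.card T ∧
      Cfsg.indFun H θ = (e : ℂ) • ∑ χ ∈ C, χ ∧ ∀ χ ∈ C, χ 1 = (T.index : ℂ) * e * θ 1 := by
  classical
  have : Fintype T := Fintype.ofFinite T
  have : Fintype H := Fintype.ofFinite H
  have : Fintype (H.subgroupOf T) := Fintype.ofFinite _
  have : Fintype (Cfsg.IrrCharacter T) := Fintype.ofFinite _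
  have : Fintype (Cfsg.IrrCharacter (H.subgroupOf T)) := Fintype.ofFinite _
  have hθcf : Cfsg.IsClassFunction H θ := IsCharacter.isClassFunction (IsIrrCharacter.isCharacter hθ)
  have hHT : H ≤ T := fun g hg => (hT g).2 (conjFn_of_mem H hθcf hg)
  set θ' : H.subgroupOf T → ℂ := fun x => θ ⟨(x : T), Subgroup.mem_subgroupOf.mp x.2⟩ with hθ'def
  set Θ := Cfsg.indFun (H.subgroupOf T) θ' with hΘ
  have hθ'irr : Cfsg.IsIrrCharacter (H.subgroupOf T) θ' := by
    have := isIrrCharacter_comp_equiv (Subgroup.subgroupOfEquivOfLe hHT) hθ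
    convert this using 1
    funext x
    rfl
  have hθ'1 : θ' 1 = θ 1 := rfl
  have hθ1ne : θ 1 ≠ 0 := IsIrrCharacter.apply_one_ne_zero hθ
  have hΘchar : Cfsg.IsCharacter T Θ :=
    indFun_isCharacter _ θ' (IsIrrCharacter.isCharacter hθ'irr)
  have hf : ∀ μ : Cfsg.IrrCharacter T, ∃ n : ℕ, Cfsg.classInner Θ (μ : T → ℂ) = n :=
    fun μ => classInner_isCharacter_nat hΘchar (IsIrrCharacter.isCharacter μ.2)
  choose f hf using hf
  have hexp : Θ = ∑ μ : Cfsg.IrrCharacter T, (f μ : ℂ) • (μ : T → ℂ) := by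
    conv_lhs => rw [classFunction_expansion Θ (IsCharacter.isClassFunction hΘchar)]
    simp only [hf]
  have hall : ∀ t : T, conjFn (H.subgroupOf T) t θ' = θ' := by
    intro t
    funext x
    rw [conjFn_apply]
    have := congrFun ((hT t).1 t.2) ⟨(x : T), Subgroup.mem_subgroupOf.mp x.2⟩
    rw [conjFn_apply] at this
    exact this
  have hnormΘ : Cfsg.classInner Θ Θ = (Nat.card T : ℂ) / (Nat.card H : ℂ) := by
    rw [hΘ, classInner_indFun_self_of_irr (H.subgroupOf T) hθ'irr]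
    rw [Nat.card_congr (Equiv.subtypeUnivEquiv hall),
      Nat.card_congr (Subgroup.subgroupOfEquivOfLe hHT).toEquiv]
  set P : Finset (Cfsg.IrrCharacter T) := Finset.univ.filter (fun μ => f μ ≠ 0) with hP
  -- restriction to H' of a constituent
  have hfrob : ∀ μ : Cfsg.IrrCharacter T,
      Cfsg.classInner (fun n : H.subgroupOf T => (μ : T → ℂ) n) θ' = (f μ : ℂ) := by
    intro μ
    rw [← classInner_conj_symm, ← frobenius_reciprocity (H.subgroupOf T) θ' _
      (IrrCharacter.isClassFunction μ), hf μ, map_natCast]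
  have hres : ∀ μ ∈ P, (fun n : H.subgroupOf T => (μ : T → ℂ) n) = (f μ : ℂ) • θ' := by
    intro μ hμ
    have hfμ : f μ ≠ 0 := (Finset.mem_filter.1 hμ).2
    have hR : Cfsg.IsCharacter (H.subgroupOf T) (fun n : H.subgroupOf T => (μ : T → ℂ) n) :=
      IsCharacter.restrict (IsIrrCharacter.isCharacter μ.2) _
    have hne1 : Cfsg.classInner (fun n : H.subgroupOf T => (μ : T → ℂ) n) θ' ≠ 0 := by
      rw [hfrob μ]; exact_mod_cast hfμ
    have hexpR := classFunction_expansion _ (IsCharacter.isClassFunction hR)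
    rw [Finset.sum_eq_single (⟨θ', hθ'irr⟩ : Cfsg.IrrCharacter (H.subgroupOf T))] at hexpR
    · rw [hfrob μ] at hexpR
      exact hexpR
    · intro φ _ hφ
      have : Cfsg.classInner (fun n : H.subgroupOf T => (μ : T → ℂ) n)
          (φ : H.subgroupOf T → ℂ) = 0 := by
        by_contra hne2
        obtain ⟨t, ht⟩ := clifford_conj (H.subgroupOf T) μ.2 hθ'irr φ.2 hne1 hne2
        rw [hall t] at ht
        exact hφ (Subtype.ext ht)
      rw [this, zero_smul]
    · intro h; exact absurd (Finset.mem_univ _) h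
  -- abelian quotient
  have hab' : ∀ x y : T, x * y * x⁻¹ * y⁻¹ ∈ H.subgroupOf T := by
    intro x y
    rw [Subgroup.mem_subgroupOf]
    exact hab x x.2 y y.2
  have heq : ∀ μ ∈ P, ∀ ν ∈ P, f μ = f ν := by
    intro μ hμ ν hν
    have hfμ : f μ ≠ 0 := (Finset.mem_filter.1 hμ).2
    have hfν : f ν ≠ 0 := (Finset.mem_filter.1 hν).2
    have hne : Cfsg.classInner (fun n : H.subgroupOf T => (μ : T → ℂ) n)
        (fun n : H.subgroupOf T => (ν : T → ℂ) n) ≠ 0 := by
      rw [hres ν hν, classInner_smul_right, hfrob μ, map_natCast]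
      exact mul_ne_zero (by exact_mod_cast hfν) (by exact_mod_cast hfμ)
    obtain ⟨lam, hlam, hνeq⟩ := exists_twist_eq (H.subgroupOf T) hab' μ.2 ν.2 hne
    have h1 : (fun n : H.subgroupOf T => (ν : T → ℂ) n)
        = (fun n : H.subgroupOf T => (μ : T → ℂ) n) := by
      funext n
      rw [hνeq]
      simp only
      rw [hlam n n.2]
      simp
    rw [hres ν hν, hres μ hμ] at h1
    have h2 := congrFun h1 1
    simp only [Pi.smul_apply, smul_eq_mul, hθ'1] at h2
    have h3 := mul_right_cancel₀ hθ1ne h2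
    exact_mod_cast h3.symm
  -- P is nonempty
  have hPne : P.Nonempty := by
    by_contra hemp
    rw [Finset.not_nonempty_iff_eq_empty] at hemp
    have hz : Θ = 0 := by
      rw [hexp]
      apply Finset.sum_eq_zero
      intro μ _
      have : f μ = 0 := by
        by_contra h
        have : μ ∈ P := Finset.mem_filter.2 ⟨Finset.mem_univ _, h⟩
        rw [hemp] at this
        exact absurd this (Finset.notMem_empty _)
      rw [this, Nat.cast_zero, zero_smul]
    have h1 := indFun_apply_one (H.subgroupOf T) θ'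
    rw [← hΘ, hz, Pi.zero_apply, hθ'1] at h1
    have h5 : ((H.subgroupOf T).index : ℂ) ≠ 0 := by
      exact_mod_cast Subgroup.index_ne_zero_of_finite
    exact (mul_ne_zero h5 hθ1ne) h1.symm
  obtain ⟨μ₀, hμ₀⟩ := hPne
  set e := f μ₀ with he
  have hePos : 0 < e := Nat.pos_of_ne_zero (Finset.mem_filter.1 hμ₀).2
  have hfe : ∀ μ ∈ P, f μ = e := fun μ hμ => heq μ hμ μ₀ hμ₀
  have hfP : ∀ μ : Cfsg.IrrCharacter T, μ ∉ P → f μ = 0 := by
    intro μ hμ
    by_contra h
    exact hμ (Finset.mem_filter.2 ⟨Finset.mem_univ _, h⟩)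
  -- Clifford correspondence
  have hcc : ∀ μ ∈ P, Cfsg.classInner Θ (μ : T → ℂ) ≠ 0 := by
    intro μ hμ
    rw [hf μ]
    exact_mod_cast (Finset.mem_filter.1 hμ).2
  have hinj : ∀ μ ∈ P, ∀ ν ∈ P, Cfsg.indFun T (μ : T → ℂ) = Cfsg.indFun T (ν : T → ℂ) → μ = ν := by
    intro μ hμ ν hν h
    exact Subtype.ext ((clifford_correspondence H T θ hθ hT hHT μ ν μ.2 ν.2
      (hcc μ hμ) (hcc ν hν)).2 h)
  set C : Finset (G → ℂ) := P.image (fun μ : Cfsg.IrrCharacter T => Cfsg.indFun T μ.1) with hC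
  have hCcard : C.card = P.card := Finset.card_image_of_injOn (fun μ hμ ν hν h => hinj μ hμ ν hν h)
  refine ⟨e, C, hePos, ?_, ?_, ?_, ?_⟩
  · intro χ hχ
    obtain ⟨μ, hμ, rfl⟩ := Finset.mem_image.1 hχ
    exact (clifford_correspondence H T θ hθ hT hHT μ μ μ.2 μ.2 (hcc μ hμ) (hcc μ hμ)).1
  · -- cardinalities
    have h1 : Cfsg.classInner Θ Θ = ((e ^ 2 * P.card : ℕ) : ℂ) := by
      have e1 : Cfsg.classInner Θ Θ
          = Cfsg.classInner (∑ μ : Cfsg.IrrCharacter T, (f μ : ℂ) • (μ : T → ℂ)) Θ :=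
        congrArg (fun F => Cfsg.classInner F Θ) hexp
      rw [e1, classInner_sum_left]
      have e2 : ∀ μ : Cfsg.IrrCharacter T, Cfsg.classInner ((f μ : ℂ) • (μ : T → ℂ)) Θ
          = if μ ∈ P then ((e ^ 2 : ℕ) : ℂ) else 0 := by
        intro μ
        rw [classInner_smul_left, ← classInner_conj_symm, hf μ, map_natCast]
        by_cases hμ : μ ∈ P
        · rw [if_pos hμ, hfe μ hμ]; push_cast; ring
        · rw [if_neg hμ, hfP μ hμ]; simp
      simp only [e2]
      rw [← Finset.sum_filter, Finset.filter_mem_eq_inter, Finset.univ_inter, Finset.sum_const,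
        nsmul_eq_mul]
      push_cast
      ring
    rw [hnormΘ] at h1
    have hHne : (Nat.card H : ℂ) ≠ 0 := card_subgroup_ne_zero H
    have h2 : (Nat.card T : ℂ) = ((e ^ 2 * P.card * Nat.card H : ℕ) : ℂ) := by
      rw [div_eq_iff hHne] at h1
      rw [h1]
      push_cast
      ring
    rw [hCcard]
    exact_mod_cast h2.symm
  · -- the sum
    rw [← indFun_trans H T hHT θ]
    change Cfsg.indFun T Θ = _
    rw [hexp, indFun_sum, hC, Finset.sum_image (fun μ hμ ν hν h => hinj μ hμ ν hν h),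
      Finset.smul_sum]
    have e2 : ∀ μ : Cfsg.IrrCharacter T, Cfsg.indFun T ((f μ : ℂ) • (μ : T → ℂ))
        = if μ ∈ P then (e : ℂ) • Cfsg.indFun T (μ : T → ℂ) else 0 := by
      intro μ
      rw [indFun_smul]
      by_cases hμ : μ ∈ P
      · rw [if_pos hμ, hfe μ hμ]
      · rw [if_neg hμ, hfP μ hμ]; simp
    simp only [e2]
    rw [← Finset.sum_filter, Finset.filter_mem_eq_inter, Finset.univ_inter]
  · intro χ hχ
    obtain ⟨μ, hμ, rfl⟩ := Finset.mem_image.1 hχ
    rw [indFun_apply_one]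
    have h1 := congrFun (hres μ hμ) 1
    simp only [Pi.smul_apply, smul_eq_mul, hθ'1, OneMemClass.coe_one] at h1
    rw [h1, hfe μ hμ]
    ring

end AbelianInertia

end Cfsg.Agent.Lib.Helper11
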