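import Cfsg.Agent.Lib.Helper11.Coherence2
import Cfsg.Agent.Lib.Helper11.IsoExtend

/-!
Peterfalvi (5.5) (`coh_tau1_mem_span`), a weighted Bessel inequality, and extension of a linear
isometry by two new elements.
-/

set_option autoImplicit false

namespace Cfsg.Agent.Lib.Helper11

open Cfsg
open Cfsg.Agent.Lib.Helper2
open scoped ComplexConjugate

section FiveFive

variable {L : Type*} [Group L] [Fintype L] {G : Type*} [Group G] [Fintype G]
variable {S : Set (L → ℂ)} {τ : (L → ℂ) → (G → ℂ)} {R : (L → ℂ) → Finset (G → ℂ)}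

theorem int_sq_add_pred_sq_ge_one (k : ℤ) : (1 : ℝ) ≤ (k : ℝ) ^ 2 + ((k : ℝ) - 1) ^ 2 := by
  have h : (1 : ℤ) ≤ k ^ 2 + (k - 1) ^ 2 := by
    rcases le_or_gt k 0 with h | h
    · nlinarith
    · nlinarith
  have : ((1 : ℤ) : ℝ) ≤ ((k ^ 2 + (k - 1) ^ 2 : ℤ) : ℝ) := by exact_mod_cast h
  push_cast at this
  exact this

/-- (Peterfalvi 5.5) If `τ₁` is a linear isometry on `ℤ[S₁]` agreeing with `τ` on the members
vanishing at `1`, then `τ₁ φ` lies in the span of `R φ` for `φ ∈ S₁`. -/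
theorem coh_tau1_mem_span (hS : IsCoherenceSystem S τ R) {S₁ : Set (L → ℂ)} (hS₁ : S₁ ⊆ S)
    (hS₁c : ∀ φ ∈ S₁, conjFun φ ∈ S₁) {τ₁ : (L → ℂ) → (G → ℂ)}
    (hτ₁ : IsLinearIsometryOn (zspan S₁) τ₁) (hagree : ∀ α ∈ zspanOn S₁ {1}ᶜ, τ₁ α = τ α)
    {φ : L → ℂ} (hφ : φ ∈ S₁) : τ₁ φ = ∑ α ∈ R φ, classInner (τ₁ φ) α • α := by
  classical
  have hφS : φ ∈ S := hS₁ hφ
  have hφc : conjFun φ ∈ S₁ := hS₁c φ hφ
  have m1 : φ ∈ zspan S₁ := Submodule.subset_span hφ
  have m2 : conjFun φ ∈ zspan S₁ := Submodule.subset_span hφc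
  obtain ⟨n, hnpos, hn⟩ := coh_norm_nat hS hφS
  set X := τ₁ φ with hX
  set X' := τ₁ (conjFun φ) with hX'
  have hdiffmem : φ - conjFun φ ∈ zspanOn S₁ {1}ᶜ := by
    refine ⟨Submodule.sub_mem _ m1 m2, ?_⟩
    intro x hx
    have hx1 : x = 1 := by simpa using hx
    subst hx1
    rw [Pi.sub_apply, coh_conj_apply_one hS hφS, sub_self]
  have hdiff : X - X' = ∑ α ∈ R φ, α := by
    have h1 : τ₁ (φ - conjFun φ) = X - X' := by
      have hneg : τ₁ (-conjFun φ) = -X' := by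
        have := hτ₁.2.1 _ m2 (-1)
        simpa using this
      rw [sub_eq_add_neg, hτ₁.1 φ m1 _ (Submodule.neg_mem _ m2), hneg, ← sub_eq_add_neg]
    rw [← h1, hagree _ hdiffmem, hS.sum_eq φ hφS]
  have hXgen : IsGeneralizedCharacter G X := hτ₁.2.2.2 φ m1
  have hX'gen : IsGeneralizedCharacter G X' := hτ₁.2.2.2 _ m2
  have hint : ∀ α : G → ℂ, ∃ k : ℤ, α ∈ R φ → classInner X α = (k : ℂ) := by
    intro α
    by_cases hα : α ∈ R φ
    · obtain ⟨k, hk⟩ := IsGeneralizedCharacter.inner_int hXgen (hS.virtual φ hφS α hα)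
      exact ⟨k, fun _ => hk⟩
    · exact ⟨0, fun h => absurd h hα⟩
  choose k hk using hint
  have hk' : ∀ α ∈ R φ, classInner X' α = ((k α : ℂ) - 1) := by
    intro α hα
    have h1 : classInner (X - X') α = 1 := by
      rw [hdiff, classInner_sum_left, Finset.sum_eq_single α]
      · rw [hS.orthonormal φ hφS α hα α hα, if_pos rfl]
      · intro β hβ hne
        rw [hS.orthonormal φ hφS β hβ α hα, if_neg hne]
      · intro h; exact absurd hα h
    rw [classInner_sub_left, hk α hα] at h1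
    linear_combination -h1
  have hXX : (classInner X X).re = n := by
    rw [hX, hτ₁.2.2.1 φ m1 φ m1, hn]; simp
  have hX'X' : (classInner X' X').re = n := by
    rw [hX', hτ₁.2.2.1 _ m2 _ m2, coh_norm_conj hS hφS, hn]; simp
  have hb1 := bessel_le (R φ) (hS.orthonormal φ hφS) X
  have hb2 := bessel_le (R φ) (hS.orthonormal φ hφS) X'
  rw [hXX] at hb1
  rw [hX'X'] at hb2
  have hcard : ((R φ).card : ℝ) = 2 * n := by
    have := coh_card_R hS hφS
    rw [hn] at this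
    exact_mod_cast this
  have hsum : (2 * n : ℝ) ≤ ∑ α ∈ R φ, ‖classInner X α‖ ^ 2 + ∑ α ∈ R φ, ‖classInner X' α‖ ^ 2 := by
    rw [← Finset.sum_add_distrib, ← hcard]
    have : ((R φ).card : ℝ) = ∑ _α ∈ R φ, (1 : ℝ) := by simp
    rw [this]
    apply Finset.sum_le_sum
    intro α hα
    rw [hk α hα, hk' α hα]
    have e1 : ‖((k α : ℂ))‖ ^ 2 = (k α : ℝ) ^ 2 := by
      rw [Complex.norm_intCast, sq_abs]
    have e2 : ‖((k α : ℂ) - 1)‖ ^ 2 = ((k α : ℝ) - 1) ^ 2 := by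
      have : ((k α : ℂ) - 1) = ((k α - 1 : ℤ) : ℂ) := by push_cast; ring
      rw [this, Complex.norm_intCast, sq_abs]
      push_cast
      ring
    rw [e1, e2]
    exact int_sq_add_pred_sq_ge_one (k α)
  apply eq_proj_of_bessel_eq (R φ) (hS.orthonormal φ hφS) X
  rw [hXX]
  linarith

end FiveFive

section WBessel

variable {G : Type*} [Group G] [Fintype G]

/-- Bessel's inequality for an orthogonal family with positive real norms `w i`. -/
theorem bessel_weighted_le {ι : Type*} [DecidableEq ι] (F : Finset ι) (e : ι → G → ℂ) (w : ι → ℝ)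
    (hw : ∀ i ∈ F, 0 < w i)
    (horth : ∀ i ∈ F, ∀ j ∈ F, classInner (e i) (e j) = if i = j then (w i : ℂ) else 0)
    (Y : G → ℂ) :
    ∑ i ∈ F, ‖classInner Y (e i)‖ ^ 2 / w i ≤ (classInner Y Y).re := by
  set Q : G → ℂ := ∑ i ∈ F, (classInner Y (e i) / (w i : ℂ)) • e i with hQ
  have hsq : ∀ i, classInner Y (e i) * conj (classInner Y (e i))
      = ((‖classInner Y (e i)‖ ^ 2 : ℝ) : ℂ) := by
    intro i
    rw [Complex.mul_conj, Complex.normSq_eq_norm_sq]
  have h1 : classInner Y Q = ((∑ i ∈ F, ‖classInner Y (e i)‖ ^ 2 / w i : ℝ) : ℂ) := by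
    rw [hQ, classInner_sum_right]
    push_cast
    apply Finset.sum_congr rfl
    intro i _
    rw [classInner_smul_right, map_div₀, Complex.conj_ofReal, div_mul_eq_mul_div, mul_comm, hsq]
    push_cast
    rfl
  have h2 : classInner Q Y = ((∑ i ∈ F, ‖classInner Y (e i)‖ ^ 2 / w i : ℝ) : ℂ) := by
    rw [← classInner_conj_symm, h1, Complex.conj_ofReal]
  have h3 : classInner Q Q = ((∑ i ∈ F, ‖classInner Y (e i)‖ ^ 2 / w i : ℝ) : ℂ) := by
    rw [hQ, classInner_sum_left]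
    push_cast
    apply Finset.sum_congr rfl
    intro i hi
    rw [classInner_smul_left, classInner_sum_right, Finset.sum_eq_single i]
    · rw [classInner_smul_right, horth i hi i hi, if_pos rfl, map_div₀, Complex.conj_ofReal]
      have hwi : (w i : ℂ) ≠ 0 := by exact_mod_cast (hw i hi).ne'
      have := hsq i
      field_simp
      rw [this]
      push_cast
      rfl
    · intro j hj hne
      rw [classInner_smul_right, horth i hi j hj, if_neg (fun h => hne h.symm), mul_zero]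
    · intro h; exact absurd hi h
  have h := classInner_self_re_nonneg (Y - Q)
  rw [classInner_sub_left, classInner_sub_right, classInner_sub_right, h1, h2, h3] at h
  simp only [Complex.sub_re, Complex.ofReal_re] at h
  linarith

end WBessel

section Two

variable {L : Type*} [Group L] [Fintype L] {G : Type*} [Group G] [Fintype G]
variable {S : Set (L → ℂ)} {τ : (L → ℂ) → (G → ℂ)} {R : (L → ℂ) → Finset (G → ℂ)}

theorem coh_apply_one_ne_zero (hS : IsCoherenceSystem S τ R) {ξ : L → ℂ} (hξ : ξ ∈ S) :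
    ξ 1 ≠ 0 := by
  intro h0
  obtain ⟨n, ρ, hρ⟩ := hS.isCharacter ξ hξ
  have hfin : Module.finrank ℂ (Fin n → ℂ) = 0 := by
    have : ρ.character 1 = (Module.finrank ℂ (Fin n → ℂ) : ℂ) := Representation.char_one ρ
    rw [hρ, h0] at this
    exact_mod_cast this.symm
  have hn : n = 0 := by simpa using hfin
  subst hn
  apply coh_ne_zero hS hξ
  rw [← hρ]
  ext g
  have : ρ g = 0 := LinearMap.ext fun v => Subsingleton.elim _ _
  simp [Representation.character, this]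

/-- Extending a linear isometry by two new mutually orthogonal elements. -/
theorem isometry_extend_two (S₀ : Set (L → ℂ)) (τ₀ : (L → ℂ) → (G → ℂ))
    (h₀ : IsLinearIsometryOn (zspan S₀) τ₀) (χ χ' : L → ℂ) (n n' : ℕ)
    (hn : classInner χ χ = (n : ℂ)) (hn' : classInner χ' χ' = (n' : ℂ)) (hn0 : n ≠ 0)
    (hn0' : n' ≠ 0) (hχχ' : classInner χ' χ = 0)
    (horth : ∀ φ ∈ S₀, classInner φ χ = 0) (horth' : ∀ φ ∈ S₀, classInner φ χ' = 0)
    (X X' : G → ℂ) (hXgen : IsGeneralizedCharacter G X) (hXgen' : IsGeneralizedCharacter G X')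
    (hXX : classInner X X = (n : ℂ)) (hXX' : classInner X' X' = (n' : ℂ))
    (hX'X : classInner X' X = 0)
    (hXorth : ∀ φ ∈ S₀, classInner (τ₀ φ) X = 0) (hXorth' : ∀ φ ∈ S₀, classInner (τ₀ φ) X' = 0) :
    ∃ τ' : (L → ℂ) → (G → ℂ), IsLinearIsometryOn (zspan (insert χ (insert χ' S₀))) τ' ∧
      (∀ f ∈ zspan S₀, τ' f = τ₀ f) ∧ τ' χ = X ∧ τ' χ' = X' := by
  obtain ⟨τ₁, h₁, hext₁, hχ'₁⟩ := isometry_extend_one S₀ τ₀ h₀ χ' n' hn' hn0' horth' X' hXgen'
    hXX' hXorth'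
  have horth2 : ∀ φ ∈ insert χ' S₀, classInner φ χ = 0 := by
    intro φ hφ
    rcases hφ with rfl | hφ
    · exact hχχ'
    · exact horth φ hφ
  have hXorth2 : ∀ φ ∈ insert χ' S₀, classInner (τ₁ φ) X = 0 := by
    intro φ hφ
    rcases hφ with rfl | hφ
    · rw [hχ'₁]; exact hX'X
    · rw [hext₁ φ (Submodule.subset_span hφ)]; exact hXorth φ hφ
  obtain ⟨τ₂, h₂, hext₂, hχ₂⟩ := isometry_extend_one (insert χ' S₀) τ₁ h₁ χ n hn hn0 horth2 X hXgen
    hXX hXorth2
  have hsub : zspan S₀ ⊆ zspan (insert χ' S₀) := Submodule.span_mono (Set.subset_insert _ _)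
  refine ⟨τ₂, h₂, ?_, hχ₂, ?_⟩
  · intro f hf
    rw [hext₂ f (hsub hf), hext₁ f hf]
  · rw [hext₂ χ' (Submodule.subset_span (Set.mem_insert _ _)), hχ'₁]

end Two

end Cfsg.Agent.Lib.Helper11
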