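import Mathlib
import Cfsg.Agent.S1499
import Cfsg.Agent.Lib.Helper11.CoprimeCoset

/-!
Averaging a class function over a coprime coset `N g`: the average over `N g` equals the average
over `C_N(g) g`.
-/

set_option autoImplicit false

namespace Cfsg.Agent.Lib.Helper11

universe u

section CosetAvg
open Classical

variable {G : Type u} [Group G] [Fintype G]

/-- Uniqueness of coprime parts under conjugation. -/
theorem conj_eq_of_coprime_parts (N : Subgroup G) (g : G)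
    (hcop : Nat.Coprime (orderOf g) (Nat.card N)) {c c₀ y : G} (hc : c ∈ N) (hc₀ : c₀ ∈ N)
    (hcg : c * g = g * c) (hc₀g : c₀ * g = g * c₀) (h : y * (c * g) * y⁻¹ = c₀ * g) :
    y * g * y⁻¹ = g := by
  obtain ⟨k, hk1, hk0⟩ := Nat.chineseRemainder hcop 1 0
  have hgn : g ^ orderOf g = 1 := pow_orderOf_eq_one g
  have hcm : c ^ Nat.card N = 1 := Cfsg.Agent.S1499.pow_eq_one_of_mem N hc _ dvd_rfl
  have hc₀m : c₀ ^ Nat.card N = 1 := Cfsg.Agent.S1499.pow_eq_one_of_mem N hc₀ _ dvd_rfl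
  have e1 : (g * c) ^ k = g :=
    Cfsg.Agent.S1499.pow_trick (orderOf g) (Nat.card N) k hk1 hk0 g c hcg.symm hgn hcm
  have e2 : (g * c₀) ^ k = g :=
    Cfsg.Agent.S1499.pow_trick (orderOf g) (Nat.card N) k hk1 hk0 g c₀ hc₀g.symm hgn hc₀m
  calc y * g * y⁻¹ = y * (g * c) ^ k * y⁻¹ := by rw [e1]
    _ = (y * (g * c) * y⁻¹) ^ k := (conj_pow).symm
    _ = g := by rw [← hcg, h, hc₀g, e2]

theorem coset_avg_aux (N : Subgroup G) (g : G)
    (hg : g ∈ Subgroup.normalizer (N : Set G)) (hcop : Nat.Coprime (orderOf g) (Nat.card N))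
    (χ : G → ℂ) (hχ : ∀ a x : G, χ (x * a * x⁻¹) = χ a) :
    ((Finset.univ.filter (fun c : G => c ∈ N ⊓ Subgroup.centralizer {g})).card : ℂ) *
        ∑ h : G, (if h ∈ N then χ (h * g) else 0)
      = ((Finset.univ.filter (fun h : G => h ∈ N)).card : ℂ) *
        ∑ c : G, (if c ∈ N ⊓ Subgroup.centralizer {g} then χ (c * g) else 0) := by
  set C := N ⊓ Subgroup.centralizer {g} with hC
  set Nf := Finset.univ.filter (fun h : G => h ∈ N) with hNf
  set Cf := Finset.univ.filter (fun c : G => c ∈ C) with hCf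
  set φ : G × G → G := fun p => p.1 * p.2 * g * p.1⁻¹ * g⁻¹ with hφ
  have hmemC : ∀ c : G, c ∈ C ↔ c ∈ N ∧ c * g = g * c := by
    intro c
    rw [hC, Subgroup.mem_inf, Subgroup.mem_centralizer_iff]
    constructor
    · rintro ⟨h1, h2⟩
      exact ⟨h1, (h2 g rfl).symm⟩
    · rintro ⟨h1, h2⟩
      refine ⟨h1, ?_⟩
      intro z hz
      rw [Set.mem_singleton_iff] at hz
      subst hz
      exact h2.symm
  have hgN : ∀ x ∈ N, g * x * g⁻¹ ∈ N := fun x hx =>
    ((Subgroup.mem_normalizer_iff (H := N)).1 hg x).1 hx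
  have hmaps : ∀ p ∈ Nf ×ˢ Cf, φ p ∈ Nf := by
    intro p hp
    rw [Finset.mem_product] at hp
    have h1 : p.1 ∈ N := (Finset.mem_filter.1 hp.1).2
    have h2 : p.2 ∈ N := ((hmemC _).1 (Finset.mem_filter.1 hp.2).2).1
    rw [hNf, Finset.mem_filter]
    refine ⟨Finset.mem_univ _, ?_⟩
    have : φ p = p.1 * p.2 * (g * p.1⁻¹ * g⁻¹) := by simp only [hφ]; group
    rw [this]
    exact N.mul_mem (N.mul_mem h1 h2) (hgN _ (N.inv_mem h1))
  have hfib : ∀ h₀ ∈ Nf, ((Nf ×ˢ Cf).filter (fun p => φ p = h₀)).card = Cf.card := by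
    intro h₀ hh₀
    have hh₀N : h₀ ∈ N := (Finset.mem_filter.1 hh₀).2
    obtain ⟨x₀, hx₀, c₀, hc₀, hc₀g, hconj⟩ := coset_conj N g hg hcop h₀ hh₀N
    symm
    apply Finset.card_bij (fun y _ => (x₀⁻¹ * y, y⁻¹ * c₀ * y))
    · intro y hy
      have hyC := (hmemC y).1 (Finset.mem_filter.1 hy).2
      rw [Finset.mem_filter, Finset.mem_product]
      refine ⟨⟨?_, ?_⟩, ?_⟩
      · rw [hNf, Finset.mem_filter]
        exact ⟨Finset.mem_univ _, N.mul_mem (N.inv_mem hx₀) hyC.1⟩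
      · rw [hCf, Finset.mem_filter]
        refine ⟨Finset.mem_univ _, (hmemC _).2 ⟨N.mul_mem (N.mul_mem (N.inv_mem hyC.1) hc₀) hyC.1, ?_⟩⟩
        have e1 : y⁻¹ * g = g * y⁻¹ := by
          have := hyC.2
          calc y⁻¹ * g = y⁻¹ * (g * y) * y⁻¹ := by group
            _ = y⁻¹ * (y * g) * y⁻¹ := by rw [this]
            _ = g * y⁻¹ := by group
        calc y⁻¹ * c₀ * y * g = y⁻¹ * c₀ * (y * g) := by group
          _ = y⁻¹ * c₀ * (g * y) := by rw [hyC.2]
          _ = y⁻¹ * (c₀ * g) * y := by group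
          _ = y⁻¹ * (g * c₀) * y := by rw [hc₀g]
          _ = (y⁻¹ * g) * c₀ * y := by group
          _ = (g * y⁻¹) * c₀ * y := by rw [e1]
          _ = g * (y⁻¹ * c₀ * y) := by group
      · simp only [hφ]
        have e2 : h₀ = x₀⁻¹ * (c₀ * g) * x₀ * g⁻¹ := by
          rw [← hconj]; group
        rw [e2]
        calc x₀⁻¹ * y * (y⁻¹ * c₀ * y) * g * (x₀⁻¹ * y)⁻¹ * g⁻¹
            = x₀⁻¹ * c₀ * (y * g) * y⁻¹ * x₀ * g⁻¹ := by group
          _ = x₀⁻¹ * c₀ * (g * y) * y⁻¹ * x₀ * g⁻¹ := by rw [hyC.2]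
          _ = x₀⁻¹ * (c₀ * g) * x₀ * g⁻¹ := by group
    · intro y₁ _ y₂ _ h
      have := congrArg Prod.fst h
      simpa using this
    · intro p hp
      rw [Finset.mem_filter, Finset.mem_product] at hp
      obtain ⟨⟨hp1, hp2⟩, hp3⟩ := hp
      have hxN : p.1 ∈ N := (Finset.mem_filter.1 hp1).2
      have hcC := (hmemC _).1 (Finset.mem_filter.1 hp2).2
      set y := x₀ * p.1 with hy
      have hyN : y ∈ N := N.mul_mem hx₀ hxN
      have h1 : y * (p.2 * g) * y⁻¹ = c₀ * g := by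
        rw [← hconj, ← hp3]
        simp only [hφ, hy]
        group
      have h2 : y * g * y⁻¹ = g :=
        conj_eq_of_coprime_parts N g hcop hcC.1 hc₀ hcC.2 hc₀g h1
      have hyg : y * g = g * y := by
        calc y * g = (y * g * y⁻¹) * y := by group
          _ = g * y := by rw [h2]
      have h3 : y * p.2 * y⁻¹ = c₀ := by
        have : y * (p.2 * g) * y⁻¹ = (y * p.2 * y⁻¹) * (y * g * y⁻¹) := by group
        rw [this, h2] at h1
        exact mul_right_cancel h1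
      refine ⟨y, ?_, ?_⟩
      · rw [hCf, Finset.mem_filter]
        exact ⟨Finset.mem_univ _, (hmemC y).2 ⟨hyN, hyg⟩⟩
      · apply Prod.ext
        · simp only [hy]; group
        · simp only
          rw [← h3]; group
  have hsum1 : ∑ p ∈ Nf ×ˢ Cf, χ (φ p * g) = ∑ h₀ ∈ Nf, (Cf.card : ℂ) * χ (h₀ * g) := by
    rw [← Finset.sum_fiberwise_of_maps_to hmaps]
    apply Finset.sum_congr rfl
    intro h₀ hh₀
    rw [← hfib h₀ hh₀, ← nsmul_eq_mul, ← Finset.sum_const]
    apply Finset.sum_congr rfl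
    intro p hp
    rw [(Finset.mem_filter.1 hp).2]
  have hsum2 : ∑ p ∈ Nf ×ˢ Cf, χ (φ p * g) = (Nf.card : ℂ) * ∑ c ∈ Cf, χ (c * g) := by
    rw [Finset.sum_product]
    have : ∀ x ∈ Nf, ∑ c ∈ Cf, χ (φ (x, c) * g) = ∑ c ∈ Cf, χ (c * g) := by
      intro x _
      apply Finset.sum_congr rfl
      intro c _
      have : φ (x, c) * g = x * (c * g) * x⁻¹ := by simp only [hφ]; group
      rw [this, hχ]
    rw [Finset.sum_congr rfl this, Finset.sum_const, nsmul_eq_mul]
  rw [← Finset.sum_filter, ← Finset.sum_filter, ← hsum2, hsum1, Finset.mul_sum]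

theorem card_filter_mem_subgroup (S : Subgroup G) :
    (Finset.univ.filter (fun h : G => h ∈ S)).card = Nat.card S := by
  rw [Nat.card_eq_fintype_card, Fintype.card_subtype]

/-- The average of a class function over a coprime coset. -/
theorem coset_avg (N : Subgroup G) (g : G)
    (hg : g ∈ Subgroup.normalizer (N : Set G)) (hcop : Nat.Coprime (orderOf g) (Nat.card N))
    (χ : G → ℂ) (hχ : ∀ a x : G, χ (x * a * x⁻¹) = χ a) :
    (Nat.card N : ℂ)⁻¹ * ∑ h : G, (if h ∈ N then χ (h * g) else 0)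
      = (Nat.card ↥(N ⊓ Subgroup.centralizer {g}) : ℂ)⁻¹ *
        ∑ c : G, (if c ∈ N ⊓ Subgroup.centralizer {g} then χ (c * g) else 0) := by
  have h := coset_avg_aux N g hg hcop χ hχ
  rw [card_filter_mem_subgroup, card_filter_mem_subgroup] at h
  have h1 : (Nat.card N : ℂ) ≠ 0 := by exact_mod_cast Nat.card_pos.ne'
  have h2 : (Nat.card ↥(N ⊓ Subgroup.centralizer {g}) : ℂ) ≠ 0 := by
    exact_mod_cast Nat.card_pos.ne'
  field_simp
  linear_combination h

end CosetAvg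

end Cfsg.Agent.Lib.Helper11
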