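import Mathlib
import Cfsg.Prelude.Def_OddOrderLocal
import Cfsg.Agent.Lib.Helper10.Basic

/-!
Self-normalising cyclic subgroups `W = W₁ × W₂`: the set `W \ (W₁ ∪ W₂)` controls its own fusion.
-/

set_option autoImplicit false

namespace Cfsg.Agent.Lib.Helper11

variable {G : Type*} [Group G]

theorem conj_mem_map_iff (H : Subgroup G) (x y : G) :
    x * y * x⁻¹ ∈ H.map (MulAut.conj x).toMonoidHom ↔ y ∈ H := by
  constructor
  · rintro ⟨y', hy', h⟩
    simp only [MulEquiv.coe_toMonoidHom, MulAut.conj_apply] at h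
    have : y' = y := by
      have := mul_left_cancel (mul_right_cancel h)
      exact this
    rw [← this]; exact hy'
  · intro hy
    exact ⟨y, hy, by simp⟩

/-- The set `W \ (W₁ ∪ W₂)` controls its own fusion in `G`. -/
theorem selfNormCyclic_fusion [Finite G] (W₁ W₂ : Subgroup G)
    (hW : Cfsg.IsSelfNormalizingCyclic W₁ W₂) :
    ∀ a ∈ (↑(W₁ ⊔ W₂) : Set G) \ (↑W₁ ∪ ↑W₂), ∀ x : G,
      x⁻¹ * a * x ∈ (↑(W₁ ⊔ W₂) : Set G) \ (↑W₁ ∪ ↑W₂) → x ∈ W₁ ⊔ W₂ := by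
  obtain ⟨_, _, _, _, hcyc, hN⟩ := hW
  intro a ha x ha'
  have hNa : Subgroup.normalizer ({a} : Set G) = W₁ ⊔ W₂ :=
    hN {a} (Set.singleton_subset_iff.2 ha) (Set.singleton_nonempty a)
  have hNa' : Subgroup.normalizer ({x⁻¹ * a * x} : Set G) = W₁ ⊔ W₂ :=
    hN {x⁻¹ * a * x} (Set.singleton_subset_iff.2 ha') (Set.singleton_nonempty _)
  have hmemN : ∀ b y : G, y ∈ Subgroup.normalizer ({b} : Set G) ↔ y * b * y⁻¹ = b := by
    intro b y
    rw [Subgroup.mem_set_normalizer_iff]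
    constructor
    · intro h
      have := (h b).1 rfl
      simpa using this
    · intro h z
      simp only [Set.mem_singleton_iff]
      constructor
      · rintro rfl; exact h
      · intro hz
        have e : y * z * y⁻¹ = y * b * y⁻¹ := by rw [hz, h]
        exact mul_left_cancel (mul_right_cancel e)
  -- conjugation by x preserves W
  have hW1 : ∀ y, y ∈ W₁ ⊔ W₂ → x * y * x⁻¹ ∈ W₁ ⊔ W₂ := by
    intro y hy
    rw [← hNa'] at hy
    rw [← hNa, hmemN]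
    have h := (hmemN _ y).1 hy
    have e : x * y * x⁻¹ * a * (x * y * x⁻¹)⁻¹ = x * (y * (x⁻¹ * a * x) * y⁻¹) * x⁻¹ := by group
    rw [e, h]; group
  have hW2 : ∀ y, x * y * x⁻¹ ∈ W₁ ⊔ W₂ → y ∈ W₁ ⊔ W₂ := by
    intro y hy
    rw [← hNa] at hy
    rw [← hNa', hmemN]
    have h := (hmemN _ _).1 hy
    have e : y * (x⁻¹ * a * x) * y⁻¹ = x⁻¹ * (x * y * x⁻¹ * a * (x * y * x⁻¹)⁻¹) * x := by group
    rw [e, h]
  -- hence preserves W₁ and W₂
  have hmap : ∀ A : Subgroup G, A ≤ W₁ ⊔ W₂ → A.map (MulAut.conj x).toMonoidHom = A := by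
    intro A hA
    haveI := hcyc
    apply Cfsg.Agent.Lib.Helper10.eq_of_card_eq_of_le_isCyclic (W₁ ⊔ W₂) _ _ _ hA
    · exact Subgroup.card_map_of_injective (MulAut.conj x).injective
    · rintro z ⟨y, hy, rfl⟩
      simp only [MulEquiv.coe_toMonoidHom, MulAut.conj_apply]
      exact hW1 y (hA hy)
  have h1 : ∀ y, x * y * x⁻¹ ∈ W₁ ↔ y ∈ W₁ := by
    intro y
    have := conj_mem_map_iff W₁ x y
    rwa [hmap W₁ le_sup_left] at this
  have h2 : ∀ y, x * y * x⁻¹ ∈ W₂ ↔ y ∈ W₂ := by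
    intro y
    have := conj_mem_map_iff W₂ x y
    rwa [hmap W₂ le_sup_right] at this
  -- x normalises V
  have hxN : x ∈ Subgroup.normalizer ((↑(W₁ ⊔ W₂) : Set G) \ (↑W₁ ∪ ↑W₂)) := by
    rw [Subgroup.mem_set_normalizer_iff]
    intro y
    simp only [Set.mem_diff, SetLike.mem_coe, Set.mem_union, not_or]
    constructor
    · rintro ⟨hy, hy1, hy2⟩
      exact ⟨hW1 y hy, fun h => hy1 ((h1 y).1 h), fun h => hy2 ((h2 y).1 h)⟩
    · rintro ⟨hy, hy1, hy2⟩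
      exact ⟨hW2 y hy, fun h => hy1 ((h1 y).2 h), fun h => hy2 ((h2 y).2 h)⟩
  rw [hN _ (le_refl _) ⟨a, ha⟩] at hxN
  exact hxN

end Cfsg.Agent.Lib.Helper11
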