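import Mathlib
import Cfsg.Prelude.Def_OddOrderLocal
import Cfsg.Prelude.Def_OddOrderChar
import Cfsg.Agent.Lib.Helper11.CharSep
import Cfsg.Agent.Lib.Helper11.Frobenius
import Cfsg.Agent.Lib.Helper11.LinCharProd
import Cfsg.Agent.Lib.Helper2.CharBasic

set_option autoImplicit false

/-!
# Auxiliary results for the construction of the cyclic TI family (Peterfalvi 3.2)
-/

namespace Cfsg.Agent.Lib.Helper11

open Cfsg Cfsg.Agent.Lib.Helper2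
open scoped ComplexConjugate

section EqOn

variable {G : Type*} [Group G] [Fintype G]

open Classical in
/-- The values on `W \ (W₁ ∪ W₂)` of an orthonormal family satisfying the induction identity. -/
theorem cyclicTI_eq_on (W₁ W₂ : Subgroup G) (hW : Cfsg.IsSelfNormalizingCyclic W₁ W₂)
    (χ : (↥(W₁ ⊔ W₂) →* ℂˣ) → (G → ℂ))
    (hcf : ∀ ω, Cfsg.IsClassFunction G (χ ω))
    (horth : ∀ ω ω', Cfsg.classInner (χ ω) (χ ω') = if ω = ω' then 1 else 0)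
    (hone : χ 1 = fun _ => 1)
    (hind : ∀ φ ψ : ↥(W₁ ⊔ W₂) →* ℂˣ, φ ≠ 1 → ψ ≠ 1 →
      (∀ w : ↥(W₁ ⊔ W₂), (w : G) ∈ W₂ → φ w = 1) → (∀ w : ↥(W₁ ⊔ W₂), (w : G) ∈ W₁ → ψ w = 1) →
      Cfsg.indFun (W₁ ⊔ W₂) (fun w => 1 - (φ w : ℂ) - (ψ w : ℂ) + (φ w : ℂ) * (ψ w : ℂ)) =
        fun g => 1 - χ φ g - χ ψ g + χ (φ * ψ) g)
    (ω : ↥(W₁ ⊔ W₂) →* ℂˣ) (w : ↥(W₁ ⊔ W₂)) (hw₁ : (w : G) ∉ W₁) (hw₂ : (w : G) ∉ W₂) :
    χ ω w = (ω w : ℂ) := by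
  have : Fintype ↥(W₁ ⊔ W₂) := Fintype.ofFinite _
  have hcyc : IsCyclic ↥(W₁ ⊔ W₂) := hW.2.2.2.2.1
  have hcomm : ∀ a b : ↥(W₁ ⊔ W₂), a * b = b * a := fun a b =>
    (IsCyclic.commGroup (α := ↥(W₁ ⊔ W₂))).mul_comm a b
  have hdisj : W₁.subgroupOf (W₁ ⊔ W₂) ⊓ W₂.subgroupOf (W₁ ⊔ W₂) = ⊥ := by
    rw [eq_bot_iff]
    intro a ha
    rw [Subgroup.mem_inf, Subgroup.mem_subgroupOf, Subgroup.mem_subgroupOf] at ha
    have : (a : G) ∈ W₁ ⊓ W₂ := ha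
    rw [hW.2.2.1, Subgroup.mem_bot] at this
    rw [Subgroup.mem_bot]
    exact Subtype.ext this
  have hcard : (Nat.card ↥(W₁ ⊔ W₂) : ℂ) ≠ 0 := card_ne_zero_complex
  have hcard' : (Fintype.card ↥(W₁ ⊔ W₂) : ℂ) = (Nat.card ↥(W₁ ⊔ W₂) : ℂ) := by
    rw [Nat.card_eq_fintype_card]
  have key := eq_zero_of_orthogonal_alpha hcomm (W₁.subgroupOf (W₁ ⊔ W₂))
    (W₂.subgroupOf (W₁ ⊔ W₂)) hdisj (fun a => χ ω (a : G) - (ω a : ℂ)) ?_ w
    (by rw [Subgroup.mem_subgroupOf]; exact hw₁) (by rw [Subgroup.mem_subgroupOf]; exact hw₂)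
  · exact sub_eq_zero.1 key
  intro φ ψ hφ hψ
  have hφ₂ : ∀ w : ↥(W₁ ⊔ W₂), (w : G) ∈ W₂ → φ w = 1 := fun w hw =>
    hφ w (by rw [Subgroup.mem_subgroupOf]; exact hw)
  have hψ₁ : ∀ w : ↥(W₁ ⊔ W₂), (w : G) ∈ W₁ → ψ w = 1 := fun w hw =>
    hψ w (by rw [Subgroup.mem_subgroupOf]; exact hw)
  by_cases hφ1 : φ = 1
  · apply Finset.sum_eq_zero
    intro a _
    rw [hφ1]; simp
  by_cases hψ1 : ψ = 1
  · apply Finset.sum_eq_zero
    intro a _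
    rw [hψ1]; simp
  have hind' := hind φ ψ hφ1 hψ1 hφ₂ hψ₁
  -- the value of the inner product, as a real number
  obtain ⟨r, hr⟩ : ∃ r : ℂ, r = Cfsg.classInner (χ ω) (χ 1) - Cfsg.classInner (χ ω) (χ φ) -
    Cfsg.classInner (χ ω) (χ ψ) + Cfsg.classInner (χ ω) (χ (φ * ψ)) := ⟨_, rfl⟩
  rw [horth, horth, horth, horth] at hr
  have hrconj : conj r = r := by
    rw [hr]
    split_ifs <;> simp
  have h1 : Cfsg.classInner (χ ω) (Cfsg.indFun (W₁ ⊔ W₂)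
      (fun w => 1 - (φ w : ℂ) - (ψ w : ℂ) + (φ w : ℂ) * (ψ w : ℂ))) = r := by
    rw [hind']
    have hfun : (fun g => 1 - χ φ g - χ ψ g + χ (φ * ψ) g) = χ 1 - χ φ - χ ψ + χ (φ * ψ) := by
      ext g
      simp [hone]
    rw [hfun, classInner_add_right, classInner_sub_right, classInner_sub_right, horth, horth, horth,
      horth]
    exact hr.symm
  rw [classInner_indFun_right _ _ _ (hcf ω), classInner_def] at h1
  have h1' : ∑ a : ↥(W₁ ⊔ W₂), χ ω (a : G) *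
      conj (1 - (φ a : ℂ) - (ψ a : ℂ) + (φ a : ℂ) * (ψ a : ℂ)) = (Nat.card ↥(W₁ ⊔ W₂) : ℂ) * r := by
    rw [← h1]
    field_simp
  have h2 : ∑ a : ↥(W₁ ⊔ W₂), (1 - (φ a : ℂ) - (ψ a : ℂ) + (φ a : ℂ) * (ψ a : ℂ)) * conj (ω a : ℂ)
      = (Nat.card ↥(W₁ ⊔ W₂) : ℂ) * r := by
    rw [sum_alpha_mul_conj, hr, hcard']
    have e1 : ((1 : ↥(W₁ ⊔ W₂) →* ℂˣ) = ω) ↔ (ω = 1) := eq_comm
    have e2 : (φ = ω) ↔ (ω = φ) := eq_comm
    have e3 : (ψ = ω) ↔ (ω = ψ) := eq_comm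
    have e4 : (φ * ψ = ω) ↔ (ω = φ * ψ) := eq_comm
    simp only [e1, e2, e3, e4]
    split_ifs <;> ring
  have h3 : ∑ a : ↥(W₁ ⊔ W₂), (ω a : ℂ) *
      conj (1 - (φ a : ℂ) - (ψ a : ℂ) + (φ a : ℂ) * (ψ a : ℂ)) = (Nat.card ↥(W₁ ⊔ W₂) : ℂ) * r := by
    have := congrArg conj h2
    rw [map_sum, map_mul, hrconj, map_natCast] at this
    rw [← this]
    apply Finset.sum_congr rfl
    intro a _
    rw [map_mul, Complex.conj_conj, mul_comm]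
  calc ∑ a : ↥(W₁ ⊔ W₂), (χ ω (a : G) - (ω a : ℂ)) *
        conj (1 - (φ a : ℂ) - (ψ a : ℂ) + (φ a : ℂ) * (ψ a : ℂ))
      = ∑ a : ↥(W₁ ⊔ W₂), χ ω (a : G) *
          conj (1 - (φ a : ℂ) - (ψ a : ℂ) + (φ a : ℂ) * (ψ a : ℂ)) -
        ∑ a : ↥(W₁ ⊔ W₂), (ω a : ℂ) *
          conj (1 - (φ a : ℂ) - (ψ a : ℂ) + (φ a : ℂ) * (ψ a : ℂ)) := by
        rw [← Finset.sum_sub_distrib]
        apply Finset.sum_congr rfl
        intro a _
        ring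
    _ = 0 := by rw [h1', h3, sub_self]

end EqOn

section Cards

/-- the number of nontrivial linear characters of a finite commutative group -/
theorem card_nontrivial_linChar {H : Type*} [Group H] [Finite H] (hc : ∀ a b : H, a * b = b * a)
    [Fintype {θ : H →* ℂˣ // θ ≠ 1}] :
    Fintype.card {θ : H →* ℂˣ // θ ≠ 1} = Nat.card H - 1 := by
  classical
  have : Fintype (H →* ℂˣ) := Fintype.ofFinite _
  rw [← card_linChar_of_comm hc, Nat.card_eq_fintype_card]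
  have h := Fintype.card_subtype_compl (fun θ : H →* ℂˣ => θ = 1)
  rw [Fintype.card_subtype_eq] at h
  rw [← h]

variable {G : Type*} [Group G] [Finite G]

theorem selfNormCyclic_cards (W₁ W₂ : Subgroup G) (hW : Cfsg.IsSelfNormalizingCyclic W₁ W₂)
    (hodd : Odd (Nat.card ↥(W₁ ⊔ W₂))) :
    Odd (Nat.card W₁) ∧ Odd (Nat.card W₂) ∧ 3 ≤ Nat.card W₁ ∧ 3 ≤ Nat.card W₂ ∧
      (Nat.card W₁).Coprime (Nat.card W₂) := by
  obtain ⟨hne1, hne2, hdisj, hcomm, hcyc, _⟩ := hW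
  have ho1 : Odd (Nat.card W₁) :=
    Odd.of_dvd_nat hodd (Subgroup.card_dvd_of_le (le_sup_left : W₁ ≤ W₁ ⊔ W₂))
  have ho2 : Odd (Nat.card W₂) :=
    Odd.of_dvd_nat hodd (Subgroup.card_dvd_of_le (le_sup_right : W₂ ≤ W₁ ⊔ W₂))
  have h1 : 1 < Nat.card W₁ := W₁.one_lt_card_iff_ne_bot.2 hne1
  have h2 : 1 < Nat.card W₂ := W₂.one_lt_card_iff_ne_bot.2 hne2
  have hcyc' : IsCyclic (W₁ × W₂) := (prodEquivSup W₁ W₂ hdisj hcomm).isCyclic.2 hcyc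
  refine ⟨ho1, ho2, ?_, ?_, coprime_card_of_isCyclic_prod W₁ W₂⟩
  · obtain ⟨k, hk⟩ := ho1
    omega
  · obtain ⟨k, hk⟩ := ho2
    omega

theorem selfNormCyclic_comm_left (W₁ W₂ : Subgroup G) (hW : Cfsg.IsSelfNormalizingCyclic W₁ W₂)
    (a b : W₁) : a * b = b * a := by
  have hcyc : IsCyclic ↥(W₁ ⊔ W₂) := hW.2.2.2.2.1
  have := (IsCyclic.commGroup (α := ↥(W₁ ⊔ W₂))).mul_comm
    ⟨(a : G), Subgroup.mem_sup_left a.2⟩ ⟨(b : G), Subgroup.mem_sup_left b.2⟩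
  apply Subtype.ext
  have h2 := congrArg (fun w : ↥(W₁ ⊔ W₂) => (w : G)) this
  exact h2

theorem selfNormCyclic_comm_right (W₁ W₂ : Subgroup G) (hW : Cfsg.IsSelfNormalizingCyclic W₁ W₂)
    (a b : W₂) : a * b = b * a := by
  have hcyc : IsCyclic ↥(W₁ ⊔ W₂) := hW.2.2.2.2.1
  have := (IsCyclic.commGroup (α := ↥(W₁ ⊔ W₂))).mul_comm
    ⟨(a : G), Subgroup.mem_sup_right a.2⟩ ⟨(b : G), Subgroup.mem_sup_right b.2⟩
  apply Subtype.ext
  have h2 := congrArg (fun w : ↥(W₁ ⊔ W₂) => (w : G)) this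
  exact h2

end Cards

section OptChar

variable {H : Type*} [Group H]

open Classical in
/-- `none` for the trivial character, `some` of the character otherwise -/
noncomputable def optChar (θ : H →* ℂˣ) : Option {θ : H →* ℂˣ // θ ≠ 1} :=
  if h : θ = 1 then none else some ⟨θ, h⟩

theorem optChar_one : optChar (1 : H →* ℂˣ) = none := by
  unfold optChar
  rw [dif_pos rfl]

theorem optChar_val (i : {θ : H →* ℂˣ // θ ≠ 1}) : optChar i.1 = some i := by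
  unfold optChar
  rw [dif_neg i.2]

theorem optChar_injective : Function.Injective (optChar : (H →* ℂˣ) → _) := by
  intro θ θ' h
  unfold optChar at h
  by_cases a : θ = 1 <;> by_cases b : θ' = 1
  · rw [a, b]
  · rw [dif_pos a, dif_neg b] at h; exact absurd h (by simp)
  · rw [dif_neg a, dif_pos b] at h; exact absurd h (by simp)
  · rw [dif_neg a, dif_neg b] at h
    exact congrArg Subtype.val (Option.some.inj h)

end OptChar

end Cfsg.Agent.Lib.Helper11
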