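import Cfsg.Prelude.Def_OddOrderChar
import Cfsg.Prelude.Def_OddOrderLocal
import Cfsg.Agent.Lib.Helper11.GaloisTwist
import Cfsg.Agent.Lib.Helper11.LinCharProd
import Cfsg.Agent.Lib.Helper11.SignedIrr
import Cfsg.Agent.Lib.Helper2.Induction

/-!
Galois equivariance of a cyclic TI family (`Cfsg.IsCyclicTIFamily`): for `k` coprime to `|G|`,
`χ ω (g ^ k) = χ (ω ^ k) g`.
-/

set_option autoImplicit false

namespace Cfsg.Agent.Lib.Helper11

open Cfsg
open Cfsg.Agent.Lib.Helper2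
open scoped ComplexConjugate

section Arith

/-- Lifting a residue coprime to `n` to a residue coprime to a multiple `m` of `n`. -/
theorem exists_add_mul_coprime (x n m : ℕ) (hm : m ≠ 0) (hx : x.Coprime n) :
    ∃ k : ℕ, (x + k * n).Coprime m := by
  let ps : Finset ℕ := {p ∈ m.primeFactors | ¬p ∣ x}
  use ps.prod id
  apply Nat.coprime_of_dvd
  intro p pp hp hpn
  by_cases hpx : p ∣ x
  · have h' := Nat.dvd_sub hp hpx
    rw [add_comm, Nat.add_sub_cancel] at h'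
    rcases pp.dvd_mul.mp h' with h' | h'
    · have ⟨q, hq, hq'⟩ := (pp.prime.dvd_finsetProd_iff id).mp h'
      rw [Finset.mem_filter, Nat.mem_primeFactors,
        ← (Nat.prime_dvd_prime_iff_eq pp hq.1.1).mp hq'] at hq
      exact hq.2 hpx
    · exact Nat.Prime.not_coprime_iff_dvd.mpr ⟨p, pp, hpx, h'⟩ hx
  · have pps : p ∈ ps := Finset.mem_filter.mpr ⟨Nat.mem_primeFactors.mpr ⟨pp, hpn, hm⟩, hpx⟩
    have h' := Nat.dvd_sub hp ((Finset.dvd_prod_of_mem id pps).mul_right n)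
    rw [Nat.add_sub_cancel] at h'
    contradiction

/-- Chinese remaindering with a coprimality side condition. -/
theorem exists_modEq_modEq_coprime (r m N k : ℕ) (hN : N ≠ 0) (hr : r ∣ N)
    (hrm : r.Coprime m) (hk : k.Coprime N) :
    ∃ k' : ℕ, k' ≡ k [MOD r] ∧ k' ≡ 1 [MOD m] ∧ k'.Coprime N := by
  obtain ⟨x, hx1, hx2⟩ := Nat.chineseRemainder hrm k 1
  have hxr : x.Coprime r := by
    have := hx1.gcd_eq
    rw [Nat.Coprime, this]
    exact Nat.Coprime.coprime_dvd_right hr hk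
  have hxm : x.Coprime m := by
    have := hx2.gcd_eq
    rw [Nat.Coprime, this]; simp
  obtain ⟨t, ht⟩ := exists_add_mul_coprime x (r * m) N hN (Nat.Coprime.mul_right hxr hxm)
  refine ⟨x + t * (r * m), ?_, ?_, ht⟩
  · have : x + t * (r * m) ≡ x [MOD r] := by
      have h0 : t * (r * m) ≡ 0 [MOD r] :=
        (Nat.modEq_zero_iff_dvd).2 (Dvd.dvd.mul_left (dvd_mul_right r m) t)
      simpa using (Nat.ModEq.add_left x h0)
    exact this.trans hx1
  · have : x + t * (r * m) ≡ x [MOD m] := by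
      have h0 : t * (r * m) ≡ 0 [MOD m] :=
        (Nat.modEq_zero_iff_dvd).2 (Dvd.dvd.mul_left (dvd_mul_left m r) t)
      simpa using (Nat.ModEq.add_left x h0)
    exact this.trans hx2

end Arith

section IndPow

variable {G : Type*} [Group G] [Fintype G]

omit [Fintype G] in
theorem extendByZero_pow_coprime (H : Subgroup G) (f : H → ℂ) (k : ℕ)
    (hk : k.Coprime (Nat.card G)) (y : G) :
    extendByZero H f (y ^ k) = extendByZero H (fun h => f (h ^ k)) y := by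
  by_cases hy : y ∈ H
  · rw [extendByZero_of_mem H f (H.pow_mem hy k), extendByZero_of_mem H _ hy]
    rfl
  · have hyk : y ^ k ∉ H := by
      intro h
      obtain ⟨m, hm⟩ := exists_pow_eq_self_of_coprime
        (Nat.Coprime.coprime_dvd_right (orderOf_dvd_natCard y) hk)
      apply hy
      rw [← hm]
      exact H.pow_mem h m
    rw [extendByZero_of_not_mem H f hyk, extendByZero_of_not_mem H _ hy]

/-- Induction commutes with the power map `g ↦ g ^ k` for `k` coprime to `|G|`. -/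
theorem indFun_comp_pow (H : Subgroup G) (f : H → ℂ) (k : ℕ) (hk : k.Coprime (Nat.card G)) :
    (fun g => indFun H f (g ^ k)) = indFun H (fun h => f (h ^ k)) := by
  funext g
  unfold indFun
  congr 1
  apply Finset.sum_congr rfl
  intro x _
  have : x⁻¹ * g ^ k * x = (x⁻¹ * g * x) ^ k := by
    have := conj_pow (a := x⁻¹) (b := g) (i := k)
    simpa using this.symm
  rw [this, extendByZero_pow_coprime H f k hk]

end IndPow

section Core

variable {G : Type*} [Group G] [Fintype G]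

theorem isSignedIrr_comp_pow (k : ℕ) (hk : k.Coprime (Nat.card G)) {f : G → ℂ}
    (hf : IsSignedIrr f) : IsSignedIrr (fun g => f (g ^ k)) := by
  rcases hf with h | h
  · exact Or.inl (isIrrCharacter_pow_coprime k hk h)
  · right
    exact isIrrCharacter_pow_coprime k hk h

/-- A signed irreducible character meets an orthonormal family of signed irreducible characters in
at most one member. -/
theorem index_unique_of_inner_ne_zero {ι : Type*} (χ : ι → G → ℂ)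
    (hsg : ∀ i, IsSignedIrr (χ i))
    (horth : ∀ i j, i ≠ j → classInner (χ i) (χ j) = 0) {X : G → ℂ}
    (hX : IsSignedIrr X) {i j : ι} (hi : classInner (χ i) X ≠ 0) (hj : classInner (χ j) X ≠ 0) :
    i = j := by
  have h1 : χ i = X ∨ χ i = -X := by
    rcases (hsg i).inner_cases hX with ⟨h0, _⟩ | ⟨h, _⟩ | ⟨h, _⟩
    · exact absurd h0 hi
    · exact Or.inl h
    · exact Or.inr h
  have h2 : χ j = X ∨ χ j = -X := by
    rcases (hsg j).inner_cases hX with ⟨h0, _⟩ | ⟨h, _⟩ | ⟨h, _⟩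
    · exact absurd h0 hj
    · exact Or.inl h
    · exact Or.inr h
  by_contra hne
  have h3 := horth i j hne
  rcases h1 with h1 | h1 <;> rcases h2 with h2 | h2 <;> rw [h1, h2] at h3 <;>
    simp [classInner_neg_left, classInner_neg_right, hX.inner_self] at h3

/-- The core step: identify `X` with a member of the family from two three-term relations. -/
theorem family_core {ι : Type*} (χ : ι → G → ℂ)
    (hsg : ∀ i, IsSignedIrr (χ i))
    (horth : ∀ i j, i ≠ j → classInner (χ i) (χ j) = 0) {X : G → ℂ}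
    (hX : IsSignedIrr X) (a b c b' c' : ι) (hbb' : b ≠ b') (hbc' : b ≠ c') (hcb' : c ≠ b')
    (hcc' : c ≠ c') (hab : a ≠ b) (hac : a ≠ c) (Y Z Y' Z' : G → ℂ)
    (hY : classInner Y X = 0) (hZ : classInner Z X = 0) (hY' : classInner Y' X = 0)
    (hZ' : classInner Z' X = 0) (h1 : X + Y - Z = χ a + χ b - χ c)
    (h2 : X + Y' - Z' = χ a + χ b' - χ c') : X = χ a := by
  have e1 : classInner (χ a) X + classInner (χ b) X - classInner (χ c) X = 1 := by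
    have := congrArg (fun f => classInner f X) h1
    simp only [classInner_add_left, classInner_sub_left, hX.inner_self, hY, hZ] at this
    rw [← this]; ring
  have e2 : classInner (χ a) X + classInner (χ b') X - classInner (χ c') X = 1 := by
    have := congrArg (fun f => classInner f X) h2
    simp only [classInner_add_left, classInner_sub_left, hX.inner_self, hY', hZ'] at this
    rw [← this]; ring
  have ha : classInner (χ a) X ≠ 0 := by
    intro h0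
    rw [h0, zero_add] at e1 e2
    have hbc : classInner (χ b) X ≠ 0 ∨ classInner (χ c) X ≠ 0 := by
      by_contra hcon
      push Not at hcon
      rw [hcon.1, hcon.2] at e1
      norm_num at e1
    have hbc' : classInner (χ b') X ≠ 0 ∨ classInner (χ c') X ≠ 0 := by
      by_contra hcon
      push Not at hcon
      rw [hcon.1, hcon.2] at e2
      norm_num at e2
    rcases hbc with h | h <;> rcases hbc' with h' | h'
    · exact hbb' (index_unique_of_inner_ne_zero χ hsg horth hX h h')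
    · exact hbc' (index_unique_of_inner_ne_zero χ hsg horth hX h h')
    · exact hcb' (index_unique_of_inner_ne_zero χ hsg horth hX h h')
    · exact hcc' (index_unique_of_inner_ne_zero χ hsg horth hX h h')
  have hb0 : classInner (χ b) X = 0 := by
    by_contra h
    exact hab (index_unique_of_inner_ne_zero χ hsg horth hX ha h)
  have hc0 : classInner (χ c) X = 0 := by
    by_contra h
    exact hac (index_unique_of_inner_ne_zero χ hsg horth hX ha h)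
  rw [hb0, hc0, add_zero, sub_zero] at e1
  rcases (hsg a).inner_cases hX with ⟨h0, _⟩ | ⟨h, _⟩ | ⟨_, h⟩
  · exact absurd h0 ha
  · exact h.symm
  · rw [e1] at h
    norm_num at h

end Core

section Equivariance

variable {G : Type*} [Group G] [Fintype G]

omit [Fintype G] in
theorem resRight_liftRight (W₁ W₂ : Subgroup G) (hdisj : W₁ ⊓ W₂ = ⊥)
    (hcomm : ∀ a ∈ W₁, ∀ b ∈ W₂, a * b = b * a) (θ : W₂ →* ℂˣ) :
    resRight W₁ W₂ (liftRight W₁ W₂ hdisj hcomm θ) = θ := by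
  ext b
  rw [resRight_apply, liftRight_of_mem_right W₁ W₂ hdisj hcomm θ _ b.2]

omit [Fintype G] in
theorem resLeft_liftLeft (W₁ W₂ : Subgroup G) (hdisj : W₁ ⊓ W₂ = ⊥)
    (hcomm : ∀ a ∈ W₁, ∀ b ∈ W₂, a * b = b * a) (θ : W₁ →* ℂˣ) :
    resLeft W₁ W₂ (liftLeft W₁ W₂ hdisj hcomm θ) = θ := by
  ext b
  rw [resLeft_apply, liftLeft_of_mem_left W₁ W₂ hdisj hcomm θ _ b.2]

/-- A finite group with at least three elements has two distinct non-identity elements. -/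
theorem exists_two_ne_one {H : Type*} [Group H] [Finite H] (h : 3 ≤ Nat.card H) :
    ∃ a b : H, a ≠ 1 ∧ b ≠ 1 ∧ a ≠ b := by
  classical
  have : Fintype H := Fintype.ofFinite H
  rw [Nat.card_eq_fintype_card] at h
  have h2 : 1 < (Finset.univ.erase (1 : H)).card := by
    rw [Finset.card_erase_of_mem (Finset.mem_univ _), Finset.card_univ]; omega
  obtain ⟨a, ha, b, hb, hab⟩ := Finset.one_lt_card.1 h2
  exact ⟨a, b, (Finset.mem_erase.1 ha).1, (Finset.mem_erase.1 hb).1, hab⟩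

/-- Galois equivariance of a cyclic TI family. -/
theorem cyclicTI_galois (W₁ W₂ : Subgroup G) (hW : IsSelfNormalizingCyclic W₁ W₂)
    (hodd : Odd (Nat.card ↥(W₁ ⊔ W₂))) (χ : (↥(W₁ ⊔ W₂) →* ℂˣ) → (G → ℂ))
    (hχ : IsCyclicTIFamily W₁ W₂ χ) (k : ℕ) (hk : k.Coprime (Nat.card G))
    (ω : ↥(W₁ ⊔ W₂) →* ℂˣ) : (fun g => χ ω (g ^ k)) = χ (ω ^ k) := by
  classical
  obtain ⟨hW₁ne, hW₂ne, hdisj, hcomm, hcyc, hN⟩ := id hW
  have hsg : ∀ ω, IsSignedIrr (χ ω) := hχ.irr_or_neg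
  have horth : ∀ ω ω' : ↥(W₁ ⊔ W₂) →* ℂˣ, ω ≠ ω' → classInner (χ ω) (χ ω') = 0 := by
    intro ω ω' hne
    rw [hχ.orthonormal, if_neg hne]
  -- the twist
  set T : (G → ℂ) → (G → ℂ) := fun f g => f (g ^ k) with hT
  have hTsg : ∀ ω, IsSignedIrr (T (χ ω)) := fun ω => isSignedIrr_comp_pow k hk (hsg ω)
  have hTinner : ∀ ω ω' : ↥(W₁ ⊔ W₂) →* ℂˣ, ω ≠ ω' →
      classInner (T (χ ω)) (T (χ ω')) = 0 := by
    intro ω ω' hne
    rw [← horth ω ω' hne]
    exact classInner_comp_pow_coprime k hk _ _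
  -- commutativity and cardinalities
  have hcW : ∀ x y : ↥(W₁ ⊔ W₂), x * y = y * x := by
    intro x y
    let _ := IsCyclic.commGroup (α := ↥(W₁ ⊔ W₂))
    exact mul_comm x y
  have hc₁ : ∀ x y : ↥W₁, x * y = y * x := by
    intro x y
    have := hcW ⟨x, Subgroup.mem_sup_left x.2⟩ ⟨y, Subgroup.mem_sup_left y.2⟩
    apply Subtype.ext
    exact congrArg (fun w : ↥(W₁ ⊔ W₂) => (w : G)) this
  have hc₂ : ∀ x y : ↥W₂, x * y = y * x := by
    intro x y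
    have := hcW ⟨x, Subgroup.mem_sup_right x.2⟩ ⟨y, Subgroup.mem_sup_right y.2⟩
    apply Subtype.ext
    exact congrArg (fun w : ↥(W₁ ⊔ W₂) => (w : G)) this
  have hcardW : Nat.card ↥(W₁ ⊔ W₂) = Nat.card W₁ * Nat.card W₂ := by
    rw [← Nat.card_congr (prodEquivSup W₁ W₂ hdisj hcomm).toEquiv, Nat.card_prod]
  have hodd' := hodd
  rw [hcardW] at hodd'
  obtain ⟨hodd₁, hodd₂⟩ := Nat.odd_mul.1 hodd'
  have hcard₁ : 3 ≤ Nat.card W₁ := by
    have h1 : Nat.card W₁ ≠ 1 := fun h => hW₁ne (Subgroup.card_eq_one.1 h)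
    have h0 : 0 < Nat.card W₁ := Nat.card_pos
    obtain ⟨t, ht⟩ := hodd₁
    omega
  have hcard₂ : 3 ≤ Nat.card W₂ := by
    have h1 : Nat.card W₂ ≠ 1 := fun h => hW₂ne (Subgroup.card_eq_one.1 h)
    have h0 : 0 < Nat.card W₂ := Nat.card_pos
    obtain ⟨t, ht⟩ := hodd₂
    omega
  -- the power map on linear characters is injective
  have hcardHom : Nat.card (↥(W₁ ⊔ W₂) →* ℂˣ) = Nat.card ↥(W₁ ⊔ W₂) :=
    card_linChar_of_comm hcW
  have hkW : (Nat.card (↥(W₁ ⊔ W₂) →* ℂˣ)).Coprime k := by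
    rw [hcardHom]
    exact (Nat.Coprime.coprime_dvd_right (Subgroup.card_subgroup_dvd_card _) hk).symm
  have hpowinj : ∀ α β : ↥(W₁ ⊔ W₂) →* ℂˣ, α ^ k = β ^ k → α = β := by
    intro α β h
    exact (powCoprime hkW).injective (by simpa using h)
  have hpow1 : ∀ α : ↥(W₁ ⊔ W₂) →* ℂˣ, α ≠ 1 → α ^ k ≠ 1 := by
    intro α hα h
    exact hα (hpowinj α 1 (h.trans (one_pow (M := ↥(W₁ ⊔ W₂) →* ℂˣ) k).symm))
  -- triviality conditions
  have htriv : ∀ (α : ↥(W₁ ⊔ W₂) →* ℂˣ) (V : Subgroup G),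
      (∀ w : ↥(W₁ ⊔ W₂), (w : G) ∈ V → α w = 1) →
      ∀ w : ↥(W₁ ⊔ W₂), (w : G) ∈ V → (α ^ k) w = 1 := by
    intro α V h w hw
    rw [MonoidHom.pow_apply, h w hw, one_pow]
  have hone : ∀ V : Subgroup G, ∀ w : ↥(W₁ ⊔ W₂), (w : G) ∈ V →
      (1 : ↥(W₁ ⊔ W₂) →* ℂˣ) w = 1 := fun _ _ _ => rfl
  -- the basic relation (*)
  have hstar : ∀ φ ψ : ↥(W₁ ⊔ W₂) →* ℂˣ, φ ≠ 1 → ψ ≠ 1 →
      (∀ w : ↥(W₁ ⊔ W₂), (w : G) ∈ W₂ → φ w = 1) →
      (∀ w : ↥(W₁ ⊔ W₂), (w : G) ∈ W₁ → ψ w = 1) →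
      T (χ φ) + T (χ ψ) - T (χ (φ * ψ)) = χ (φ ^ k) + χ (ψ ^ k) - χ (φ ^ k * ψ ^ k) := by
    intro φ ψ hφ1 hψ1 hφ hψ
    have h1 := hχ.induced_eq φ ψ hφ1 hψ1 hφ hψ
    have h2 := hχ.induced_eq (φ ^ k) (ψ ^ k) (hpow1 φ hφ1) (hpow1 ψ hψ1) (htriv φ W₂ hφ)
      (htriv ψ W₁ hψ)
    have h3 := indFun_comp_pow (W₁ ⊔ W₂)
      (fun w => 1 - (φ w : ℂ) - (ψ w : ℂ) + (φ w : ℂ) * (ψ w : ℂ)) k hk
    have h4 : (fun h : ↥(W₁ ⊔ W₂) => 1 - ((φ (h ^ k) : ℂˣ) : ℂ) - ((ψ (h ^ k) : ℂˣ) : ℂ)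
        + ((φ (h ^ k) : ℂˣ) : ℂ) * ((ψ (h ^ k) : ℂˣ) : ℂ))
        = fun w => 1 - (((φ ^ k) w : ℂˣ) : ℂ) - (((ψ ^ k) w : ℂˣ) : ℂ)
          + (((φ ^ k) w : ℂˣ) : ℂ) * (((ψ ^ k) w : ℂˣ) : ℂ) := by
      funext w
      simp only [MonoidHom.pow_apply, map_pow]
    rw [h4, h2, h1] at h3
    funext g
    have h5 := congrFun h3 g
    simp only [hT, Pi.add_apply, Pi.sub_apply]
    linear_combination -h5
  -- distinctness helpers
  have hmul := mul_eq_mul_iff W₁ W₂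
  -- Part I
  have hP1 : ∀ φ : ↥(W₁ ⊔ W₂) →* ℂˣ, φ ≠ 1 →
      (∀ w : ↥(W₁ ⊔ W₂), (w : G) ∈ W₂ → φ w = 1) → T (χ φ) = χ (φ ^ k) := by
    intro φ hφ1 hφ
    have : Finite ↥W₂ := inferInstance
    have hc : 3 ≤ Nat.card (↥W₂ →* ℂˣ) := by rw [card_linChar_of_comm hc₂]; exact hcard₂
    obtain ⟨θ, θ', hθ1, hθ'1, hθθ'⟩ := exists_two_ne_one hc
    set ψ := liftRight W₁ W₂ hdisj hcomm θ with hψdef
    set ψ' := liftRight W₁ W₂ hdisj hcomm θ' with hψ'def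
    have hψ : ∀ w : ↥(W₁ ⊔ W₂), (w : G) ∈ W₁ → ψ w = 1 :=
      fun w hw => liftRight_of_mem_left W₁ W₂ hdisj hcomm θ w hw
    have hψ' : ∀ w : ↥(W₁ ⊔ W₂), (w : G) ∈ W₁ → ψ' w = 1 :=
      fun w hw => liftRight_of_mem_left W₁ W₂ hdisj hcomm θ' w hw
    have hψ1 : ψ ≠ 1 := by
      intro h
      apply hθ1
      rw [← resRight_liftRight W₁ W₂ hdisj hcomm θ, ← hψdef, h]
      rfl
    have hψ'1 : ψ' ≠ 1 := by
      intro h
      apply hθ'1
      rw [← resRight_liftRight W₁ W₂ hdisj hcomm θ', ← hψ'def, h]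
      rfl
    have hψψ' : ψ ≠ ψ' := by
      intro h
      apply hθθ'
      rw [← resRight_liftRight W₁ W₂ hdisj hcomm θ, ← resRight_liftRight W₁ W₂ hdisj hcomm θ',
        ← hψdef, ← hψ'def, h]
    have hφk := htriv φ W₂ hφ
    have hψk := htriv ψ W₁ hψ
    have hψ'k := htriv ψ' W₁ hψ'
    have hφk1 := hpow1 φ hφ1
    have hψk1 := hpow1 ψ hψ1
    have hψ'k1 := hpow1 ψ' hψ'1
    have hψkne : ψ ^ k ≠ ψ' ^ k := fun h => hψψ' (hpowinj _ _ h)
    apply family_core χ hsg horth (hTsg φ) (φ ^ k) (ψ ^ k) (φ ^ k * ψ ^ k) (ψ' ^ k)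
      (φ ^ k * ψ' ^ k) hψkne ?_ ?_ ?_ ?_ ?_ (T (χ ψ)) (T (χ (φ * ψ))) (T (χ ψ'))
      (T (χ (φ * ψ'))) ?_ ?_ ?_ ?_ (hstar φ ψ hφ1 hψ1 hφ hψ) (hstar φ ψ' hφ1 hψ'1 hφ hψ')
    · intro h
      have h' : 1 * ψ ^ k = φ ^ k * ψ' ^ k := (one_mul (ψ ^ k)).trans h
      exact hφk1 ((hmul 1 (φ ^ k) (ψ ^ k) (ψ' ^ k) (hone W₂) hφk hψk hψ'k).1 h').1.symm
    · intro h
      have h' : φ ^ k * ψ ^ k = 1 * ψ' ^ k := h.trans (one_mul (ψ' ^ k)).symm
      exact hφk1 ((hmul (φ ^ k) 1 (ψ ^ k) (ψ' ^ k) hφk (hone W₂) hψk hψ'k).1 h').1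
    · intro h
      exact hψkne (mul_left_cancel h)
    · intro h
      have h' : φ ^ k * 1 = 1 * ψ ^ k := (mul_one (φ ^ k)).trans (h.trans (one_mul (ψ ^ k)).symm)
      exact hφk1 ((hmul (φ ^ k) 1 1 (ψ ^ k) hφk (hone W₂) (hone W₁) hψk).1 h').1
    · intro h
      have h' : φ ^ k * 1 = φ ^ k * ψ ^ k := (mul_one (φ ^ k)).trans h
      exact hψk1 (mul_left_cancel h').symm
    · apply hTinner
      intro h
      have h' : 1 * ψ = φ * 1 := (one_mul ψ).trans (h.trans (mul_one φ).symm)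
      exact hφ1 ((hmul 1 φ ψ 1 (hone W₂) hφ hψ (hone W₁)).1 h').1.symm
    · apply hTinner
      intro h
      have h' : φ * ψ = φ * 1 := h.trans (mul_one φ).symm
      exact hψ1 (mul_left_cancel h')
    · apply hTinner
      intro h
      have h' : 1 * ψ' = φ * 1 := (one_mul ψ').trans (h.trans (mul_one φ).symm)
      exact hφ1 ((hmul 1 φ ψ' 1 (hone W₂) hφ hψ' (hone W₁)).1 h').1.symm
    · apply hTinner
      intro h
      have h' : φ * ψ' = φ * 1 := h.trans (mul_one φ).symm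
      exact hψ'1 (mul_left_cancel h')
  -- Part II
  have hP2 : ∀ ψ : ↥(W₁ ⊔ W₂) →* ℂˣ, ψ ≠ 1 →
      (∀ w : ↥(W₁ ⊔ W₂), (w : G) ∈ W₁ → ψ w = 1) → T (χ ψ) = χ (ψ ^ k) := by
    intro ψ hψ1 hψ
    have : Finite ↥W₁ := inferInstance
    have hc : 3 ≤ Nat.card (↥W₁ →* ℂˣ) := by rw [card_linChar_of_comm hc₁]; exact hcard₁
    obtain ⟨θ, θ', hθ1, hθ'1, hθθ'⟩ := exists_two_ne_one hc
    set φ := liftLeft W₁ W₂ hdisj hcomm θ with hφdef
    set φ' := liftLeft W₁ W₂ hdisj hcomm θ' with hφ'def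
    have hφ : ∀ w : ↥(W₁ ⊔ W₂), (w : G) ∈ W₂ → φ w = 1 :=
      fun w hw => liftLeft_of_mem_right W₁ W₂ hdisj hcomm θ w hw
    have hφ' : ∀ w : ↥(W₁ ⊔ W₂), (w : G) ∈ W₂ → φ' w = 1 :=
      fun w hw => liftLeft_of_mem_right W₁ W₂ hdisj hcomm θ' w hw
    have hφ1 : φ ≠ 1 := by
      intro h
      apply hθ1
      rw [← resLeft_liftLeft W₁ W₂ hdisj hcomm θ, ← hφdef, h]
      rfl
    have hφ'1 : φ' ≠ 1 := by
      intro h
      apply hθ'1
      rw [← resLeft_liftLeft W₁ W₂ hdisj hcomm θ', ← hφ'def, h]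
      rfl
    have hφφ' : φ ≠ φ' := by
      intro h
      apply hθθ'
      rw [← resLeft_liftLeft W₁ W₂ hdisj hcomm θ, ← resLeft_liftLeft W₁ W₂ hdisj hcomm θ',
        ← hφdef, ← hφ'def, h]
    have hφk := htriv φ W₂ hφ
    have hφ'k := htriv φ' W₂ hφ'
    have hψk := htriv ψ W₁ hψ
    have hφk1 := hpow1 φ hφ1
    have hφ'k1 := hpow1 φ' hφ'1
    have hψk1 := hpow1 ψ hψ1
    have hφkne : φ ^ k ≠ φ' ^ k := fun h => hφφ' (hpowinj _ _ h)
    have hs1 := hstar φ ψ hφ1 hψ1 hφ hψ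
    have hs2 := hstar φ' ψ hφ'1 hψ1 hφ' hψ
    rw [add_comm (T (χ φ)), add_comm (χ (φ ^ k))] at hs1
    rw [add_comm (T (χ φ')), add_comm (χ (φ' ^ k))] at hs2
    apply family_core χ hsg horth (hTsg ψ) (ψ ^ k) (φ ^ k) (φ ^ k * ψ ^ k) (φ' ^ k)
      (φ' ^ k * ψ ^ k) hφkne ?_ ?_ ?_ ?_ ?_ (T (χ φ)) (T (χ (φ * ψ))) (T (χ φ'))
      (T (χ (φ' * ψ))) ?_ ?_ ?_ ?_ hs1 hs2
    · intro h
      have h' : φ ^ k * 1 = φ' ^ k * ψ ^ k := (mul_one (φ ^ k)).trans h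
      exact hψk1 ((hmul (φ ^ k) (φ' ^ k) 1 (ψ ^ k) hφk hφ'k (hone W₁) hψk).1 h').2.symm
    · intro h
      have h' : φ ^ k * ψ ^ k = φ' ^ k * 1 := h.trans (mul_one (φ' ^ k)).symm
      exact hψk1 ((hmul (φ ^ k) (φ' ^ k) (ψ ^ k) 1 hφk hφ'k hψk (hone W₁)).1 h').2
    · intro h
      exact hφkne (mul_right_cancel h)
    · intro h
      have h' : 1 * ψ ^ k = φ ^ k * 1 := (one_mul (ψ ^ k)).trans (h.trans (mul_one (φ ^ k)).symm)
      exact hφk1 ((hmul 1 (φ ^ k) (ψ ^ k) 1 (hone W₂) hφk hψk (hone W₁)).1 h').1.symm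
    · intro h
      have h' : 1 * ψ ^ k = φ ^ k * ψ ^ k := (one_mul (ψ ^ k)).trans h
      exact hφk1 (mul_right_cancel h').symm
    · apply hTinner
      intro h
      have h' : φ * 1 = 1 * ψ := (mul_one φ).trans (h.trans (one_mul ψ).symm)
      exact hφ1 ((hmul φ 1 1 ψ hφ (hone W₂) (hone W₁) hψ).1 h').1
    · apply hTinner
      intro h
      have h' : φ * ψ = 1 * ψ := h.trans (one_mul ψ).symm
      exact hφ1 (mul_right_cancel h')
    · apply hTinner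
      intro h
      have h' : φ' * 1 = 1 * ψ := (mul_one φ').trans (h.trans (one_mul ψ).symm)
      exact hφ'1 ((hmul φ' 1 1 ψ hφ' (hone W₂) (hone W₁) hψ).1 h').1
    · apply hTinner
      intro h
      have h' : φ' * ψ = 1 * ψ := h.trans (one_mul ψ).symm
      exact hφ'1 (mul_right_cancel h')
  -- assembly
  set φ₀ := liftLeft W₁ W₂ hdisj hcomm (resLeft W₁ W₂ ω) with hφ₀
  set ψ₀ := liftRight W₁ W₂ hdisj hcomm (resRight W₁ W₂ ω) with hψ₀
  have hω : φ₀ * ψ₀ = ω := liftLeft_mul_liftRight_res W₁ W₂ hdisj hcomm ω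
  have hφ₀t : ∀ w : ↥(W₁ ⊔ W₂), (w : G) ∈ W₂ → φ₀ w = 1 :=
    fun w hw => liftLeft_of_mem_right W₁ W₂ hdisj hcomm _ w hw
  have hψ₀t : ∀ w : ↥(W₁ ⊔ W₂), (w : G) ∈ W₁ → ψ₀ w = 1 :=
    fun w hw => liftRight_of_mem_left W₁ W₂ hdisj hcomm _ w hw
  show T (χ ω) = χ (ω ^ k)
  by_cases h1 : φ₀ = 1
  · by_cases h2 : ψ₀ = 1
    · have hω1 : ω = 1 := by rw [← hω, h1, h2]; exact mul_one (1 : ↥(W₁ ⊔ W₂) →* ℂˣ)
      rw [hω1, one_pow (M := ↥(W₁ ⊔ W₂) →* ℂˣ) k, hχ.map_one]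
    · have hωψ : ω = ψ₀ := by rw [← hω, h1]; exact one_mul ψ₀
      rw [hωψ]
      exact hP2 ψ₀ h2 hψ₀t
  · by_cases h2 : ψ₀ = 1
    · have hωφ : ω = φ₀ := by rw [← hω, h2]; exact mul_one φ₀
      rw [hωφ]
      exact hP1 φ₀ h1 hφ₀t
    · have hs := hstar φ₀ ψ₀ h1 h2 hφ₀t hψ₀t
      rw [hP1 φ₀ h1 hφ₀t, hP2 ψ₀ h2 hψ₀t] at hs
      have hmp : (φ₀ * ψ₀) ^ k = φ₀ ^ k * ψ₀ ^ k := mul_pow φ₀ ψ₀ k
      rw [← hω, hmp]
      have : T (χ (φ₀ * ψ₀)) = χ (φ₀ ^ k * ψ₀ ^ k) := by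
        funext g
        have := congrFun hs g
        simp only [Pi.add_apply, Pi.sub_apply] at this
        linear_combination -this
      exact this

end Equivariance

end Cfsg.Agent.Lib.Helper11
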