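import Mathlib
import Cfsg.Prelude.Def_OddOrderChar
import Cfsg.Agent.S1498
import Cfsg.Agent.S1499

/-!
Counting lemmas for the Dade set-up: the support of the Dade map is partitioned by the conjugates of
the cosets `a H(a)`; a sum of a class function over the support.
-/

set_option autoImplicit false

namespace Cfsg.Agent.Lib.Helper11

open Cfsg

section DadeCount

variable {G : Type*} [Group G] [Finite G] {A : Set G} {L : Subgroup G} {H : G → Subgroup G}

/-- The union of the cosets `a H(a)`, `a ∈ A`. -/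
def dadeCosets (A : Set G) (H : G → Subgroup G) : Set G := {d | ∃ a ∈ A, ∃ u ∈ H a, d = a * u}

/-- The support of the Dade map. -/
def dadeSupport (A : Set G) (H : G → Subgroup G) : Set G :=
  {g | ∃ a ∈ A, ∃ u ∈ H a, ∃ x : G, x * g * x⁻¹ = a * u}

omit [Finite G] in
theorem mem_dadeSupport_iff (g : G) :
    g ∈ dadeSupport A H ↔ ∃ x : G, x * g * x⁻¹ ∈ dadeCosets A H := by
  constructor
  · rintro ⟨a, ha, u, hu, x, hx⟩
    exact ⟨x, a, ha, u, hu, hx⟩
  · rintro ⟨x, a, ha, u, hu, hx⟩
    exact ⟨a, ha, u, hu, x, hx⟩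

/-- Uniqueness of the decomposition `d = a u`. -/
theorem dade_decomp_unique (hD : DadeHypothesis A L H) {a b u v : G} (ha : a ∈ A) (hb : b ∈ A)
    (hu : u ∈ H a) (hv : v ∈ H b) (h : a * u = b * v) : a = b ∧ u = v := by
  have h1 := Cfsg.Agent.S1499.conj_eq A L H hD a b ha hb u hu v hv 1 (by simpa using h)
  have hab : a = b := by simpa using h1
  subst hab
  exact ⟨rfl, mul_left_cancel h⟩

/-- Conjugating `a u` by `x` lands in the cosets iff conjugating `a` by `x` lands in `A`. -/
theorem conj_mem_dadeCosets_iff (hD : DadeHypothesis A L H) {a u : G} (ha : a ∈ A) (hu : u ∈ H a)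
    (x : G) : x * (a * u) * x⁻¹ ∈ dadeCosets A H ↔ x * a * x⁻¹ ∈ A := by
  constructor
  · rintro ⟨b, hb, v, hv, hx⟩
    rw [Cfsg.Agent.S1499.conj_eq A L H hD a b ha hb u hu v hv x hx]
    exact hb
  · intro hxa
    obtain ⟨l, hl, hla⟩ := hD.fusion a ha x hxa
    have hc : l⁻¹ * x ∈ Subgroup.centralizer ({a} : Set G) := by
      rw [Cfsg.Agent.S1499.mem_centralizer_singleton]
      have : l⁻¹ * x * a * (l⁻¹ * x)⁻¹ = l⁻¹ * (x * a * x⁻¹) * l := by group
      rw [this, ← hla]; group
    have hu' : (l⁻¹ * x) * u * (l⁻¹ * x)⁻¹ ∈ H a := hD.conj_mem_H a ha _ hc u hu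
    have hH := Cfsg.Agent.S1498.result A L H hD a ha l hl
    refine ⟨x * a * x⁻¹, hxa, x * u * x⁻¹, ?_, by group⟩
    rw [← hla, hH, Subgroup.mem_map]
    refine ⟨(l⁻¹ * x) * u * (l⁻¹ * x)⁻¹, hu', ?_⟩
    simp only [MulEquiv.toMonoidHom_eq_coe, MonoidHom.coe_coe, MulAut.conj_apply]
    group

omit [Finite G] in
/-- The elements conjugating `a ∈ A` into `A` are in bijection with `L × H(a)`. -/
theorem card_conj_mem (hD : DadeHypothesis A L H) {a : G} (ha : a ∈ A) :
    Nat.card {x : G // x * a * x⁻¹ ∈ A} = Nat.card L * Nat.card (H a) := by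
  rw [← Nat.card_prod]
  symm
  have hmem : ∀ p : L × H a, ((p.1 : G) * (p.2 : G)) * a * ((p.1 : G) * (p.2 : G))⁻¹ ∈ A := by
    intro p
    have hu : (p.2 : G) * a * (p.2 : G)⁻¹ = a := by
      rw [← Cfsg.Agent.S1499.mem_centralizer_singleton]
      exact hD.le_centralizer a ha p.2.2
    have : ((p.1 : G) * (p.2 : G)) * a * ((p.1 : G) * (p.2 : G))⁻¹
        = (p.1 : G) * ((p.2 : G) * a * (p.2 : G)⁻¹) * (p.1 : G)⁻¹ := by group
    rw [this, hu]
    exact hD.conj_mem _ p.1.2 a ha
  apply Nat.card_congr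
  refine Equiv.ofBijective (fun p => ⟨(p.1 : G) * (p.2 : G), hmem p⟩) ⟨?_, ?_⟩
  · intro p q hpq
    have h1 : (p.1 : G) * (p.2 : G) = (q.1 : G) * (q.2 : G) := congrArg Subtype.val hpq
    have h2 : (q.1 : G)⁻¹ * (p.1 : G) = (q.2 : G) * (p.2 : G)⁻¹ := by
      have : (q.1 : G)⁻¹ * (p.1 : G) = (q.1 : G)⁻¹ * ((p.1 : G) * (p.2 : G)) * (p.2 : G)⁻¹ := by
        group
      rw [this, h1]; group
    have h3 : (q.2 : G) * (p.2 : G)⁻¹ ∈ H a ⊓ (L ⊓ Subgroup.centralizer ({a} : Set G)) := by
      have hH : (q.2 : G) * (p.2 : G)⁻¹ ∈ H a := (H a).mul_mem q.2.2 ((H a).inv_mem p.2.2)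
      refine ⟨hH, ?_, hD.le_centralizer a ha hH⟩
      rw [← h2]
      exact L.mul_mem (L.inv_mem q.1.2) p.1.2
    rw [hD.inf_eq_bot a ha, Subgroup.mem_bot] at h3
    have e2 : (q.2 : G) = (p.2 : G) := by
      have : (q.2 : G) = ((q.2 : G) * (p.2 : G)⁻¹) * (p.2 : G) := by group
      rw [this, h3, one_mul]
    have e1 : (q.1 : G) = (p.1 : G) := by
      rw [h3] at h2
      have : (p.1 : G) = (q.1 : G) * ((q.1 : G)⁻¹ * (p.1 : G)) := by group
      rw [this, h2, mul_one]
    exact Prod.ext (Subtype.ext e1.symm) (Subtype.ext e2.symm)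
  · rintro ⟨x, hx⟩
    obtain ⟨l, hl, hla⟩ := hD.fusion a ha x hx
    have hc : l⁻¹ * x ∈ Subgroup.centralizer ({a} : Set G) := by
      rw [Cfsg.Agent.S1499.mem_centralizer_singleton]
      have : l⁻¹ * x * a * (l⁻¹ * x)⁻¹ = l⁻¹ * (x * a * x⁻¹) * l := by group
      rw [this, ← hla]; group
    have hle : L ⊓ Subgroup.centralizer ({a} : Set G) ≤ Subgroup.normalizer ((H a : Subgroup G) : Set G) := by
      intro c hc
      rw [Subgroup.mem_normalizer_iff]
      intro h
      constructor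
      · exact hD.conj_mem_H a ha c hc.2 h
      · intro h'
        have := hD.conj_mem_H a ha c⁻¹ (Subgroup.inv_mem _ hc.2) _ h'
        simpa [mul_assoc] using this
    have hmem : l⁻¹ * x ∈ (((L ⊓ Subgroup.centralizer ({a} : Set G)) ⊔ H a : Subgroup G) : Set G) := by
      rw [sup_comm, hD.sup_eq a ha]
      exact hc
    rw [Subgroup.coe_mul_of_left_le_normalizer_right _ _ hle] at hmem
    obtain ⟨c', hc', u, hu, hcu⟩ := hmem
    refine ⟨(⟨l * c', L.mul_mem hl hc'.1⟩, ⟨u, hu⟩), ?_⟩
    apply Subtype.ext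
    simp only
    have : x = l * (l⁻¹ * x) := by group
    rw [this, ← hcu]
    group

end DadeCount

section DadeSum
open Classical

variable {G : Type*} [Group G] [Fintype G] {A : Set G} {L : Subgroup G} {H : G → Subgroup G}
variable {K : Type*} [Field K] [CharZero K]

/-- Number of elements conjugating `g` into the union of the cosets. -/
noncomputable def dadeN (A : Set G) (H : G → Subgroup G) (g : G) : ℕ :=
  (Finset.univ.filter (fun x : G => x * g * x⁻¹ ∈ dadeCosets A H)).card

theorem dadeN_conj (g y : G) : dadeN A H (y * g * y⁻¹) = dadeN A H g := by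
  unfold dadeN
  apply Finset.card_equiv (Equiv.mulRight y)
  intro x
  simp only [Finset.mem_filter, Finset.mem_univ, true_and, Equiv.coe_mulRight]
  have : x * (y * g * y⁻¹) * x⁻¹ = x * y * g * (x * y)⁻¹ := by group
  rw [this]

theorem dadeN_ne_zero_iff (g : G) : dadeN A H g ≠ 0 ↔ g ∈ dadeSupport A H := by
  unfold dadeN
  rw [mem_dadeSupport_iff, Finset.card_ne_zero]
  constructor
  · rintro ⟨x, hx⟩
    exact ⟨x, (Finset.mem_filter.1 hx).2⟩
  · rintro ⟨x, hx⟩
    exact ⟨x, Finset.mem_filter.2 ⟨Finset.mem_univ _, hx⟩⟩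

theorem dadeN_mul (hD : DadeHypothesis A L H) {a u : G} (ha : a ∈ A) (hu : u ∈ H a) :
    dadeN A H (a * u) = Nat.card L * Nat.card (H a) := by
  rw [← card_conj_mem hD ha, Nat.card_eq_fintype_card, Fintype.card_subtype]
  unfold dadeN
  congr 1
  apply Finset.filter_congr
  intro x _
  exact conj_mem_dadeCosets_iff hD ha hu x

theorem dade_sum_support (F : G → K) (hF : ∀ g x : G, F (x * g * x⁻¹) = F g) :
    ∑ g : G, (if g ∈ dadeSupport A H then F g else 0)
      = (Fintype.card G : K) *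
        ∑ d : G, (if d ∈ dadeCosets A H then F d / (dadeN A H d : K) else 0) := by
  have h1 : ∀ g : G, (if g ∈ dadeSupport A H then F g else 0)
      = ∑ x : G, (if x * g * x⁻¹ ∈ dadeCosets A H then F g / (dadeN A H g : K) else 0) := by
    intro g
    rw [← Finset.sum_filter, Finset.sum_const, nsmul_eq_mul]
    change _ = ((dadeN A H g : ℕ) : K) * _
    by_cases hg : g ∈ dadeSupport A H
    · have hne : (dadeN A H g : K) ≠ 0 := by
        exact_mod_cast (dadeN_ne_zero_iff g).2 hg
      rw [if_pos hg]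
      field_simp
    · have h0 : dadeN A H g = 0 := by
        by_contra h
        exact hg ((dadeN_ne_zero_iff g).1 h)
      rw [if_neg hg, h0]
      simp
  simp only [h1]
  rw [Finset.sum_comm]
  have h2 : ∀ x : G, ∑ g : G, (if x * g * x⁻¹ ∈ dadeCosets A H then F g / (dadeN A H g : K) else 0)
      = ∑ d : G, (if d ∈ dadeCosets A H then F d / (dadeN A H d : K) else 0) := by
    intro x
    rw [← Equiv.sum_comp (MulAut.conj x).toEquiv
      (fun d => if d ∈ dadeCosets A H then F d / (dadeN A H d : K) else 0)]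
    apply Finset.sum_congr rfl
    intro g _
    have : (MulAut.conj x).toEquiv g = x * g * x⁻¹ := rfl
    rw [this, hF, dadeN_conj]
  simp only [h2]
  rw [Finset.sum_const, Finset.card_univ, nsmul_eq_mul]

omit [CharZero K] in
theorem sum_dadeCosets (hD : DadeHypothesis A L H) (f : G → K) :
    ∑ d : G, (if d ∈ dadeCosets A H then f d else 0)
      = ∑ a : G, (if a ∈ A then ∑ u : G, (if u ∈ H a then f (a * u) else 0) else 0) := by
  set P : Finset (G × G) := Finset.univ.filter (fun p : G × G => p.1 ∈ A ∧ p.2 ∈ H p.1) with hP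
  have hinj : ∀ p ∈ P, ∀ q ∈ P, p.1 * p.2 = q.1 * q.2 → p = q := by
    intro p hp q hq h
    have hp' := (Finset.mem_filter.1 hp).2
    have hq' := (Finset.mem_filter.1 hq).2
    obtain ⟨e1, e2⟩ := dade_decomp_unique hD hp'.1 hq'.1 hp'.2 hq'.2 h
    exact Prod.ext e1 e2
  have himg : Finset.univ.filter (fun d : G => d ∈ dadeCosets A H)
      = P.image (fun p => p.1 * p.2) := by
    ext d
    simp only [Finset.mem_filter, Finset.mem_univ, true_and, Finset.mem_image, hP, Prod.exists]
    constructor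
    · rintro ⟨a, ha, u, hu, rfl⟩
      exact ⟨a, u, ⟨ha, hu⟩, rfl⟩
    · rintro ⟨a, u, ⟨ha, hu⟩, rfl⟩
      exact ⟨a, ha, u, hu, rfl⟩
  rw [← Finset.sum_filter, himg, Finset.sum_image hinj, hP, Finset.sum_filter,
    ← Finset.univ_product_univ, Finset.sum_product]
  apply Finset.sum_congr rfl
  intro a _
  by_cases ha : a ∈ A
  · rw [if_pos ha]
    apply Finset.sum_congr rfl
    intro u _
    by_cases hu : u ∈ H a
    · rw [if_pos hu, if_pos ⟨ha, hu⟩]
    · rw [if_neg hu, if_neg (fun h => hu h.2)]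
  · rw [if_neg ha]
    apply Finset.sum_eq_zero
    intro u _
    rw [if_neg (fun h => ha h.1)]

/-- Sum of a class function over the Dade support. -/
theorem dade_sum (hD : DadeHypothesis A L H) (F : G → K) (hF : ∀ g x : G, F (x * g * x⁻¹) = F g) :
    ∑ g : G, (if g ∈ dadeSupport A H then F g else 0)
      = (Fintype.card G : K) / (Nat.card L : K) *
        ∑ a : G, (if a ∈ A then (Nat.card (H a) : K)⁻¹ *
          ∑ u : G, (if u ∈ H a then F (a * u) else 0) else 0) := by
  rw [dade_sum_support F hF, sum_dadeCosets hD, div_mul_eq_mul_div, mul_div_assoc]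
  congr 1
  rw [Finset.sum_div]
  apply Finset.sum_congr rfl
  intro a _
  by_cases ha : a ∈ A
  · rw [if_pos ha, if_pos ha, Finset.mul_sum, Finset.sum_div]
    apply Finset.sum_congr rfl
    intro u _
    by_cases hu : u ∈ H a
    · rw [if_pos hu, if_pos hu, dadeN_mul hD ha hu]
      push_cast
      have h1 : (Nat.card L : K) ≠ 0 := by exact_mod_cast Nat.card_pos.ne'
      have h2 : (Nat.card (H a) : K) ≠ 0 := by exact_mod_cast Nat.card_pos.ne'
      field_simp
    · rw [if_neg hu, if_neg hu]; simp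
  · rw [if_neg ha, if_neg ha]; simp

end DadeSum

end Cfsg.Agent.Lib.Helper11
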