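import Cfsg.Agent.Lib.Helper11.DadeMap
import Cfsg.Agent.Lib.Helper11.Semidirect
import Cfsg.Agent.Lib.Helper11.CosetAvg

/-!
Group theory for the Dade expansion (Peterfalvi (2.6)): for a nonempty subset `B ⊆ A`,
`H(B) = ⋂ H(b)`, `N_L(B)`, and `M(B) = H(B) ⋊ N_L(B)`.
-/

set_option autoImplicit false

namespace Cfsg.Agent.Lib.Helper11

open Cfsg

section DadeExp
open Classical

variable {G : Type*} [Group G] [Finite G] {A : Set G} {L : Subgroup G} {H : G → Subgroup G}

/-- `H(B) = ⋂_{b ∈ B} H(b)`. -/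
def dadeHB (H : G → Subgroup G) (B : Finset G) : Subgroup G := ⨅ b ∈ B, H b

omit [Finite G] in
theorem mem_dadeHB {B : Finset G} {h : G} : h ∈ dadeHB H B ↔ ∀ b ∈ B, h ∈ H b := by
  simp [dadeHB, Subgroup.mem_iInf]

/-- `N_L(B)`. -/
def dadeNB (L : Subgroup G) (B : Finset G) : Subgroup G :=
  L ⊓ Subgroup.normalizer ((B : Finset G) : Set G)

omit [Finite G] in
theorem mem_dadeNB {B : Finset G} {x : G} :
    x ∈ dadeNB L B ↔ x ∈ L ∧ ∀ g, g ∈ B ↔ x * g * x⁻¹ ∈ B := by
  rw [dadeNB, Subgroup.mem_inf, Subgroup.mem_set_normalizer_iff]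
  simp

theorem dadeNB_le_normalizer (hD : DadeHypothesis A L H) {B : Finset G}
    (hBA : (B : Set G) ⊆ A) : dadeNB L B ≤ Subgroup.normalizer (dadeHB H B : Set G) := by
  have key : ∀ x ∈ dadeNB L B, ∀ h ∈ dadeHB H B, x * h * x⁻¹ ∈ dadeHB H B := by
    intro x hx h hh
    rw [mem_dadeNB] at hx
    rw [mem_dadeHB] at hh ⊢
    intro b hb
    have hb' : x⁻¹ * b * x ∈ B := by
      rw [hx.2]
      have : x * (x⁻¹ * b * x) * x⁻¹ = b := by group
      rw [this]; exact hb
    have hbA : x⁻¹ * b * x ∈ A := hBA hb'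
    have hH := Cfsg.Agent.S1498.result A L H hD _ hbA x hx.1
    have e : x * (x⁻¹ * b * x) * x⁻¹ = b := by group
    rw [e] at hH
    rw [hH, Subgroup.mem_map]
    exact ⟨h, hh _ hb', by simp [MulAut.conj_apply]⟩
  intro x hx
  rw [Subgroup.mem_normalizer_iff]
  intro h
  constructor
  · exact key x hx h
  · intro h'
    have := key x⁻¹ ((dadeNB L B).inv_mem hx) _ h'
    simpa [mul_assoc] using this

omit [Finite G] in
theorem dadeHB_inf_dadeNB (hD : DadeHypothesis A L H) {B : Finset G} (hB : B.Nonempty)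
    (hBA : (B : Set G) ⊆ A) : dadeHB H B ⊓ dadeNB L B = ⊥ := by
  obtain ⟨b, hb⟩ := hB
  rw [eq_bot_iff]
  intro h hh
  rw [Subgroup.mem_inf] at hh
  have h1 : h ∈ H b := mem_dadeHB.1 hh.1 b hb
  have h2 : h ∈ L := (mem_dadeNB.1 hh.2).1
  have : h ∈ H b ⊓ (L ⊓ Subgroup.centralizer {b}) :=
    ⟨h1, h2, hD.le_centralizer b (hBA hb) h1⟩
  rw [hD.inf_eq_bot b (hBA hb)] at this
  exact this

omit [Finite G] in
theorem coprime_orderOf_card_dadeHB (hD : DadeHypothesis A L H) {B : Finset G} (hB : B.Nonempty)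
    (hBA : (B : Set G) ⊆ A) {n : G} (hn : n ∈ A) :
    Nat.Coprime (orderOf n) (Nat.card (dadeHB H B)) := by
  obtain ⟨b, hb⟩ := hB
  have h1 : Nat.card (dadeHB H B) ∣ Nat.card (H b) :=
    Subgroup.card_dvd_of_le (fun h hh => mem_dadeHB.1 hh b hb)
  have h2 : orderOf n ∣ Nat.card ↥(L ⊓ Subgroup.centralizer {n}) := by
    have hmem : n ∈ L ⊓ Subgroup.centralizer {n} :=
      ⟨hD.subset hn, by simp [Subgroup.mem_centralizer_iff]⟩
    exact Subgroup.orderOf_dvd_natCard _ hmem
  have h3 := hD.coprime b (hBA hb) n hn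
  exact (Nat.Coprime.coprime_dvd_left h1 (Nat.Coprime.coprime_dvd_right h2 h3)).symm

theorem dadeHB_inf_centralizer (hD : DadeHypothesis A L H) {B : Finset G} (hB : B.Nonempty)
    (hBA : (B : Set G) ⊆ A) {n : G} (hn : n ∈ A) :
    dadeHB H B ⊓ Subgroup.centralizer {n} = dadeHB H (insert n B) := by
  ext c
  rw [Subgroup.mem_inf, mem_dadeHB, mem_dadeHB]
  constructor
  · rintro ⟨h1, h2⟩
    intro b hb
    rw [Finset.mem_insert] at hb
    rcases hb with hb | hb
    · rw [hb]
      obtain ⟨b₀, hb₀⟩ := hB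
      apply Cfsg.Agent.S1498.mem_of_coprime (H n) (L ⊓ Subgroup.centralizer {n})
        (fun q hq m hm => hD.conj_mem_H n hn q hq.2 m hm) (hD.inf_eq_bot n hn) c
      · rw [hD.sup_eq n hn]; exact h2
      · have hd : orderOf c ∣ Nat.card (H b₀) := Subgroup.orderOf_dvd_natCard _ (h1 b₀ hb₀)
        exact Nat.Coprime.coprime_dvd_left hd (hD.coprime b₀ (hBA hb₀) n hn)
    · exact h1 b hb
  · intro h
    refine ⟨fun b hb => h b (Finset.mem_insert_of_mem hb), ?_⟩
    exact hD.le_centralizer n hn (h n (Finset.mem_insert_self n B))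

/-- Conjugate of a finite set. -/
noncomputable def conjFinset (x : G) (B : Finset G) : Finset G := B.image (fun g => x * g * x⁻¹)

omit [Finite G] in
theorem mem_conjFinset {x g : G} {B : Finset G} : g ∈ conjFinset x B ↔ x⁻¹ * g * x ∈ B := by
  rw [conjFinset, Finset.mem_image]
  constructor
  · rintro ⟨b, hb, rfl⟩
    have : x⁻¹ * (x * b * x⁻¹) * x = b := by group
    rw [this]; exact hb
  · intro h
    exact ⟨_, h, by group⟩

omit [Finite G] in
theorem conjFinset_one (B : Finset G) : conjFinset 1 B = B := by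
  ext g; rw [mem_conjFinset]; simp

omit [Finite G] in
theorem conjFinset_mul (x y : G) (B : Finset G) :
    conjFinset (x * y) B = conjFinset x (conjFinset y B) := by
  ext g
  rw [mem_conjFinset, mem_conjFinset, mem_conjFinset]
  have : (x * y)⁻¹ * g * (x * y) = y⁻¹ * (x⁻¹ * g * x) * y := by group
  rw [this]

omit [Finite G] in
theorem card_conjFinset (x : G) (B : Finset G) : (conjFinset x B).card = B.card := by
  rw [conjFinset]
  apply Finset.card_image_of_injective
  intro a b h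
  simpa using h

omit [Finite G] in
theorem conjFinset_nonempty {x : G} {B : Finset G} : (conjFinset x B).Nonempty ↔ B.Nonempty := by
  rw [conjFinset, Finset.image_nonempty]

omit [Finite G] in
theorem conjFinset_subset (hD : DadeHypothesis A L H) {x : G} (hx : x ∈ L) {B : Finset G}
    (hBA : (B : Set G) ⊆ A) : ((conjFinset x B : Finset G) : Set G) ⊆ A := by
  intro g hg
  have hg' : g ∈ conjFinset x B := hg
  rw [mem_conjFinset] at hg'
  have := hD.conj_mem x hx _ (hBA hg')
  have e : x * (x⁻¹ * g * x) * x⁻¹ = g := by group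
  rwa [e] at this

omit [Finite G] in
theorem conjFinset_eq_self_iff {x : G} {B : Finset G} :
    conjFinset x B = B ↔ ∀ g, g ∈ B ↔ x * g * x⁻¹ ∈ B := by
  constructor
  · intro h g
    constructor
    · intro hg
      rw [← h, mem_conjFinset]
      have : x⁻¹ * (x * g * x⁻¹) * x = g := by group
      rw [this]; exact hg
    · intro hg
      rw [← h, mem_conjFinset] at hg
      have : x⁻¹ * (x * g * x⁻¹) * x = g := by group
      rwa [this] at hg
  · intro h
    ext g
    rw [mem_conjFinset, h]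
    have : x * (x⁻¹ * g * x) * x⁻¹ = g := by group
    rw [this]

theorem mem_dadeHB_conjFinset (hD : DadeHypothesis A L H) {x : G} (hx : x ∈ L) {B : Finset G}
    (hBA : (B : Set G) ⊆ A) {h : G} :
    h ∈ dadeHB H (conjFinset x B) ↔ x⁻¹ * h * x ∈ dadeHB H B := by
  rw [mem_dadeHB, mem_dadeHB]
  have key : ∀ b ∈ B, (h ∈ H (x * b * x⁻¹) ↔ x⁻¹ * h * x ∈ H b) := by
    intro b hb
    rw [Cfsg.Agent.S1498.result A L H hD b (hBA hb) x hx, Subgroup.mem_map]
    constructor
    · rintro ⟨u, hu, rfl⟩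
      have : x⁻¹ * ((MulAut.conj x).toMonoidHom u) * x = u := by
        simp [MulAut.conj_apply]; group
      rw [this]; exact hu
    · intro hu
      refine ⟨_, hu, ?_⟩
      simp [MulAut.conj_apply]; group
  constructor
  · intro hh b hb
    exact (key b hb).1 (hh _ (mem_conjFinset.2 (by
      have : x⁻¹ * (x * b * x⁻¹) * x = b := by group
      rw [this]; exact hb)))
  · intro hh b hb
    rw [mem_conjFinset] at hb
    have := (key _ hb).2 (hh _ hb)
    have e : x * (x⁻¹ * b * x) * x⁻¹ = b := by group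
    rwa [e] at this

omit [Finite G] in
theorem mem_dadeNB_conjFinset {x : G} (hx : x ∈ L) {B : Finset G} {q : G} :
    q ∈ dadeNB L (conjFinset x B) ↔ x⁻¹ * q * x ∈ dadeNB L B := by
  rw [mem_dadeNB, mem_dadeNB]
  constructor
  · rintro ⟨h1, h2⟩
    refine ⟨L.mul_mem (L.mul_mem (L.inv_mem hx) h1) hx, ?_⟩
    intro g
    have := h2 (x * g * x⁻¹)
    rw [mem_conjFinset, mem_conjFinset] at this
    have e1 : x⁻¹ * (x * g * x⁻¹) * x = g := by group
    have e2 : x⁻¹ * (q * (x * g * x⁻¹) * q⁻¹) * x = x⁻¹ * q * x * g * (x⁻¹ * q * x)⁻¹ := by group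
    rw [e1, e2] at this
    exact this
  · rintro ⟨h1, h2⟩
    refine ⟨?_, ?_⟩
    · have := L.mul_mem (L.mul_mem hx h1) (L.inv_mem hx)
      have e : x * (x⁻¹ * q * x) * x⁻¹ = q := by group
      rwa [e] at this
    · intro g
      rw [mem_conjFinset, mem_conjFinset]
      have := h2 (x⁻¹ * g * x)
      have e2 : x⁻¹ * q * x * (x⁻¹ * g * x) * (x⁻¹ * q * x)⁻¹ = x⁻¹ * (q * g * q⁻¹) * x := by group
      rw [e2] at this
      exact this

end DadeExp

end Cfsg.Agent.Lib.Helper11
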