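import Cfsg.Agent.Lib.Helper11.DadeExp
import Cfsg.Agent.Lib.Helper11.GenChar
import Cfsg.Agent.Lib.Helper11.Coherence
import Cfsg.Agent.Lib.Helper2.Induction

/-!
The Dade expansion (Peterfalvi (2.6)/(2.7)): inner products of the Dade image with class
functions of `G` as an alternating sum over the nonempty subsets `B ⊆ A`.
-/

set_option autoImplicit false

namespace Cfsg.Agent.Lib.Helper11

open Cfsg
open Cfsg.Agent.Lib.Helper2
open scoped ComplexConjugate

section DadeExp2
open Classical

variable {G : Type*} [Group G] [Fintype G] {A : Set G} {L : Subgroup G} [Fintype L]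
  {H : G → Subgroup G}

/-- Average of `χ` over the coset `K n`. -/
noncomputable def avgOn (χ : G → ℂ) (K : Subgroup G) (n : G) : ℂ :=
  (Nat.card K : ℂ)⁻¹ * ∑ c : G, if c ∈ K then χ (c * n) else 0

/-- The inner product `⟨α_B, Res χ⟩_{M(B)}` in explicit form. -/
noncomputable def dadeT (L : Subgroup G) (H : G → Subgroup G) (α : L → ℂ) (χ : G → ℂ)
    (B : Finset G) : ℂ :=
  (Nat.card (dadeNB L B) : ℂ)⁻¹ * ∑ q : G,
    if q ∈ dadeNB L B then extendByZero L α q * conj (avgOn χ (dadeHB H B) q) else 0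

omit [Fintype L] in
theorem dadeT_eq_classInner (hD : DadeHypothesis A L H) {B : Finset G} (hB : B.Nonempty)
    (hBA : (B : Set G) ⊆ A) (α : L → ℂ) (χ : G → ℂ) :
    dadeT L H α χ B = classInner
      (fun m : ↥(dadeHB H B ⊔ dadeNB L B) => extendByZero L α
        ((retr (dadeHB H B) (dadeNB L B) (dadeNB_le_normalizer hD hBA)
          (dadeHB_inf_dadeNB hD hB hBA) m : G)))
      (fun m : ↥(dadeHB H B ⊔ dadeNB L B) => χ m) := by
  have hQ := dadeNB_le_normalizer (H := H) hD hBA
  have hdisj := dadeHB_inf_dadeNB hD hB hBA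
  rw [classInner_def, card_sup_eq _ _ hQ hdisj, sum_sup_eq _ _ hQ hdisj]
  have h1 : ∀ q : ↥(dadeNB L B), ∑ n : ↥(dadeHB H B),
      extendByZero L α ((retr (dadeHB H B) (dadeNB L B) hQ hdisj
        ⟨(n : G) * (q : G), (dadeHB H B ⊔ dadeNB L B).mul_mem (Subgroup.mem_sup_left n.2)
          (Subgroup.mem_sup_right q.2)⟩ : G)) *
        conj (χ ((n : G) * (q : G)))
      = extendByZero L α (q : G) * ((Nat.card (dadeHB H B) : ℂ) *
          conj (avgOn χ (dadeHB H B) (q : G))) := by
    intro q
    have h2 : ∀ n : ↥(dadeHB H B),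
        extendByZero L α ((retr (dadeHB H B) (dadeNB L B) hQ hdisj
        ⟨(n : G) * (q : G), (dadeHB H B ⊔ dadeNB L B).mul_mem (Subgroup.mem_sup_left n.2)
          (Subgroup.mem_sup_right q.2)⟩ : G)) * conj (χ ((n : G) * (q : G)))
        = extendByZero L α (q : G) * conj (χ ((n : G) * (q : G))) := by
      intro n
      rw [retr_mul _ _ hQ hdisj (n : G) (q : G) n.2 q.2]
    rw [Finset.sum_congr rfl (fun n _ => h2 n), ← Finset.mul_sum]
    congr 1
    rw [avgOn, map_mul, map_inv₀, map_natCast, ← mul_assoc, mul_inv_cancel₀, one_mul, map_sum,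
      sum_subgroup_eq (dadeHB H B) (fun n => conj (χ (n * (q : G))))]
    · apply Finset.sum_congr rfl
      intro c _
      by_cases hc : c ∈ dadeHB H B
      · rw [if_pos hc, if_pos hc]
      · rw [if_neg hc, if_neg hc, map_zero]
    · exact_mod_cast Nat.card_pos.ne'
  rw [Finset.sum_congr rfl (fun q _ => h1 q), dadeT,
    sum_subgroup_eq (dadeNB L B) (fun q => extendByZero L α q *
      ((Nat.card (dadeHB H B) : ℂ) * conj (avgOn χ (dadeHB H B) q)))]
  have hN : (Nat.card (dadeHB H B) : ℂ) ≠ 0 := by exact_mod_cast Nat.card_pos.ne'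
  have hNB : (Nat.card (dadeNB L B) : ℂ) ≠ 0 := by exact_mod_cast Nat.card_pos.ne'
  push_cast
  rw [mul_inv, mul_assoc]
  rw [show ∀ a b c : ℂ, a * (b * c) = b * (a * c) from fun a b c => by ring]
  congr 1
  rw [Finset.mul_sum]
  apply Finset.sum_congr rfl
  intro q _
  by_cases hq : q ∈ dadeNB L B
  · rw [if_pos hq, if_pos hq]
    field_simp
  · rw [if_neg hq, if_neg hq, mul_zero]

omit [Fintype L] in
/-- Integrality of the terms of the Dade expansion. -/
theorem dadeT_int (hD : DadeHypothesis A L H) {B : Finset G} (hB : B.Nonempty)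
    (hBA : (B : Set G) ⊆ A) {α : L → ℂ} (hα : IsGeneralizedCharacter L α) {χ : G → ℂ}
    (hχ : IsCharacter G χ) : ∃ z : ℤ, dadeT L H α χ B = (z : ℂ) := by
  rw [dadeT_eq_classInner hD hB hBA]
  have hQ := dadeNB_le_normalizer (H := H) hD hBA
  have hdisj := dadeHB_inf_dadeNB hD hB hBA
  have hle : dadeNB L B ≤ L := inf_le_left
  set φ : ↥(dadeHB H B ⊔ dadeNB L B) →* L :=
    (Subgroup.inclusion hle).comp (retr (dadeHB H B) (dadeNB L B) hQ hdisj) with hφ
  have hfun : (fun m : ↥(dadeHB H B ⊔ dadeNB L B) => extendByZero L α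
        ((retr (dadeHB H B) (dadeNB L B) hQ hdisj m : G))) = fun m => α (φ m) := by
    funext m
    rw [extendByZero_of_mem L α (hle (retr (dadeHB H B) (dadeNB L B) hQ hdisj m).2)]
    rfl
  rw [hfun]
  obtain ⟨χ₁, χ₂, h1, h2, rfl⟩ := hα
  apply IsGeneralizedCharacter.inner_int
  · exact ⟨_, _, IsCharacter.comp h1 φ, IsCharacter.comp h2 φ, rfl⟩
  · exact isGenChar_of_isChar (IsCharacter.restrict hχ _)

omit [Fintype L] in
/-- The averaging step: over `H(B) n` versus over `H(B ∪ {n}) n`. -/
theorem avgOn_insert (hD : DadeHypothesis A L H) {B : Finset G} (hB : B.Nonempty)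
    (hBA : (B : Set G) ⊆ A) {n : G} (hn : n ∈ A) (hnB : n ∈ dadeNB L B) {χ : G → ℂ}
    (hχ : IsClassFunction G χ) :
    avgOn χ (dadeHB H B) n = avgOn χ (dadeHB H (insert n B)) n := by
  have h := coset_avg (dadeHB H B) n (dadeNB_le_normalizer hD hBA hnB)
    (coprime_orderOf_card_dadeHB hD hB hBA hn) χ (fun a x => hχ a x)
  rw [dadeHB_inf_centralizer hD hB hBA hn] at h
  exact h

omit [Fintype L] in
theorem sum_conj_indicator {x : G} (K K' : Subgroup G) (hK : ∀ h, h ∈ K' ↔ x⁻¹ * h * x ∈ K)
    (f : G → ℂ) :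
    ∑ c : G, (if c ∈ K' then f c else 0) = ∑ c : G, (if c ∈ K then f (x * c * x⁻¹) else 0) := by
  rw [← Equiv.sum_comp (MulAut.conj x).toEquiv (fun c => if c ∈ K' then f c else 0)]
  apply Finset.sum_congr rfl
  intro c _
  have e : (MulAut.conj x).toEquiv c = x * c * x⁻¹ := rfl
  rw [e]
  have : x * c * x⁻¹ ∈ K' ↔ c ∈ K := by
    rw [hK]
    have : x⁻¹ * (x * c * x⁻¹) * x = c := by group
    rw [this]
  by_cases hc : c ∈ K
  · rw [if_pos hc, if_pos (this.2 hc)]
  · rw [if_neg hc, if_neg (fun h => hc (this.1 h))]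

omit [Fintype L] in
theorem card_eq_sum_indicator (K : Subgroup G) :
    (Nat.card K : ℂ) = ∑ c : G, (if c ∈ K then (1 : ℂ) else 0) := by
  rw [Finset.sum_boole, card_filter_mem_subgroup]

omit [Fintype L] in
theorem card_eq_of_conj {x : G} (K K' : Subgroup G) (hK : ∀ h, h ∈ K' ↔ x⁻¹ * h * x ∈ K) :
    (Nat.card K' : ℂ) = (Nat.card K : ℂ) := by
  rw [card_eq_sum_indicator, card_eq_sum_indicator, sum_conj_indicator K K' hK]

omit [Fintype L] in
/-- Invariance of the terms of the Dade expansion under conjugation by `L`. -/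
theorem dadeT_conj (hD : DadeHypothesis A L H) {B : Finset G} (hBA : (B : Set G) ⊆ A)
    {x : G} (hx : x ∈ L) {α : L → ℂ} (hα : IsClassFunction L α) {χ : G → ℂ}
    (hχ : IsClassFunction G χ) :
    dadeT L H α χ (conjFinset x B) = dadeT L H α χ B := by
  have hHB : ∀ h, h ∈ dadeHB H (conjFinset x B) ↔ x⁻¹ * h * x ∈ dadeHB H B :=
    fun h => mem_dadeHB_conjFinset hD hx hBA
  have hNB : ∀ q, q ∈ dadeNB L (conjFinset x B) ↔ x⁻¹ * q * x ∈ dadeNB L B :=
    fun q => mem_dadeNB_conjFinset hx
  have havg : ∀ q : G, avgOn χ (dadeHB H (conjFinset x B)) (x * q * x⁻¹)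
      = avgOn χ (dadeHB H B) q := by
    intro q
    rw [avgOn, avgOn, card_eq_of_conj _ _ hHB, sum_conj_indicator _ _ hHB]
    congr 1
    apply Finset.sum_congr rfl
    intro c _
    have : x * c * x⁻¹ * (x * q * x⁻¹) = x * (c * q) * x⁻¹ := by group
    rw [this, hχ]
  rw [dadeT, dadeT, card_eq_of_conj _ _ hNB, sum_conj_indicator _ _ hNB]
  congr 1
  apply Finset.sum_congr rfl
  intro q _
  by_cases hq : q ∈ dadeNB L B
  · rw [if_pos hq, if_pos hq, havg]
    congr 1
    have hqL : q ∈ L := (mem_dadeNB.1 hq).1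
    have hqL' : x * q * x⁻¹ ∈ L := L.mul_mem (L.mul_mem hx hqL) (L.inv_mem hx)
    rw [extendByZero_of_mem L α hqL, extendByZero_of_mem L α hqL']
    exact hα ⟨q, hqL⟩ ⟨x, hx⟩
  · rw [if_neg hq, if_neg hq]

omit [Fintype L] [Fintype G] in
theorem dadeHB_singleton (l : G) : dadeHB H {l} = H l := by
  ext h
  rw [mem_dadeHB]
  simp

omit [Fintype L] in
/-- The sign-reversing involution `B ↦ B Δ {l}`. -/
theorem toggle_sum (hD : DadeHypothesis A L H) {l : G} (hl : l ∈ A) (χ : G → ℂ) :
    ∑ B : Finset G, (if B.Nonempty ∧ (B : Set G) ⊆ A ∧ l ∈ dadeNB L B then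
        (-1 : ℂ) ^ B.card * avgOn χ (dadeHB H (insert l B)) l else 0)
      = - avgOn χ (H l) l := by
  set S : Finset (Finset G) :=
    Finset.univ.filter (fun B : Finset G => (B : Set G) ⊆ A ∧ l ∈ dadeNB L B) with hS
  set f : Finset G → ℂ := fun B => (-1 : ℂ) ^ B.card * avgOn χ (dadeHB H (insert l B)) l with hf
  set T : Finset G → Finset G := fun B => if l ∈ B then B.erase l else insert l B with hT
  have hlL : l ∈ L := hD.subset hl
  have hTT : ∀ B, T (T B) = B := by
    intro B
    simp only [hT]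
    by_cases h : l ∈ B
    · rw [if_pos h, if_neg (Finset.notMem_erase l B), Finset.insert_erase h]
    · rw [if_neg h, if_pos (Finset.mem_insert_self l B), Finset.erase_insert h]
  have hTne : ∀ B, T B ≠ B := by
    intro B hB
    simp only [hT] at hB
    by_cases h : l ∈ B
    · rw [if_pos h] at hB
      have := Finset.notMem_erase l B
      rw [hB] at this
      exact this h
    · rw [if_neg h] at hB
      have := Finset.mem_insert_self l B
      rw [hB] at this
      exact h this
  have hTmem : ∀ B g, g ≠ l → (g ∈ T B ↔ g ∈ B) := by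
    intro B g hg
    simp only [hT]
    by_cases h : l ∈ B
    · rw [if_pos h, Finset.mem_erase]
      exact ⟨fun h' => h'.2, fun h' => ⟨hg, h'⟩⟩
    · rw [if_neg h, Finset.mem_insert]
      exact ⟨fun h' => h'.resolve_left hg, fun h' => Or.inr h'⟩
  have hTS : ∀ B ∈ S, T B ∈ S := by
    intro B hB
    rw [hS, Finset.mem_filter] at hB ⊢
    obtain ⟨_, hBA, hlB⟩ := hB
    refine ⟨Finset.mem_univ _, ?_, ?_⟩
    · intro g hg
      have hg' : g ∈ T B := hg
      by_cases hgl : g = l
      · rw [hgl]; exact hl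
      · exact hBA ((hTmem B g hgl).1 hg')
    · rw [mem_dadeNB] at hlB ⊢
      refine ⟨hlL, ?_⟩
      intro g
      by_cases hgl : g = l
      · rw [hgl]
        have : l * l * l⁻¹ = l := by group
        rw [this]
      · have hgl' : l * g * l⁻¹ ≠ l := by
          intro h
          apply hgl
          have : g = l⁻¹ * (l * g * l⁻¹) * l := by group
          rw [this, h]; group
        rw [hTmem B g hgl, hTmem B _ hgl']
        exact hlB.2 g
  have hins : ∀ B, insert l (T B) = insert l B := by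
    intro B
    simp only [hT]
    by_cases h : l ∈ B
    · rw [if_pos h, Finset.insert_erase h, Finset.insert_eq_of_mem h]
    · rw [if_neg h, Finset.insert_idem]
  have hcard : ∀ B, (-1 : ℂ) ^ (T B).card = - (-1 : ℂ) ^ B.card := by
    intro B
    simp only [hT]
    by_cases h : l ∈ B
    · rw [if_pos h]
      have := Finset.card_erase_add_one h
      rw [← this, pow_succ]
      ring
    · rw [if_neg h, Finset.card_insert_of_notMem h, pow_succ]
      ring
  have hzero : ∑ B ∈ S, f B = 0 := by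
    apply Finset.sum_involution (fun B _ => T B)
    · intro B _
      simp only [hf]
      rw [hins, hcard]
      ring
    · intro B _ _
      exact hTne B
    · intro B hB
      exact hTS B hB
    · intro B _
      exact hTT B
  have hempty : (∅ : Finset G) ∈ S := by
    rw [hS, Finset.mem_filter]
    refine ⟨Finset.mem_univ _, by simp, ?_⟩
    rw [mem_dadeNB]
    exact ⟨hlL, by simp⟩
  have hsplit : ∑ B ∈ S, f B = f ∅ + ∑ B ∈ S.erase ∅, f B := by
    rw [Finset.add_sum_erase S f hempty]
  have hf0 : f ∅ = avgOn χ (H l) l := by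
    simp only [hf]
    rw [Finset.card_empty, pow_zero, one_mul]
    have : insert l (∅ : Finset G) = {l} := rfl
    rw [this, dadeHB_singleton]
  have hrest : ∑ B : Finset G, (if B.Nonempty ∧ (B : Set G) ⊆ A ∧ l ∈ dadeNB L B then
        (-1 : ℂ) ^ B.card * avgOn χ (dadeHB H (insert l B)) l else 0)
      = ∑ B ∈ S.erase ∅, f B := by
    rw [← Finset.sum_filter]
    apply Finset.sum_congr
    · ext B
      rw [Finset.mem_filter, Finset.mem_erase, hS, Finset.mem_filter,
        Finset.nonempty_iff_ne_empty]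
      tauto
    · intro B _
      rfl
  rw [hrest]
  rw [hzero, hf0] at hsplit
  linear_combination -hsplit

omit [Fintype L] in
theorem sum_indicator_of_le {S : Subgroup G} (hS : S ≤ L) [Fintype L] (F : G → ℂ) :
    ∑ q : G, (if q ∈ S then F q else 0) = ∑ l : L, (if (l : G) ∈ S then F l else 0) := by
  rw [sum_subgroup_eq L (fun g => if g ∈ S then F g else 0)]
  apply Finset.sum_congr rfl
  intro g _
  by_cases hg : g ∈ S
  · rw [if_pos hg, if_pos (hS hg)]
  · rw [if_neg hg]
    split_ifs <;> rfl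

/-- The Dade expansion, in terms of inner products with a class function `χ` of `G`. -/
theorem dade_expansion (hD : DadeHypothesis A L H) {α : L → ℂ} (hα : IsClassFunction L α)
    (hαA : ∀ x : L, (x : G) ∉ A → α x = 0) {χ : G → ℂ} (hχ : IsClassFunction G χ) :
    classInner (dadeIsometry A L H α) χ
      = - ∑ B : Finset G, (if B.Nonempty ∧ (B : Set G) ⊆ A then
          (Nat.card (dadeNB L B) : ℂ) / (Nat.card L : ℂ) *
            ((-1 : ℂ) ^ B.card * dadeT L H α χ B) else 0) := by
  set ψ : L → ℂ := fun a => avgOn χ (H (a : G)) (a : G) with hψdef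
  have hψ : ∀ a : L, (a : G) ∈ A →
      ψ a = (Nat.card (H a) : ℂ)⁻¹ * ∑ᶠ u ∈ (H a : Set G), χ (a * u) := by
    intro a _
    simp only [hψdef]
    rw [avgOn, finsum_mem_subgroup]
    congr 1
    apply Finset.sum_congr rfl
    intro c _
    have : χ (c * (a : G)) = χ ((a : G) * c) := by
      have := hχ (c * (a : G)) (a : G)
      rw [← this]
      congr 1
      group
    rw [this]
  rw [dade_adjoint hD hα hαA χ ψ hχ hψ, classInner_def]
  -- per-`l` identity
  have hterm : ∀ l : L, α l * conj (ψ l) = - ∑ B : Finset G,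
      (if B.Nonempty ∧ (B : Set G) ⊆ A then
        (if (l : G) ∈ dadeNB L B then (-1 : ℂ) ^ B.card *
          (α l * conj (avgOn χ (dadeHB H (insert (l : G) B)) (l : G))) else 0) else 0) := by
    intro l
    by_cases hl : (l : G) ∈ A
    · have ht := toggle_sum (L := L) (H := H) hD hl χ
      have : ψ l = - ∑ B : Finset G, (if B.Nonempty ∧ (B : Set G) ⊆ A ∧ (l : G) ∈ dadeNB L B then
        (-1 : ℂ) ^ B.card * avgOn χ (dadeHB H (insert (l : G) B)) (l : G) else 0) := by
        rw [ht, neg_neg]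
      rw [this, map_neg, mul_neg, map_sum, Finset.mul_sum]
      congr 1
      apply Finset.sum_congr rfl
      intro B _
      by_cases h1 : B.Nonempty ∧ (B : Set G) ⊆ A
      · by_cases h2 : (l : G) ∈ dadeNB L B
        · rw [if_pos h1, if_pos h2, if_pos ⟨h1.1, h1.2, h2⟩, map_mul, map_pow, map_neg, map_one]
          ring
        · rw [if_pos h1, if_neg h2, if_neg (fun h => h2 h.2.2), map_zero, mul_zero]
      · rw [if_neg h1, if_neg (fun h => h1 ⟨h.1, h.2.1⟩), map_zero, mul_zero]
    · rw [hαA l hl, zero_mul]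
      symm
      rw [neg_eq_zero]
      apply Finset.sum_eq_zero
      intro B _
      split_ifs <;> simp
  -- per-`B` identity
  have hBterm : ∀ B : Finset G, B.Nonempty ∧ (B : Set G) ⊆ A →
      (Nat.card (dadeNB L B) : ℂ) / (Nat.card L : ℂ) * ((-1 : ℂ) ^ B.card * dadeT L H α χ B)
        = (Nat.card L : ℂ)⁻¹ * ∑ l : L, (if (l : G) ∈ dadeNB L B then (-1 : ℂ) ^ B.card *
          (α l * conj (avgOn χ (dadeHB H (insert (l : G) B)) (l : G))) else 0) := by
    intro B hB
    have hNB : (Nat.card (dadeNB L B) : ℂ) ≠ 0 := by exact_mod_cast Nat.card_pos.ne'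
    have hle : dadeNB L B ≤ L := inf_le_left
    rw [dadeT, sum_indicator_of_le hle]
    have : ∀ l : L, (if (l : G) ∈ dadeNB L B then
        extendByZero L α (l : G) * conj (avgOn χ (dadeHB H B) (l : G)) else 0)
        = (if (l : G) ∈ dadeNB L B then
          (α l * conj (avgOn χ (dadeHB H (insert (l : G) B)) (l : G))) else 0) := by
      intro l
      by_cases h2 : (l : G) ∈ dadeNB L B
      · rw [if_pos h2, if_pos h2, extendByZero_of_mem L α l.2]
        by_cases hl : (l : G) ∈ A
        · rw [avgOn_insert hD hB.1 hB.2 hl h2 hχ]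
        · have : (⟨(l : G), l.2⟩ : L) = l := Subtype.ext rfl
          rw [this, hαA l hl, zero_mul, zero_mul]
      · rw [if_neg h2, if_neg h2]
    rw [Finset.sum_congr rfl (fun l _ => this l)]
    have h3 : ∀ l : L, (if (l : G) ∈ dadeNB L B then (-1 : ℂ) ^ B.card *
          (α l * conj (avgOn χ (dadeHB H (insert (l : G) B)) (l : G))) else 0)
        = (-1 : ℂ) ^ B.card * (if (l : G) ∈ dadeNB L B then
          (α l * conj (avgOn χ (dadeHB H (insert (l : G) B)) (l : G))) else 0) := by
      intro l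
      split_ifs <;> simp
    rw [Finset.sum_congr rfl (fun l _ => h3 l), ← Finset.mul_sum]
    field_simp
  have hsum : ∑ B : Finset G, (if B.Nonempty ∧ (B : Set G) ⊆ A then
          (Nat.card (dadeNB L B) : ℂ) / (Nat.card L : ℂ) *
            ((-1 : ℂ) ^ B.card * dadeT L H α χ B) else 0)
      = (Nat.card L : ℂ)⁻¹ * ∑ l : L, ∑ B : Finset G,
        (if B.Nonempty ∧ (B : Set G) ⊆ A then
        (if (l : G) ∈ dadeNB L B then (-1 : ℂ) ^ B.card *
          (α l * conj (avgOn χ (dadeHB H (insert (l : G) B)) (l : G))) else 0) else 0) := by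
    rw [Finset.sum_comm, Finset.mul_sum]
    apply Finset.sum_congr rfl
    intro B _
    by_cases h1 : B.Nonempty ∧ (B : Set G) ⊆ A
    · rw [if_pos h1, hBterm B h1]
      congr 1
      apply Finset.sum_congr rfl
      intro l _
      rw [if_pos h1]
    · rw [if_neg h1]
      symm
      rw [mul_eq_zero]
      right
      apply Finset.sum_eq_zero
      intro l _
      rw [if_neg h1]
  rw [hsum, Finset.sum_congr rfl (fun l _ => hterm l), Finset.sum_neg_distrib]
  ring

end DadeExp2

end Cfsg.Agent.Lib.Helper11
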