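import Cfsg.Agent.Lib.Helper11.DadeCount
import Cfsg.Agent.Lib.Helper2.Orthogonality

/-!
The Dade map: well-definedness on the support, class function property, and the adjoint formula
`⟨α^τ, χ⟩_G = ⟨α, ψ⟩_L` where `ψ(a)` is the average of `χ` over `a H(a)`.
-/

set_option autoImplicit false

namespace Cfsg.Agent.Lib.Helper11

open Cfsg
open Cfsg.Agent.Lib.Helper2
open scoped ComplexConjugate

section DadeMap

variable {G : Type*} [Group G] [Finite G] {A : Set G} {L : Subgroup G} {H : G → Subgroup G}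

/-- The value of the Dade map at an element conjugate into the coset `a H(a)`. -/
theorem dadeIsometry_apply (hD : DadeHypothesis A L H) {α : L → ℂ}
    (hα : IsClassFunction L α) {g x u : G} (a : L) (ha : (a : G) ∈ A) (hu : u ∈ H (a : G))
    (hx : x * g * x⁻¹ = (a : G) * u) : dadeIsometry A L H α g = α a := by
  have h : ∃ a : L, (a : G) ∈ A ∧ ∃ x : G, ∃ u ∈ H (a : G), x * g * x⁻¹ = (a : G) * u :=
    ⟨a, ha, x, u, hu, hx⟩
  unfold dadeIsometry
  rw [dif_pos h]
  obtain ⟨ha₀, x₀, u₀, hu₀, hx₀⟩ := Classical.choose_spec h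
  set a₀ := Classical.choose h with ha₀def
  have hconj : (x * x₀⁻¹) * ((a₀ : G) * u₀) * (x * x₀⁻¹)⁻¹ = (a : G) * u := by
    rw [← hx₀, ← hx]; group
  obtain ⟨l, hl, hla⟩ := (Cfsg.Agent.S1499.result A L H hD (a₀ : G) (a : G) ha₀ ha).1
    ⟨u₀, hu₀, u, hu, x * x₀⁻¹, hconj⟩
  have : a = (⟨l, hl⟩ : L) * a₀ * (⟨l, hl⟩ : L)⁻¹ := by
    apply Subtype.ext
    simp [hla]
  rw [this, hα]

omit [Finite G] in
theorem dadeIsometry_apply_of_not_mem {α : L → ℂ} {g : G} (hg : g ∉ dadeSupport A H) :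
    dadeIsometry A L H α g = 0 := by
  unfold dadeIsometry
  rw [dif_neg]
  rintro ⟨a, ha, x, u, hu, hx⟩
  exact hg ⟨a, ha, u, hu, x, hx⟩

omit [Finite G] in
theorem dadeSupport_conj (g y : G) : y * g * y⁻¹ ∈ dadeSupport A H ↔ g ∈ dadeSupport A H := by
  constructor
  · rintro ⟨a, ha, u, hu, x, hx⟩
    refine ⟨a, ha, u, hu, x * y, ?_⟩
    rw [← hx]; group
  · rintro ⟨a, ha, u, hu, x, hx⟩
    refine ⟨a, ha, u, hu, x * y⁻¹, ?_⟩
    rw [← hx]; group

theorem dadeIsometry_isClassFunction (hD : DadeHypothesis A L H) {α : L → ℂ}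
    (hα : IsClassFunction L α) : IsClassFunction G (dadeIsometry A L H α) := by
  intro g y
  by_cases hg : g ∈ dadeSupport A H
  · obtain ⟨a, ha, u, hu, x, hx⟩ := hg
    have haL : a ∈ L := hD.subset ha
    rw [dadeIsometry_apply hD hα ⟨a, haL⟩ ha hu hx]
    have hx' : (x * y⁻¹) * (y * g * y⁻¹) * (x * y⁻¹)⁻¹ = a * u := by
      rw [← hx]; group
    rw [dadeIsometry_apply hD hα ⟨a, haL⟩ ha hu hx']
  · rw [dadeIsometry_apply_of_not_mem hg,
      dadeIsometry_apply_of_not_mem (fun h => hg ((dadeSupport_conj g y).1 h))]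

end DadeMap

section Adjoint
open Classical

variable {G : Type*} [Group G] [Fintype G] {A : Set G} {L : Subgroup G} [Fintype L]
  {H : G → Subgroup G}

omit [Fintype G] in
theorem sum_indicator_subset {K : Type*} [AddCommMonoid K] [Fintype G] (hAL : A ⊆ (L : Set G))
    (Φ : G → K) :
    ∑ a : G, (if a ∈ A then Φ a else 0) = ∑ a : L, (if (a : G) ∈ A then Φ a else 0) := by
  have h1 : ∑ a : G, (if a ∈ A then Φ a else 0)
      = ∑ a ∈ Finset.univ.filter (fun a : G => a ∈ L), (if a ∈ A then Φ a else 0) := by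
    symm
    apply Finset.sum_subset (Finset.filter_subset _ _)
    intro a _ ha
    have : a ∉ L := fun h => ha (Finset.mem_filter.2 ⟨Finset.mem_univ _, h⟩)
    rw [if_neg (fun h => this (hAL h))]
  rw [h1]
  exact Finset.sum_subtype (Finset.univ.filter (fun a : G => a ∈ L))
    (fun x => by simp) (fun a => if a ∈ A then Φ a else 0)

omit [Fintype G] [Fintype L] in
theorem finsum_mem_subgroup {K : Type*} [AddCommMonoid K] [Fintype G] (S : Subgroup G)
    (f : G → K) : ∑ᶠ u ∈ (S : Set G), f u = ∑ u : G, (if u ∈ S then f u else 0) := by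
  rw [finsum_mem_def, finsum_eq_sum_of_fintype]
  apply Finset.sum_congr rfl
  intro u _
  rw [Set.indicator_apply]
  rfl

/-- The adjoint formula for the Dade map. -/
theorem dade_adjoint (hD : DadeHypothesis A L H) {α : L → ℂ} (hα : IsClassFunction L α)
    (hαA : ∀ x : L, (x : G) ∉ A → α x = 0) (χ : G → ℂ) (ψ : L → ℂ) (hχ : IsClassFunction G χ)
    (hψ : ∀ a : L, (a : G) ∈ A →
      ψ a = (Nat.card (H a) : ℂ)⁻¹ * ∑ᶠ u ∈ (H a : Set G), χ (a * u)) :
    classInner (dadeIsometry A L H α) χ = classInner α ψ := by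
  have hcf := dadeIsometry_isClassFunction hD hα
  set F : G → ℂ := fun g => dadeIsometry A L H α g * conj (χ g) with hF
  have hFcf : ∀ g x : G, F (x * g * x⁻¹) = F g := by
    intro g x
    simp only [hF]
    rw [hcf g x, hχ g x]
  have h1 : ∑ g : G, dadeIsometry A L H α g * conj (χ g)
      = ∑ g : G, (if g ∈ dadeSupport A H then F g else 0) := by
    apply Finset.sum_congr rfl
    intro g _
    by_cases hg : g ∈ dadeSupport A H
    · rw [if_pos hg]
    · rw [if_neg hg, dadeIsometry_apply_of_not_mem hg, zero_mul]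
  rw [classInner_def, classInner_def, h1, dade_sum hD F hFcf, sum_indicator_subset hD.subset]
  have h2 : ∀ a : L, (if (a : G) ∈ A then (Nat.card (H (a : G)) : ℂ)⁻¹ *
      ∑ u : G, (if u ∈ H (a : G) then F ((a : G) * u) else 0) else 0) = α a * conj (ψ a) := by
    intro a
    by_cases ha : (a : G) ∈ A
    · rw [if_pos ha, hψ a ha, map_mul, map_inv₀, map_natCast, finsum_mem_subgroup, map_sum,
        mul_left_comm]
      congr 1
      rw [Finset.mul_sum]
      apply Finset.sum_congr rfl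
      intro u _
      by_cases hu : u ∈ H (a : G)
      · rw [if_pos hu, if_pos hu]
        simp only [hF]
        rw [dadeIsometry_apply hD hα a ha hu (x := 1) (by group)]
      · rw [if_neg hu, if_neg hu]; simp
    · rw [if_neg ha, hαA a ha, zero_mul]
  simp only [h2]
  have hG : (Nat.card G : ℂ) ≠ 0 := card_ne_zero_complex
  have hL : (Nat.card L : ℂ) ≠ 0 := card_ne_zero_complex
  rw [← Nat.card_eq_fintype_card]
  field_simp

end Adjoint

end Cfsg.Agent.Lib.Helper11
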