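import Cfsg.Agent.Lib.Helper2.CharBasic

/-!
The determinant of `ρ g` when the character of `ρ` vanishes on the nonidentity powers of `g`:
all `e`-th roots of unity occur as eigenvalues of `ρ g` with the same multiplicity `t`, and the
determinant is `(-1) ^ (t * (e - 1))`.
-/

set_option autoImplicit false

namespace Cfsg.Agent.Lib.Helper11

namespace DetRoots

open Cfsg.Agent.Lib.Helper2

/-- The geometric sum of a root of unity. -/
theorem geom_sum_root {z : ℂ} {e : ℕ} (hz : z ^ e = 1) :
    ∑ j ∈ Finset.range e, z ^ j = if z = 1 then (e : ℂ) else 0 := by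
  split_ifs with h
  · rw [h]; simp
  · have h1 := geom_sum_mul z e
    rw [hz, sub_self] at h1
    rcases mul_eq_zero.1 h1 with h2 | h2
    · exact h2
    · exact absurd (sub_eq_zero.1 h2) h

/-- If the power sums `∑ μ_i ^ j` of a family of `e`-th roots of unity vanish for `0 < j < e`, every
`e`-th root of unity occurs equally often. -/
theorem card_fiber {ι : Type*} [Fintype ι] (μ : ι → ℂ) (e t : ℕ) (he : 0 < e)
    (hcard : Fintype.card ι = t * e) (hμ : ∀ i, μ i ^ e = 1)
    (hsum : ∀ j, 0 < j → j < e → ∑ i, μ i ^ j = 0) (ω : ℂ) (hω : ω ^ e = 1) :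
    (Finset.univ.filter (fun i => μ i = ω)).card = t := by
  classical
  have hω0 : ω ≠ 0 := by
    intro h
    rw [h, zero_pow he.ne'] at hω
    exact zero_ne_one hω
  have h1 : ∑ j ∈ Finset.range e, (ω⁻¹) ^ j * ∑ i, μ i ^ j = (Fintype.card ι : ℂ) := by
    rw [Finset.sum_eq_single 0]
    · simp
    · intro j hj hj0
      rw [hsum j (Nat.pos_of_ne_zero hj0) (Finset.mem_range.1 hj), mul_zero]
    · intro h
      exact absurd (Finset.mem_range.2 he) h
  have h2 : ∑ j ∈ Finset.range e, (ω⁻¹) ^ j * ∑ i, μ i ^ j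
      = ∑ i, ∑ j ∈ Finset.range e, (μ i * ω⁻¹) ^ j := by
    rw [Finset.sum_comm]
    apply Finset.sum_congr rfl
    intro j _
    rw [Finset.mul_sum]
    apply Finset.sum_congr rfl
    intro i _
    rw [mul_pow, mul_comm]
  have h3 : ∀ i, ∑ j ∈ Finset.range e, (μ i * ω⁻¹) ^ j = if μ i = ω then (e : ℂ) else 0 := by
    intro i
    have hz : (μ i * ω⁻¹) ^ e = 1 := by
      rw [mul_pow, hμ i, inv_pow, hω, inv_one, mul_one]
    rw [geom_sum_root hz]
    have hiff : μ i * ω⁻¹ = 1 ↔ μ i = ω := by
      rw [mul_inv_eq_one₀ hω0]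
    by_cases h : μ i = ω
    · rw [if_pos h, if_pos (hiff.2 h)]
    · rw [if_neg h, if_neg (fun h' => h (hiff.1 h'))]
  rw [h2, Finset.sum_congr rfl (fun i _ => h3 i), ← Finset.sum_filter, Finset.sum_const,
    nsmul_eq_mul, hcard] at h1
  have h4 : (Finset.univ.filter (fun i => μ i = ω)).card * e = t * e := by exact_mod_cast h1
  exact Nat.eq_of_mul_eq_mul_right he h4

/-- The product of all `e`-th roots of unity, `e` even, is `-1`. -/
theorem prod_nthRoots_of_even {e : ℕ} (he : 0 < e) (heven : Even e) :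
    ∏ ω ∈ Polynomial.nthRootsFinset e (1 : ℂ), ω = -1 := by
  have hprim := Complex.isPrimitiveRoot_exp e he.ne'
  have h1 := Polynomial.X_pow_sub_one_eq_prod he hprim
  have h2 := congrArg (Polynomial.eval 0) h1
  rw [Polynomial.eval_prod] at h2
  simp only [Polynomial.eval_sub, Polynomial.eval_pow, Polynomial.eval_X, Polynomial.eval_one,
    Polynomial.eval_C, zero_pow he.ne', zero_sub] at h2
  rw [Finset.prod_neg, hprim.card_nthRootsFinset, heven.neg_one_pow, one_mul] at h2
  exact h2.symm

/-- The product of a family of `e`-th roots of unity whose power sums vanish. -/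
theorem prod_eq_neg_one {ι : Type*} [Fintype ι] (μ : ι → ℂ) (e t : ℕ) (he : 0 < e)
    (heven : Even e) (hodd : Odd t)
    (hcard : Fintype.card ι = t * e) (hμ : ∀ i, μ i ^ e = 1)
    (hsum : ∀ j, 0 < j → j < e → ∑ i, μ i ^ j = 0) :
    ∏ i, μ i = -1 := by
  classical
  have hmaps : ∀ i ∈ (Finset.univ : Finset ι), μ i ∈ Polynomial.nthRootsFinset e (1 : ℂ) := by
    intro i _
    rw [Polynomial.mem_nthRootsFinset he]
    exact hμ i
  rw [← Finset.prod_fiberwise_of_maps_to hmaps (fun i => μ i)]
  have h1 : ∀ ω ∈ Polynomial.nthRootsFinset e (1 : ℂ),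
      ∏ i ∈ Finset.univ.filter (fun i => μ i = ω), μ i = ω ^ t := by
    intro ω hω
    rw [Polynomial.mem_nthRootsFinset he] at hω
    rw [Finset.prod_congr rfl (fun i hi => (Finset.mem_filter.1 hi).2), Finset.prod_const,
      card_fiber μ e t he hcard hμ hsum ω hω]
  rw [Finset.prod_congr rfl h1, Finset.prod_pow, prod_nthRoots_of_even he heven,
    hodd.neg_one_pow]

open Module in
/-- If the character of `ρ` vanishes on the nonidentity powers of `g`, an element of even order
`e`, and the degree is an odd multiple of `e`, then `det ρ(g) = -1`. -/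
theorem det_eq_neg_one {G : Type*} [Group G] [Finite G] {V : Type*} [AddCommGroup V]
    [Module ℂ V] [FiniteDimensional ℂ V] (ρ : Representation ℂ G V) (g : G) (e t : ℕ)
    (hord : orderOf g = e) (heven : Even e) (hodd : Odd t) (hdim : finrank ℂ V = t * e)
    (hvan : ∀ j, 0 < j → j < e → ρ.character (g ^ j) = 0) :
    LinearMap.det (ρ g) = -1 := by
  classical
  obtain ⟨b, μ, hb, hμ⟩ := exists_eigenbasis ρ g
  have he : 0 < e := by rw [← hord]; exact orderOf_pos g
  have hpow : ∀ (k : ℕ) i, ρ (g ^ k) (b i) = μ i ^ k • b i := by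
    intro k i
    induction k with
    | zero => simp
    | succ k ih =>
      rw [pow_succ', map_mul, Module.End.mul_apply, ih, map_smul, hb, smul_smul, pow_succ]
  have hsum : ∀ j, 0 < j → j < e → ∑ i, μ i ^ j = 0 := by
    intro j hj0 hje
    rw [← trace_eq_sum_of_eigenbasis (ρ (g ^ j)) b (fun i => μ i ^ j) (hpow j)]
    exact hvan j hj0 hje
  have hprod := prod_eq_neg_one μ e t he heven hodd (by rw [Fintype.card_fin, hdim])
    (fun i => by rw [← hord]; exact hμ i) hsum
  rw [← LinearMap.det_toMatrix b (ρ g)]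
  have hdiag : LinearMap.toMatrix b b (ρ g) = Matrix.diagonal μ := by
    ext i j
    rw [LinearMap.toMatrix_apply, hb, Matrix.diagonal_apply]
    by_cases hij : i = j
    · subst hij
      simp
    · simp [Finsupp.single_apply, hij, Ne.symm hij]
  rw [hdiag, Matrix.det_diagonal, hprod]

end DetRoots

end Cfsg.Agent.Lib.Helper11
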