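import Mathlib

/-!
Small arithmetic lemmas for the exceptional-character degree equation: nonzero integers whose
squares sum to `1` or `2`.
-/

set_option autoImplicit false

namespace Cfsg.Agent.Lib.Helper11

theorem exc_int_sq_eq_one {a : ℤ} (h : a ^ 2 = 1) : a = 1 ∨ a = -1 := by
  have h1 : (a - 1) * (a + 1) = 0 := by ring_nf; rw [h]; ring
  rcases mul_eq_zero.1 h1 with h2 | h2
  · left; omega
  · right; omega

theorem card_le_sum_sq {ι : Type*} (T : Finset ι) (m : ι → ℤ) (hm : ∀ χ ∈ T, m χ ≠ 0) :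
    (T.card : ℤ) ≤ ∑ χ ∈ T, m χ ^ 2 := by
  have hge : ∀ χ ∈ T, (1 : ℤ) ≤ m χ ^ 2 := by
    intro χ hχ
    have h1 := hm χ hχ
    have h2 : 0 < m χ ^ 2 := by positivity
    omega
  calc (T.card : ℤ) = ∑ _χ ∈ T, (1 : ℤ) := by simp
    _ ≤ ∑ χ ∈ T, m χ ^ 2 := Finset.sum_le_sum hge

/-- Nonzero integers with squares summing to `1`. -/
theorem exc_T_one {ι : Type*} (T : Finset ι) (m : ι → ℤ) (hm : ∀ χ ∈ T, m χ ≠ 0)
    (hs : ∑ χ ∈ T, m χ ^ 2 = 1) : ∃ χ₁, T = {χ₁} ∧ (m χ₁ = 1 ∨ m χ₁ = -1) := by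
  have hcard := card_le_sum_sq T m hm
  rw [hs] at hcard
  have h0 : T.card ≠ 0 := by
    intro h
    rw [Finset.card_eq_zero] at h
    rw [h, Finset.sum_empty] at hs
    exact zero_ne_one hs
  have h1 : T.card = 1 := by omega
  obtain ⟨a, rfl⟩ := Finset.card_eq_one.1 h1
  rw [Finset.sum_singleton] at hs
  exact ⟨a, rfl, exc_int_sq_eq_one hs⟩

/-- Nonzero integers with squares summing to `2`. -/
theorem exc_T_two {ι : Type*} [DecidableEq ι] (T : Finset ι) (m : ι → ℤ)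
    (hm : ∀ χ ∈ T, m χ ≠ 0) (hs : ∑ χ ∈ T, m χ ^ 2 = 2) :
    ∃ χ₁ χ₂, χ₁ ≠ χ₂ ∧ T = {χ₁, χ₂} ∧ (m χ₁ = 1 ∨ m χ₁ = -1) ∧ (m χ₂ = 1 ∨ m χ₂ = -1) := by
  have hcard := card_le_sum_sq T m hm
  rw [hs] at hcard
  have h0 : T.card ≠ 0 := by
    intro h
    rw [Finset.card_eq_zero] at h
    rw [h, Finset.sum_empty] at hs
    omega
  have h1 : T.card ≠ 1 := by
    intro h
    obtain ⟨a, rfl⟩ := Finset.card_eq_one.1 h
    rw [Finset.sum_singleton] at hs
    have h2 : m a ≤ 1 := by nlinarith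
    have h3 : -1 ≤ m a := by nlinarith
    have h4 : m a = -1 ∨ m a = 0 ∨ m a = 1 := by omega
    rcases h4 with h | h | h <;> rw [h] at hs <;> norm_num at hs
  have h2 : T.card = 2 := by omega
  obtain ⟨a, b, hab, rfl⟩ := Finset.card_eq_two.1 h2
  rw [Finset.sum_pair hab] at hs
  have ha := hm a (by simp)
  have hb := hm b (by simp)
  have ha2 : 1 ≤ m a ^ 2 := by
    have : 0 < m a ^ 2 := by positivity
    omega
  have hb2 : 1 ≤ m b ^ 2 := by
    have : 0 < m b ^ 2 := by positivity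
    omega
  exact ⟨a, b, hab, rfl, exc_int_sq_eq_one (by omega), exc_int_sq_eq_one (by omega)⟩

end Cfsg.Agent.Lib.Helper11
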