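import Cfsg.Agent.Lib.Helper11.FrobGen2

/-!
Exceptional characters for an abelian TI-subgroup `H` whose normaliser `L` is a Frobenius group
with kernel `H` (Brauer–Suzuki): values on `H ∖ 1`, the norm relation and the degree equation.
Part 1: the irreducible characters of `L` that are not trivial on `H`.
-/

set_option autoImplicit false

namespace Cfsg.Agent.Lib.Helper11

open Cfsg
open Cfsg.Agent.Lib.Helper2
open Cfsg.Agent.S1522
open scoped ComplexConjugate

section ExcDegree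

variable {G : Type*} [Group G] [Fintype G] (H L : Subgroup G) [Fintype L]

/-- Index type of the exceptional family: irreducible characters of `L` not trivial on `H`. -/
abbrev ExcIdx : Type _ :=
  {χ : IrrCharacter L // ∃ k : L, (k : G) ∈ H ∧ (χ : L → ℂ) k ≠ (χ : L → ℂ) 1}

/-- Members of the exceptional index set have degree `[L:H]` and vanish off `H`. -/
theorem excIdx_props [hK : (H.subgroupOf L).Normal]
    (hcent : ∀ h ∈ H, h ≠ 1 → ∀ x ∈ L, x * h = h * x → x ∈ H)
    (hab : ∀ a ∈ H, ∀ b ∈ H, a * b = b * a) (θ : ExcIdx H L) :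
    (θ.1 : L → ℂ) 1 = ((H.subgroupOf L).index : ℂ) ∧
      ∀ l : L, (l : G) ∉ H → (θ.1 : L → ℂ) l = 0 := by
  have hirrS := frob_irr_of_cent H L hcent
  have hset := irr_nontriv_eq_induced H L hirrS
  have hmem : (θ.1 : L → ℂ) ∈ inducedIrrAbove (H.subgroupOf L) ⊥ := by
    rw [← hset]
    exact ⟨θ.1.2, θ.2⟩
  obtain ⟨lam, hlam, hlam1, htriv, heq⟩ := hmem
  have hcomm_bot : ⁅H.subgroupOf L, H.subgroupOf L⁆ ≤ (⊥ : Subgroup L) := by
    rw [le_bot_iff, Subgroup.commutator_eq_bot_iff_le_centralizer]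
    intro k hk
    rw [Subgroup.mem_centralizer_iff]
    intro y hy
    apply Subtype.ext
    exact hab y (Subgroup.mem_subgroupOf.1 hy) k (Subgroup.mem_subgroupOf.1 hk)
  have h1 := irrDeg_eq_one_of_commutator_le (H.subgroupOf L) ⊥ hcomm_bot
    (⟨lam, hlam⟩ : IrrCharacter (H.subgroupOf L)) htriv
  have h2 := irrDeg_spec (⟨lam, hlam⟩ : IrrCharacter (H.subgroupOf L))
  rw [h1] at h2
  have h3 : lam 1 = 1 := by simpa using h2
  constructor
  · rw [heq, indFun_apply_one, h3, mul_one]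
  · intro l hl
    rw [heq]
    apply indFun_apply_not_mem
    intro hl'
    exact hl (Subgroup.mem_subgroupOf.1 hl')

/-- The sum of squares of degrees of characters of `L` trivial on `H`. -/
theorem sum_triv_degree_sq [hK : (H.subgroupOf L).Normal] [Fintype (IrrCharacter L)]
    [DecidablePred (fun ψ : IrrCharacter L =>
      ∃ k : L, (k : G) ∈ H ∧ (ψ : L → ℂ) k ≠ (ψ : L → ℂ) 1)] :
    ∑ ψ ∈ Finset.univ.filter (fun ψ : IrrCharacter L =>
      ¬ ∃ k : L, (k : G) ∈ H ∧ (ψ : L → ℂ) k ≠ (ψ : L → ℂ) 1), (ψ : L → ℂ) 1 ^ 2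
      = ((H.subgroupOf L).index : ℂ) := by
  classical
  have h := sum_degree_sq_of_ker (K' := L) (H.subgroupOf L)
  have hfilter : Finset.univ.filter (fun ψ : IrrCharacter L =>
      ¬ ∃ k : L, (k : G) ∈ H ∧ (ψ : L → ℂ) k ≠ (ψ : L → ℂ) 1)
      = Finset.univ.filter (fun χ : IrrCharacter L =>
        ∀ n ∈ H.subgroupOf L, (χ : L → ℂ) n = (χ : L → ℂ) 1) := by
    apply Finset.filter_congr
    intro ψ _
    constructor
    · intro hψ n hn
      by_contra hne
      exact hψ ⟨n, Subgroup.mem_subgroupOf.1 hn, hne⟩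
    · rintro hψ ⟨k, hk, hne⟩
      exact hne (hψ k (Subgroup.mem_subgroupOf.2 hk))
  rw [hfilter]
  have hci := Subgroup.card_mul_index (H.subgroupOf L)
  have hN0 : (Nat.card (H.subgroupOf L) : ℂ) ≠ 0 := by
    have : 0 < Nat.card (H.subgroupOf L) := Nat.card_pos
    exact_mod_cast this.ne'
  have hci' : (Nat.card (H.subgroupOf L) : ℂ) * ((H.subgroupOf L).index : ℂ)
      = (Nat.card L : ℂ) := by exact_mod_cast hci
  rw [← hci'] at h
  exact mul_left_cancel₀ hN0 h

/-- Splitting a sum over `Irr(L)` into the exceptional index set and the characters trivial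
on `H`. -/
theorem sum_irr_split [Fintype (IrrCharacter L)] [Fintype (ExcIdx H L)]
    [DecidablePred (fun ψ : IrrCharacter L =>
      ∃ k : L, (k : G) ∈ H ∧ (ψ : L → ℂ) k ≠ (ψ : L → ℂ) 1)] (F : IrrCharacter L → ℂ) :
    ∑ ψ : IrrCharacter L, F ψ = ∑ θ : ExcIdx H L, F θ.1
      + ∑ ψ ∈ Finset.univ.filter (fun ψ : IrrCharacter L =>
        ¬ ∃ k : L, (k : G) ∈ H ∧ (ψ : L → ℂ) k ≠ (ψ : L → ℂ) 1), F ψ := by
  rw [← Finset.sum_filter_add_sum_filter_not Finset.univ (fun ψ : IrrCharacter L =>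
    ∃ k : L, (k : G) ∈ H ∧ (ψ : L → ℂ) k ≠ (ψ : L → ℂ) 1)]
  congr 1
  exact Finset.sum_subtype (Finset.univ.filter _) (by simp) F

/-- For `x ∈ H ∖ 1` the exceptional characters of `L` sum to `-1` at `x`. -/
theorem exc_sum_apply [hK : (H.subgroupOf L).Normal] [Fintype (ExcIdx H L)]
    (hcent : ∀ h ∈ H, h ≠ 1 → ∀ x ∈ L, x * h = h * x → x ∈ H)
    (hab : ∀ a ∈ H, ∀ b ∈ H, a * b = b * a)
    (x : L) (hx : (x : G) ∈ H) (hx1 : x ≠ 1) :
    ∑ θ : ExcIdx H L, (θ.1 : L → ℂ) x = -1 := by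
  classical
  haveI : Fintype (IrrCharacter L) := Fintype.ofFinite _
  have h0 := sum_irr_degree_mul (G := L) x
  rw [if_neg hx1, sum_irr_split H L] at h0
  have hidx : ((H.subgroupOf L).index : ℂ) ≠ 0 := by
    have : (H.subgroupOf L).index ≠ 0 := Subgroup.index_ne_zero_of_finite
    exact_mod_cast this
  have h1 : ∑ θ : ExcIdx H L, (θ.1 : L → ℂ) 1 * (θ.1 : L → ℂ) x
      = ((H.subgroupOf L).index : ℂ) * ∑ θ : ExcIdx H L, (θ.1 : L → ℂ) x := by
    rw [Finset.mul_sum]
    apply Finset.sum_congr rfl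
    intro θ _
    rw [(excIdx_props H L hcent hab θ).1]
  have h2 : ∑ ψ ∈ Finset.univ.filter (fun ψ : IrrCharacter L =>
      ¬ ∃ k : L, (k : G) ∈ H ∧ (ψ : L → ℂ) k ≠ (ψ : L → ℂ) 1),
      (ψ : L → ℂ) 1 * (ψ : L → ℂ) x = ((H.subgroupOf L).index : ℂ) := by
    rw [← sum_triv_degree_sq H L]
    apply Finset.sum_congr rfl
    intro ψ hψ
    rw [Finset.mem_filter] at hψ
    have : (ψ : L → ℂ) x = (ψ : L → ℂ) 1 := by
      by_contra hne
      exact hψ.2 ⟨x, hx, hne⟩
    rw [this, sq]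
  rw [h1, h2] at h0
  have h3 : ((H.subgroupOf L).index : ℂ) * (∑ θ : ExcIdx H L, (θ.1 : L → ℂ) x + 1) = 0 := by
    rw [mul_add, mul_one]
    exact h0
  rcases mul_eq_zero.1 h3 with h | h
  · exact absurd h hidx
  · exact eq_neg_of_add_eq_zero_left h

/-- The centraliser in `L` of `x ∈ H ∖ 1` has order `|H|`. -/
theorem card_centralizer_L (hHL : H ≤ L)
    (hcent : ∀ h ∈ H, h ≠ 1 → ∀ x ∈ L, x * h = h * x → x ∈ H)
    (hab : ∀ a ∈ H, ∀ b ∈ H, a * b = b * a)
    (x : L) (hx : (x : G) ∈ H) (hx1 : x ≠ 1) :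
    Nat.card (Subgroup.centralizer ({x} : Set L)) = Nat.card H := by
  have hC : Subgroup.centralizer ({x} : Set L) = H.subgroupOf L := by
    ext y
    rw [Subgroup.mem_centralizer_iff, Subgroup.mem_subgroupOf]
    constructor
    · intro hy
      have h1 := hy x (Set.mem_singleton x)
      have h2 : (y : G) * (x : G) = (x : G) * (y : G) := by
        have := congrArg (Subtype.val : L → G) h1
        simpa using this.symm
      exact hcent (x : G) hx (fun h => hx1 (Subtype.ext h)) (y : G) y.2 h2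
    · intro hy z hz
      rw [Set.mem_singleton_iff] at hz
      subst hz
      apply Subtype.ext
      simpa using hab _ hx _ hy
  rw [hC]
  exact Nat.card_congr (Subgroup.subgroupOfEquivOfLe hHL).toEquiv

/-- For `x ∈ H ∖ 1` the squared absolute values of the exceptional characters of `L` at `x`
sum to `|H| - [L:H]`. -/
theorem exc_sum_norm_sq [hK : (H.subgroupOf L).Normal] [Fintype (ExcIdx H L)]
    (hHL : H ≤ L)
    (hcent : ∀ h ∈ H, h ≠ 1 → ∀ x ∈ L, x * h = h * x → x ∈ H)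
    (hab : ∀ a ∈ H, ∀ b ∈ H, a * b = b * a)
    (x : L) (hx : (x : G) ∈ H) (hx1 : x ≠ 1) :
    ∑ θ : ExcIdx H L, (θ.1 : L → ℂ) x * conj ((θ.1 : L → ℂ) x)
      = (Nat.card H : ℂ) - ((H.subgroupOf L).index : ℂ) := by
  classical
  haveI : Fintype (IrrCharacter L) := Fintype.ofFinite _
  have h0 := column_orthogonality (G := L) x x
  rw [if_pos (IsConj.refl x), card_centralizer_L H L hHL hcent hab x hx hx1,
    sum_irr_split H L] at h0
  have h2 : ∑ ψ ∈ Finset.univ.filter (fun ψ : IrrCharacter L =>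
      ¬ ∃ k : L, (k : G) ∈ H ∧ (ψ : L → ℂ) k ≠ (ψ : L → ℂ) 1),
      (ψ : L → ℂ) x * conj ((ψ : L → ℂ) x) = ((H.subgroupOf L).index : ℂ) := by
    rw [← sum_triv_degree_sq H L]
    apply Finset.sum_congr rfl
    intro ψ hψ
    rw [Finset.mem_filter] at hψ
    have : (ψ : L → ℂ) x = (ψ : L → ℂ) 1 := by
      by_contra hne
      exact hψ.2 ⟨x, hx, hne⟩
    rw [this, IsCharacter.conj_apply_one (IsIrrCharacter.isCharacter ψ.2), sq]
  rw [h2] at h0
  exact eq_sub_of_add_eq h0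

/-- Counting: `t * e + 1 = |H|`. -/
theorem exc_card_mul [hK : (H.subgroupOf L).Normal] [Fintype (ExcIdx H L)]
    (hHL : H ≤ L)
    (hcent : ∀ h ∈ H, h ≠ 1 → ∀ x ∈ L, x * h = h * x → x ∈ H)
    (hab : ∀ a ∈ H, ∀ b ∈ H, a * b = b * a) :
    Fintype.card (ExcIdx H L) * (H.subgroupOf L).index + 1 = Nat.card H := by
  classical
  haveI : Fintype (IrrCharacter L) := Fintype.ofFinite _
  have h0 := sum_irr_degree_sq (G := L)
  rw [sum_irr_split H L, sum_triv_degree_sq H L] at h0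
  have h1 : ∑ θ : ExcIdx H L, (θ.1 : L → ℂ) 1 ^ 2
      = (Fintype.card (ExcIdx H L) : ℂ) * ((H.subgroupOf L).index : ℂ) ^ 2 := by
    rw [Finset.sum_congr rfl (fun θ _ => by rw [(excIdx_props H L hcent hab θ).1])]
    rw [Finset.sum_const, Finset.card_univ, nsmul_eq_mul]
  rw [h1] at h0
  have hci := Subgroup.card_mul_index (H.subgroupOf L)
  rw [Nat.card_congr (Subgroup.subgroupOfEquivOfLe hHL).toEquiv] at hci
  have hidx : (H.subgroupOf L).index ≠ 0 := Subgroup.index_ne_zero_of_finite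
  have h2 : (Fintype.card (ExcIdx H L) * (H.subgroupOf L).index + 1) * (H.subgroupOf L).index
      = Nat.card H * (H.subgroupOf L).index := by
    have : ((Fintype.card (ExcIdx H L) * (H.subgroupOf L).index + 1) * (H.subgroupOf L).index : ℂ)
        = (Nat.card H : ℂ) * ((H.subgroupOf L).index : ℂ) := by
      have hci' : (Nat.card H : ℂ) * ((H.subgroupOf L).index : ℂ) = (Nat.card L : ℂ) := by
        exact_mod_cast hci
      rw [hci', ← h0]
      ring
    exact_mod_cast this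
  exact Nat.eq_of_mul_eq_mul_right (Nat.pos_of_ne_zero hidx) h2

end ExcDegree

end Cfsg.Agent.Lib.Helper11
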