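import Cfsg.Agent.Lib.Helper11.ExcDegree

/-!
Exceptional characters, part 2: restriction of characters of `G` to `L` and values on `H ∖ 1`.
-/

set_option autoImplicit false

namespace Cfsg.Agent.Lib.Helper11

open Cfsg
open Cfsg.Agent.Lib.Helper2
open Cfsg.Agent.S1522
open scoped ComplexConjugate

section ExcDegree2

variable {G : Type*} [Group G] [Fintype G] (H L : Subgroup G) [Fintype L]

/-- Values on `H` of the restriction to `L` of a character of `G`. -/
theorem exc_restrict_apply [Fintype (ExcIdx H L)]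
    {χ : G → ℂ} (hχ : IsCharacter G χ) :
    ∃ A : ℕ, ∀ x : L, (x : G) ∈ H →
      χ x = (A : ℂ) + ∑ θ : ExcIdx H L,
        classInner (fun l : L => χ l) (θ.1 : L → ℂ) * (θ.1 : L → ℂ) x := by
  classical
  haveI : Fintype (IrrCharacter L) := Fintype.ofFinite _
  have hψ₀ : IsCharacter L (fun l : L => χ l) := IsCharacter.restrict hχ L
  have hexp := classFunction_expansion (fun l : L => χ l) (IsCharacter.isClassFunction hψ₀)
  choose a ha using fun ψ : IrrCharacter L => IsCharacter.inner_irr_nat hψ₀ ψ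
  choose dd hdd using fun ψ : IrrCharacter L => IsIrrCharacter.apply_one ψ.2
  refine ⟨∑ ψ ∈ Finset.univ.filter (fun ψ : IrrCharacter L =>
      ¬ ∃ k : L, (k : G) ∈ H ∧ (ψ : L → ℂ) k ≠ (ψ : L → ℂ) 1), a ψ * dd ψ, ?_⟩
  intro x hx
  have h1 := congrFun hexp x
  simp only [Finset.sum_apply, Pi.smul_apply, smul_eq_mul] at h1
  rw [sum_irr_split H L
    (fun ψ => classInner (fun l : L => χ l) (ψ : L → ℂ) * (ψ : L → ℂ) x)] at h1
  rw [h1, add_comm]
  congr 1
  push_cast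
  apply Finset.sum_congr rfl
  intro ψ hψ
  rw [Finset.mem_filter] at hψ
  have : (ψ : L → ℂ) x = (ψ : L → ℂ) 1 := by
    by_contra hne
    exact hψ.2 ⟨x, hx, hne⟩
  rw [this, ha ψ, (hdd ψ).2]

/-- Frobenius reciprocity applied to the signed family. -/
theorem exc_inner_diff [DecidableEq (IrrCharacter G)] (ε : ℂ) (f : ExcIdx H L → IrrCharacter G)
    (hε : ε = 1 ∨ ε = -1)
    (hf : ∀ χ ξ : ExcIdx H L, indFun L ((χ.1 : L → ℂ) - (ξ.1 : L → ℂ))
      = ε • ((f χ : G → ℂ) - (f ξ : G → ℂ)))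
    (χ : IrrCharacter G) (θ θ' : ExcIdx H L) :
    classInner (fun l : L => (χ : G → ℂ) l) (θ.1 : L → ℂ)
        - classInner (fun l : L => (χ : G → ℂ) l) (θ'.1 : L → ℂ)
      = ε * ((if χ = f θ then 1 else 0) - (if χ = f θ' then 1 else 0)) := by
  have h1 := classInner_indFun_right L ((θ.1 : L → ℂ) - (θ'.1 : L → ℂ)) (χ : G → ℂ)
    (IrrCharacter.isClassFunction χ)
  rw [classInner_sub_right] at h1
  rw [← h1, hf θ θ', classInner_smul_right, classInner_sub_right, classInner_irrCharacter,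
    classInner_irrCharacter]
  rcases hε with h | h <;> rw [h] <;> simp

/-- Values on `H ∖ 1` of an irreducible character of `G`, relative to a base index `θ₂` with
`χ ≠ f θ₂`. -/
theorem exc_value [hK : (H.subgroupOf L).Normal] [Fintype (ExcIdx H L)]
    [DecidableEq (IrrCharacter G)]
    (hcent : ∀ h ∈ H, h ≠ 1 → ∀ x ∈ L, x * h = h * x → x ∈ H)
    (hab : ∀ a ∈ H, ∀ b ∈ H, a * b = b * a)
    (ε : ℂ) (f : ExcIdx H L → IrrCharacter G) (hε : ε = 1 ∨ ε = -1)
    (hf : ∀ χ ξ : ExcIdx H L, indFun L ((χ.1 : L → ℂ) - (ξ.1 : L → ℂ))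
      = ε • ((f χ : G → ℂ) - (f ξ : G → ℂ)))
    (χ : IrrCharacter G) (θ₂ : ExcIdx H L) (hχ : χ ≠ f θ₂) :
    ∃ n : ℤ, ∀ x : L, (x : G) ∈ H → x ≠ 1 →
      (χ : G → ℂ) x = (n : ℂ)
        + ε * ∑ θ : ExcIdx H L, if χ = f θ then (θ.1 : L → ℂ) x else 0 := by
  classical
  obtain ⟨A, hA⟩ := exc_restrict_apply H L (IsIrrCharacter.isCharacter χ.2)
  obtain ⟨k, hk⟩ := IsCharacter.inner_irr_nat
    (IsCharacter.restrict (IsIrrCharacter.isCharacter χ.2) L) θ₂.1
  refine ⟨(A : ℤ) - (k : ℤ), ?_⟩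
  intro x hx hx1
  rw [hA x hx]
  have hc : ∀ θ : ExcIdx H L, classInner (fun l : L => (χ : G → ℂ) l) (θ.1 : L → ℂ)
      = (k : ℂ) + ε * (if χ = f θ then 1 else 0) := by
    intro θ
    have h := exc_inner_diff H L ε f hε hf χ θ θ₂
    rw [if_neg hχ, sub_zero, hk] at h
    rw [← h]
    ring
  rw [Finset.sum_congr rfl (fun θ _ => by rw [hc θ])]
  have hsplit : ∀ θ : ExcIdx H L,
      ((k : ℂ) + ε * (if χ = f θ then 1 else 0)) * (θ.1 : L → ℂ) x
        = (k : ℂ) * (θ.1 : L → ℂ) x + ε * (if χ = f θ then (θ.1 : L → ℂ) x else 0) := by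
    intro θ
    by_cases h : χ = f θ
    · rw [if_pos h, if_pos h]; ring
    · rw [if_neg h, if_neg h]; ring
  rw [Finset.sum_congr rfl (fun θ _ => hsplit θ), Finset.sum_add_distrib, ← Finset.mul_sum,
    ← Finset.mul_sum, exc_sum_apply H L hcent hab x hx hx1]
  push_cast
  ring

end ExcDegree2

end Cfsg.Agent.Lib.Helper11
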