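import Cfsg.Agent.Lib.Helper11.ExcDegree2

/-!
Exceptional characters, part 3: the main theorem (values, norm relation, degree equation).
-/

set_option autoImplicit false

namespace Cfsg.Agent.Lib.Helper11

open Cfsg
open Cfsg.Agent.Lib.Helper2
open Cfsg.Agent.S1522
open scoped ComplexConjugate

section ExcDegree3

variable {G : Type*} [Group G] [Fintype G] (H L : Subgroup G) [Fintype L]

/-- The centraliser in `G` of `x ∈ H ∖ 1` is `H`. -/
theorem centralizer_eq_of_TI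
    (hcent : ∀ h ∈ H, h ≠ 1 → ∀ x ∈ L, x * h = h * x → x ∈ H)
    (hTI : IsTISubset (H : Set G)) (hN : Subgroup.normalizer (H : Set G) = L)
    (hab : ∀ a ∈ H, ∀ b ∈ H, a * b = b * a) (x : G) (hx : x ∈ H) (hx1 : x ≠ 1) :
    Subgroup.centralizer ({x} : Set G) = H := by
  ext y
  rw [Subgroup.mem_centralizer_iff]
  constructor
  · intro hy
    have hyx : y * x = x * y := (hy x (Set.mem_singleton x)).symm
    have hyL : y ∈ L := by
      by_contra hyL
      apply hx1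
      apply hTI y (by rw [hN]; exact hyL) x hx
      rw [hyx, mul_inv_cancel_right]
      exact hx
    exact hcent x hx hx1 y hyL hyx
  · intro hy z hz
    rw [Set.mem_singleton_iff] at hz
    subst hz
    exact hab _ hx _ hy

/-- Values of the exceptional characters on `H ∖ 1`. -/
theorem exc_exceptional_value [hK : (H.subgroupOf L).Normal] [Fintype (ExcIdx H L)]
    [DecidableEq (IrrCharacter G)]
    (hcent : ∀ h ∈ H, h ≠ 1 → ∀ x ∈ L, x * h = h * x → x ∈ H)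
    (hab : ∀ a ∈ H, ∀ b ∈ H, a * b = b * a)
    (ε : ℂ) (f : ExcIdx H L → IrrCharacter G) (hε : ε = 1 ∨ ε = -1)
    (hinj : Function.Injective f)
    (hf : ∀ χ ξ : ExcIdx H L, indFun L ((χ.1 : L → ℂ) - (ξ.1 : L → ℂ))
      = ε • ((f χ : G → ℂ) - (f ξ : G → ℂ)))
    (θ₁ θ₂ : ExcIdx H L) (h12 : θ₂ ≠ θ₁) :
    ∃ n : ℤ, ∀ x : L, (x : G) ∈ H → x ≠ 1 →
      (f θ₁ : G → ℂ) x = (n : ℂ) + ε * (θ₁.1 : L → ℂ) x := by
  have hne : f θ₁ ≠ f θ₂ := fun h => h12 (hinj h).symm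
  obtain ⟨n, hn⟩ := exc_value H L hcent hab ε f hε hf (f θ₁) θ₂ hne
  refine ⟨n, fun x hx hx1 => ?_⟩
  rw [hn x hx hx1, Finset.sum_eq_single θ₁]
  · rw [if_pos rfl]
  · intro θ _ hθ
    rw [if_neg]
    intro h
    exact hθ (hinj h).symm
  · intro h
    exact absurd (Finset.mem_univ θ₁) h

/-- Induction of a difference of exceptional characters of `L`, evaluated on `H ∖ 1`. -/
theorem exc_ind_apply [hK : (H.subgroupOf L).Normal]
    (hcent : ∀ h ∈ H, h ≠ 1 → ∀ x ∈ L, x * h = h * x → x ∈ H)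
    (hTI : IsTISubset (H : Set G)) (hN : Subgroup.normalizer (H : Set G) = L)
    (hab : ∀ a ∈ H, ∀ b ∈ H, a * b = b * a)
    (θ₁ θ₂ : ExcIdx H L) (x : L) (hx : (x : G) ∈ H) (hx1 : (x : G) ≠ 1) :
    indFun L ((θ₁.1 : L → ℂ) - (θ₂.1 : L → ℂ)) (x : G)
      = (θ₁.1 : L → ℂ) x - (θ₂.1 : L → ℂ) x := by
  have hclass : IsClassFunction L ((θ₁.1 : L → ℂ) - (θ₂.1 : L → ℂ)) :=
    isClassFunction_sub (IrrCharacter.isClassFunction θ₁.1) (IrrCharacter.isClassFunction θ₂.1)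
  have hvanish : ∀ l : L, (l : G) ∉ {g : G | g ∈ H ∧ g ≠ 1} →
      ((θ₁.1 : L → ℂ) - (θ₂.1 : L → ℂ)) l = 0 := by
    intro l hl
    rw [Pi.sub_apply]
    by_cases hlH : (l : G) ∈ H
    · have hl1 : l = 1 := by
        by_contra hne
        exact hl ⟨hlH, fun h => hne (Subtype.ext h)⟩
      rw [hl1, (excIdx_props H L hcent hab θ₁).1, (excIdx_props H L hcent hab θ₂).1, sub_self]
    · rw [(excIdx_props H L hcent hab θ₁).2 l hlH, (excIdx_props H L hcent hab θ₂).2 l hlH,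
        sub_self]
  have h := indFun_apply_of_TI L {g : G | g ∈ H ∧ g ≠ 1} (ti_fusion H L hTI hN)
    ((θ₁.1 : L → ℂ) - (θ₂.1 : L → ℂ)) hclass hvanish x ⟨hx, hx1⟩
  rw [h, Pi.sub_apply]

end ExcDegree3

end Cfsg.Agent.Lib.Helper11
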