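import Cfsg.Agent.Lib.Helper11.ExcDegree3

/-!
Exceptional characters, part 4: the main theorem (values, norm relation, degree equation).
-/

set_option autoImplicit false

namespace Cfsg.Agent.Lib.Helper11

open Cfsg
open Cfsg.Agent.Lib.Helper2
open Cfsg.Agent.S1522
open scoped ComplexConjugate

section ExcDegree4

variable {G : Type*} [Group G] [Fintype G] (H L : Subgroup G) [Fintype L]

/-- Congruence for a character constant on `H ∖ 1`. -/
theorem dvd_degree_sub_of_const {χ : G → ℂ} (hχ : IsCharacter G χ) (d : ℕ) (m : ℤ)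
    (hd : χ 1 = (d : ℂ)) (hm : ∀ g ∈ H, g ≠ 1 → χ g = (m : ℂ)) :
    (Nat.card H : ℤ) ∣ (d : ℤ) - m := by
  classical
  haveI : Fintype H := Fintype.ofFinite _
  obtain ⟨n, hn⟩ := IsCharacter.inner_irr_nat (IsCharacter.restrict hχ H) (trivialIrr H)
  rw [classInner_def] at hn
  have hsum : ∑ h : H, χ (h : G) * conj ((trivialIrr H : H → ℂ) h)
      = (d : ℂ) + ((Nat.card H : ℂ) - 1) * (m : ℂ) := by
    have h1 : ∀ h : H, χ (h : G) * conj ((trivialIrr H : H → ℂ) h)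
        = if h = 1 then (d : ℂ) else (m : ℂ) := by
      intro h
      have : (trivialIrr H : H → ℂ) h = 1 := rfl
      rw [this, map_one, mul_one]
      by_cases hh : h = 1
      · rw [if_pos hh, hh]
        simpa using hd
      · rw [if_neg hh]
        exact hm (h : G) h.2 (fun h' => hh (Subtype.ext h'))
    rw [Finset.sum_congr rfl (fun h _ => h1 h), ← Finset.add_sum_erase Finset.univ _
      (Finset.mem_univ (1 : H)), if_pos rfl]
    congr 1
    have h2 : ∀ h ∈ Finset.univ.erase (1 : H), (if h = 1 then (d : ℂ) else (m : ℂ)) = (m : ℂ) := by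
      intro h hh
      rw [if_neg (Finset.ne_of_mem_erase hh)]
    rw [Finset.sum_congr rfl h2, Finset.sum_const, Finset.card_erase_of_mem (Finset.mem_univ _),
      Finset.card_univ, nsmul_eq_mul, ← Nat.card_eq_fintype_card]
    have hpos : 1 ≤ Nat.card H := Nat.card_pos
    rw [Nat.cast_sub hpos]
    simp
  rw [hsum] at hn
  have hH0 : (Nat.card H : ℂ) ≠ 0 := by
    have : 0 < Nat.card H := Nat.card_pos
    exact_mod_cast this.ne'
  have h3 : (d : ℂ) + ((Nat.card H : ℂ) - 1) * (m : ℂ) = (Nat.card H : ℂ) * (n : ℂ) := by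
    rw [← hn, ← mul_assoc, mul_inv_cancel₀ hH0, one_mul]
  have h4 : (d : ℤ) + ((Nat.card H : ℤ) - 1) * m = (Nat.card H : ℤ) * (n : ℤ) := by
    exact_mod_cast h3
  refine ⟨(n : ℤ) - m, ?_⟩
  linarith

/-- **Brauer–Suzuki exceptional characters**: `H` an abelian TI-subgroup of `G` whose normaliser
`L` is a Frobenius group with kernel `H`, with at least two irreducible characters of `L`
nontrivial on `H`. -/
theorem exc_degree_main
    (hHn : ∀ x ∈ L, ∀ h ∈ H, x * h * x⁻¹ ∈ H)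
    (hcent : ∀ h ∈ H, h ≠ 1 → ∀ x ∈ L, x * h = h * x → x ∈ H)
    (hTI : IsTISubset (H : Set G)) (hN : Subgroup.normalizer (H : Set G) = L)
    (hab : ∀ a ∈ H, ∀ b ∈ H, a * b = b * a)
    (ht : 2 ≤ Nat.card (ExcIdx H L)) :
    ∃ (ε m₀ : ℤ) (x₀ : ℕ) (E Nz : Finset (IrrCharacter G)) (m : IrrCharacter G → ℤ)
      (d : IrrCharacter G → ℕ),
      (ε = 1 ∨ ε = -1) ∧ E.card = Nat.card (ExcIdx H L) ∧
      (∀ χ : IrrCharacter G, (χ : G → ℂ) 1 = (d χ : ℂ)) ∧ (∀ Θ ∈ E, d Θ = x₀) ∧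
      trivialIrr G ∉ E ∧ m (trivialIrr G) = 1 ∧
      (∀ χ, χ ∈ Nz ↔ χ ∉ E ∧ m χ ≠ 0) ∧
      (∀ χ ∉ E, ∀ g ∈ H, g ≠ 1 → (χ : G → ℂ) g = (m χ : ℂ)) ∧
      (∀ χ ∉ E, (Nat.card H : ℤ) ∣ (d χ : ℤ) - m χ) ∧
      (∑ χ ∈ Nz, (m χ) ^ 2 + (Nat.card (ExcIdx H L) : ℤ) * m₀ ^ 2 - 2 * ε * m₀
        = ((H.subgroupOf L).index : ℤ)) ∧
      (∑ χ ∈ Nz, m χ * (d χ : ℤ) + ((Nat.card (ExcIdx H L) : ℤ) * m₀ - ε) * (x₀ : ℤ) = 0) ∧
      Nat.card (ExcIdx H L) * (H.subgroupOf L).index + 1 = Nat.card H := by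
  classical
  haveI : Fintype (IrrCharacter G) := Fintype.ofFinite _
  haveI : Fintype (IrrCharacter L) := Fintype.ofFinite _
  haveI : Fintype (ExcIdx H L) := Fintype.ofFinite _
  have hHL : H ≤ L := by
    rw [← hN]
    exact Subgroup.le_normalizer
  haveI hKn : (H.subgroupOf L).Normal := subgroupOf_normal_of_conj H L hHn
  obtain ⟨ε, f, hε, hinj, hf⟩ := frob_abelian_signed_family H L hHn hcent hTI hN hab
  have htc : Fintype.card (ExcIdx H L) = Nat.card (ExcIdx H L) := Nat.card_eq_fintype_card.symm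
  have hcount := exc_card_mul H L hHL hcent hab
  rw [htc] at hcount
  -- two distinct indices
  obtain ⟨θa, θb, hab'⟩ : ∃ θa θb : ExcIdx H L, θa ≠ θb := by
    apply Fintype.exists_pair_of_one_lt_card
    rw [htc]
    omega
  have hother : ∀ θ₁ : ExcIdx H L, ∃ θ₂ : ExcIdx H L, θ₂ ≠ θ₁ := by
    intro θ₁
    by_cases h : θ₁ = θa
    · exact ⟨θb, by rw [h]; exact hab'.symm⟩
    · exact ⟨θa, fun h' => h h'.symm⟩
  -- an element of `H ∖ 1`
  obtain ⟨x, hxH, hx1⟩ : ∃ x : L, (x : G) ∈ H ∧ x ≠ 1 := by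
    obtain ⟨k, hk, hne⟩ := θa.2
    refine ⟨k, hk, ?_⟩
    rintro rfl
    exact hne rfl
  have hx1' : (x : G) ≠ 1 := fun h => hx1 (Subtype.ext h)
  -- integer sign
  obtain ⟨εZ, hεZ, rfl⟩ : ∃ εZ : ℤ, (εZ = 1 ∨ εZ = -1) ∧ ε = (εZ : ℂ) := by
    rcases hε with h | h
    · exact ⟨1, Or.inl rfl, by rw [h]; simp⟩
    · exact ⟨-1, Or.inr rfl, by rw [h]; simp⟩
  have hεsq : ((εZ : ℂ)) * (εZ : ℂ) = 1 := by
    rcases hεZ with h | h <;> rw [h] <;> simp
  have hε0 : (εZ : ℂ) ≠ 0 := by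
    intro h
    rw [h, mul_zero] at hεsq
    exact zero_ne_one hεsq
  have hεconj : conj (εZ : ℂ) = (εZ : ℂ) := map_intCast _ _
  -- degrees
  choose d hd using fun χ : IrrCharacter G => IsIrrCharacter.apply_one χ.2
  have hd' : ∀ χ : IrrCharacter G, (χ : G → ℂ) 1 = (d χ : ℂ) := fun χ => (hd χ).2
  -- values of the exceptional characters
  choose n₀ hn₀ using fun θ₁ : ExcIdx H L =>
    exc_exceptional_value H L hcent hab (εZ : ℂ) f hε hinj hf θ₁ (hother θ₁).choose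
      (hother θ₁).choose_spec
  have hindep : ∀ θ₁ θ₂ : ExcIdx H L, n₀ θ₁ = n₀ θ₂ := by
    intro θ₁ θ₂
    have h1 := congrFun (hf θ₁ θ₂) (x : G)
    rw [exc_ind_apply H L hcent hTI hN hab θ₁ θ₂ x hxH hx1', Pi.smul_apply, Pi.sub_apply,
      hn₀ θ₁ x hxH hx1, hn₀ θ₂ x hxH hx1, smul_eq_mul] at h1
    have h2 : (εZ : ℂ) * (((n₀ θ₁ : ℤ) : ℂ) - ((n₀ θ₂ : ℤ) : ℂ)) = 0 := by
      have : (εZ : ℂ) * (((n₀ θ₁ : ℤ) : ℂ) + (εZ : ℂ) * (θ₁.1 : L → ℂ) x
          - (((n₀ θ₂ : ℤ) : ℂ) + (εZ : ℂ) * (θ₂.1 : L → ℂ) x))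
          = (εZ : ℂ) * (((n₀ θ₁ : ℤ) : ℂ) - ((n₀ θ₂ : ℤ) : ℂ))
            + ((εZ : ℂ) * (εZ : ℂ)) * ((θ₁.1 : L → ℂ) x - (θ₂.1 : L → ℂ) x) := by ring
      rw [this, hεsq, one_mul] at h1
      linear_combination -h1
    rcases mul_eq_zero.1 h2 with h | h
    · exact absurd h hε0
    · have h3 : ((n₀ θ₁ : ℤ) : ℂ) = ((n₀ θ₂ : ℤ) : ℂ) := sub_eq_zero.1 h
      exact_mod_cast h3
  -- equal degrees
  have hdeg : ∀ θ₁ θ₂ : ExcIdx H L, d (f θ₁) = d (f θ₂) := by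
    intro θ₁ θ₂
    have h1 := congrFun (hf θ₁ θ₂) 1
    rw [indFun_apply_one, Pi.sub_apply, (excIdx_props H L hcent hab θ₁).1,
      (excIdx_props H L hcent hab θ₂).1, sub_self, mul_zero, Pi.smul_apply, Pi.sub_apply,
      smul_eq_mul, hd' (f θ₁), hd' (f θ₂)] at h1
    rcases mul_eq_zero.1 h1.symm with h | h
    · exact absurd h hε0
    · have h3 : ((d (f θ₁) : ℕ) : ℂ) = ((d (f θ₂) : ℕ) : ℂ) := sub_eq_zero.1 h
      exact_mod_cast h3
  -- the exceptional set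
  have hEcard : (Finset.univ.image f).card = Nat.card (ExcIdx H L) := by
    rw [Finset.card_image_of_injective _ hinj, Finset.card_univ, htc]
  have hfE : ∀ θ : ExcIdx H L, f θ ∈ Finset.univ.image f :=
    fun θ => Finset.mem_image_of_mem f (Finset.mem_univ θ)
  -- nonexceptional values
  have hnon : ∀ χ : IrrCharacter G, ∃ n : ℤ, χ ∉ Finset.univ.image f →
      ∀ g ∈ H, g ≠ 1 → (χ : G → ℂ) g = (n : ℂ) := by
    intro χ
    by_cases hχ : χ ∈ Finset.univ.image f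
    · exact ⟨0, fun h => absurd hχ h⟩
    · have hne : χ ≠ f θa := fun h => hχ (h ▸ hfE θa)
      obtain ⟨n, hn⟩ := exc_value H L hcent hab (εZ : ℂ) f hε hf χ θa hne
      refine ⟨n, fun _ g hg hg1 => ?_⟩
      have h1 := hn ⟨g, hHL hg⟩ hg (fun h => hg1 (by simpa using congrArg Subtype.val h))
      rw [Finset.sum_eq_zero, mul_zero, add_zero] at h1
      · exact h1
      · intro θ _
        rw [if_neg]
        intro h
        exact hχ (h ▸ hfE θ)
  choose m hm using hnon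
  -- the trivial character is not exceptional
  have htriv : trivialIrr G ∉ Finset.univ.image f := by
    intro hE
    obtain ⟨θ₁, -, hθ₁⟩ := Finset.mem_image.1 hE
    obtain ⟨θ₂, h2⟩ := hother θ₁
    have h := exc_inner_diff H L (εZ : ℂ) f hε hf (trivialIrr G) θ₁ θ₂
    have hzero : ∀ θ : ExcIdx H L,
        classInner (fun l : L => (trivialIrr G : G → ℂ) l) (θ.1 : L → ℂ) = 0 := by
      intro θ
      have h1 : (fun l : L => (trivialIrr G : G → ℂ) l) = (trivialIrr L : L → ℂ) := rfl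
      rw [h1, classInner_irrCharacter, if_neg]
      intro h'
      obtain ⟨k, -, hne⟩ := θ.2
      apply hne
      rw [← h']
      rfl
    rw [hzero θ₁, hzero θ₂, if_pos hθ₁.symm, if_neg, sub_self, sub_zero, mul_one] at h
    · exact hε0 h.symm
    · intro h'
      exact h2 (hinj (h'.symm.trans hθ₁.symm))
  have hmtriv : m (trivialIrr G) = 1 := by
    have h := hm (trivialIrr G) htriv (x : G) hxH hx1'
    have h1 : (trivialIrr G : G → ℂ) (x : G) = 1 := rfl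
    rw [h1] at h
    exact_mod_cast h.symm
  -- the centraliser of `x`
  have hCx : Nat.card (Subgroup.centralizer ({(x : G)} : Set G)) = Nat.card H := by
    rw [centralizer_eq_of_TI H L hcent hTI hN hab (x : G) hxH hx1']
  -- sums over the exceptional index set at `x`
  have hS1 := exc_sum_apply H L hcent hab x hxH hx1
  have hS2 := exc_sum_norm_sq H L hHL hcent hab x hxH hx1
  have hS1c : ∑ θ : ExcIdx H L, conj ((θ.1 : L → ℂ) x) = -1 := by
    rw [← map_sum, hS1]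
    simp
  have hfx : ∀ θ : ExcIdx H L, (f θ : G → ℂ) (x : G)
      = ((n₀ θa : ℤ) : ℂ) + (εZ : ℂ) * (θ.1 : L → ℂ) x := by
    intro θ
    rw [hn₀ θ x hxH hx1, hindep θ θa]
  refine ⟨εZ, n₀ θa, d (f θa), Finset.univ.image f,
    (Finset.univ.image f)ᶜ.filter (fun χ => m χ ≠ 0), m, d, hεZ, hEcard, hd', ?_, htriv, hmtriv,
    ?_, hm, ?_, ?_, ?_, hcount⟩
  · intro Θ hΘ
    obtain ⟨θ, -, rfl⟩ := Finset.mem_image.1 hΘ
    exact hdeg θ θa
  · intro χ
    rw [Finset.mem_filter, Finset.mem_compl]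
  · intro χ hχ
    exact dvd_degree_sub_of_const H (IsIrrCharacter.isCharacter χ.2) (d χ) (m χ) (hd' χ)
      (hm χ hχ)
  · -- norm relation
    have h0 := column_orthogonality (G := G) (x : G) (x : G)
    rw [if_pos (IsConj.refl _), hCx, ← Finset.sum_add_sum_compl (Finset.univ.image f),
      Finset.sum_image (fun a _ b _ h => hinj h)] at h0
    have h1 : ∑ θ : ExcIdx H L, (f θ : G → ℂ) (x : G) * conj ((f θ : G → ℂ) (x : G))
        = (Nat.card (ExcIdx H L) : ℂ) * ((n₀ θa : ℤ) : ℂ) ^ 2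
          - 2 * (εZ : ℂ) * ((n₀ θa : ℤ) : ℂ)
          + ((Nat.card H : ℂ) - ((H.subgroupOf L).index : ℂ)) := by
      have hterm : ∀ θ : ExcIdx H L, (f θ : G → ℂ) (x : G) * conj ((f θ : G → ℂ) (x : G))
          = ((n₀ θa : ℤ) : ℂ) ^ 2
            + (εZ : ℂ) * ((n₀ θa : ℤ) : ℂ) * (θ.1 : L → ℂ) x
            + (εZ : ℂ) * ((n₀ θa : ℤ) : ℂ) * conj ((θ.1 : L → ℂ) x)
            + (θ.1 : L → ℂ) x * conj ((θ.1 : L → ℂ) x) := by
        intro θ
        rw [hfx θ, map_add, map_mul, hεconj, map_intCast]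
        linear_combination ((θ.1 : L → ℂ) x * conj ((θ.1 : L → ℂ) x)) * hεsq
      rw [Finset.sum_congr rfl (fun θ _ => hterm θ), Finset.sum_add_distrib,
        Finset.sum_add_distrib, Finset.sum_add_distrib, ← Finset.mul_sum, ← Finset.mul_sum, hS1,
        hS1c, hS2, Finset.sum_const, Finset.card_univ, htc, nsmul_eq_mul]
      ring
    have h2 : ∑ χ ∈ (Finset.univ.image f)ᶜ, (χ : G → ℂ) (x : G) * conj ((χ : G → ℂ) (x : G))
        = ∑ χ ∈ (Finset.univ.image f)ᶜ.filter (fun χ => m χ ≠ 0), ((m χ : ℤ) : ℂ) ^ 2 := by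
      rw [Finset.sum_filter_of_ne]
      · apply Finset.sum_congr rfl
        intro χ hχ
        rw [Finset.mem_compl] at hχ
        rw [hm χ hχ (x : G) hxH hx1', map_intCast, sq]
      · intro χ _ hne h0
        apply hne
        rw [h0]
        simp
    rw [h1, h2] at h0
    have h3 : (∑ χ ∈ (Finset.univ.image f)ᶜ.filter (fun χ => m χ ≠ 0), ((m χ : ℤ) : ℂ) ^ 2)
        + (Nat.card (ExcIdx H L) : ℂ) * ((n₀ θa : ℤ) : ℂ) ^ 2
        - 2 * (εZ : ℂ) * ((n₀ θa : ℤ) : ℂ) = ((H.subgroupOf L).index : ℂ) := by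
      linear_combination h0
    exact_mod_cast h3
  · -- degree equation
    have h0 := column_orthogonality (G := G) (x : G) 1
    rw [if_neg (fun h => hx1' (isConj_one_left.1 h)),
      ← Finset.sum_add_sum_compl (Finset.univ.image f),
      Finset.sum_image (fun a _ b _ h => hinj h)] at h0
    have h1 : ∑ θ : ExcIdx H L, (f θ : G → ℂ) (x : G) * conj ((f θ : G → ℂ) 1)
        = ((Nat.card (ExcIdx H L) : ℂ) * ((n₀ θa : ℤ) : ℂ) - (εZ : ℂ)) * (d (f θa) : ℂ) := by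
      have hterm : ∀ θ : ExcIdx H L, (f θ : G → ℂ) (x : G) * conj ((f θ : G → ℂ) 1)
          = ((n₀ θa : ℤ) : ℂ) * (d (f θa) : ℂ)
            + (εZ : ℂ) * (d (f θa) : ℂ) * (θ.1 : L → ℂ) x := by
        intro θ
        rw [hfx θ, hd' (f θ), hdeg θ θa, Complex.conj_natCast]
        ring
      rw [Finset.sum_congr rfl (fun θ _ => hterm θ), Finset.sum_add_distrib, Finset.sum_const,
        Finset.card_univ, htc, nsmul_eq_mul, ← Finset.mul_sum, hS1]
      ring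
    have h2 : ∑ χ ∈ (Finset.univ.image f)ᶜ, (χ : G → ℂ) (x : G) * conj ((χ : G → ℂ) 1)
        = ∑ χ ∈ (Finset.univ.image f)ᶜ.filter (fun χ => m χ ≠ 0),
          ((m χ : ℤ) : ℂ) * ((d χ : ℕ) : ℂ) := by
      rw [Finset.sum_filter_of_ne]
      · apply Finset.sum_congr rfl
        intro χ hχ
        rw [Finset.mem_compl] at hχ
        rw [hm χ hχ (x : G) hxH hx1', hd' χ, Complex.conj_natCast]
      · intro χ _ hne h0
        apply hne
        rw [h0]
        simp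
    rw [h1, h2] at h0
    have h3 : (∑ χ ∈ (Finset.univ.image f)ᶜ.filter (fun χ => m χ ≠ 0),
          ((m χ : ℤ) : ℂ) * ((d χ : ℕ) : ℂ))
        + ((Nat.card (ExcIdx H L) : ℂ) * ((n₀ θa : ℤ) : ℂ) - (εZ : ℂ)) * (d (f θa) : ℂ) = 0 := by
      linear_combination h0
    exact_mod_cast h3

/-- The case `t ≥ e + 2` of the exceptional character theory: the exceptional characters take the
values `ε θ` on `H ∖ 1`, and their common degree is `ε (1 + Σ_T m_χ χ(1))` where `T` is a set of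
nonprincipal irreducible characters with nonzero constant integer values `m_χ` on `H ∖ 1` whose
squares sum to `e - 1`. -/
theorem exc_degree_small
    (hHn : ∀ x ∈ L, ∀ h ∈ H, x * h * x⁻¹ ∈ H)
    (hcent : ∀ h ∈ H, h ≠ 1 → ∀ x ∈ L, x * h = h * x → x ∈ H)
    (hTI : IsTISubset (H : Set G)) (hN : Subgroup.normalizer (H : Set G) = L)
    (hab : ∀ a ∈ H, ∀ b ∈ H, a * b = b * a)
    (ht : (H.subgroupOf L).index + 2 ≤ Nat.card (ExcIdx H L)) :
    ∃ (ε : ℤ) (Θ : IrrCharacter G) (x₀ : ℕ) (T : Finset (IrrCharacter G))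
      (m : IrrCharacter G → ℤ) (d : IrrCharacter G → ℕ),
      (ε = 1 ∨ ε = -1) ∧ (Θ : G → ℂ) 1 = (x₀ : ℂ) ∧
      (∀ χ : IrrCharacter G, (χ : G → ℂ) 1 = (d χ : ℂ)) ∧ trivialIrr G ∉ T ∧
      (∀ χ ∈ T, m χ ≠ 0 ∧ (Nat.card H : ℤ) ∣ (d χ : ℤ) - m χ ∧
        ∀ g ∈ H, g ≠ 1 → (χ : G → ℂ) g = (m χ : ℂ)) ∧
      (∑ χ ∈ T, (m χ) ^ 2 + 1 = ((H.subgroupOf L).index : ℤ)) ∧
      ((x₀ : ℤ) = ε * (1 + ∑ χ ∈ T, m χ * (d χ : ℤ))) ∧
      Nat.card (ExcIdx H L) * (H.subgroupOf L).index + 1 = Nat.card H := by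
  classical
  obtain ⟨ε, m₀, x₀, E, Nz, m, d, hε, hEcard, hd, hEdeg, htriv, hmtriv, hNz, hval, hdvd, hnorm,
    hdegeq, hcount⟩ := exc_degree_main H L hHn hcent hTI hN hab (by omega)
  have hεsq : ε * ε = 1 := by
    rcases hε with h | h <;> rw [h] <;> norm_num
  have htrivNz : trivialIrr G ∈ Nz := by
    rw [hNz]
    exact ⟨htriv, by rw [hmtriv]; exact one_ne_zero⟩
  have hd1 : d (trivialIrr G) = 1 := by
    have h := hd (trivialIrr G)
    have h1 : (trivialIrr G : G → ℂ) 1 = 1 := rfl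
    rw [h1] at h
    exact_mod_cast h.symm
  rw [← Finset.add_sum_erase Nz _ htrivNz, hmtriv] at hnorm hdegeq
  have hsq_nonneg : 0 ≤ ∑ χ ∈ Nz.erase (trivialIrr G), (m χ) ^ 2 :=
    Finset.sum_nonneg (fun χ _ => sq_nonneg _)
  -- `m₀ = 0`
  have hm₀ : m₀ = 0 := by
    by_contra hne
    have h1 : 1 ≤ m₀ ^ 2 := by
      have : 0 < m₀ ^ 2 := by positivity
      omega
    have h2 : 0 ≤ m₀ * (m₀ - 1) := by
      rcases le_or_gt m₀ 0 with h | h <;> nlinarith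
    have h3 : 0 ≤ m₀ * (m₀ + 1) := by
      rcases le_or_gt m₀ (-1) with h | h <;> nlinarith
    have ht' : ((H.subgroupOf L).index : ℤ) + 2 ≤ (Nat.card (ExcIdx H L) : ℤ) := by
      exact_mod_cast ht
    rcases hε with h | h <;> rw [h] at hnorm <;> nlinarith
  rw [hm₀] at hnorm hdegeq
  have hEne : E.Nonempty := by
    rw [← Finset.card_pos, hEcard]
    omega
  obtain ⟨Θ, hΘ⟩ := hEne
  refine ⟨ε, Θ, x₀, Nz.erase (trivialIrr G), m, d, hε, ?_, hd, Finset.notMem_erase _ _, ?_, ?_, ?_,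
    hcount⟩
  · rw [hd Θ, hEdeg Θ hΘ]
  · intro χ hχ
    have hχNz := Finset.mem_of_mem_erase hχ
    rw [hNz] at hχNz
    exact ⟨hχNz.2, hdvd χ hχNz.1, hval χ hχNz.1⟩
  · linarith
  · rw [hd1] at hdegeq
    have h1 : ε * (x₀ : ℤ) = 1 + ∑ χ ∈ Nz.erase (trivialIrr G), m χ * (d χ : ℤ) := by
      push_cast at hdegeq
      linarith
    calc (x₀ : ℤ) = (ε * ε) * (x₀ : ℤ) := by rw [hεsq, one_mul]
      _ = ε * (ε * (x₀ : ℤ)) := by ring
      _ = ε * (1 + ∑ χ ∈ Nz.erase (trivialIrr G), m χ * (d χ : ℤ)) := by rw [h1]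

end ExcDegree4

end Cfsg.Agent.Lib.Helper11
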