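import Cfsg.Agent.Lib.Helper11.ExcDegree4

/-!
Exceptional characters, part 5: the main theorem with the exceptional family exposed
(requested by helper21 for the Brauer-Suzuki class-algebra counts).
-/

set_option autoImplicit false

namespace Cfsg.Agent.Lib.Helper11

open Cfsg
open Cfsg.Agent.Lib.Helper2
open Cfsg.Agent.S1522
open scoped ComplexConjugate

section ExcDegree5

variable {G : Type*} [Group G] [Fintype G] (H L : Subgroup G) [Fintype L]

/-- The induced function of a difference of exceptional characters of `L` vanishes at every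
element of `G` none of whose conjugates lies in `H`. -/
theorem exc_ind_apply_off [hK : (H.subgroupOf L).Normal]
    (hcent : ∀ h ∈ H, h ≠ 1 → ∀ x ∈ L, x * h = h * x → x ∈ H)
    (hab : ∀ a ∈ H, ∀ b ∈ H, a * b = b * a)
    (θ₁ θ₂ : ExcIdx H L) (g : G) (hg : ∀ k : G, k * g * k⁻¹ ∉ H) :
    indFun L ((θ₁.1 : L → ℂ) - (θ₂.1 : L → ℂ)) g = 0 := by
  rw [indFun_apply, Finset.sum_eq_zero, mul_zero]
  intro x _
  by_cases hx : x⁻¹ * g * x ∈ L
  · rw [extendByZero_of_mem L _ hx, Pi.sub_apply]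
    have hnH : ((⟨x⁻¹ * g * x, hx⟩ : L) : G) ∉ H := by
      have := hg x⁻¹
      rwa [inv_inv] at this
    rw [(excIdx_props H L hcent hab θ₁).2 _ hnH, (excIdx_props H L hcent hab θ₂).2 _ hnH,
      sub_self]
  · exact extendByZero_of_not_mem L _ hx

/-- **Brauer–Suzuki exceptional characters, exposed family**: as `exc_degree_main`, but the
exceptional family `f : ExcIdx H L → IrrCharacter G` is part of the conclusion, together with the
values of `f θ` on `H ∖ 1` and the fact that all `f θ` agree at every element of `G` having no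
conjugate in `H`. -/
theorem exc_degree_main2
    (hHn : ∀ x ∈ L, ∀ h ∈ H, x * h * x⁻¹ ∈ H)
    (hcent : ∀ h ∈ H, h ≠ 1 → ∀ x ∈ L, x * h = h * x → x ∈ H)
    (hTI : IsTISubset (H : Set G)) (hN : Subgroup.normalizer (H : Set G) = L)
    (hab : ∀ a ∈ H, ∀ b ∈ H, a * b = b * a)
    (ht : 2 ≤ Nat.card (ExcIdx H L)) :
    ∃ (ε m₀ : ℤ) (x₀ : ℕ) (f : ExcIdx H L → IrrCharacter G) (Nz : Finset (IrrCharacter G))
      (m : IrrCharacter G → ℤ) (d : IrrCharacter G → ℕ),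
      (ε = 1 ∨ ε = -1) ∧ Function.Injective f ∧
      (∀ χ : IrrCharacter G, (χ : G → ℂ) 1 = (d χ : ℂ)) ∧ (∀ θ : ExcIdx H L, d (f θ) = x₀) ∧
      trivialIrr G ∉ Set.range f ∧ m (trivialIrr G) = 1 ∧
      (∀ χ, χ ∈ Nz ↔ χ ∉ Set.range f ∧ m χ ≠ 0) ∧
      (∀ χ ∉ Set.range f, ∀ g ∈ H, g ≠ 1 → (χ : G → ℂ) g = (m χ : ℂ)) ∧
      (∀ χ ∉ Set.range f, (Nat.card H : ℤ) ∣ (d χ : ℤ) - m χ) ∧
      (∀ θ : ExcIdx H L, ∀ x : L, (x : G) ∈ H → x ≠ 1 →
        (f θ : G → ℂ) x = (m₀ : ℂ) + (ε : ℂ) * (θ.1 : L → ℂ) x) ∧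
      (∀ θ θ' : ExcIdx H L, ∀ g : G, (∀ k : G, k * g * k⁻¹ ∉ H) →
        (f θ : G → ℂ) g = (f θ' : G → ℂ) g) ∧
      (∑ χ ∈ Nz, (m χ) ^ 2 + (Nat.card (ExcIdx H L) : ℤ) * m₀ ^ 2 - 2 * ε * m₀
        = ((H.subgroupOf L).index : ℤ)) ∧
      (∑ χ ∈ Nz, m χ * (d χ : ℤ) + ((Nat.card (ExcIdx H L) : ℤ) * m₀ - ε) * (x₀ : ℤ) = 0) ∧
      Nat.card (ExcIdx H L) * (H.subgroupOf L).index + 1 = Nat.card H := by
  classical
  haveI : Fintype (IrrCharacter G) := Fintype.ofFinite _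
  haveI : Fintype (IrrCharacter L) := Fintype.ofFinite _
  haveI : Fintype (ExcIdx H L) := Fintype.ofFinite _
  have hHL : H ≤ L := by
    rw [← hN]
    exact Subgroup.le_normalizer
  haveI hKn : (H.subgroupOf L).Normal := subgroupOf_normal_of_conj H L hHn
  obtain ⟨ε, f, hε, hinj, hf⟩ := frob_abelian_signed_family H L hHn hcent hTI hN hab
  have htc : Fintype.card (ExcIdx H L) = Nat.card (ExcIdx H L) := Nat.card_eq_fintype_card.symm
  have hcount := exc_card_mul H L hHL hcent hab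
  rw [htc] at hcount
  -- two distinct indices
  obtain ⟨θa, θb, hab'⟩ : ∃ θa θb : ExcIdx H L, θa ≠ θb := by
    apply Fintype.exists_pair_of_one_lt_card
    rw [htc]
    omega
  have hother : ∀ θ₁ : ExcIdx H L, ∃ θ₂ : ExcIdx H L, θ₂ ≠ θ₁ := by
    intro θ₁
    by_cases h : θ₁ = θa
    · exact ⟨θb, by rw [h]; exact hab'.symm⟩
    · exact ⟨θa, fun h' => h h'.symm⟩
  -- an element of `H ∖ 1`
  obtain ⟨x, hxH, hx1⟩ : ∃ x : L, (x : G) ∈ H ∧ x ≠ 1 := by
    obtain ⟨k, hk, hne⟩ := θa.2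
    refine ⟨k, hk, ?_⟩
    rintro rfl
    exact hne rfl
  have hx1' : (x : G) ≠ 1 := fun h => hx1 (Subtype.ext h)
  -- integer sign
  obtain ⟨εZ, hεZ, rfl⟩ : ∃ εZ : ℤ, (εZ = 1 ∨ εZ = -1) ∧ ε = (εZ : ℂ) := by
    rcases hε with h | h
    · exact ⟨1, Or.inl rfl, by rw [h]; simp⟩
    · exact ⟨-1, Or.inr rfl, by rw [h]; simp⟩
  have hεsq : ((εZ : ℂ)) * (εZ : ℂ) = 1 := by
    rcases hεZ with h | h <;> rw [h] <;> simp
  have hε0 : (εZ : ℂ) ≠ 0 := by
    intro h
    rw [h, mul_zero] at hεsq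
    exact zero_ne_one hεsq
  have hεconj : conj (εZ : ℂ) = (εZ : ℂ) := map_intCast _ _
  -- degrees
  choose d hd using fun χ : IrrCharacter G => IsIrrCharacter.apply_one χ.2
  have hd' : ∀ χ : IrrCharacter G, (χ : G → ℂ) 1 = (d χ : ℂ) := fun χ => (hd χ).2
  -- values of the exceptional characters
  choose n₀ hn₀ using fun θ₁ : ExcIdx H L =>
    exc_exceptional_value H L hcent hab (εZ : ℂ) f hε hinj hf θ₁ (hother θ₁).choose
      (hother θ₁).choose_spec
  have hindep : ∀ θ₁ θ₂ : ExcIdx H L, n₀ θ₁ = n₀ θ₂ := by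
    intro θ₁ θ₂
    have h1 := congrFun (hf θ₁ θ₂) (x : G)
    rw [exc_ind_apply H L hcent hTI hN hab θ₁ θ₂ x hxH hx1', Pi.smul_apply, Pi.sub_apply,
      hn₀ θ₁ x hxH hx1, hn₀ θ₂ x hxH hx1, smul_eq_mul] at h1
    have h2 : (εZ : ℂ) * (((n₀ θ₁ : ℤ) : ℂ) - ((n₀ θ₂ : ℤ) : ℂ)) = 0 := by
      have : (εZ : ℂ) * (((n₀ θ₁ : ℤ) : ℂ) + (εZ : ℂ) * (θ₁.1 : L → ℂ) x
          - (((n₀ θ₂ : ℤ) : ℂ) + (εZ : ℂ) * (θ₂.1 : L → ℂ) x))
          = (εZ : ℂ) * (((n₀ θ₁ : ℤ) : ℂ) - ((n₀ θ₂ : ℤ) : ℂ))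
            + ((εZ : ℂ) * (εZ : ℂ)) * ((θ₁.1 : L → ℂ) x - (θ₂.1 : L → ℂ) x) := by ring
      rw [this, hεsq, one_mul] at h1
      linear_combination -h1
    rcases mul_eq_zero.1 h2 with h | h
    · exact absurd h hε0
    · have h3 : ((n₀ θ₁ : ℤ) : ℂ) = ((n₀ θ₂ : ℤ) : ℂ) := sub_eq_zero.1 h
      exact_mod_cast h3
  -- equal degrees
  have hdeg : ∀ θ₁ θ₂ : ExcIdx H L, d (f θ₁) = d (f θ₂) := by
    intro θ₁ θ₂
    have h1 := congrFun (hf θ₁ θ₂) 1
    rw [indFun_apply_one, Pi.sub_apply, (excIdx_props H L hcent hab θ₁).1,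
      (excIdx_props H L hcent hab θ₂).1, sub_self, mul_zero, Pi.smul_apply, Pi.sub_apply,
      smul_eq_mul, hd' (f θ₁), hd' (f θ₂)] at h1
    rcases mul_eq_zero.1 h1.symm with h | h
    · exact absurd h hε0
    · have h3 : ((d (f θ₁) : ℕ) : ℂ) = ((d (f θ₂) : ℕ) : ℂ) := sub_eq_zero.1 h
      exact_mod_cast h3
  -- the exceptional set
  have hEcard : (Finset.univ.image f).card = Nat.card (ExcIdx H L) := by
    rw [Finset.card_image_of_injective _ hinj, Finset.card_univ, htc]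
  have hfE : ∀ θ : ExcIdx H L, f θ ∈ Finset.univ.image f :=
    fun θ => Finset.mem_image_of_mem f (Finset.mem_univ θ)
  -- nonexceptional values
  have hnon : ∀ χ : IrrCharacter G, ∃ n : ℤ, χ ∉ Finset.univ.image f →
      ∀ g ∈ H, g ≠ 1 → (χ : G → ℂ) g = (n : ℂ) := by
    intro χ
    by_cases hχ : χ ∈ Finset.univ.image f
    · exact ⟨0, fun h => absurd hχ h⟩
    · have hne : χ ≠ f θa := fun h => hχ (h ▸ hfE θa)
      obtain ⟨n, hn⟩ := exc_value H L hcent hab (εZ : ℂ) f hε hf χ θa hne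
      refine ⟨n, fun _ g hg hg1 => ?_⟩
      have h1 := hn ⟨g, hHL hg⟩ hg (fun h => hg1 (by simpa using congrArg Subtype.val h))
      rw [Finset.sum_eq_zero, mul_zero, add_zero] at h1
      · exact h1
      · intro θ _
        rw [if_neg]
        intro h
        exact hχ (h ▸ hfE θ)
  choose m hm using hnon
  -- the trivial character is not exceptional
  have htriv : trivialIrr G ∉ Finset.univ.image f := by
    intro hE
    obtain ⟨θ₁, -, hθ₁⟩ := Finset.mem_image.1 hE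
    obtain ⟨θ₂, h2⟩ := hother θ₁
    have h := exc_inner_diff H L (εZ : ℂ) f hε hf (trivialIrr G) θ₁ θ₂
    have hzero : ∀ θ : ExcIdx H L,
        classInner (fun l : L => (trivialIrr G : G → ℂ) l) (θ.1 : L → ℂ) = 0 := by
      intro θ
      have h1 : (fun l : L => (trivialIrr G : G → ℂ) l) = (trivialIrr L : L → ℂ) := rfl
      rw [h1, classInner_irrCharacter, if_neg]
      intro h'
      obtain ⟨k, -, hne⟩ := θ.2
      apply hne
      rw [← h']
      rfl
    rw [hzero θ₁, hzero θ₂, if_pos hθ₁.symm, if_neg, sub_self, sub_zero, mul_one] at h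
    · exact hε0 h.symm
    · intro h'
      exact h2 (hinj (h'.symm.trans hθ₁.symm))
  have hmtriv : m (trivialIrr G) = 1 := by
    have h := hm (trivialIrr G) htriv (x : G) hxH hx1'
    have h1 : (trivialIrr G : G → ℂ) (x : G) = 1 := rfl
    rw [h1] at h
    exact_mod_cast h.symm
  -- the centraliser of `x`
  have hCx : Nat.card (Subgroup.centralizer ({(x : G)} : Set G)) = Nat.card H := by
    rw [centralizer_eq_of_TI H L hcent hTI hN hab (x : G) hxH hx1']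
  -- sums over the exceptional index set at `x`
  have hS1 := exc_sum_apply H L hcent hab x hxH hx1
  have hS2 := exc_sum_norm_sq H L hHL hcent hab x hxH hx1
  have hS1c : ∑ θ : ExcIdx H L, conj ((θ.1 : L → ℂ) x) = -1 := by
    rw [← map_sum, hS1]
    simp
  have hfx : ∀ θ : ExcIdx H L, (f θ : G → ℂ) (x : G)
      = ((n₀ θa : ℤ) : ℂ) + (εZ : ℂ) * (θ.1 : L → ℂ) x := by
    intro θ
    rw [hn₀ θ x hxH hx1, hindep θ θa]
  have hrange : ∀ χ : IrrCharacter G, χ ∉ Set.range f ↔ χ ∉ Finset.univ.image f := by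
    intro χ
    simp
  refine ⟨εZ, n₀ θa, d (f θa), f, (Finset.univ.image f)ᶜ.filter (fun χ => m χ ≠ 0), m, d, hεZ,
    hinj, hd', fun θ => hdeg θ θa, fun h => htriv ((hrange _).not_left.mp (not_not.mpr h)), hmtriv,
    ?_, fun χ hχ => hm χ ((hrange χ).1 hχ), ?_, ?_, ?_, ?_, ?_, hcount⟩
  · intro χ
    rw [Finset.mem_filter, Finset.mem_compl, hrange]
  · intro χ hχ
    exact dvd_degree_sub_of_const H (IsIrrCharacter.isCharacter χ.2) (d χ) (m χ) (hd' χ)
      (hm χ ((hrange χ).1 hχ))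
  · intro θ y hyH hy1
    rw [hn₀ θ y hyH hy1, hindep θ θa]
  · intro θ θ' g hg
    have h1 := congrFun (hf θ θ') g
    rw [exc_ind_apply_off H L hcent hab θ θ' g hg, Pi.smul_apply, Pi.sub_apply, smul_eq_mul] at h1
    rcases mul_eq_zero.1 h1.symm with h | h
    · exact absurd h hε0
    · exact sub_eq_zero.1 h
  · -- norm relation
    have h0 := column_orthogonality (G := G) (x : G) (x : G)
    rw [if_pos (IsConj.refl _), hCx, ← Finset.sum_add_sum_compl (Finset.univ.image f),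
      Finset.sum_image (fun a _ b _ h => hinj h)] at h0
    have h1 : ∑ θ : ExcIdx H L, (f θ : G → ℂ) (x : G) * conj ((f θ : G → ℂ) (x : G))
        = (Nat.card (ExcIdx H L) : ℂ) * ((n₀ θa : ℤ) : ℂ) ^ 2
          - 2 * (εZ : ℂ) * ((n₀ θa : ℤ) : ℂ)
          + ((Nat.card H : ℂ) - ((H.subgroupOf L).index : ℂ)) := by
      have hterm : ∀ θ : ExcIdx H L, (f θ : G → ℂ) (x : G) * conj ((f θ : G → ℂ) (x : G))
          = ((n₀ θa : ℤ) : ℂ) ^ 2
            + (εZ : ℂ) * ((n₀ θa : ℤ) : ℂ) * (θ.1 : L → ℂ) x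
            + (εZ : ℂ) * ((n₀ θa : ℤ) : ℂ) * conj ((θ.1 : L → ℂ) x)
            + (θ.1 : L → ℂ) x * conj ((θ.1 : L → ℂ) x) := by
        intro θ
        rw [hfx θ, map_add, map_mul, hεconj, map_intCast]
        linear_combination ((θ.1 : L → ℂ) x * conj ((θ.1 : L → ℂ) x)) * hεsq
      rw [Finset.sum_congr rfl (fun θ _ => hterm θ), Finset.sum_add_distrib,
        Finset.sum_add_distrib, Finset.sum_add_distrib, ← Finset.mul_sum, ← Finset.mul_sum, hS1,
        hS1c, hS2, Finset.sum_const, Finset.card_univ, htc, nsmul_eq_mul]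
      ring
    have h2 : ∑ χ ∈ (Finset.univ.image f)ᶜ, (χ : G → ℂ) (x : G) * conj ((χ : G → ℂ) (x : G))
        = ∑ χ ∈ (Finset.univ.image f)ᶜ.filter (fun χ => m χ ≠ 0), ((m χ : ℤ) : ℂ) ^ 2 := by
      rw [Finset.sum_filter_of_ne]
      · apply Finset.sum_congr rfl
        intro χ hχ
        rw [Finset.mem_compl] at hχ
        rw [hm χ hχ (x : G) hxH hx1', map_intCast, sq]
      · intro χ _ hne h0
        apply hne
        rw [h0]
        simp
    rw [h1, h2] at h0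
    have h3 : (∑ χ ∈ (Finset.univ.image f)ᶜ.filter (fun χ => m χ ≠ 0), ((m χ : ℤ) : ℂ) ^ 2)
        + (Nat.card (ExcIdx H L) : ℂ) * ((n₀ θa : ℤ) : ℂ) ^ 2
        - 2 * (εZ : ℂ) * ((n₀ θa : ℤ) : ℂ) = ((H.subgroupOf L).index : ℂ) := by
      linear_combination h0
    exact_mod_cast h3
  · -- degree equation
    have h0 := column_orthogonality (G := G) (x : G) 1
    rw [if_neg (fun h => hx1' (isConj_one_left.1 h)),
      ← Finset.sum_add_sum_compl (Finset.univ.image f),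
      Finset.sum_image (fun a _ b _ h => hinj h)] at h0
    have h1 : ∑ θ : ExcIdx H L, (f θ : G → ℂ) (x : G) * conj ((f θ : G → ℂ) 1)
        = ((Nat.card (ExcIdx H L) : ℂ) * ((n₀ θa : ℤ) : ℂ) - (εZ : ℂ)) * (d (f θa) : ℂ) := by
      have hterm : ∀ θ : ExcIdx H L, (f θ : G → ℂ) (x : G) * conj ((f θ : G → ℂ) 1)
          = ((n₀ θa : ℤ) : ℂ) * (d (f θa) : ℂ)
            + (εZ : ℂ) * (d (f θa) : ℂ) * (θ.1 : L → ℂ) x := by
        intro θ
        rw [hfx θ, hd' (f θ), hdeg θ θa, Complex.conj_natCast]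
        ring
      rw [Finset.sum_congr rfl (fun θ _ => hterm θ), Finset.sum_add_distrib, Finset.sum_const,
        Finset.card_univ, htc, nsmul_eq_mul, ← Finset.mul_sum, hS1]
      ring
    have h2 : ∑ χ ∈ (Finset.univ.image f)ᶜ, (χ : G → ℂ) (x : G) * conj ((χ : G → ℂ) 1)
        = ∑ χ ∈ (Finset.univ.image f)ᶜ.filter (fun χ => m χ ≠ 0),
          ((m χ : ℤ) : ℂ) * ((d χ : ℕ) : ℂ) := by
      rw [Finset.sum_filter_of_ne]
      · apply Finset.sum_congr rfl
        intro χ hχ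
        rw [Finset.mem_compl] at hχ
        rw [hm χ hχ (x : G) hxH hx1', hd' χ, Complex.conj_natCast]
      · intro χ _ hne h0
        apply hne
        rw [h0]
        simp
    rw [h1, h2] at h0
    have h3 : (∑ χ ∈ (Finset.univ.image f)ᶜ.filter (fun χ => m χ ≠ 0),
          ((m χ : ℤ) : ℂ) * ((d χ : ℕ) : ℂ))
        + ((Nat.card (ExcIdx H L) : ℂ) * ((n₀ θa : ℤ) : ℂ) - (εZ : ℂ)) * (d (f θa) : ℂ) = 0 := by
      linear_combination h0
    exact_mod_cast h3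

end ExcDegree5

end Cfsg.Agent.Lib.Helper11
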