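import Cfsg.Agent.Lib.Helper11.ExcDegree4

/-!
Exceptional characters for a self-centralising Sylow subgroup of prime order.
-/

set_option autoImplicit false

namespace Cfsg.Agent.Lib.Helper11

open Cfsg
open Cfsg.Agent.Lib.Helper2
open scoped ComplexConjugate

section ExcPrime

variable {G : Type*} [Group G]

/-- A nonidentity element of a subgroup of prime order generates it. -/
theorem zpowers_eq_of_prime_card [Finite G] (P : Subgroup G) {p : ℕ} (hp : p.Prime)
    (hP : Nat.card P = p) {x : G} (hx : x ∈ P) (hx1 : x ≠ 1) : Subgroup.zpowers x = P := by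
  have hle : Subgroup.zpowers x ≤ P := by
    rw [Subgroup.zpowers_le]
    exact hx
  apply Subgroup.eq_of_le_of_card_ge hle
  rw [Nat.card_zpowers, hP]
  have hdvd : orderOf x ∣ p := by
    have h1 : orderOf (⟨x, hx⟩ : P) ∣ Nat.card P := orderOf_dvd_natCard _
    rw [hP] at h1
    have h2 : orderOf (⟨x, hx⟩ : P) = orderOf x := by
      rw [← Subgroup.orderOf_coe]
    rw [← h2]
    exact h1
  rcases (Nat.dvd_prime hp).1 hdvd with h | h
  · exact absurd (orderOf_eq_one_iff.1 h) hx1
  · exact h.ge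

/-- A subgroup of prime order is a TI-subset. -/
theorem isTISubset_of_prime_card [Finite G] (P : Subgroup G) {p : ℕ} (hp : p.Prime)
    (hP : Nat.card P = p) : IsTISubset (P : Set G) := by
  intro g hg x hx hgx
  by_contra hx1
  apply hg
  have h1 := zpowers_eq_of_prime_card P hp hP hx hx1
  have hgx1 : g * x * g⁻¹ ≠ 1 := by
    intro h
    apply hx1
    have : x = g⁻¹ * (g * x * g⁻¹) * g := by group
    rw [this, h]
    group
  have h2 := zpowers_eq_of_prime_card P hp hP hgx hgx1
  have hpow : ∀ k : ℤ, g * x ^ k * g⁻¹ = (g * x * g⁻¹) ^ k := by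
    intro k
    rw [conj_zpow]
  rw [Subgroup.mem_normalizer_iff]
  intro h
  constructor
  · intro hh
    rw [← h1] at hh
    obtain ⟨k, rfl⟩ := Subgroup.mem_zpowers_iff.1 hh
    rw [hpow k, ← h2]
    exact Subgroup.zpow_mem_zpowers _ k
  · intro hh
    rw [← h2] at hh
    obtain ⟨k, hk⟩ := Subgroup.mem_zpowers_iff.1 hh
    rw [← hpow k] at hk
    have : h = x ^ k := by
      have h3 : g⁻¹ * (g * x ^ k * g⁻¹) * g = g⁻¹ * (g * h * g⁻¹) * g := by rw [hk]
      have h4 : g⁻¹ * (g * x ^ k * g⁻¹) * g = x ^ k := by group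
      have h5 : g⁻¹ * (g * h * g⁻¹) * g = h := by group
      rw [h4, h5] at h3
      exact h3.symm
    rw [this, ← h1]
    exact Subgroup.zpow_mem_zpowers _ k

/-- Exceptional characters for a self-centralising subgroup `P` of prime order `p` whose normaliser
has order `p e`, with `t e = p - 1` and `t ≥ e + 2`. -/
theorem exc_prime [Finite G] (p : ℕ) (hp : p.Prime) (P : Subgroup G)
    (hP : Nat.card P = p)
    (hC : Subgroup.centralizer (P : Set G) = P)
    (e t : ℕ) (he : Nat.card (Subgroup.normalizer (P : Set G)) = p * e)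
    (hte : t * e + 1 = p) (ht : e + 2 ≤ t) :
    ∃ (ε : ℤ) (Θ : IrrCharacter G) (x₀ : ℕ) (T : Finset (IrrCharacter G))
      (m : IrrCharacter G → ℤ) (d : IrrCharacter G → ℕ),
      (ε = 1 ∨ ε = -1) ∧ (Θ : G → ℂ) 1 = (x₀ : ℂ) ∧
      (∀ χ : IrrCharacter G, (χ : G → ℂ) 1 = (d χ : ℂ)) ∧ trivialIrr G ∉ T ∧
      (∀ χ ∈ T, m χ ≠ 0 ∧ (p : ℤ) ∣ (d χ : ℤ) - m χ) ∧
      (∑ χ ∈ T, (m χ) ^ 2 + 1 = (e : ℤ)) ∧
      ((x₀ : ℤ) = ε * (1 + ∑ χ ∈ T, m χ * (d χ : ℤ))) := by
  classical
  haveI : Fintype G := Fintype.ofFinite G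
  haveI : Fintype (Subgroup.normalizer (P : Set G)) := Fintype.ofFinite _
  have hHL : P ≤ Subgroup.normalizer (P : Set G) := Subgroup.le_normalizer
  have hHn : ∀ x ∈ Subgroup.normalizer (P : Set G), ∀ h ∈ P, x * h * x⁻¹ ∈ P := by
    intro x hx h hh
    exact (Subgroup.mem_normalizer_iff.1 hx h).1 hh
  have hab : ∀ a ∈ P, ∀ b ∈ P, a * b = b * a := by
    intro a ha b hb
    have ha' : a ∈ Subgroup.centralizer (P : Set G) := by rw [hC]; exact ha
    exact ((Subgroup.mem_centralizer_iff.1 ha') b hb).symm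
  have hcent : ∀ h ∈ P, h ≠ 1 → ∀ x ∈ Subgroup.normalizer (P : Set G),
      x * h = h * x → x ∈ P := by
    intro h hh hh1 x _ hxh
    rw [← hC, Subgroup.mem_centralizer_iff]
    intro y hy
    have hy' : y ∈ Subgroup.zpowers h := by
      rw [zpowers_eq_of_prime_card P hp hP hh hh1]
      exact hy
    obtain ⟨k, rfl⟩ := Subgroup.mem_zpowers_iff.1 hy'
    have hc : Commute x h := hxh
    exact (hc.zpow_right k).symm.eq
  have hTI := isTISubset_of_prime_card P hp hP
  haveI hKn : (P.subgroupOf (Subgroup.normalizer (P : Set G))).Normal :=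
    subgroupOf_normal_of_conj P _ hHn
  haveI : Fintype (ExcIdx P (Subgroup.normalizer (P : Set G))) := Fintype.ofFinite _
  have hp0 : 0 < p := hp.pos
  have hidx : (P.subgroupOf (Subgroup.normalizer (P : Set G))).index = e := by
    have h1 := Subgroup.card_mul_index (P.subgroupOf (Subgroup.normalizer (P : Set G)))
    rw [Nat.card_congr (Subgroup.subgroupOfEquivOfLe hHL).toEquiv, hP, he] at h1
    exact Nat.eq_of_mul_eq_mul_left hp0 h1
  have hcm := exc_card_mul P (Subgroup.normalizer (P : Set G)) hHL hcent hab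
  rw [hidx, hP, ← Nat.card_eq_fintype_card] at hcm
  have he0 : 0 < e := by
    rcases Nat.eq_zero_or_pos e with h | h
    · rw [h, mul_zero, zero_add] at hte
      exact absurd hte.symm hp.one_lt.ne'
    · exact h
  have hcard : Nat.card (ExcIdx P (Subgroup.normalizer (P : Set G))) = t := by
    have : Nat.card (ExcIdx P (Subgroup.normalizer (P : Set G))) * e = t * e := by omega
    exact Nat.eq_of_mul_eq_mul_right he0 this
  obtain ⟨ε, Θ, x₀, T, m, d, hε, hΘ, hd, htriv, hT, hnorm, hdeg, -⟩ :=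
    exc_degree_small P (Subgroup.normalizer (P : Set G)) hHn hcent hTI rfl hab
      (by rw [hidx, hcard]; exact ht)
  refine ⟨ε, Θ, x₀, T, m, d, hε, hΘ, hd, htriv, ?_, ?_, hdeg⟩
  · intro χ hχ
    obtain ⟨h1, h2, -⟩ := hT χ hχ
    rw [hP] at h2
    exact ⟨h1, h2⟩
  · rw [hidx] at hnorm
    exact hnorm

/-- In a nonabelian simple group the only linear character is the principal one. -/
theorem eq_trivialIrr_of_degree_one [Finite G] [IsSimpleGroup G]
    (hna : ¬ ∀ a b : G, a * b = b * a) (χ : IrrCharacter G) (h1 : (χ : G → ℂ) 1 = 1) :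
    χ = trivialIrr G := by
  have hcomm : commutator G = ⊤ := by
    rcases (inferInstance : (commutator G).Normal).eq_bot_or_eq_top with h | h
    · exfalso
      apply hna
      intro a b
      have hm : a * b * a⁻¹ * b⁻¹ ∈ commutator G := by
        rw [commutator_def, ← commutatorElement_def]
        exact Subgroup.commutator_mem_commutator (Subgroup.mem_top a) (Subgroup.mem_top b)
      rw [h, Subgroup.mem_bot] at hm
      have : a * b = (a * b * a⁻¹ * b⁻¹) * (b * a) := by group
      rw [this, hm, one_mul]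
    · exact h
  have hcard := card_linear_irrCharacter (G := G)
  rw [hcomm, Subgroup.index_top] at hcard
  haveI : Subsingleton {χ : IrrCharacter G // (χ : G → ℂ) 1 = 1} :=
    (Nat.card_eq_one_iff_unique.1 hcard).1
  have h2 : (⟨χ, h1⟩ : {χ : IrrCharacter G // (χ : G → ℂ) 1 = 1}) = ⟨trivialIrr G, rfl⟩ :=
    Subsingleton.elim _ _
  exact congrArg Subtype.val h2

end ExcPrime

end Cfsg.Agent.Lib.Helper11
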