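import Cfsg.Agent.Lib.Helper11.ExcPrime
import Cfsg.Agent.Lib.Helper11.ExcArith

/-!
Exceptional characters for a self-centralising Sylow subgroup of prime order in a simple group:
packaged for order-elimination arguments.
-/

set_option autoImplicit false

namespace Cfsg.Agent.Lib.Helper11

open Cfsg
open Cfsg.Agent.Lib.Helper2

section ExcSimple

variable {G : Type*} [Group G] [Finite G] [IsSimpleGroup G]

/-- If the normaliser of a subgroup is proper, the group is not abelian. -/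
theorem not_comm_of_normalizer_card_lt (P : Subgroup G)
    (h : Nat.card (Subgroup.normalizer (P : Set G)) ≠ Nat.card G) :
    ¬ ∀ a b : G, a * b = b * a := by
  intro hab
  apply h
  have : Subgroup.normalizer (P : Set G) = ⊤ := by
    rw [eq_top_iff]
    intro g _
    rw [Subgroup.mem_normalizer_iff]
    intro x
    rw [hab g x, mul_inv_cancel_right]
  rw [this, Subgroup.card_top]

/-- Degree equation data in a simple group. -/
theorem exc_prime_simple (p : ℕ) (hp : p.Prime) (P : Subgroup G)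
    (hP : Nat.card P = p)
    (hC : Subgroup.centralizer (P : Set G) = P)
    (e t : ℕ) (he : Nat.card (Subgroup.normalizer (P : Set G)) = p * e)
    (hlt : p * e ≠ Nat.card G)
    (hte : t * e + 1 = p) (ht : e + 2 ≤ t) :
    ∃ (ε : ℤ) (x₀ : ℕ) (T : Finset (IrrCharacter G))
      (m : IrrCharacter G → ℤ) (d : IrrCharacter G → ℕ),
      (ε = 1 ∨ ε = -1) ∧ 0 < x₀ ∧ x₀ ∣ Nat.card G ∧
      (∀ χ ∈ T, m χ ≠ 0 ∧ (p : ℤ) ∣ (d χ : ℤ) - m χ ∧ d χ ∣ Nat.card G ∧ d χ ≠ 1) ∧
      (∑ χ ∈ T, (m χ) ^ 2 + 1 = (e : ℤ)) ∧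
      ((x₀ : ℤ) = ε * (1 + ∑ χ ∈ T, m χ * (d χ : ℤ))) := by
  classical
  haveI : Fintype G := Fintype.ofFinite G
  obtain ⟨ε, Θ, x₀, T, m, d, hε, hΘ, hd, htriv, hT, hnorm, hdeg⟩ :=
    exc_prime p hp P hP hC e t he hte ht
  have hna : ¬ ∀ a b : G, a * b = b * a :=
    not_comm_of_normalizer_card_lt P (by rw [he]; exact hlt)
  have hdvd : ∀ χ : IrrCharacter G, d χ ∣ Nat.card G := by
    intro χ
    obtain ⟨d', h1, h2⟩ := IsIrrCharacter.exists_degree_dvd_card χ.2
    have : (d χ : ℂ) = (d' : ℂ) := by rw [← hd χ, h1]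
    have h3 : d χ = d' := by exact_mod_cast this
    rw [h3]
    exact h2
  refine ⟨ε, x₀, T, m, d, hε, ?_, ?_, ?_, hnorm, hdeg⟩
  · obtain ⟨n, hn, h1⟩ := IsIrrCharacter.apply_one Θ.2
    have : (x₀ : ℂ) = (n : ℂ) := by rw [← hΘ, h1]
    have h3 : x₀ = n := by exact_mod_cast this
    rw [h3]
    exact hn
  · have h1 := hdvd Θ
    have : (d Θ : ℂ) = (x₀ : ℂ) := by rw [← hd Θ, hΘ]
    have h3 : d Θ = x₀ := by exact_mod_cast this
    rw [← h3]
    exact h1
  · intro χ hχ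
    obtain ⟨h1, h2⟩ := hT χ hχ
    refine ⟨h1, h2, hdvd χ, ?_⟩
    intro hd1
    apply htriv
    have h3 : (χ : G → ℂ) 1 = 1 := by rw [hd χ, hd1]; simp
    rw [← eq_trivialIrr_of_degree_one hna χ h3]
    exact hχ

end ExcSimple

end Cfsg.Agent.Lib.Helper11
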