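import Cfsg.Agent.Lib.Helper11.BLCentral
import Cfsg.Agent.Lib.Helper11.Bessel

/-!
A lemma of Feit and Thompson: `H` an abelian subgroup of `G` with `H ∩ Z(G) = 1` such that the
centralizer of a non-central element meets at most one conjugate of `H`; then
`χ(1)² > |H| (χ_H, 1_H)²` for irreducible `χ` not having `H` in the kernel.

Part 1: averaging a character over the cosets of a normal subgroup.
-/

set_option autoImplicit false

namespace Cfsg.Agent.Lib.Helper11

open Cfsg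
open Cfsg.Agent.Lib.Helper2
open scoped ComplexConjugate

namespace FTLemma

section Avg

variable {L : Type*} [Group L] [Fintype L] (K : Subgroup L) [hK : K.Normal] [Fintype K]

omit [Fintype L] in
/-- An irreducible character of `L` is constant on the cosets of the normal subgroup `K`, or its
sums over the cosets of `K` vanish. -/
theorem avg_irr [Finite L] {μ : L → ℂ} (hμ : IsIrrCharacter L μ) :
    (∀ g : L, ∀ k ∈ K, μ (g * k) = μ g) ∨ (∀ g : L, ∑ k : K, μ (g * (k : L)) = 0) := by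
  classical
  obtain ⟨n, ρ, hirr, rfl⟩ := hμ
  set e : Module.End ℂ (Fin n → ℂ) := ∑ k : K, ρ (k : L) with he
  have hcomm : ∀ c : L, e ∘ₗ ρ c = ρ c ∘ₗ e := by
    intro c
    have h1 : e * ρ c = ρ c * e := by
      rw [he, Finset.sum_mul, Finset.mul_sum]
      -- reindex by conjugation
      let σ : K ≃ K :=
        { toFun := fun k => ⟨c * (k : L) * c⁻¹, hK.conj_mem _ k.2 c⟩
          invFun := fun k => ⟨c⁻¹ * (k : L) * c, by
            have := hK.conj_mem _ k.2 c⁻¹
            simpa using this⟩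
          left_inv := fun k => by apply Subtype.ext; simp [mul_assoc]
          right_inv := fun k => by apply Subtype.ext; simp [mul_assoc] }
      rw [← Equiv.sum_comp σ (fun k : K => ρ (k : L) * ρ c)]
      apply Finset.sum_congr rfl
      intro k _
      show ρ (c * (k : L) * c⁻¹) * ρ c = ρ c * ρ (k : L)
      rw [← map_mul, ← map_mul]
      congr 1
      group
    exact h1
  let T : Representation.IntertwiningMap ρ ρ := ⟨e, fun c => hcomm c⟩
  obtain ⟨a, ha⟩ :=
    (Representation.IsIrreducible.algebraMap_intertwiningMap_bijective_of_isAlgClosed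
      (ρ := ρ)).2 T
  have hT : e = a • LinearMap.id := by
    have := congrArg Representation.IntertwiningMap.toLinearMap ha
    rw [Algebra.algebraMap_eq_smul_one] at this
    exact this.symm
  have habsorb : ∀ k₀ : K, ρ (k₀ : L) * e = e := by
    intro k₀
    rw [he, Finset.mul_sum]
    rw [← Equiv.sum_comp (Equiv.mulLeft k₀) (fun k : K => ρ (k : L))]
    apply Finset.sum_congr rfl
    intro k _
    rw [← map_mul]
    rfl
  by_cases ha0 : a = 0
  · right
    intro g
    have h1 : ∑ k : K, ρ.character (g * (k : L)) = LinearMap.trace ℂ _ (ρ g * e) := by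
      rw [he, Finset.mul_sum, map_sum]
      apply Finset.sum_congr rfl
      intro k _
      rw [← map_mul]
      rfl
    rw [h1, hT, ha0, zero_smul, mul_zero, map_zero]
  · left
    intro g k hk
    have h1 := habsorb ⟨k, hk⟩
    rw [hT] at h1
    have h2 : ρ k = LinearMap.id := by
      have h3 : a • (ρ k * LinearMap.id) = a • (LinearMap.id : Module.End ℂ (Fin n → ℂ)) := by
        rw [← mul_smul_comm]
        exact h1
      have h4 := smul_right_injective _ ha0 h3
      rw [show ρ k * LinearMap.id = ρ k from mul_one _] at h4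
      exact h4
    show LinearMap.trace ℂ _ (ρ (g * k)) = LinearMap.trace ℂ _ (ρ g)
    rw [map_mul, h2]
    rfl

open Classical in
/-- The norm of a combination of irreducible characters with natural coefficients. -/
theorem norm_comb (S : Finset (IrrCharacter L)) (c : IrrCharacter L → ℕ) :
    classInner (∑ μ ∈ S, (c μ : ℂ) • (μ : L → ℂ)) (∑ μ ∈ S, (c μ : ℂ) • (μ : L → ℂ))
      = ((∑ μ ∈ S, c μ ^ 2 : ℕ) : ℂ) := by
  rw [classInner_sum_left]
  push_cast
  apply Finset.sum_congr rfl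
  intro μ hμ
  rw [classInner_smul_left, classInner_sum_right, Finset.sum_eq_single μ]
  · rw [classInner_smul_right, classInner_irrCharacter_self, Complex.conj_natCast]
    ring
  · intro ν _ hne
    rw [classInner_smul_right, classInner_irrCharacter_ne (Ne.symm hne), mul_zero]
  · intro h
    exact absurd hμ h

open Classical in
/-- A character of `L` that is not constant on the normal subgroup `K`: the norm of its average
over the cosets of `K` is at most its own norm minus one. -/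
theorem sum_norm_sq_avg_le {ψ : L → ℂ} (hψ : IsCharacter L ψ) (hne : ∃ k ∈ K, ψ k ≠ ψ 1) :
    ∑ g : L, ‖(Nat.card K : ℂ)⁻¹ * ∑ k : K, ψ (g * (k : L))‖ ^ 2 + (Nat.card L : ℝ)
      ≤ ∑ g : L, ‖ψ g‖ ^ 2 := by
  haveI : Fintype (IrrCharacter L) := Fintype.ofFinite _
  have hc : ∀ μ : IrrCharacter L, ∃ n : ℕ, classInner ψ (μ : L → ℂ) = (n : ℂ) :=
    fun μ => IsCharacter.inner_irr_nat hψ μ
  choose c hc using hc
  have hexp := classFunction_expansion ψ (IsCharacter.isClassFunction hψ)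
  have hexp' : ψ = ∑ μ : IrrCharacter L, (c μ : ℂ) • (μ : L → ℂ) := by
    conv_lhs => rw [hexp]
    apply Finset.sum_congr rfl
    intro μ _
    rw [hc μ]
  set A : Finset (IrrCharacter L) := Finset.univ.filter
    (fun μ => ∀ g : L, ∀ k ∈ K, (μ : L → ℂ) (g * k) = (μ : L → ℂ) g) with hA
  have hAin : ∀ μ ∈ A, ∀ g : L, ∑ k : K, (μ : L → ℂ) (g * (k : L))
      = (Nat.card K : ℂ) * (μ : L → ℂ) g := by
    intro μ hμ g
    have h1 := (Finset.mem_filter.1 hμ).2
    rw [Finset.sum_congr rfl (fun (k : K) _ => h1 g (k : L) k.2), Finset.sum_const, Finset.card_univ,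
      nsmul_eq_mul, Nat.card_eq_fintype_card]
  have hB : ∀ μ ∉ A, ∀ g : L, ∑ k : K, (μ : L → ℂ) (g * (k : L)) = 0 := by
    intro μ hμ
    rcases avg_irr K μ.2 with h | h
    · exact absurd (Finset.mem_filter.2 ⟨Finset.mem_univ _, h⟩) hμ
    · exact h
  set α : L → ℂ := fun g => (Nat.card K : ℂ)⁻¹ * ∑ k : K, ψ (g * (k : L)) with hα
  have hK0 : (Nat.card K : ℂ) ≠ 0 := card_subgroup_ne_zero K
  have hαeq : α = ∑ μ ∈ A, (c μ : ℂ) • (μ : L → ℂ) := by
    funext g
    have h1 : ∀ k : K, ψ (g * (k : L))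
        = ∑ μ : IrrCharacter L, (c μ : ℂ) * (μ : L → ℂ) (g * (k : L)) := by
      intro k
      conv_lhs => rw [hexp']
      rw [Finset.sum_apply]
      rfl
    show (Nat.card K : ℂ)⁻¹ * ∑ k : K, ψ (g * (k : L)) = _
    rw [Finset.sum_congr rfl (fun k _ => h1 k), Finset.sum_comm, Finset.sum_apply]
    have h2 : ∀ μ : IrrCharacter L, ∑ k : K, (c μ : ℂ) * (μ : L → ℂ) (g * (k : L))
        = if μ ∈ A then (Nat.card K : ℂ) * ((c μ : ℂ) * (μ : L → ℂ) g) else 0 := by
      intro μ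
      rw [← Finset.mul_sum]
      by_cases hμ : μ ∈ A
      · rw [if_pos hμ, hAin μ hμ g]
        ring
      · rw [if_neg hμ, hB μ hμ g, mul_zero]
    rw [Finset.sum_congr rfl (fun μ _ => h2 μ), Finset.sum_ite_mem, Finset.univ_inter,
      ← Finset.mul_sum, ← mul_assoc, inv_mul_cancel₀ hK0, one_mul]
    rfl
  -- some constituent is not constant on the cosets
  have hex : ∃ μ, μ ∉ A ∧ c μ ≠ 0 := by
    by_contra hcon
    push Not at hcon
    obtain ⟨k, hk, hkne⟩ := hne
    apply hkne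
    have h1 : ∀ g : L, ψ g = ∑ μ : IrrCharacter L, (c μ : ℂ) * (μ : L → ℂ) g := by
      intro g
      conv_lhs => rw [hexp']
      rw [Finset.sum_apply]
      rfl
    rw [h1 k, h1 1]
    apply Finset.sum_congr rfl
    intro μ _
    by_cases hμ : μ ∈ A
    · have h2 := (Finset.mem_filter.1 hμ).2 1 k hk
      rw [one_mul] at h2
      rw [h2]
    · have h3 : c μ = 0 := hcon μ hμ
      rw [h3, Nat.cast_zero, zero_mul, zero_mul]
  obtain ⟨μ₀, hμ₀A, hμ₀c⟩ := hex
  have hn1 : classInner ψ ψ = ((∑ μ : IrrCharacter L, c μ ^ 2 : ℕ) : ℂ) := by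
    conv_lhs => rw [hexp']
    exact norm_comb Finset.univ c
  have hn2 : classInner α α = ((∑ μ ∈ A, c μ ^ 2 : ℕ) : ℂ) := by
    rw [hαeq]
    exact norm_comb A c
  have hle : ∑ μ ∈ A, c μ ^ 2 + 1 ≤ ∑ μ : IrrCharacter L, c μ ^ 2 := by
    have h1 : ∑ μ ∈ insert μ₀ A, c μ ^ 2 ≤ ∑ μ : IrrCharacter L, c μ ^ 2 :=
      Finset.sum_le_sum_of_subset (Finset.subset_univ _)
    rw [Finset.sum_insert hμ₀A] at h1
    have h2 : 1 ≤ c μ₀ ^ 2 := Nat.one_le_pow _ _ (Nat.pos_of_ne_zero hμ₀c)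
    omega
  rw [classInner_self_eq_ofReal] at hn1 hn2
  have h1 : (Nat.card L : ℝ)⁻¹ * ∑ g : L, ‖ψ g‖ ^ 2 = ((∑ μ : IrrCharacter L, c μ ^ 2 : ℕ) : ℝ) := by
    exact_mod_cast hn1
  have h2 : (Nat.card L : ℝ)⁻¹ * ∑ g : L, ‖α g‖ ^ 2 = ((∑ μ ∈ A, c μ ^ 2 : ℕ) : ℝ) := by
    exact_mod_cast hn2
  have hL0 : (0 : ℝ) < Nat.card L := by exact_mod_cast Nat.card_pos
  have h3 : ((∑ μ ∈ A, c μ ^ 2 : ℕ) : ℝ) + 1 ≤ ((∑ μ : IrrCharacter L, c μ ^ 2 : ℕ) : ℝ) := by
    exact_mod_cast hle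
  rw [← h1, ← h2] at h3
  have h4 : (Nat.card L : ℝ) * ((Nat.card L : ℝ)⁻¹ * ∑ g : L, ‖α g‖ ^ 2 + 1)
      ≤ (Nat.card L : ℝ) * ((Nat.card L : ℝ)⁻¹ * ∑ g : L, ‖ψ g‖ ^ 2) :=
    mul_le_mul_of_nonneg_left h3 hL0.le
  rw [mul_add, ← mul_assoc, ← mul_assoc, mul_inv_cancel₀ hL0.ne', one_mul, one_mul, mul_one] at h4
  exact h4

end Avg

section TI

variable {G : Type*} [Group G] [Fintype G]

open Classical in
/-- The values of an irreducible character on a trivial-intersection set. -/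
theorem ti_bound (N : Subgroup G) (D : Set G) (h1 : (1 : G) ∉ D)
    (hTI : ∀ g ∈ D, ∀ x : G, x⁻¹ * g * x ∈ D → x ∈ N)
    {χ : G → ℂ} (hχ : IsIrrCharacter G χ) :
    (Nat.card G : ℝ) * ∑ g : G, (if g ∈ D then ‖χ g‖ ^ 2 else 0) + (Nat.card N : ℝ) * ‖χ 1‖ ^ 2
      ≤ (Nat.card N : ℝ) * (Nat.card G : ℝ) := by
  haveI : Fintype N := Fintype.ofFinite _
  have hcf : IsClassFunction G χ := IsCharacter.isClassFunction (IsIrrCharacter.isCharacter hχ)
  have hG0 : (0 : ℝ) < Nat.card G := by exact_mod_cast Nat.card_pos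
  have hnorm : ∑ g : G, ‖χ g‖ ^ 2 = (Nat.card G : ℝ) := by
    have h2 := classInner_irrCharacter_self (⟨χ, hχ⟩ : IrrCharacter G)
    rw [classInner_self_eq_ofReal] at h2
    have h3 : (Nat.card G : ℝ)⁻¹ * ∑ g : G, ‖χ g‖ ^ 2 = 1 := by exact_mod_cast h2
    have h4 : ∑ g : G, ‖χ g‖ ^ 2 = (Nat.card G : ℝ) * ((Nat.card G : ℝ)⁻¹ * ∑ g : G, ‖χ g‖ ^ 2) := by
      rw [← mul_assoc, mul_inv_cancel₀ hG0.ne', one_mul]
    rw [h4, h3, mul_one]
  -- the double sum
  have hA : ∑ x : G, ∑ g : G, (if x⁻¹ * g * x ∈ D then ‖χ g‖ ^ 2 else 0)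
      = (Nat.card G : ℝ) * ∑ g : G, (if g ∈ D then ‖χ g‖ ^ 2 else 0) := by
    have h2 : ∀ x : G, ∑ g : G, (if x⁻¹ * g * x ∈ D then ‖χ g‖ ^ 2 else 0)
        = ∑ g : G, (if g ∈ D then ‖χ g‖ ^ 2 else 0) := by
      intro x
      rw [← Equiv.sum_comp (MulAut.conj x).toEquiv
        (fun g : G => if x⁻¹ * g * x ∈ D then ‖χ g‖ ^ 2 else 0)]
      apply Finset.sum_congr rfl
      intro g _
      show (if x⁻¹ * (x * g * x⁻¹) * x ∈ D then ‖χ (x * g * x⁻¹)‖ ^ 2 else 0) = _
      rw [hcf g x, show x⁻¹ * (x * g * x⁻¹) * x = g by group]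
    rw [Finset.sum_congr rfl (fun x _ => h2 x), Finset.sum_const, Finset.card_univ, nsmul_eq_mul,
      Nat.card_eq_fintype_card]
  have hB : ∑ x : G, ∑ g : G, (if x⁻¹ * g * x ∈ D then ‖χ g‖ ^ 2 else 0)
      = ∑ g : G, ((Finset.univ.filter (fun x : G => x⁻¹ * g * x ∈ D)).card : ℝ) * ‖χ g‖ ^ 2 := by
    rw [Finset.sum_comm]
    apply Finset.sum_congr rfl
    intro g _
    rw [← Finset.sum_filter, Finset.sum_const, nsmul_eq_mul]
  have hcnt1 : (Finset.univ.filter (fun x : G => x⁻¹ * (1 : G) * x ∈ D)).card = 0 := by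
    rw [Finset.card_eq_zero, Finset.filter_eq_empty_iff]
    intro x _
    rw [mul_one, inv_mul_cancel]
    exact h1
  have hcnt : ∀ g : G, (Finset.univ.filter (fun x : G => x⁻¹ * g * x ∈ D)).card ≤ Nat.card N := by
    intro g
    rcases (Finset.univ.filter (fun x : G => x⁻¹ * g * x ∈ D)).eq_empty_or_nonempty with h | h
    · rw [h, Finset.card_empty]; exact Nat.zero_le _
    · obtain ⟨x₀, hx₀⟩ := h
      have hx₀D := (Finset.mem_filter.1 hx₀).2
      rw [Nat.card_eq_fintype_card, ← Finset.card_univ]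
      apply Finset.card_le_card_of_injOn
        (fun x => if hx : x₀⁻¹ * x ∈ N then (⟨x₀⁻¹ * x, hx⟩ : N) else 1)
      · intro x _
        exact Finset.mem_univ _
      · intro x hx y hy hxy
        have hxD := (Finset.mem_filter.1 (Finset.mem_coe.1 hx)).2
        have hyD := (Finset.mem_filter.1 (Finset.mem_coe.1 hy)).2
        have hxN : x₀⁻¹ * x ∈ N := by
          apply hTI _ hx₀D
          rw [show (x₀⁻¹ * x)⁻¹ * (x₀⁻¹ * g * x₀) * (x₀⁻¹ * x) = x⁻¹ * g * x by group]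
          exact hxD
        have hyN : x₀⁻¹ * y ∈ N := by
          apply hTI _ hx₀D
          rw [show (x₀⁻¹ * y)⁻¹ * (x₀⁻¹ * g * x₀) * (x₀⁻¹ * y) = y⁻¹ * g * y by group]
          exact hyD
        simp only [dif_pos hxN, dif_pos hyN] at hxy
        have := congrArg Subtype.val hxy
        exact mul_left_cancel this
  have hC : ∑ g : G, ((Finset.univ.filter (fun x : G => x⁻¹ * g * x ∈ D)).card : ℝ) * ‖χ g‖ ^ 2
      ≤ (Nat.card N : ℝ) * (∑ g : G, ‖χ g‖ ^ 2 - ‖χ 1‖ ^ 2) := by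
    rw [← Finset.add_sum_erase Finset.univ (fun g => ‖χ g‖ ^ 2) (Finset.mem_univ (1 : G)),
      add_sub_cancel_left,
      ← Finset.add_sum_erase Finset.univ _ (Finset.mem_univ (1 : G)), hcnt1, Nat.cast_zero,
      zero_mul, zero_add, Finset.mul_sum]
    apply Finset.sum_le_sum
    intro g _
    apply mul_le_mul_of_nonneg_right _ (sq_nonneg _)
    exact_mod_cast hcnt g
  rw [← hA, hB]
  rw [hnorm] at hC
  linarith

end TI

end FTLemma

end Cfsg.Agent.Lib.Helper11
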