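import Cfsg.Agent.Lib.Helper11.FTLemma
import Cfsg.Agent.Lib.Helper2.PermLemma

/-!
The lemma of Feit and Thompson, part 2: the first inequality `χ(1)² > |H| (χ_H, 1_H)²`.
-/

set_option autoImplicit false

namespace Cfsg.Agent.Lib.Helper11

open Cfsg
open Cfsg.Agent.Lib.Helper2
open scoped ComplexConjugate

namespace FTLemma

section Coset

variable {G : Type*} [Group G] [Finite G]

/-- If `g` normalizes `H` and centralizes no nonidentity element of `H`, the coset `g H` lies in the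
conjugacy class of `g`. -/
theorem apply_mul_of_inf_eq_bot (H : Subgroup G) {χ : G → ℂ} (hcf : IsClassFunction G χ) (g : G)
    (hgN : g ∈ Subgroup.normalizer (H : Set G))
    (hg : Subgroup.centralizer ({g} : Set G) ⊓ H = ⊥) (h : G) (hh : h ∈ H) :
    χ (g * h) = χ g := by
  have hginv : g⁻¹ ∈ Subgroup.normalizer (H : Set G) := Subgroup.inv_mem _ hgN
  have hmem : ∀ k : H, g⁻¹ * (k : G)⁻¹ * g * (k : G) ∈ H := by
    intro k
    have h1 : g⁻¹ * (k : G)⁻¹ * g⁻¹⁻¹ ∈ H :=
      (Subgroup.mem_normalizer_iff.1 hginv _).1 (H.inv_mem k.2)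
    rw [inv_inv] at h1
    exact H.mul_mem h1 k.2
  let f : H → H := fun k => ⟨g⁻¹ * (k : G)⁻¹ * g * (k : G), hmem k⟩
  have hinj : Function.Injective f := by
    intro k k' hkk'
    have h1 : g⁻¹ * (k : G)⁻¹ * g * (k : G) = g⁻¹ * (k' : G)⁻¹ * g * (k' : G) :=
      congrArg Subtype.val hkk'
    have h2 : (k' : G) * (k : G)⁻¹ ∈ Subgroup.centralizer ({g} : Set G) ⊓ H := by
      refine Subgroup.mem_inf.2 ⟨?_, H.mul_mem k'.2 (H.inv_mem k.2)⟩
      rw [Subgroup.mem_centralizer_iff]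
      intro y hy
      rw [Set.mem_singleton_iff] at hy
      rw [hy]
      have h3 : (k : G)⁻¹ * g * (k : G) = (k' : G)⁻¹ * g * (k' : G) := by
        have := congrArg (fun y => g * y) h1
        simpa [mul_assoc] using this
      calc g * ((k' : G) * (k : G)⁻¹) = (k' : G) * ((k' : G)⁻¹ * g * (k' : G)) * (k : G)⁻¹ := by group
        _ = (k' : G) * ((k : G)⁻¹ * g * (k : G)) * (k : G)⁻¹ := by rw [h3]
        _ = (k' : G) * (k : G)⁻¹ * g := by group
    rw [hg, Subgroup.mem_bot] at h2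
    apply Subtype.ext
    have h4 : (k' : G) = (k : G) := by
      have := mul_inv_eq_one.1 h2
      exact this
    exact h4.symm
  have hsurj : Function.Surjective f := Finite.injective_iff_surjective.1 hinj
  obtain ⟨k, hk⟩ := hsurj ⟨h, hh⟩
  have h1 : g⁻¹ * (k : G)⁻¹ * g * (k : G) = h := congrArg Subtype.val hk
  have h2 : g * h = (k : G)⁻¹ * g * (k : G)⁻¹⁻¹ := by
    rw [← h1, inv_inv]
    group
  rw [h2, hcf g (k : G)⁻¹]

end Coset

section Center

variable {G : Type*} [Group G] [Finite G]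

/-- An irreducible character has constant absolute value on the centre. -/
theorem norm_center {χ : G → ℂ} (hχ : IsIrrCharacter G χ) (z : G)
    (hz : z ∈ Subgroup.center G) : ‖χ z‖ = ‖χ 1‖ := by
  have hz' : ∀ k : G, z * k = k * z := fun k => ((Subgroup.mem_center_iff.1 hz) k).symm
  have h1 := IsIrrCharacter.central_mul hχ z hz' z⁻¹
  rw [mul_inv_cancel, IsCharacter.apply_inv (IsIrrCharacter.isCharacter hχ) z] at h1
  have h2 := congrArg norm h1
  rw [norm_mul, norm_mul, Complex.norm_conj] at h2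
  have h3 : ‖χ z‖ ^ 2 = ‖χ 1‖ ^ 2 := by rw [sq, sq, h2]
  exact (sq_eq_sq₀ (norm_nonneg _) (norm_nonneg _)).1 h3

/-- Sums over the cosets of `H` translated by a central element. -/
theorem sum_center_mul (H : Subgroup G) [Fintype H] {χ : G → ℂ} (hχ : IsIrrCharacter G χ) (z : G)
    (hz : z ∈ Subgroup.center G) (h : G) (hh : h ∈ H) :
    ∑ k : H, χ (z * h * (k : G)) = (χ z / χ 1) * ∑ k : H, χ (k : G) := by
  have hz' : ∀ k : G, z * k = k * z := fun k => ((Subgroup.mem_center_iff.1 hz) k).symm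
  have h10 : χ 1 ≠ 0 := IsIrrCharacter.apply_one_ne_zero hχ
  have h1 : ∀ k : H, χ (z * h * (k : G)) = (χ z / χ 1) * χ (h * (k : G)) := by
    intro k
    have h2 := IsIrrCharacter.central_mul hχ z hz' (h * (k : G))
    rw [mul_assoc]
    field_simp
    rw [h2]
  rw [Finset.sum_congr rfl (fun k _ => h1 k), ← Finset.mul_sum]
  congr 1
  rw [← Equiv.sum_comp (Equiv.mulLeft (⟨h, hh⟩ : H)) (fun k : H => χ (k : G))]
  rfl

end Center

section Meets

variable {G : Type*} [Group G]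

/-- The centralizer of `g` meets the conjugate `x H x⁻¹` nontrivially. -/
theorem meets_iff (H : Subgroup G) (g x : G) :
    Subgroup.centralizer ({g} : Set G) ⊓ H.map (MulAut.conj x).toMonoidHom ≠ ⊥ ↔
      ∃ h ∈ H, h ≠ 1 ∧ g * (x * h * x⁻¹) = x * h * x⁻¹ * g := by
  rw [Ne, Subgroup.eq_bot_iff_forall]
  push Not
  constructor
  · rintro ⟨y, hy, hy1⟩
    obtain ⟨hyc, hym⟩ := Subgroup.mem_inf.1 hy
    obtain ⟨h, hh, rfl⟩ := Subgroup.mem_map.1 hym
    refine ⟨h, hh, ?_, ?_⟩
    · rintro rfl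
      apply hy1
      simp
    · exact (Subgroup.mem_centralizer_iff.1 hyc g (Set.mem_singleton g))
  · rintro ⟨h, hh, h1, hc⟩
    refine ⟨x * h * x⁻¹, Subgroup.mem_inf.2 ⟨?_, Subgroup.mem_map.2 ⟨h, hh, rfl⟩⟩, ?_⟩
    · rw [Subgroup.mem_centralizer_iff]
      intro y hy
      rw [Set.mem_singleton_iff] at hy
      rw [hy]
      exact hc
    · intro h2
      apply h1
      have h3 : h = x⁻¹ * (x * h * x⁻¹) * x := by group
      rw [h3, h2]
      group

/-- The centralizer of `g` meets `H` nontrivially. -/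
theorem meets_one_iff (H : Subgroup G) (g : G) :
    Subgroup.centralizer ({g} : Set G) ⊓ H ≠ ⊥ ↔ ∃ h ∈ H, h ≠ 1 ∧ g * h = h * g := by
  rw [Ne, Subgroup.eq_bot_iff_forall]
  push Not
  constructor
  · rintro ⟨y, hy, hy1⟩
    obtain ⟨hyc, hym⟩ := Subgroup.mem_inf.1 hy
    exact ⟨y, hym, hy1, Subgroup.mem_centralizer_iff.1 hyc g (Set.mem_singleton g)⟩
  · rintro ⟨h, hh, h1, hc⟩
    refine ⟨h, Subgroup.mem_inf.2 ⟨?_, hh⟩, h1⟩
    rw [Subgroup.mem_centralizer_iff]
    intro y hy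
    rw [Set.mem_singleton_iff] at hy
    rw [hy]
    exact hc

/-- The trivial-intersection property of the set of non-central elements whose centralizer meets
`H`. -/
theorem ti_of_hone (H : Subgroup G)
    (hone : ∀ g : G, g ∉ Subgroup.center G → ∀ a b : G,
      Subgroup.centralizer ({g} : Set G) ⊓ H.map (MulAut.conj a).toMonoidHom ≠ ⊥ →
      Subgroup.centralizer ({g} : Set G) ⊓ H.map (MulAut.conj b).toMonoidHom ≠ ⊥ →
      H.map (MulAut.conj a).toMonoidHom = H.map (MulAut.conj b).toMonoidHom)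
    (g : G) (hgZ : g ∉ Subgroup.center G)
    (hg : Subgroup.centralizer ({g} : Set G) ⊓ H ≠ ⊥) (x : G)
    (hx : Subgroup.centralizer ({x⁻¹ * g * x} : Set G) ⊓ H ≠ ⊥) :
    x ∈ Subgroup.normalizer (H : Set G) := by
  obtain ⟨h, hh, hh1, hc⟩ := (meets_one_iff H g).1 hg
  obtain ⟨h', hh', hh1', hc'⟩ := (meets_one_iff H _).1 hx
  have hmap1 : H.map (MulAut.conj (1 : G)).toMonoidHom = H := by
    ext y
    constructor
    · rintro ⟨w, hw, rfl⟩
      simpa using hw
    · intro hy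
      exact ⟨y, hy, by simp⟩
  have h1 : Subgroup.centralizer ({g} : Set G) ⊓ H.map (MulAut.conj (1 : G)).toMonoidHom ≠ ⊥ := by
    rw [hmap1]; exact hg
  have h2 : Subgroup.centralizer ({g} : Set G) ⊓ H.map (MulAut.conj x).toMonoidHom ≠ ⊥ := by
    rw [meets_iff]
    refine ⟨h', hh', hh1', ?_⟩
    have h3 : g * (x * h' * x⁻¹) = x * ((x⁻¹ * g * x) * h') * x⁻¹ := by group
    rw [h3, hc']
    group
  have h3 := hone g hgZ 1 x h1 h2
  rw [hmap1] at h3
  rw [Subgroup.mem_normalizer_iff]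
  intro y
  constructor
  · intro hy
    rw [h3]
    exact ⟨y, hy, rfl⟩
  · intro hy
    rw [h3] at hy
    obtain ⟨w, hw, hwy⟩ := hy
    have h4 : x * w * x⁻¹ = x * y * x⁻¹ := hwy
    have h5 : w = y := by
      have := mul_right_cancel h4
      exact mul_left_cancel this
    rw [← h5]
    exact hw

end Meets

end FTLemma

end Cfsg.Agent.Lib.Helper11
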