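import Cfsg.Agent.Lib.Helper11.FTLemma2

/-!
The lemma of Feit and Thompson, part 3: the first inequality `χ(1)² > |H| (χ_H, 1_H)²`.
-/

set_option autoImplicit false

namespace Cfsg.Agent.Lib.Helper11

open Cfsg
open Cfsg.Agent.Lib.Helper2
open scoped ComplexConjugate

namespace FTLemma

section Main

variable {G : Type*} [Group G] [Fintype G]

open Classical in
/-- Sums over a subgroup as indicator sums over the group. -/
theorem sum_subgroup_eq (N : Subgroup G) [Fintype N] (F : G → ℝ) :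
    ∑ l : N, F (l : G) = ∑ g : G, (if g ∈ N then F g else 0) := by
  rw [← Finset.sum_filter]
  exact (Finset.sum_subtype (Finset.univ.filter (· ∈ N)) (fun x => by simp) F).symm

open Classical in
/-- The averaged inequality over the normalizer of `H`, as indicator sums over `G`. -/
theorem avg_normalizer (H : Subgroup G) [Fintype H] {χ : G → ℂ} (hχ : IsCharacter G χ)
    (hker : ∃ h ∈ H, χ h ≠ χ 1) :
    ∑ g : G, (if g ∈ Subgroup.normalizer (H : Set G)
        then ‖(Nat.card H : ℂ)⁻¹ * ∑ h : H, χ (g * (h : G))‖ ^ 2 else 0)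
      + (Nat.card (Subgroup.normalizer (H : Set G)) : ℝ)
      ≤ ∑ g : G, (if g ∈ Subgroup.normalizer (H : Set G) then ‖χ g‖ ^ 2 else 0) := by
  haveI : Fintype (Subgroup.normalizer (H : Set G)) := Fintype.ofFinite _
  haveI : Fintype (H.subgroupOf (Subgroup.normalizer (H : Set G))) := Fintype.ofFinite _
  have hle : H ≤ Subgroup.normalizer (H : Set G) := Subgroup.le_normalizer
  have hψ : IsCharacter (Subgroup.normalizer (H : Set G))
      (fun l : Subgroup.normalizer (H : Set G) => χ (l : G)) := IsCharacter.restrict hχ _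
  have hne : ∃ k ∈ H.subgroupOf (Subgroup.normalizer (H : Set G)),
      (fun l : Subgroup.normalizer (H : Set G) => χ (l : G)) k
        ≠ (fun l : Subgroup.normalizer (H : Set G) => χ (l : G)) 1 := by
    obtain ⟨h, hh, hne⟩ := hker
    exact ⟨⟨h, hle hh⟩, Subgroup.mem_subgroupOf.2 hh, hne⟩
  have key := sum_norm_sq_avg_le (H.subgroupOf (Subgroup.normalizer (H : Set G))) hψ hne
  have hcard : Nat.card (H.subgroupOf (Subgroup.normalizer (H : Set G))) = Nat.card H :=
    Nat.card_congr (Subgroup.subgroupOfEquivOfLe hle).toEquiv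
  have hsum : ∀ l : Subgroup.normalizer (H : Set G),
      ∑ k : H.subgroupOf (Subgroup.normalizer (H : Set G)),
        (fun l : Subgroup.normalizer (H : Set G) => χ (l : G)) (l * (k : _))
      = ∑ h : H, χ ((l : G) * (h : G)) := by
    intro l
    rw [← Equiv.sum_comp (Subgroup.subgroupOfEquivOfLe hle).toEquiv
      (fun h : H => χ ((l : G) * (h : G)))]
    rfl
  rw [hcard, Finset.sum_congr rfl (fun l _ => by rw [hsum l])] at key
  rw [sum_subgroup_eq (Subgroup.normalizer (H : Set G))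
      (fun g => ‖(Nat.card H : ℂ)⁻¹ * ∑ h : H, χ (g * (h : G))‖ ^ 2),
    sum_subgroup_eq (Subgroup.normalizer (H : Set G)) (fun g => ‖χ g‖ ^ 2)] at key
  exact key

open Classical in
/-- The first inequality of the Feit–Thompson lemma. -/
theorem ft_first (H : Subgroup G) [Fintype H]
    (hab : ∀ a ∈ H, ∀ b ∈ H, a * b = b * a)
    (hZ : H ⊓ Subgroup.center G = ⊥)
    (hone : ∀ g : G, g ∉ Subgroup.center G → ∀ a b : G,
      Subgroup.centralizer ({g} : Set G) ⊓ H.map (MulAut.conj a).toMonoidHom ≠ ⊥ →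
      Subgroup.centralizer ({g} : Set G) ⊓ H.map (MulAut.conj b).toMonoidHom ≠ ⊥ →
      H.map (MulAut.conj a).toMonoidHom = H.map (MulAut.conj b).toMonoidHom)
    (χ : G → ℂ) (hχ : IsIrrCharacter G χ) (hker : ∃ h ∈ H, χ h ≠ χ 1) :
    (Nat.card H : ℝ) * (classInner (fun h : H => χ h) (fun _ => 1)).re ^ 2 < (χ 1).re ^ 2 := by
  have hchar := IsIrrCharacter.isCharacter hχ
  have hcf := IsCharacter.isClassFunction hchar
  obtain ⟨d, hd0, hd⟩ := IsIrrCharacter.apply_one hχ
  obtain ⟨a', ha'⟩ := classInner_isCharacter_nat (IsCharacter.restrict hchar H)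
    (IsIrrCharacter.isCharacter (isIrrCharacter_one (G := H)))
  rw [ha', hd, Complex.natCast_re, Complex.natCast_re]
  -- notation
  set N := Subgroup.normalizer (H : Set G) with hN
  set Z := Subgroup.center G with hZdef
  let Pm : G → Prop := fun g => Subgroup.centralizer ({g} : Set G) ⊓ H ≠ ⊥
  let D : Set G := {g | g ∉ Z ∧ Pm g}
  let α : G → ℂ := fun g => (Nat.card H : ℂ)⁻¹ * ∑ h : H, χ (g * (h : G))
  have hHN : H ≤ N := Subgroup.le_normalizer
  have hZN : Z ≤ N := Subgroup.center_le_normalizer _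
  -- `H` is nontrivial
  obtain ⟨h₀, hh₀, hh₀ne⟩ := hker
  have hh₀1 : h₀ ≠ 1 := by
    rintro rfl
    exact hh₀ne rfl
  -- every central element meets `H`
  have hPmZ : ∀ z ∈ Z, Pm z := by
    intro z hz
    show Subgroup.centralizer ({z} : Set G) ⊓ H ≠ ⊥
    rw [meets_one_iff]
    exact ⟨h₀, hh₀, hh₀1, ((Subgroup.mem_center_iff.1 hz) h₀).symm⟩
  -- the TI property
  have hTI : ∀ g ∈ D, ∀ x : G, x⁻¹ * g * x ∈ D → x ∈ N := by
    intro g hg x hx
    exact ti_of_hone H hone g hg.1 hg.2 x hx.2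
  have hDN : ∀ g ∈ D, g ∈ N := by
    intro g hg
    apply hTI g hg g
    rw [inv_mul_cancel, one_mul]
    exact hg
  have h1D : (1 : G) ∉ D := fun h => h.1 (Subgroup.one_mem _)
  have hti : (Nat.card G : ℝ) * ∑ g : G, (if g ∈ D then ‖χ g‖ ^ 2 else 0)
      + (Nat.card N : ℝ) * ‖χ 1‖ ^ 2 ≤ (Nat.card N : ℝ) * (Nat.card G : ℝ) := by
    convert ti_bound N D h1D hTI hχ using 5
  have havg := avg_normalizer H hchar ⟨h₀, hh₀, hh₀ne⟩
  -- on elements of `N` not meeting `H`, the average is the value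
  have hp1 : ∀ g : G, g ∈ N → ¬ Pm g → α g = χ g := by
    intro g hgN hg
    have hg' : Subgroup.centralizer ({g} : Set G) ⊓ H = ⊥ := not_not.1 hg
    show (Nat.card H : ℂ)⁻¹ * ∑ h : H, χ (g * (h : G)) = χ g
    rw [Finset.sum_congr rfl (fun (h : H) _ =>
      apply_mul_of_inf_eq_bot H hcf g hgN hg' (h : G) h.2), Finset.sum_const, Finset.card_univ,
      nsmul_eq_mul, Nat.card_eq_fintype_card, ← mul_assoc, inv_mul_cancel₀, one_mul]
    have : (Fintype.card H : ℂ) = (Nat.card H : ℂ) := by rw [Nat.card_eq_fintype_card]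
    rw [this]
    exact card_subgroup_ne_zero H
  -- reduce the averaged inequality to the elements meeting `H`
  have hstep1 : (Nat.card N : ℝ)
      ≤ ∑ g : G, (if g ∈ N ∧ Pm g then ‖χ g‖ ^ 2 else 0)
        - ∑ g : G, (if g ∈ N ∧ Pm g then ‖α g‖ ^ 2 else 0) := by
    have h2 : ∑ g : G, (if g ∈ N then ‖χ g‖ ^ 2 else 0) - ∑ g : G, (if g ∈ N then ‖α g‖ ^ 2 else 0)
        = ∑ g : G, (if g ∈ N ∧ Pm g then ‖χ g‖ ^ 2 else 0)
          - ∑ g : G, (if g ∈ N ∧ Pm g then ‖α g‖ ^ 2 else 0) := by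
      rw [← Finset.sum_sub_distrib, ← Finset.sum_sub_distrib]
      apply Finset.sum_congr rfl
      intro g _
      by_cases hgN : g ∈ N
      · by_cases hgP : Pm g
        · rw [if_pos hgN, if_pos hgN, if_pos ⟨hgN, hgP⟩, if_pos ⟨hgN, hgP⟩]
        · rw [if_pos hgN, if_pos hgN, if_neg (fun h => hgP h.2), if_neg (fun h => hgP h.2),
            hp1 g hgN hgP]
          ring
      · rw [if_neg hgN, if_neg hgN, if_neg (fun h => hgN h.1), if_neg (fun h => hgN h.1)]
    rw [← h2]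
    linarith
  -- the values on the elements meeting `H`
  have hnormZ : ∀ z ∈ Z, ‖χ z‖ ^ 2 = (d : ℝ) ^ 2 := by
    intro z hz
    rw [norm_center hχ z hz, hd, Complex.norm_natCast]
  have hstep2 : ∑ g : G, (if g ∈ N ∧ Pm g then ‖χ g‖ ^ 2 else 0)
      ≤ (Nat.card Z : ℝ) * (d : ℝ) ^ 2 + ∑ g : G, (if g ∈ D then ‖χ g‖ ^ 2 else 0) := by
    have h2 : (Nat.card Z : ℝ) * (d : ℝ) ^ 2 = ∑ g : G, (if g ∈ Z then ‖χ g‖ ^ 2 else 0) := by
      rw [← Finset.sum_filter, Finset.sum_congr rfl (fun g hg =>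
        hnormZ g (Finset.mem_filter.1 hg).2), Finset.sum_const, nsmul_eq_mul]
      congr 2
      rw [Nat.card_eq_fintype_card, Fintype.card_subtype]
    rw [h2, ← Finset.sum_add_distrib]
    apply Finset.sum_le_sum
    intro g _
    by_cases hg : g ∈ N ∧ Pm g
    · rw [if_pos hg]
      by_cases hgZ : g ∈ Z
      · rw [if_pos hgZ]
        have : (0 : ℝ) ≤ if g ∈ D then ‖χ g‖ ^ 2 else 0 := by
          split_ifs
          · exact sq_nonneg _
          · exact le_refl _
        linarith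
      · rw [if_neg hgZ, if_pos (show g ∈ D from ⟨hgZ, hg.2⟩), zero_add]
    · rw [if_neg hg]
      have h3 : (0 : ℝ) ≤ if g ∈ D then ‖χ g‖ ^ 2 else 0 := by
        split_ifs
        · exact sq_nonneg _
        · exact le_refl _
      have h4 : (0 : ℝ) ≤ if g ∈ Z then ‖χ g‖ ^ 2 else 0 := by
        split_ifs
        · exact sq_nonneg _
        · exact le_refl _
      linarith
  -- the average on `Z H`
  have hαZH : ∀ z ∈ Z, ∀ h ∈ H, ‖α (z * h)‖ ^ 2 = (a' : ℝ) ^ 2 := by
    intro z hz h hh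
    have h2 : α (z * h) = (χ z / χ 1) * (a' : ℂ) := by
      show (Nat.card H : ℂ)⁻¹ * ∑ k : H, χ (z * h * (k : G)) = _
      rw [sum_center_mul H hχ z hz h hh, ← ha', classInner_def]
      have h3 : ∑ k : H, (fun h : H => χ (h : G)) k * conj ((fun _ : H => (1 : ℂ)) k)
          = ∑ k : H, χ (k : G) := by
        apply Finset.sum_congr rfl
        intro k _
        simp
      rw [h3]
      ring
    rw [h2, norm_mul, norm_div, norm_center hχ z hz, div_self, one_mul, Complex.norm_natCast]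
    rw [hd, Complex.norm_natCast]
    exact_mod_cast hd0.ne'
  have hstep3 : (Nat.card Z : ℝ) * (Nat.card H : ℝ) * (a' : ℝ) ^ 2
      ≤ ∑ g : G, (if g ∈ N ∧ Pm g then ‖α g‖ ^ 2 else 0) := by
    rw [← Finset.sum_filter]
    set S : Finset G := ((Finset.univ.filter (· ∈ Z)) ×ˢ (Finset.univ.filter (· ∈ H))).image
      (fun p : G × G => p.1 * p.2) with hS
    have hinj : Set.InjOn (fun p : G × G => p.1 * p.2)
        (((Finset.univ.filter (· ∈ Z)) ×ˢ (Finset.univ.filter (· ∈ H)) : Finset (G × G)) :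
          Set (G × G)) := by
      rintro ⟨z, h⟩ hp ⟨z', h'⟩ hp' heq
      rw [Finset.mem_coe, Finset.mem_product, Finset.mem_filter, Finset.mem_filter] at hp hp'
      have hz : z ∈ Z := hp.1.2
      have hh : h ∈ H := hp.2.2
      have hz' : z' ∈ Z := hp'.1.2
      have hh' : h' ∈ H := hp'.2.2
      have heq' : z * h = z' * h' := heq
      have h2 : z'⁻¹ * z = h' * h⁻¹ := by
        have : z'⁻¹ * (z * h) * h⁻¹ = z'⁻¹ * (z' * h') * h⁻¹ := by rw [heq']
        rw [show z'⁻¹ * (z * h) * h⁻¹ = z'⁻¹ * z by group,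
          show z'⁻¹ * (z' * h') * h⁻¹ = h' * h⁻¹ by group] at this
        exact this
      have h3 : h' * h⁻¹ ∈ H ⊓ Z := by
        refine Subgroup.mem_inf.2 ⟨H.mul_mem hh' (H.inv_mem hh), ?_⟩
        rw [← h2]
        exact Z.mul_mem (Z.inv_mem hz') hz
      rw [hZ, Subgroup.mem_bot] at h3
      have h4 : h' = h := mul_inv_eq_one.1 h3
      have h5 : z' = z := by
        rw [h3] at h2
        have := inv_mul_eq_one.1 h2
        exact this
      rw [h4, h5]
    have hsub : S ⊆ Finset.univ.filter (fun g => g ∈ N ∧ Pm g) := by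
      intro g hg
      obtain ⟨⟨z, h⟩, hp, rfl⟩ := Finset.mem_image.1 hg
      rw [Finset.mem_product, Finset.mem_filter, Finset.mem_filter] at hp
      have hz : z ∈ Z := hp.1.2
      have hh : h ∈ H := hp.2.2
      rw [Finset.mem_filter]
      refine ⟨Finset.mem_univ _, N.mul_mem (hZN hz) (hHN hh), ?_⟩
      show Subgroup.centralizer ({z * h} : Set G) ⊓ H ≠ ⊥
      rw [meets_one_iff]
      refine ⟨h₀, hh₀, hh₀1, ?_⟩
      have hzc : ∀ y : G, y * z = z * y := Subgroup.mem_center_iff.1 hz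
      rw [mul_assoc, hab h hh h₀ hh₀, ← mul_assoc, ← hzc h₀, mul_assoc]
    calc (Nat.card Z : ℝ) * (Nat.card H : ℝ) * (a' : ℝ) ^ 2
        = ∑ p ∈ (Finset.univ.filter (· ∈ Z)) ×ˢ (Finset.univ.filter (· ∈ H)),
            ‖α (p.1 * p.2)‖ ^ 2 := by
          have hterm : ∀ p ∈ (Finset.univ.filter (· ∈ Z)) ×ˢ (Finset.univ.filter (· ∈ H)),
              ‖α (p.1 * p.2)‖ ^ 2 = (a' : ℝ) ^ 2 := by
            intro p hp
            rw [Finset.mem_product, Finset.mem_filter, Finset.mem_filter] at hp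
            exact hαZH p.1 hp.1.2 p.2 hp.2.2
          rw [Finset.sum_congr rfl hterm, Finset.sum_const, nsmul_eq_mul, Finset.card_product]
          push_cast
          congr 2
          · rw [Nat.card_eq_fintype_card, Fintype.card_subtype]
          · rw [Nat.card_eq_fintype_card, Fintype.card_subtype]
      _ = ∑ g ∈ S, ‖α g‖ ^ 2 := by
          rw [hS, Finset.sum_image hinj]
      _ ≤ ∑ g ∈ Finset.univ.filter (fun g => g ∈ N ∧ Pm g), ‖α g‖ ^ 2 :=
          Finset.sum_le_sum_of_subset_of_nonneg hsub (fun _ _ _ => sq_nonneg _)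
  -- assembly
  have hG0 : (0 : ℝ) < Nat.card G := by exact_mod_cast Nat.card_pos
  have hN0 : (0 : ℝ) < Nat.card N := by exact_mod_cast Nat.card_pos
  have hZ0 : (0 : ℝ) < Nat.card Z := by exact_mod_cast Nat.card_pos
  have hd1 : ‖χ 1‖ ^ 2 = (d : ℝ) ^ 2 := by rw [hd, Complex.norm_natCast]
  rw [hd1] at hti
  have hdpos : (0 : ℝ) < (d : ℝ) ^ 2 := by
    have : (0 : ℝ) < d := by exact_mod_cast hd0
    positivity
  obtain ⟨SD, hSD⟩ : ∃ SD : ℝ, SD = ∑ g : G, (if g ∈ D then ‖χ g‖ ^ 2 else 0) := ⟨_, rfl⟩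
  rw [← hSD] at hti hstep2
  have hfinal : (Nat.card G : ℝ) * (Nat.card Z : ℝ) * ((Nat.card H : ℝ) * (a' : ℝ) ^ 2)
      < (Nat.card G : ℝ) * (Nat.card Z : ℝ) * (d : ℝ) ^ 2 := by
    have h5 : (Nat.card N : ℝ) ≤ (Nat.card Z : ℝ) * (d : ℝ) ^ 2 + SD
        - (Nat.card Z : ℝ) * (Nat.card H : ℝ) * (a' : ℝ) ^ 2 := by linarith
    have h6 : (Nat.card G : ℝ) * (Nat.card N : ℝ)
        ≤ (Nat.card G : ℝ) * ((Nat.card Z : ℝ) * (d : ℝ) ^ 2 + SD
          - (Nat.card Z : ℝ) * (Nat.card H : ℝ) * (a' : ℝ) ^ 2) :=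
      mul_le_mul_of_nonneg_left h5 hG0.le
    have h7 : (0 : ℝ) < (Nat.card N : ℝ) * (d : ℝ) ^ 2 := mul_pos hN0 hdpos
    nlinarith
  have hpos : (0 : ℝ) < (Nat.card G : ℝ) * (Nat.card Z : ℝ) := mul_pos hG0 hZ0
  exact lt_of_mul_lt_mul_left hfinal hpos.le

end Main

end FTLemma

end Cfsg.Agent.Lib.Helper11
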