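import Cfsg.Agent.Lib.Helper11.FTLemma3
import Cfsg.Agent.Lib.Helper11.BLStep2

/-!
The lemma of Feit and Thompson, part 4: the second inequality `(1 + χ(1))² > |H|`.
-/

set_option autoImplicit false

namespace Cfsg.Agent.Lib.Helper11

open Cfsg
open Cfsg.Agent.Lib.Helper2
open scoped ComplexConjugate

namespace FTLemma

section Second

variable {G : Type*} [Group G] [Fintype G]

open Classical in
/-- For an abelian subgroup `H`, the norm of the restriction of a character of degree `d` to `H`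
is at least `d`. -/
theorem norm_restrict_abelian_ge (H : Subgroup G) [Fintype H]
    (hab : ∀ a ∈ H, ∀ b ∈ H, a * b = b * a) {χ : G → ℂ} (hχ : IsCharacter G χ) (d : ℕ)
    (hd : χ 1 = (d : ℂ)) :
    (d : ℝ) ≤ (classInner (fun h : H => χ h) (fun h : H => χ h)).re := by
  haveI : Fintype (IrrCharacter H) := Fintype.ofFinite _
  have hψ : IsCharacter H (fun h : H => χ h) := IsCharacter.restrict hχ H
  have hcomm : ∀ a b : H, a * b = b * a := fun a b => Subtype.ext (hab a a.2 b b.2)
  obtain ⟨c, e, hc, he, hsum⟩ := IsCharacter.sum_inner_mul_degree hψ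
  have he1 : ∀ θ : IrrCharacter H, e θ = 1 := by
    intro θ
    have h1 := IsIrrCharacter.apply_one_of_comm hcomm θ.2
    rw [(he θ).1] at h1
    exact_mod_cast h1
  have hsumc : ∑ θ : IrrCharacter H, c θ = d := by
    have h1 : ((∑ θ : IrrCharacter H, c θ * e θ : ℕ) : ℂ) = (d : ℂ) := by
      rw [← hsum]
      exact hd
    have h2 : ∑ θ : IrrCharacter H, c θ * e θ = ∑ θ : IrrCharacter H, c θ := by
      apply Finset.sum_congr rfl
      intro θ _
      rw [he1 θ, mul_one]
    rw [h2] at h1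
    exact_mod_cast h1
  have hb := bessel_indexed_le (Finset.univ : Finset (IrrCharacter H))
    (fun θ => (θ : H → ℂ))
    (fun i _ j _ => by
      rw [classInner_irr_eq_ite i.2 j.2]
      by_cases hij : i = j
      · rw [if_pos hij, if_pos (congrArg Subtype.val hij)]
      · rw [if_neg hij, if_neg (fun h => hij (Subtype.ext h))]) (fun h : H => χ h)
  have h1 : ∑ θ : IrrCharacter H, ‖classInner (fun h : H => χ h) (θ : H → ℂ)‖ ^ 2
      = ((∑ θ : IrrCharacter H, c θ ^ 2 : ℕ) : ℝ) := by
    push_cast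
    apply Finset.sum_congr rfl
    intro θ _
    rw [hc θ, Complex.norm_natCast]
  rw [h1] at hb
  refine le_trans ?_ hb
  have h2 : d ≤ ∑ θ : IrrCharacter H, c θ ^ 2 := by
    rw [← hsumc]
    apply Finset.sum_le_sum
    intro θ _
    rcases Nat.eq_zero_or_pos (c θ) with h | h
    · rw [h]; exact Nat.zero_le _
    · calc c θ = c θ * 1 := (mul_one _).symm
        _ ≤ c θ * c θ := Nat.mul_le_mul_left _ h
        _ = c θ ^ 2 := (sq _).symm
  exact_mod_cast h2

open Classical in
/-- The second inequality of the Feit–Thompson lemma. -/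
theorem ft_second (H : Subgroup G) [Fintype H]
    (hab : ∀ a ∈ H, ∀ b ∈ H, a * b = b * a)
    (hZ : H ⊓ Subgroup.center G = ⊥)
    (hone : ∀ g : G, g ∉ Subgroup.center G → ∀ a b : G,
      Subgroup.centralizer ({g} : Set G) ⊓ H.map (MulAut.conj a).toMonoidHom ≠ ⊥ →
      Subgroup.centralizer ({g} : Set G) ⊓ H.map (MulAut.conj b).toMonoidHom ≠ ⊥ →
      H.map (MulAut.conj a).toMonoidHom = H.map (MulAut.conj b).toMonoidHom)
    (χ : G → ℂ) (hχ : IsIrrCharacter G χ) (hχ1 : χ 1 ≠ 1)
    (hgen : ∀ M : Subgroup G, M.Normal → H ≤ M → M = ⊤) :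
    (Nat.card H : ℝ) < (1 + (χ 1).re) ^ 2 := by
  haveI : Fintype (IrrCharacter G) := Fintype.ofFinite _
  have hchar := IsIrrCharacter.isCharacter hχ
  obtain ⟨d, hd0, hd⟩ := IsIrrCharacter.apply_one hχ
  have hd2 : 2 ≤ d := by
    have : d ≠ 1 := by
      rintro rfl
      apply hχ1
      rw [hd, Nat.cast_one]
    omega
  rw [hd, Complex.natCast_re]
  by_contra hcon
  push Not at hcon
  have hHge : (d + 1) ^ 2 ≤ Nat.card H := by
    have h1 : (((d + 1) ^ 2 : ℕ) : ℝ) ≤ (Nat.card H : ℝ) := by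
      push_cast
      linarith
    exact_mod_cast h1
  set Φ : G → ℂ := fun g => χ g * conj (χ g) with hΦdef
  have hΦ : IsCharacter G Φ :=
    isCharacter_mul hchar (IsIrrCharacter.isCharacter (isIrrCharacter_conj hχ))
  obtain ⟨m, dd, hm, hdd, hsum⟩ := IsCharacter.sum_inner_mul_degree hΦ
  have hΦ1 : Φ 1 = ((d ^ 2 : ℕ) : ℂ) := by
    show χ 1 * conj (χ 1) = _
    rw [hd, Complex.conj_natCast]
    push_cast
    ring
  have hsum' : d ^ 2 = ∑ ψ : IrrCharacter G, m ψ * dd ψ := by
    rw [hΦ1] at hsum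
    exact_mod_cast hsum
  let one : IrrCharacter G := ⟨fun _ => 1, isIrrCharacter_one⟩
  have hm1 : m one = 1 := by
    have h1 := hm one
    have h2 : classInner Φ (one : G → ℂ) = 1 := by
      show classInner (fun g => χ g * conj (χ g)) (fun _ : G => (1 : ℂ)) = 1
      rw [BLData.inner_mul_conj_one]
      exact classInner_irrCharacter_self (⟨χ, hχ⟩ : IrrCharacter G)
    rw [h2] at h1
    exact_mod_cast h1.symm
  have hdd1 : dd one = 1 := by
    have h1 := (hdd one).1
    have h2 : (one : G → ℂ) 1 = 1 := rfl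
    rw [h2] at h1
    exact_mod_cast h1.symm
  have hone' : IsCharacter H (fun _ : H => (1 : ℂ)) :=
    IsIrrCharacter.isCharacter isIrrCharacter_one
  have ha : ∀ ψ : IrrCharacter G, ∃ n : ℕ,
      classInner (fun h : H => (ψ : G → ℂ) h) (fun _ : H => (1 : ℂ)) = (n : ℂ) :=
    fun ψ => classInner_isCharacter_nat
      (IsCharacter.restrict (IsIrrCharacter.isCharacter ψ.2) H) hone'
  choose a ha using ha
  have ha1 : a one = 1 := by
    have h1 := ha one
    have h2 : classInner (fun h : H => (one : G → ℂ) h) (fun _ : H => (1 : ℂ)) = 1 :=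
      classInner_irrCharacter_self (⟨_, isIrrCharacter_one⟩ : IrrCharacter H)
    rw [h2] at h1
    exact_mod_cast h1.symm
  -- the first inequality for the nonprincipal irreducible characters
  have hlt : ∀ ψ : IrrCharacter G, ψ ≠ one → (d + 1) * a ψ < dd ψ := by
    intro ψ hψ
    have hk : ∃ h ∈ H, (ψ : G → ℂ) h ≠ (ψ : G → ℂ) 1 := by
      by_contra hno
      push Not at hno
      obtain ⟨K, hKn, hK⟩ := Cfsg.Agent.Lib.Helper25.exists_kernel (IsIrrCharacter.isCharacter ψ.2)
      have hHK : H ≤ K := fun h hh => (hK h).2 (hno h hh)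
      have hKtop := hgen K hKn hHK
      have hconst : ∀ g, (ψ : G → ℂ) g = (ψ : G → ℂ) 1 := by
        intro g
        apply (hK g).1
        rw [hKtop]
        exact Subgroup.mem_top g
      apply hψ
      by_contra hne
      have h1 := classInner_irrCharacter_ne hne
      rw [classInner_def] at h1
      have h2 : ∑ g : G, (ψ : G → ℂ) g * conj ((one : G → ℂ) g)
          = (Nat.card G : ℂ) * (ψ : G → ℂ) 1 := by
        rw [Finset.sum_congr rfl (fun g _ => by
          show (ψ : G → ℂ) g * conj (1 : ℂ) = (ψ : G → ℂ) 1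
          rw [map_one, mul_one, hconst g])]
        rw [Finset.sum_const, Finset.card_univ, nsmul_eq_mul, Nat.card_eq_fintype_card]
      rw [h2, ← mul_assoc, inv_mul_cancel₀ card_ne_zero_complex, one_mul] at h1
      exact IsIrrCharacter.apply_one_ne_zero ψ.2 h1
    have h1 := ft_first H hab hZ hone ψ ψ.2 hk
    rw [ha ψ, (hdd ψ).1, Complex.natCast_re, Complex.natCast_re] at h1
    have h2 : Nat.card H * a ψ ^ 2 < dd ψ ^ 2 := by exact_mod_cast h1
    have h3 : ((d + 1) * a ψ) ^ 2 < dd ψ ^ 2 := by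
      calc ((d + 1) * a ψ) ^ 2 = (d + 1) ^ 2 * a ψ ^ 2 := by ring
        _ ≤ Nat.card H * a ψ ^ 2 := Nat.mul_le_mul_right _ hHge
        _ < dd ψ ^ 2 := h2
    exact lt_of_pow_lt_pow_left₀ 2 (Nat.zero_le _) h3
  -- the restriction of `Φ` to `H`
  have hb : classInner (fun h : H => Φ h) (fun _ : H => (1 : ℂ))
      = ((∑ ψ : IrrCharacter G, m ψ * a ψ : ℕ) : ℂ) := by
    have hexp := classFunction_expansion Φ (IsCharacter.isClassFunction hΦ)
    have h1 : (fun h : H => Φ h) = ∑ ψ : IrrCharacter G,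
        classInner Φ (ψ : G → ℂ) • (fun h : H => (ψ : G → ℂ) h) := by
      funext h
      have h2 := congrFun hexp (h : G)
      rw [Finset.sum_apply] at h2
      rw [Finset.sum_apply]
      exact h2
    rw [h1, classInner_sum_left]
    push_cast
    apply Finset.sum_congr rfl
    intro ψ _
    rw [classInner_smul_left, hm ψ, ha ψ]
  have hbd : d ≤ ∑ ψ : IrrCharacter G, m ψ * a ψ := by
    have h1 := norm_restrict_abelian_ge H hab hchar d hd
    have h2 : classInner (fun h : H => Φ h) (fun _ : H => (1 : ℂ))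
        = classInner (fun h : H => χ h) (fun h : H => χ h) :=
      BLData.inner_mul_conj_one (fun h : H => χ h)
    rw [← h2, hb, Complex.natCast_re] at h1
    exact_mod_cast h1
  -- split off the principal character
  have hsplitB : ∑ ψ : IrrCharacter G, m ψ * a ψ
      = 1 + ∑ ψ ∈ Finset.univ.erase one, m ψ * a ψ := by
    rw [← Finset.add_sum_erase Finset.univ _ (Finset.mem_univ one), hm1, ha1]
  have hsplitT : ∑ ψ : IrrCharacter G, m ψ * dd ψ
      = 1 + ∑ ψ ∈ Finset.univ.erase one, m ψ * dd ψ := by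
    rw [← Finset.add_sum_erase Finset.univ _ (Finset.mem_univ one), hm1, hdd1]
  set R := ∑ ψ ∈ Finset.univ.erase one, m ψ * a ψ with hR
  set T := ∑ ψ ∈ Finset.univ.erase one, m ψ * dd ψ with hT
  have hTpos : 0 < T := by
    have : d ^ 2 = 1 + T := by rw [hsum', hsplitT]
    have h4 : 4 ≤ d ^ 2 := by nlinarith
    omega
  have hRT : (d + 1) * R < T := by
    rw [hR, hT, Finset.mul_sum]
    apply Finset.sum_lt_sum
    · intro ψ hψ
      have h1 := hlt ψ (Finset.ne_of_mem_erase hψ)
      calc (d + 1) * (m ψ * a ψ) = m ψ * ((d + 1) * a ψ) := by ring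
        _ ≤ m ψ * dd ψ := Nat.mul_le_mul_left _ h1.le
    · -- some nonprincipal constituent occurs
      have hex : ∃ ψ ∈ Finset.univ.erase one, m ψ * dd ψ ≠ 0 := by
        by_contra hno
        push Not at hno
        have : T = 0 := Finset.sum_eq_zero hno
        omega
      obtain ⟨ψ, hψ, hne⟩ := hex
      refine ⟨ψ, hψ, ?_⟩
      have hmpos : 0 < m ψ := Nat.pos_of_ne_zero (fun h => hne (by rw [h, zero_mul]))
      have h1 := hlt ψ (Finset.ne_of_mem_erase hψ)
      calc (d + 1) * (m ψ * a ψ) = m ψ * ((d + 1) * a ψ) := by ring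
        _ < m ψ * dd ψ := Nat.mul_lt_mul_of_pos_left h1 hmpos
  have hd2T : d ^ 2 = 1 + T := by rw [hsum', hsplitT]
  have hdR : d ≤ 1 + R := by rw [← hsplitB]; exact hbd
  have h5 := Nat.mul_le_mul_left (d + 1) hdR
  nlinarith

end Second

end FTLemma

end Cfsg.Agent.Lib.Helper11
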