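import Cfsg.Agent.Lib.Helper11.IndIrr
import Cfsg.Agent.Lib.Helper11.CentralBound
import Cfsg.Agent.Lib.Helper11.CohExtend
import Cfsg.Agent.S1517

/-!
More on `inducedIrrAbove K A`: sub-coherence-systems, the case `⁅K, K⁆ ≤ A` (linear characters,
uniform degree, coherence), and counting.
-/

set_option autoImplicit false

namespace Cfsg.Agent.Lib.Helper11

open Cfsg
open Cfsg.Agent.Lib.Helper2
open scoped ComplexConjugate

section SubSystem

variable {L : Type*} [Group L] [Fintype L] {G : Type*} [Group G] [Fintype G]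
  {S : Set (L → ℂ)} {τ : (L → ℂ) → (G → ℂ)} {R : (L → ℂ) → Finset (G → ℂ)}

/-- A nonempty conjugation-closed subset of a coherence system is a coherence system. -/
theorem IsCoherenceSystem.subset (hS : IsCoherenceSystem S τ R) {S₂ : Set (L → ℂ)} (h2 : S₂ ⊆ S)
    (hne : S₂.Nonempty) (hc : ∀ φ ∈ S₂, conjFun φ ∈ S₂) : IsCoherenceSystem S₂ τ R where
  nonempty := hne
  isCharacter := fun χ hχ => hS.isCharacter χ (h2 hχ)
  conj_mem := hc
  conj_ne := fun χ hχ => hS.conj_ne χ (h2 hχ)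
  isometry := isLinearIsometryOn_mono hS.isometry (Cfsg.Agent.S1516.zspanOn_mono h2 _)
  map_one := fun α hα => hS.map_one α (Cfsg.Agent.S1516.zspanOn_mono h2 _ hα)
  orthogonal := fun χ hχ φ hφ hne => hS.orthogonal χ (h2 hχ) φ (h2 hφ) hne
  orthonormal := fun χ hχ => hS.orthonormal χ (h2 hχ)
  virtual := fun χ hχ => hS.virtual χ (h2 hχ)
  sum_eq := fun χ hχ => hS.sum_eq χ (h2 hχ)
  disjoint := fun χ hχ φ hφ => hS.disjoint χ (h2 hχ) φ (h2 hφ)

end SubSystem

section Abelian
open Classical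

variable {L : Type*} [Group L] [Fintype L] (K : Subgroup L)

/-- If `⁅K, K⁆ ≤ A`, the irreducible characters of `K` trivial on `A` are linear. -/
theorem irrDeg_eq_one_of_commutator_le (A : Subgroup L) (hA : ⁅K, K⁆ ≤ A) (θ : IrrCharacter K)
    (hθ : ∀ a : K, (a : L) ∈ A → (θ : K → ℂ) a = (θ : K → ℂ) 1) : irrDeg θ = 1 := by
  have h := IsIrrCharacter.degree_sq_le_of_central θ.2 (⊤ : Subgroup K) (⊤ : Subgroup K)
    (by
      intro x _ y _
      apply hθ
      have := Subgroup.commutator_mem_commutator x.2 y.2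
      rw [commutatorElement_def] at this
      exact hA (by simpa using this)) (irrDeg θ) (irrDeg_spec θ)
  rw [Subgroup.index_top, Subgroup.relIndex_top_right, Subgroup.index_top] at h
  have hpos := irrDeg_pos θ
  nlinarith

variable {G : Type*} [Group G] [Fintype G]
  {τ : (L → ℂ) → (G → ℂ)} {R : (L → ℂ) → Finset (G → ℂ)}

/-- Peterfalvi (6.4), first step: if `K` is solvable and `⁅K, K⁆ ≤ A < K` then `S(A)` is
coherent (all its members have degree `[L:K]`). -/
theorem coherent_inducedIrrAbove_of_commutator_le (hsolv : Group.IsSolvable K)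
    (hS : IsCoherenceSystem (inducedIrrAbove K ⊥) τ R) (A : Subgroup L) [A.Normal]
    (hA : ⁅K, K⁆ ≤ A) (hAK : A < K) : IsCoherent (inducedIrrAbove K A) {1}ᶜ τ := by
  haveI : Fintype (IrrCharacter K) := Fintype.ofFinite _
  obtain ⟨μ, hμ, -⟩ := exists_linear_mem_irrAboveFinset K hsolv A hAK
  have hne : (inducedIrrAbove K A).Nonempty := by
    rw [mem_irrAboveFinset] at hμ
    exact ⟨_, μ.1, μ.2, hμ.1, hμ.2, rfl⟩
  have hsub := IsCoherenceSystem.subset hS (inducedIrrAbove_subset_bot K A) hne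
    (fun φ hφ => conjFun_mem_inducedIrrAbove K hφ)
  apply Cfsg.Agent.S1517.result _ τ R hsub
  have hdeg : ∀ φ ∈ inducedIrrAbove K A, φ 1 = (K.index : ℂ) := by
    rintro φ ⟨θ, hθ, -, hker, rfl⟩
    rw [indFun_apply_one]
    have h1 := irrDeg_eq_one_of_commutator_le K A hA (⟨θ, hθ⟩ : IrrCharacter K) hker
    have h2 := irrDeg_spec (⟨θ, hθ⟩ : IrrCharacter K)
    rw [h1] at h2
    change θ 1 = _ at h2
    rw [h2]
    simp
  intro φ hφ ψ hψ
  rw [hdeg φ hφ, hdeg ψ hψ]

end Abelian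

end Cfsg.Agent.Lib.Helper11
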