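import Cfsg.Agent.S1520
import Cfsg.Agent.Lib.Helper11.Coherence4
import Cfsg.Agent.Lib.Helper11.EqualDegree
import Cfsg.Agent.Lib.Helper11.IndIrr2

/-!
Feit's coherence theorem for sets of irreducible characters induced from a normal subgroup `K`:
iterated extension, the step `S(A) → S(B)`, the chain when `[K:H₁] > 4[L:K]² + 1`, and the base
case `⁅K, K⁆ ≤ H₁`.
-/

set_option autoImplicit false

namespace Cfsg.Agent.Lib.Helper11

open Cfsg
open Cfsg.Agent.Lib.Helper2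
open scoped ComplexConjugate

section FeitChain

variable {L : Type*} [Group L] [Fintype L] {G : Type*} [Group G] [Fintype G]

/-- Repeated application of Feit's lemma for irreducible characters: extending a coherent set
`S_A` to `S_B ⊇ S_A`. -/
theorem feit_extend (S : Set (L → ℂ)) (hirr : ∀ χ ∈ S, IsIrrCharacter L χ)
    (τ : (L → ℂ) → (G → ℂ)) (hτ : IsLinearIsometryOn (zspanOn S {1}ᶜ) τ)
    (hτ1 : ∀ α ∈ zspanOn S {1}ᶜ, τ α 1 = 0)
    (d : (L → ℂ) → ℕ) (hd : ∀ φ ∈ S, φ 1 = (d φ : ℂ))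
    (S_A S_B : Finset (L → ℂ)) (hAB : S_A ⊆ S_B) (hB : ↑S_B ⊆ S)
    (hcohA : IsCoherent (↑S_A : Set (L → ℂ)) {1}ᶜ τ)
    (χ₁ : L → ℂ) (hχ₁ : χ₁ ∈ S_A) (hdvd : ∀ χ ∈ S_B, d χ₁ ∣ d χ)
    (hineq : ∀ χ ∈ S_B, 2 * d χ₁ * d χ < ∑ φ ∈ S_A, d φ ^ 2) :
    IsCoherent (↑S_B : Set (L → ℂ)) {1}ᶜ τ := by
  classical
  have key : ∀ k : ℕ, ∀ S₁ : Finset (L → ℂ), S_A ⊆ S₁ → S₁ ⊆ S_B →
      IsCoherent (↑S₁ : Set (L → ℂ)) {1}ᶜ τ → (S_B \ S₁).card = k →
      IsCoherent (↑S_B : Set (L → ℂ)) {1}ᶜ τ := by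
    intro k
    induction k using Nat.strong_induction_on with
    | _ k ih =>
      intro S₁ hAS₁ hS₁B hcoh₁ hk
      by_cases hk0 : S_B \ S₁ = ∅
      · have hsub : S_B ⊆ S₁ := Finset.sdiff_eq_empty_iff_subset.1 hk0
        have heq : S₁ = S_B := Finset.Subset.antisymm hS₁B hsub
        rw [← heq]
        exact hcoh₁
      · obtain ⟨χ, hχ⟩ := Finset.nonempty_iff_ne_empty.2 hk0
        rw [Finset.mem_sdiff] at hχ
        have hχS : χ ∈ S := hB (Finset.mem_coe.2 hχ.1)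
        have hsub' : (↑(insert χ S₁) : Set (L → ℂ)) ⊆ S := by
          intro x hx
          rcases Finset.mem_insert.1 (Finset.mem_coe.1 hx) with rfl | hx'
          · exact hχS
          · exact hB (Finset.mem_coe.2 (hS₁B hx'))
        have hsum : ∑ φ ∈ S_A, d φ ^ 2 ≤ ∑ φ ∈ S₁, d φ ^ 2 :=
          Finset.sum_le_sum_of_subset hAS₁
        have hcoh₂ := feit_coherence_irr S₁ χ
          (fun ξ hξ => hirr ξ (hB (Finset.mem_coe.2 (hS₁B hξ)))) (hirr χ hχS) hχ.2 d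
          (fun ξ hξ => hd ξ (hsub' (Finset.mem_coe.2 hξ))) τ
          (isLinearIsometryOn_mono hτ (zspanOn_mono' hsub' _))
          (fun α hα => hτ1 α (zspanOn_mono' hsub' _ hα)) hcoh₁ χ₁ (hAS₁ hχ₁) (hdvd χ hχ.1)
          (lt_of_lt_of_le (hineq χ hχ.1) hsum)
        have hlt : (S_B \ insert χ S₁).card < k := by
          rw [← hk]
          apply Finset.card_lt_card
          rw [Finset.ssubset_iff_of_subset]
          · refine ⟨χ, Finset.mem_sdiff.2 hχ, ?_⟩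
            rw [Finset.mem_sdiff]
            intro h
            exact h.2 (Finset.mem_insert_self _ _)
          · intro x hx
            rw [Finset.mem_sdiff] at hx ⊢
            exact ⟨hx.1, fun h => hx.2 (Finset.mem_insert_of_mem h)⟩
        refine ih _ hlt (insert χ S₁) ?_ ?_ hcoh₂ rfl
        · exact fun x hx => Finset.mem_insert_of_mem (hAS₁ hx)
        · intro x hx
          rcases Finset.mem_insert.1 hx with rfl | h
          · exact hχ.1
          · exact hS₁B h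
  exact key _ S_A (Finset.Subset.refl _) hAB hcohA rfl

/-- The step `S(A) → S(B)` of Feit's theorem (irreducible induced characters). -/
theorem feit_step (K : Subgroup L) [hK : K.Normal] (hsolv : Group.IsSolvable K)
    (hirr : ∀ χ ∈ inducedIrrAbove K ⊥, IsIrrCharacter L χ)
    (τ : (L → ℂ) → (G → ℂ)) (hτ : IsLinearIsometryOn (zspanOn (inducedIrrAbove K ⊥) {1}ᶜ) τ)
    (hτ1 : ∀ α ∈ zspanOn (inducedIrrAbove K ⊥) {1}ᶜ, τ α 1 = 0)
    (A B D : Subgroup L) [A.Normal] [B.Normal] [D.Normal] (hAK : A < K) (hBA : B ≤ A)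
    (hcent : ∀ x ∈ D, ∀ y ∈ K, x * y * x⁻¹ * y⁻¹ ∈ B)
    (hA : IsCoherent (inducedIrrAbove K A) {1}ᶜ τ)
    (hlt : 4 * K.index ^ 2 * D.relIndex K < (A.relIndex K - 1) ^ 2) :
    IsCoherent (inducedIrrAbove K B) {1}ᶜ τ := by
  classical
  haveI : Fintype (IrrCharacter K) := Fintype.ofFinite _
  have hd' : ∀ φ : L → ℂ, ∃ m : ℕ, φ ∈ inducedIrrAbove K ⊥ → φ 1 = (m : ℂ) := by
    intro φ
    by_cases h : φ ∈ inducedIrrAbove K ⊥
    · obtain ⟨m, hm⟩ := IsCharacter.apply_one (IsIrrCharacter.isCharacter (hirr φ h))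
      exact ⟨m, fun _ => hm⟩
    · exact ⟨0, fun h' => absurd h' h⟩
  choose d hd using hd'
  have hcA := coe_inducedFinset K A
  have hcB := coe_inducedFinset K B
  have hdeg : ∀ (X : Subgroup L) (θ : IrrCharacter K), θ ∈ irrAboveFinset K X →
      d (indFun K (θ : K → ℂ)) = K.index * irrDeg θ := by
    intro X θ hθ
    rw [mem_irrAboveFinset] at hθ
    have hmem : indFun K (θ : K → ℂ) ∈ inducedIrrAbove K ⊥ :=
      inducedIrrAbove_subset_bot K X ⟨θ.1, θ.2, hθ.1, hθ.2, rfl⟩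
    have := hd _ hmem
    rw [indFun_apply_one, irrDeg_spec] at this
    exact_mod_cast this.symm
  obtain ⟨lam, hlam, hlam1⟩ := exists_linear_mem_irrAboveFinset K hsolv A hAK
  have hkpos : 0 < K.index := Nat.pos_of_ne_zero Subgroup.index_ne_zero_of_finite
  rw [← hcB]
  refine feit_extend (inducedIrrAbove K ⊥) hirr τ hτ hτ1 d hd (inducedFinset K A)
    (inducedFinset K B) ?_ ?_ ?_ (indFun K (lam : K → ℂ)) ?_ ?_ ?_
  · intro φ hφ
    have h1 : φ ∈ (↑(inducedFinset K A) : Set (L → ℂ)) := hφ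
    rw [hcA] at h1
    have h2 := inducedIrrAbove_mono K hBA h1
    rw [← hcB] at h2
    exact h2
  · rw [hcB]; exact inducedIrrAbove_subset_bot K B
  · rw [hcA]; exact hA
  · exact Finset.mem_image_of_mem _ hlam
  · intro χ hχ
    obtain ⟨θ, hθ, rfl⟩ := Finset.mem_image.1 hχ
    rw [hdeg A lam hlam, hdeg B θ hθ, hlam1, mul_one]
    exact Dvd.intro _ rfl
  · intro χ hχ
    obtain ⟨θ, hθ, rfl⟩ := Finset.mem_image.1 hχ
    have hs := sum_inducedFinset K A d (fun _ : L → ℂ => 1)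
      (fun φ hφ => hd φ (inducedIrrAbove_subset_bot K A hφ))
      (fun φ hφ => by
        rw [classInner_irr_eq_ite (hirr φ (inducedIrrAbove_subset_bot K A hφ))
          (hirr φ (inducedIrrAbove_subset_bot K A hφ)), if_pos rfl]
        simp)
    have hsN : ((∑ φ ∈ inducedFinset K A, d φ ^ 2 : ℕ) : ℝ)
        = (K.index : ℝ) * ((A.relIndex K : ℝ) - 1) := by
      rw [← hs]
      push_cast
      apply Finset.sum_congr rfl
      intro φ _
      simp
    rw [hdeg A lam hlam, hdeg B θ hθ, hlam1, mul_one]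
    -- the degree bound
    have hθ' := (mem_irrAboveFinset K B θ).1 hθ
    have hbound := IsIrrCharacter.degree_sq_le_of_central θ.2 (⊤ : Subgroup K) (D.subgroupOf K)
      (by
        intro x hx y _
        apply hθ'.2
        have := hcent x (Subgroup.mem_subgroupOf.1 hx) y y.2
        simpa using this) (irrDeg θ) (irrDeg_spec θ)
    rw [Subgroup.index_top, Subgroup.relIndex_top_right, one_pow, one_mul] at hbound
    have hbound' : irrDeg θ ^ 2 ≤ D.relIndex K := hbound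
    have hsq : (2 * K.index * irrDeg θ) ^ 2 < (A.relIndex K - 1) ^ 2 := by
      calc (2 * K.index * irrDeg θ) ^ 2 = 4 * K.index ^ 2 * irrDeg θ ^ 2 := by ring
        _ ≤ 4 * K.index ^ 2 * D.relIndex K := Nat.mul_le_mul_left _ hbound'
        _ < (A.relIndex K - 1) ^ 2 := hlt
    have hlin : 2 * K.index * irrDeg θ < A.relIndex K - 1 := by
      by_contra hcon
      have := Nat.pow_le_pow_left (not_lt.1 hcon) 2
      omega
    have hlin' : (2 * K.index * irrDeg θ : ℝ) + 1 < (A.relIndex K : ℝ) := by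
      have : 2 * K.index * irrDeg θ + 1 < A.relIndex K := by omega
      exact_mod_cast this
    have hk : (0 : ℝ) < (K.index : ℝ) := by exact_mod_cast hkpos
    have hgoal : ((2 * K.index * (K.index * irrDeg θ) : ℕ) : ℝ)
        < ((∑ φ ∈ inducedFinset K A, d φ ^ 2 : ℕ) : ℝ) := by
      rw [hsN]
      push_cast
      have h3 := mul_pos hk (sub_pos.2 hlin')
      nlinarith [h3]
    exact_mod_cast hgoal

/-- Arithmetic for the chain. -/
theorem feit_chain_arith (e h : ℕ) (hbig : 4 * e ^ 2 + 1 < h) :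
    4 * e ^ 2 * h < (h - 1) ^ 2 := by
  obtain ⟨m, rfl⟩ : ∃ m, h = m + 1 := ⟨h - 1, by omega⟩
  rw [Nat.add_sub_cancel]
  have h1 : 4 * e ^ 2 + 1 ≤ m := by omega
  nlinarith [Nat.mul_le_mul_right m h1]

/-- The chain: if `S(H₁)` is coherent, `[K:H₁] > 4[L:K]² + 1` and `K/M` is nilpotent, then
`S(M)` is coherent. -/
theorem feit_chain (K : Subgroup L) [hK : K.Normal] (hsolv : Group.IsSolvable K)
    (hirr : ∀ χ ∈ inducedIrrAbove K ⊥, IsIrrCharacter L χ)
    (τ : (L → ℂ) → (G → ℂ)) (hτ : IsLinearIsometryOn (zspanOn (inducedIrrAbove K ⊥) {1}ᶜ) τ)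
    (hτ1 : ∀ α ∈ zspanOn (inducedIrrAbove K ⊥) {1}ᶜ, τ α 1 = 0)
    (M H₁ : Subgroup L) [M.Normal] [H₁.Normal] (hMH₁ : M ≤ H₁) (hH₁K : H₁ ≤ K)
    [(M.subgroupOf K).Normal] (hnil : Group.IsNilpotent (↥K ⧸ M.subgroupOf K))
    (hcoh : IsCoherent (inducedIrrAbove K H₁) {1}ᶜ τ)
    (hbig : 4 * K.index ^ 2 + 1 < H₁.relIndex K) :
    IsCoherent (inducedIrrAbove K M) {1}ᶜ τ := by
  obtain ⟨c, hc⟩ := exists_lowerCentralSeries_le_of_nilpotent_quotient K M hnil
  have hrel_ne : ∀ X Y : Subgroup L, X.relIndex Y ≠ 0 := fun X Y =>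
    (Subgroup.index_ne_zero_of_finite : (X.subgroupOf Y).index ≠ 0)
  suffices key : ∀ k : ℕ, ∀ H₁ : Subgroup L, H₁.Normal → M ≤ H₁ → H₁ ≤ K →
      IsCoherent (inducedIrrAbove K H₁) {1}ᶜ τ → 4 * K.index ^ 2 + 1 < H₁.relIndex K →
      Nat.card H₁ = k → IsCoherent (inducedIrrAbove K M) {1}ᶜ τ from
    key _ H₁ inferInstance hMH₁ hH₁K hcoh hbig rfl
  intro k
  induction k using Nat.strong_induction_on with
  | _ k ih =>
    intro H₁ hH₁n hMH₁ hH₁K hcoh hbig hk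
    by_cases heq : H₁ = M
    · rw [← heq]; exact hcoh
    · haveI := hH₁n
      have hH₂n : (M ⊔ ⁅H₁, K⁆).Normal := inferInstance
      have hH₂le : M ⊔ ⁅H₁, K⁆ ≤ H₁ := sup_le hMH₁ (Subgroup.commutator_le_left H₁ K)
      have hH₂ne : M ⊔ ⁅H₁, K⁆ ≠ H₁ := by
        intro h
        apply heq
        exact le_antisymm (le_of_le_sup_commutator M H₁ K hH₁K c hc (le_of_eq h.symm)) hMH₁
      have hlt : M ⊔ ⁅H₁, K⁆ < H₁ := lt_of_le_of_ne hH₂le hH₂ne
      have hH₁ltK : H₁ < K := by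
        refine lt_of_le_of_ne hH₁K ?_
        intro h
        have : H₁.relIndex K = 1 := Subgroup.relIndex_eq_one.2 (le_of_eq h.symm)
        omega
      have hcent : ∀ x ∈ H₁, ∀ y ∈ K, x * y * x⁻¹ * y⁻¹ ∈ M ⊔ ⁅H₁, K⁆ := by
        intro x hx y hy
        have := Subgroup.commutator_mem_commutator hx hy
        rw [commutatorElement_def] at this
        exact (le_sup_right : ⁅H₁, K⁆ ≤ M ⊔ ⁅H₁, K⁆) this
      have hnum : 4 * K.index ^ 2 * H₁.relIndex K < (H₁.relIndex K - 1) ^ 2 :=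
        feit_chain_arith _ _ hbig
      have hcoh₂ := feit_step K hsolv hirr τ hτ hτ1 H₁ (M ⊔ ⁅H₁, K⁆) H₁ hH₁ltK hH₂le
        hcent hcoh hnum
      have hbig' : 4 * K.index ^ 2 + 1 < (M ⊔ ⁅H₁, K⁆).relIndex K := by
        have := Subgroup.relIndex_le_of_le_left (L := K) hH₂le (hrel_ne _ _)
        omega
      have hcard : Nat.card (M ⊔ ⁅H₁, K⁆ : Subgroup L) < k := by
        rw [← hk]
        have h1 : ((M ⊔ ⁅H₁, K⁆ : Subgroup L) : Set L) ⊂ (H₁ : Set L) := by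
          rw [SetLike.coe_ssubset_coe]; exact hlt
        have := Set.ncard_lt_ncard h1 (Set.toFinite _)
        rwa [← Nat.card_coe_set_eq, ← Nat.card_coe_set_eq] at this
      exact ih _ hcard (M ⊔ ⁅H₁, K⁆) hH₂n le_sup_left (hH₂le.trans hH₁K) hcoh₂ hbig' rfl

/-- The base case: if `⁅K, K⁆ ≤ H₁` and `[K:H₁] ≥ 2[L:K] + 1`, then `S(H₁)` consists of at least
two irreducible characters of degree `[L:K]`, hence is coherent. -/
theorem feit_base (K : Subgroup L) [hK : K.Normal]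
    (hirr : ∀ χ ∈ inducedIrrAbove K ⊥, IsIrrCharacter L χ)
    (τ : (L → ℂ) → (G → ℂ)) (hτ : IsLinearIsometryOn (zspanOn (inducedIrrAbove K ⊥) {1}ᶜ) τ)
    (hτ1 : ∀ α ∈ zspanOn (inducedIrrAbove K ⊥) {1}ᶜ, τ α 1 = 0)
    (H₁ : Subgroup L) [H₁.Normal] (hcomm : ⁅K, K⁆ ≤ H₁)
    (hbig : 2 * K.index + 1 ≤ H₁.relIndex K) :
    IsCoherent (inducedIrrAbove K H₁) {1}ᶜ τ := by
  classical
  haveI : Fintype (IrrCharacter K) := Fintype.ofFinite _
  have hsub : inducedIrrAbove K H₁ ⊆ inducedIrrAbove K ⊥ := inducedIrrAbove_subset_bot K H₁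
  obtain ⟨e, he⟩ : ∃ e, e = K.index := ⟨_, rfl⟩
  have hepos : 0 < e := by
    rw [he]
    exact Nat.pos_of_ne_zero Subgroup.index_ne_zero_of_finite
  have hdegS : ∀ χ ∈ inducedIrrAbove K H₁, χ 1 = (e : ℂ) := by
    rintro χ ⟨θ, hθ, hθ1, htriv, rfl⟩
    have h1 := irrDeg_eq_one_of_commutator_le K H₁ hcomm (⟨θ, hθ⟩ : IrrCharacter K) htriv
    have h2 := irrDeg_spec (⟨θ, hθ⟩ : IrrCharacter K)
    rw [h1] at h2
    have h3 : θ 1 = 1 := by
      simpa using h2
    rw [indFun_apply_one, h3, mul_one, he]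
  obtain ⟨FS, hFSdef⟩ : ∃ FS, FS = inducedFinset K H₁ := ⟨_, rfl⟩
  have hFScoe : (↑FS : Set (L → ℂ)) = inducedIrrAbove K H₁ := by
    rw [hFSdef]
    exact coe_inducedFinset K H₁
  have hcount : FS.card * e + 1 = H₁.relIndex K := by
    have hd : ∀ φ ∈ inducedIrrAbove K H₁,
        φ 1 = (((fun _ : L → ℂ => e) φ : ℕ) : ℂ) := fun φ hφ => hdegS φ hφ
    have hn : ∀ φ ∈ inducedIrrAbove K H₁,
        classInner φ φ = (((fun _ : L → ℂ => 1) φ : ℕ) : ℂ) := by
      intro φ hφ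
      rw [classInner_irr_eq_ite (hirr φ (hsub hφ)) (hirr φ (hsub hφ)), if_pos rfl]
      simp
    have hs := sum_inducedFinset K H₁ (fun _ : L → ℂ => e) (fun _ : L → ℂ => 1) hd hn
    rw [← he, ← hFSdef, Finset.sum_const, nsmul_eq_mul] at hs
    have heR : (e : ℝ) ≠ 0 := by exact_mod_cast hepos.ne'
    have h2 : (FS.card : ℝ) * (e : ℝ) = (H₁.relIndex K : ℝ) - 1 := by
      apply mul_left_cancel₀ heR
      have h3 : ((1 : ℕ) : ℝ) = 1 := Nat.cast_one
      rw [h3, div_one] at hs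
      linear_combination hs
    have h3 : ((FS.card * e + 1 : ℕ) : ℝ) = ((H₁.relIndex K : ℕ) : ℝ) := by
      push_cast
      linarith
    exact_mod_cast h3
  have hcard2 : 1 < FS.card := by
    by_contra hcon
    have h1 : FS.card ≤ 1 := not_lt.1 hcon
    have h2 : FS.card * e ≤ 1 * e := Nat.mul_le_mul_right e h1
    rw [← he] at hbig
    omega
  obtain ⟨χ₁, hχ₁, χ₂, hχ₂, h12⟩ := Finset.one_lt_card.1 hcard2
  apply coherent_of_equal_degree (inducedIrrAbove K H₁) _ (fun χ hχ => hirr χ (hsub hχ)) _ _ τ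
    (isLinearIsometryOn_mono hτ (zspanOn_mono' hsub _))
    (fun α hα => hτ1 α (zspanOn_mono' hsub _ hα))
  · rw [← hFScoe]
    exact FS.finite_toSet
  · intro φ hφ ψ hψ
    rw [hdegS φ hφ, hdegS ψ hψ]
  · refine ⟨χ₁, ?_, χ₂, ?_, h12⟩
    · rw [← hFScoe]
      exact hχ₁
    · rw [← hFScoe]
      exact hχ₂

end FeitChain

end Cfsg.Agent.Lib.Helper11
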