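import Cfsg.Agent.Lib.Helper11.FeitChain
import Cfsg.Agent.Lib.Helper11.NilSylow
import Cfsg.Agent.Lib.Helper11.NilQuot
import Cfsg.Agent.Lib.Helper11.FrobBasic
import Cfsg.Agent.Lib.Helper11.FrobQuot

/-!
Feit's coherence theorem for a Frobenius group whose (nilpotent) kernel is not of prime power
order: the set of irreducible characters not containing the kernel in their kernel is coherent.
-/

set_option autoImplicit false

namespace Cfsg.Agent.Lib.Helper11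

open Cfsg
open Cfsg.Agent.Lib.Helper2

section GroupTheory

variable {L : Type*} [Group L]

/-- The preimage in `K` of the centre of `K/B`, as a normal subgroup. -/
theorem exists_centralMod (K B : Subgroup L) [hK : K.Normal] [hB : B.Normal] :
    ∃ D : Subgroup L, D.Normal ∧ ∀ x, x ∈ D ↔ x ∈ K ∧ ∀ y ∈ K, x * y * x⁻¹ * y⁻¹ ∈ B := by
  let D : Subgroup L :=
    { carrier := {x | x ∈ K ∧ ∀ y ∈ K, x * y * x⁻¹ * y⁻¹ ∈ B}
      one_mem' := ⟨K.one_mem, fun y _ => by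
        have : (1 : L) * y * 1⁻¹ * y⁻¹ = 1 := by group
        rw [this]
        exact B.one_mem⟩
      mul_mem' := by
        rintro a b ⟨haK, ha⟩ ⟨hbK, hb⟩
        refine ⟨K.mul_mem haK hbK, fun y hy => ?_⟩
        have e : a * b * y * (a * b)⁻¹ * y⁻¹
            = a * (b * y * b⁻¹ * y⁻¹) * a⁻¹ * (a * y * a⁻¹ * y⁻¹) := by group
        rw [e]
        exact B.mul_mem (hB.conj_mem _ (hb y hy) a) (ha y hy)
      inv_mem' := by
        rintro a ⟨haK, ha⟩
        refine ⟨K.inv_mem haK, fun y hy => ?_⟩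
        have e : a⁻¹ * y * a⁻¹⁻¹ * y⁻¹ = a⁻¹ * (a * y * a⁻¹ * y⁻¹)⁻¹ * a⁻¹⁻¹ := by group
        rw [e]
        exact hB.conj_mem _ (B.inv_mem (ha y hy)) a⁻¹ }
  have hDmem : ∀ x, x ∈ D ↔ x ∈ K ∧ ∀ y ∈ K, x * y * x⁻¹ * y⁻¹ ∈ B := fun x => Iff.rfl
  refine ⟨D, ⟨?_⟩, hDmem⟩
  intro x hx g
  rw [hDmem] at hx ⊢
  refine ⟨hK.conj_mem x hx.1 g, fun y hy => ?_⟩
  have hy' : g⁻¹ * y * g ∈ K := by
    have := hK.conj_mem y hy g⁻¹
    simpa using this
  have e : g * x * g⁻¹ * y * (g * x * g⁻¹)⁻¹ * y⁻¹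
      = g * (x * (g⁻¹ * y * g) * x⁻¹ * (g⁻¹ * y * g)⁻¹) * g⁻¹ := by group
  rw [e]
  exact hB.conj_mem _ (hx.2 _ hy') g

/-- A step down from `A`: an `L`-normal subgroup `B` with `⁅A, K⁆ ≤ B < A` and `A/B` of prime
exponent. -/
theorem exists_prime_pow_step [Finite L] (K A : Subgroup L) [hK : K.Normal] [hA : A.Normal]
    (hAK : A ≤ K) (hne : ¬ A ≤ ⁅A, K⁆) :
    ∃ (B : Subgroup L) (r : ℕ), B.Normal ∧ r.Prime ∧ ⁅A, K⁆ ≤ B ∧ B < A ∧
      ∀ x ∈ A, x ^ r ∈ B := by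
  classical
  obtain ⟨B₀, hB₀⟩ : ∃ B₀ : Subgroup L, B₀ = ⁅A, K⁆ := ⟨_, rfl⟩
  haveI hB₀n : B₀.Normal := by rw [hB₀]; infer_instance
  have hB₀A : B₀ ≤ A := by rw [hB₀]; exact Subgroup.commutator_le_left A K
  rw [← hB₀] at hne ⊢
  -- the quotient `A / B₀` is commutative
  have hcomm : ∀ a b : ↥A ⧸ B₀.subgroupOf A, a * b = b * a := by
    intro a b
    obtain ⟨x, rfl⟩ := QuotientGroup.mk_surjective a
    obtain ⟨y, rfl⟩ := QuotientGroup.mk_surjective b
    rw [← QuotientGroup.mk_mul, ← QuotientGroup.mk_mul, QuotientGroup.eq,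
      Subgroup.mem_subgroupOf, hB₀]
    have := Subgroup.commutator_mem_commutator (H₁ := A) (H₂ := K) (A.inv_mem y.2)
      (hAK (A.inv_mem x.2))
    rw [commutatorElement_def] at this
    simpa [mul_assoc] using this
  have hcard1 : Nat.card (↥A ⧸ B₀.subgroupOf A) ≠ 1 := by
    intro h
    apply hne
    have h1 : (B₀.subgroupOf A).index = 1 := h
    rw [Subgroup.index_eq_one, Subgroup.subgroupOf_eq_top] at h1
    exact h1
  obtain ⟨r, hr, hrdvd⟩ := Nat.exists_prime_and_dvd hcard1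
  haveI : Fact r.Prime := ⟨hr⟩
  obtain ⟨q₀, hq₀⟩ := exists_prime_orderOf_dvd_card' r hrdvd
  -- the elements of `A` whose image is an `r`-th power
  let R' : Subgroup L :=
    { carrier := {b | ∃ hb : b ∈ A, ∃ y : ↥A ⧸ B₀.subgroupOf A,
          ((⟨b, hb⟩ : ↥A) : ↥A ⧸ B₀.subgroupOf A) = y ^ r}
      one_mem' := ⟨A.one_mem, 1, by rw [one_pow]; rfl⟩
      mul_mem' := by
        rintro a b ⟨ha, y, hy⟩ ⟨hb, y', hy'⟩
        refine ⟨A.mul_mem ha hb, y * y', ?_⟩
        have e : (⟨a * b, A.mul_mem ha hb⟩ : ↥A) = ⟨a, ha⟩ * ⟨b, hb⟩ := rfl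
        rw [e, QuotientGroup.mk_mul, hy, hy', (show Commute y y' from hcomm y y').mul_pow]
      inv_mem' := by
        rintro a ⟨ha, y, hy⟩
        refine ⟨A.inv_mem ha, y⁻¹, ?_⟩
        have e : (⟨a⁻¹, A.inv_mem ha⟩ : ↥A) = ⟨a, ha⟩⁻¹ := rfl
        rw [e, QuotientGroup.mk_inv, hy, inv_pow] }
  have hR'mem : ∀ b, b ∈ R' ↔ ∃ hb : b ∈ A, ∃ y : ↥A ⧸ B₀.subgroupOf A,
      ((⟨b, hb⟩ : ↥A) : ↥A ⧸ B₀.subgroupOf A) = y ^ r := fun b => Iff.rfl
  obtain ⟨s, hs⟩ : ∃ s : Set L, s = {z | ∃ x ∈ A, z = x ^ r} := ⟨_, rfl⟩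
  obtain ⟨B, hBdef⟩ : ∃ B : Subgroup L, B = B₀ ⊔ Subgroup.normalClosure s := ⟨_, rfl⟩
  have hpowR : ∀ x (hx : x ∈ A), x ^ r ∈ R' := by
    intro x hx
    rw [hR'mem]
    refine ⟨A.pow_mem hx r, ((⟨x, hx⟩ : ↥A) : ↥A ⧸ B₀.subgroupOf A), ?_⟩
    rw [← QuotientGroup.mk_pow]
    rfl
  have hBR : B ≤ R' := by
    rw [hBdef]
    apply sup_le
    · intro b hb
      rw [hR'mem]
      refine ⟨hB₀A hb, 1, ?_⟩
      rw [one_pow, QuotientGroup.eq_one_iff, Subgroup.mem_subgroupOf]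
      exact hb
    · show Subgroup.closure (Group.conjugatesOfSet s) ≤ R'
      rw [Subgroup.closure_le]
      intro z hz
      obtain ⟨w, hw, hconj⟩ := Group.mem_conjugatesOfSet_iff.1 hz
      rw [hs] at hw
      obtain ⟨x, hx, rfl⟩ := hw
      obtain ⟨c, rfl⟩ := isConj_iff.1 hconj
      rw [← conj_pow]
      exact hpowR _ (hA.conj_mem x hx c)
  have hBn : B.Normal := by rw [hBdef]; infer_instance
  have hBA : B ≤ A := by
    rw [hBdef]
    apply sup_le hB₀A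
    apply Subgroup.normalClosure_le_normal
    rintro z hz
    rw [hs] at hz
    obtain ⟨x, hx, rfl⟩ := hz
    exact A.pow_mem hx r
  have hpowB : ∀ x ∈ A, x ^ r ∈ B := by
    intro x hx
    rw [hBdef]
    apply (le_sup_right : Subgroup.normalClosure s ≤ B₀ ⊔ Subgroup.normalClosure s)
    apply Subgroup.subset_normalClosure
    rw [hs]
    exact ⟨x, hx, rfl⟩
  have hnotle : ¬ A ≤ B := by
    intro hAB
    have hsurj : Function.Surjective (fun q : ↥A ⧸ B₀.subgroupOf A => q ^ r) := by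
      intro q
      obtain ⟨a, rfl⟩ := QuotientGroup.mk_surjective q
      obtain ⟨hb, y, hy⟩ := (hR'mem _).1 (hBR (hAB a.2))
      exact ⟨y, hy.symm⟩
    have hinj := Finite.injective_iff_surjective.2 hsurj
    have h1 : (fun q : ↥A ⧸ B₀.subgroupOf A => q ^ r) q₀
        = (fun q : ↥A ⧸ B₀.subgroupOf A => q ^ r) 1 := by
      show q₀ ^ r = 1 ^ r
      rw [one_pow, ← hq₀]
      exact pow_orderOf_eq_one q₀
    have h2 : q₀ = 1 := hinj h1
    rw [h2, orderOf_one] at hq₀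
    exact hr.one_lt.ne hq₀
  exact ⟨B, r, hBn, hr, by rw [hBdef]; exact le_sup_left, lt_of_le_not_ge hBA hnotle, hpowB⟩

/-- In a nilpotent normal subgroup `K`, modulo a normal subgroup `B` whose index in `K` is
divisible by the prime `s`, there is an element of `K` outside `B`, central modulo `B` and of
`s`-power order modulo `B`. -/
theorem exists_central_mod_prime [Finite L] (K B : Subgroup L) [hK : K.Normal] [hB : B.Normal]
    (hnil : Group.IsNilpotent K) (s : ℕ) (hs : s.Prime)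
    (hdvd : s ∣ B.relIndex K) :
    ∃ x ∈ K, (∀ y ∈ K, x * y * x⁻¹ * y⁻¹ ∈ B) ∧ x ∉ B ∧ ∃ j : ℕ, x ^ (s ^ j) ∈ B := by
  classical
  haveI := hnil
  haveI : Fact s.Prime := ⟨hs⟩
  haveI : Group.IsNilpotent (↥K ⧸ B.subgroupOf K) := inferInstance
  have hdvd' : s ∣ Nat.card (↥K ⧸ B.subgroupOf K) := hdvd
  obtain ⟨P⟩ : Nonempty (Sylow s (↥K ⧸ B.subgroupOf K)) := inferInstance
  haveI : Nontrivial (P : Subgroup (↥K ⧸ B.subgroupOf K)) :=
    (Subgroup.nontrivial_iff_ne_bot _).2 (P.ne_bot_of_dvd_card hdvd')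
  have hPg : IsPGroup s (P : Subgroup (↥K ⧸ B.subgroupOf K)) := P.isPGroup'
  haveI := hPg.center_nontrivial
  obtain ⟨z, hz1⟩ := exists_ne (1 : Subgroup.center (P : Subgroup (↥K ⧸ B.subgroupOf K)))
  obtain ⟨zQ, hzQ⟩ : ∃ zQ : ↥K ⧸ B.subgroupOf K,
      zQ = ((z : (P : Subgroup (↥K ⧸ B.subgroupOf K))) : ↥K ⧸ B.subgroupOf K) := ⟨_, rfl⟩
  have hzP : zQ ∈ (P : Subgroup (↥K ⧸ B.subgroupOf K)) := by
    rw [hzQ]
    exact (z : (P : Subgroup (↥K ⧸ B.subgroupOf K))).2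
  have hzc : ∀ y ∈ (P : Subgroup (↥K ⧸ B.subgroupOf K)), zQ * y = y * zQ := by
    intro y hy
    have := Subgroup.mem_center_iff.1 z.2 ⟨y, hy⟩
    rw [hzQ]
    exact (congrArg Subtype.val this).symm
  have hzZ : zQ ∈ Subgroup.center (↥K ⧸ B.subgroupOf K) :=
    mem_center_of_sylow_central P hzP hzc
  have hzne : zQ ≠ 1 := by
    intro h
    apply hz1
    apply Subtype.ext
    apply Subtype.ext
    rw [← hzQ, h]
    rfl
  obtain ⟨k, hk⟩ := QuotientGroup.mk_surjective zQ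
  refine ⟨(k : L), k.2, ?_, ?_, ?_⟩
  · intro y hy
    have h1 : ((k * ⟨y, hy⟩ * k⁻¹ * (⟨y, hy⟩ : ↥K)⁻¹ : ↥K) : ↥K ⧸ B.subgroupOf K) = 1 := by
      rw [QuotientGroup.mk_mul, QuotientGroup.mk_mul, QuotientGroup.mk_mul, QuotientGroup.mk_inv,
        QuotientGroup.mk_inv, hk]
      have := Subgroup.mem_center_iff.1 hzZ ((⟨y, hy⟩ : ↥K) : ↥K ⧸ B.subgroupOf K)
      rw [← this]
      group
    have h2 := (QuotientGroup.eq_one_iff _).1 h1
    exact Subgroup.mem_subgroupOf.1 h2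
  · intro hxB
    apply hzne
    rw [← hk]
    exact (QuotientGroup.eq_one_iff k).2 (Subgroup.mem_subgroupOf.2 hxB)
  · obtain ⟨j, hj⟩ := hPg ⟨zQ, hzP⟩
    refine ⟨j, ?_⟩
    have h1 : zQ ^ (s ^ j) = 1 := by
      have := congrArg Subtype.val hj
      simpa using this
    rw [← hk, ← QuotientGroup.mk_pow, QuotientGroup.eq_one_iff, Subgroup.mem_subgroupOf] at h1
    simpa using h1

/-- If `e ∣ a - 1`, `e ∣ b - 1` and `b = q a`, then `e ∣ q - 1`. -/
theorem dvd_quot_sub_one {e a b q : ℕ} (hab : b = q * a) (ha : e ∣ a - 1) (hb : e ∣ b - 1)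
    (ha0 : 0 < a) : e ∣ q - 1 := by
  rcases Nat.eq_zero_or_pos q with hq | hq
  · rw [hq]
    exact dvd_zero e
  · have e1 : b - 1 = q * (a - 1) + (q - 1) := by
      rw [hab, Nat.mul_sub, mul_one]
      have : q ≤ q * a := Nat.le_mul_of_pos_right _ ha0
      omega
    rw [e1] at hb
    exact (Nat.dvd_add_right (Dvd.dvd.mul_left ha q)).1 hb

/-- Sections of a Frobenius kernel between normal subgroups have order at least `e + 1`. -/
theorem frob_succ_le_relIndex [Finite L] (K : Subgroup L)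
    (hF : ∀ k ∈ K, k ≠ 1 → ∀ x : L, x * k = k * x → x ∈ K)
    (X Y : Subgroup L) [X.Normal] [Y.Normal] (hXY : X < Y) (hYK : Y ≤ K) :
    K.index + 1 ≤ X.relIndex Y := by
  have d1 := index_dvd_card_sub_one_of_frob K hF X (hXY.le.trans hYK)
  have d2 := index_dvd_card_sub_one_of_frob K hF Y hYK
  have hmul : Nat.card Y = X.relIndex Y * Nat.card X := by
    have := Subgroup.relIndex_mul_relIndex ⊥ X Y bot_le hXY.le
    rw [Subgroup.relIndex_bot_left, Subgroup.relIndex_bot_left] at this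
    rw [← this, mul_comm]
  have d3 := dvd_quot_sub_one hmul d1 d2 Nat.card_pos
  have hq1 : X.relIndex Y ≠ 1 := fun h => (not_le_of_gt hXY) (Subgroup.relIndex_eq_one.1 h)
  have hq0 : X.relIndex Y ≠ 0 := (Subgroup.index_ne_zero_of_finite : (X.subgroupOf Y).index ≠ 0)
  have := Nat.le_of_dvd (by omega) d3
  omega

/-- Arithmetic for the non-prime-power case. -/
theorem feit_nonp_arith (e h q kd : ℕ) (he : 0 < e) (hq : e + 1 ≤ q) (hh : (e + 1) ^ 2 ≤ h)
    (hmul : kd * q = h) : 4 * e ^ 2 * kd < (h - 1) ^ 2 := by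
  have hh1 : 1 ≤ h := le_trans (Nat.one_le_pow _ _ (by omega)) hh
  obtain ⟨m, rfl⟩ : ∃ m, h = m + 1 := ⟨h - 1, by omega⟩
  rw [Nat.add_sub_cancel]
  have hm : e ^ 2 + 2 * e ≤ m := by
    have : (e + 1) ^ 2 = e ^ 2 + 2 * e + 1 := by ring
    omega
  obtain ⟨t, rfl⟩ := Nat.exists_eq_add_of_le hm
  have h1 : kd * (e + 1) ≤ e ^ 2 + 2 * e + t + 1 := by
    rw [← hmul]
    exact Nat.mul_le_mul_left kd hq
  have h2 : 4 * e ^ 2 * (e ^ 2 + 2 * e + t + 1) < (e + 1) * (e ^ 2 + 2 * e + t) ^ 2 := by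
    have e1 : (e + 1) * (e ^ 2 + 2 * e + t) ^ 2 = 4 * e ^ 2 * (e ^ 2 + 2 * e + t + 1)
        + (e ^ 4 * (e + 1) + t * (2 * e ^ 3 + 2 * e ^ 2 + 4 * e) + (e + 1) * t ^ 2) := by ring
    rw [e1]
    have : 0 < e ^ 4 * (e + 1) := by positivity
    omega
  have h3 : 4 * e ^ 2 * kd * (e + 1) < (e ^ 2 + 2 * e + t) ^ 2 * (e + 1) := by
    calc 4 * e ^ 2 * kd * (e + 1) = 4 * e ^ 2 * (kd * (e + 1)) := by ring
      _ ≤ 4 * e ^ 2 * (e ^ 2 + 2 * e + t + 1) := Nat.mul_le_mul_left _ h1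
      _ < (e + 1) * (e ^ 2 + 2 * e + t) ^ 2 := h2
      _ = (e ^ 2 + 2 * e + t) ^ 2 * (e + 1) := by ring
  exact Nat.lt_of_mul_lt_mul_right h3

end GroupTheory

section FeitNonP

variable {L : Type*} [Group L] [Fintype L] {G : Type*} [Group G] [Fintype G]

/-- Feit's theorem when the (nilpotent) Frobenius kernel is not of prime power order. -/
theorem feit_nonp (K : Subgroup L) [hK : K.Normal] (hnil : Group.IsNilpotent K)
    (hF : ∀ k ∈ K, k ≠ 1 → ∀ x : L, x * k = k * x → x ∈ K)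
    (hirr : ∀ χ ∈ inducedIrrAbove K ⊥, IsIrrCharacter L χ)
    (τ : (L → ℂ) → (G → ℂ)) (hτ : IsLinearIsometryOn (zspanOn (inducedIrrAbove K ⊥) {1}ᶜ) τ)
    (hτ1 : ∀ α ∈ zspanOn (inducedIrrAbove K ⊥) {1}ᶜ, τ α 1 = 0)
    (hnp : ¬ ∃ p m : ℕ, p.Prime ∧ Nat.card K = p ^ m) :
    IsCoherent (inducedIrrAbove K ⊥) {1}ᶜ τ := by
  classical
  haveI := hnil
  have hsolv : Group.IsSolvable K := inferInstance
  obtain ⟨e, he⟩ : ∃ e, e = K.index := ⟨_, rfl⟩
  have hepos : 0 < e := by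
    rw [he]
    exact Nat.pos_of_ne_zero Subgroup.index_ne_zero_of_finite
  have hrel_ne : ∀ X Y : Subgroup L, X.relIndex Y ≠ 0 := fun X Y =>
    (Subgroup.index_ne_zero_of_finite : (X.subgroupOf Y).index ≠ 0)
  obtain ⟨K', hK'⟩ : ∃ K' : Subgroup L, K' = ⁅K, K⁆ := ⟨_, rfl⟩
  haveI hK'n : K'.Normal := by rw [hK']; infer_instance
  have hK'K : K' ≤ K := by rw [hK']; exact Subgroup.commutator_le_left K K
  have hnilq : Group.IsNilpotent (↥K ⧸ (⊥ : Subgroup L).subgroupOf K) := inferInstance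
  have hnpp : ¬ ∃ p j : ℕ, p.Prime ∧ K'.relIndex K = p ^ j := by
    rintro ⟨p, j, hp, hj⟩
    apply hnp
    have hj' : (⁅K, K⁆ ⊔ ⊥).relIndex K = p ^ j := by
      rw [sup_bot_eq, ← hK']
      exact hj
    obtain ⟨m, hm⟩ := relIndex_prime_pow_of_nilpotent K ⊥ bot_le hnilq p hp j hj'
    rw [Subgroup.relIndex_bot_left] at hm
    exact ⟨p, m, hp, hm⟩
  obtain ⟨N, hNn, hK'N, hNK⟩ :=
    exists_normal_between_of_not_prime_pow K K' (by rw [hK']) hK'K hnpp
  haveI := hNn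
  have hb1 : e + 1 ≤ N.relIndex K := by
    rw [he]
    exact frob_succ_le_relIndex K hF N K hNK le_rfl
  have hb2 : e + 1 ≤ K'.relIndex N := by
    rw [he]
    exact frob_succ_le_relIndex K hF K' N hK'N hNK.le
  have hsq : (e + 1) ^ 2 ≤ K'.relIndex K := by
    rw [← Subgroup.relIndex_mul_relIndex K' N K hK'N.le hNK.le, sq]
    exact Nat.mul_le_mul hb2 hb1
  have hbase : IsCoherent (inducedIrrAbove K K') {1}ᶜ τ := by
    apply feit_base K hirr τ hτ hτ1 K' (by rw [hK'])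
    rw [← he]
    nlinarith
  obtain ⟨c, hc⟩ := exists_lowerCentralSeries_le_of_nilpotent_quotient K ⊥ hnilq
  suffices key : ∀ k : ℕ, ∀ A : Subgroup L, A.Normal → A ≤ K' →
      IsCoherent (inducedIrrAbove K A) {1}ᶜ τ → Nat.card A = k →
      IsCoherent (inducedIrrAbove K ⊥) {1}ᶜ τ from key _ K' hK'n le_rfl hbase rfl
  intro k
  induction k using Nat.strong_induction_on with
  | _ k ih =>
    intro A hAn hAK' hcoh hk
    by_cases hA1 : A = ⊥
    · rw [← hA1]; exact hcoh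
    · haveI := hAn
      have hAK : A ≤ K := hAK'.trans hK'K
      have hne : ¬ A ≤ ⁅A, K⁆ := by
        intro h
        apply hA1
        have := le_of_le_sup_commutator ⊥ A K hAK c hc (by rw [bot_sup_eq]; exact h)
        exact le_bot_iff.1 this
      obtain ⟨B, r, hBn, hr, hcommB, hBA, hpow⟩ := exists_prime_pow_step K A hAK hne
      haveI := hBn
      obtain ⟨s, hs, hsdvd, hsr⟩ : ∃ s : ℕ, s.Prime ∧ s ∣ K'.relIndex K ∧ s ≠ r := by
        by_contra hcon
        push Not at hcon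
        apply hnpp
        refine ⟨r, _, hr, Nat.eq_prime_pow_of_unique_prime_dvd (hrel_ne _ _) ?_⟩
        intro d hd hdvd
        exact hcon d hd hdvd
      have hsdvd' : s ∣ B.relIndex K :=
        hsdvd.trans (Subgroup.relIndex_dvd_of_le_left K (hBA.le.trans hAK'))
      obtain ⟨x, hxK, hxc, hxB, j, hxj⟩ := exists_central_mod_prime K B hnil s hs hsdvd'
      obtain ⟨D, hDn, hDmem⟩ := exists_centralMod K B
      haveI := hDn
      have hAD : A ≤ D := by
        intro a ha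
        rw [hDmem]
        refine ⟨hAK ha, fun y hy => ?_⟩
        have := Subgroup.commutator_mem_commutator ha hy
        rw [commutatorElement_def] at this
        exact hcommB this
      have hDK : D ≤ K := fun d hd => ((hDmem d).1 hd).1
      have hxD : x ∈ D := (hDmem x).2 ⟨hxK, hxc⟩
      have hxA : x ∉ A := by
        intro hxA
        apply hxB
        have hcop : Nat.Coprime r (s ^ j) :=
          Nat.Coprime.pow_right j ((Nat.coprime_primes hr hs).2 hsr.symm)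
        have h1 : ((x : L ⧸ B)) ^ r = 1 := by
          rw [← QuotientGroup.mk_pow, QuotientGroup.eq_one_iff]
          exact hpow x hxA
        have h2 : ((x : L ⧸ B)) ^ (s ^ j) = 1 := by
          rw [← QuotientGroup.mk_pow, QuotientGroup.eq_one_iff]
          exact hxj
        have h3 : orderOf (x : L ⧸ B) ∣ Nat.gcd r (s ^ j) :=
          Nat.dvd_gcd (orderOf_dvd_of_pow_eq_one h1) (orderOf_dvd_of_pow_eq_one h2)
        rw [Nat.Coprime.gcd_eq_one hcop] at h3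
        have h4 : (x : L ⧸ B) = 1 := orderOf_eq_one_iff.1 (Nat.dvd_one.1 h3)
        exact (QuotientGroup.eq_one_iff x).1 h4
      have hAltD : A < D := lt_of_le_of_ne hAD (fun h => hxA (h ▸ hxD))
      have hq : e + 1 ≤ A.relIndex D := by
        rw [he]
        exact frob_succ_le_relIndex K hF A D hAltD hDK
      have hh : (e + 1) ^ 2 ≤ A.relIndex K :=
        hsq.trans (Subgroup.relIndex_le_of_le_left (L := K) hAK' (hrel_ne _ _))
      have hmul : A.relIndex D * D.relIndex K = A.relIndex K :=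
        Subgroup.relIndex_mul_relIndex A D K hAD hDK
      have hnum : 4 * K.index ^ 2 * D.relIndex K < (A.relIndex K - 1) ^ 2 := by
        rw [← he]
        exact feit_nonp_arith e _ _ _ hepos hq hh (by rw [mul_comm]; exact hmul)
      have hAltK : A < K := lt_of_le_of_lt hAK' (hK'N.trans hNK)
      have hcoh₂ := feit_step K hsolv hirr τ hτ hτ1 A B D hAltK hBA.le
        (fun x hx y hy => ((hDmem x).1 hx).2 y hy) hcoh hnum
      have hcard : Nat.card B < k := by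
        rw [← hk]
        have h1 : ((B : Subgroup L) : Set L) ⊂ (A : Set L) := by
          rw [SetLike.coe_ssubset_coe]; exact hBA
        have := Set.ncard_lt_ncard h1 (Set.toFinite _)
        rwa [← Nat.card_coe_set_eq, ← Nat.card_coe_set_eq] at this
      exact ih _ hcard B hBn (hBA.le.trans hAK') hcoh₂ rfl

end FeitNonP

end Cfsg.Agent.Lib.Helper11
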