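import Mathlib
import Cfsg.Prelude.Def_GeometricClasses
import Cfsg.Agent.Lib.Helper7.AschDefs
import Cfsg.Agent.Lib.Helper11.AschCliffDefs
import Cfsg.Agent.Lib.Helper11.AschCliffAct
import Cfsg.Agent.Lib.Helper11.S5630I4CL2
import Cfsg.Agent.Lib.Helper11.FormCliffDefs

/-!
# Clifford theory with a form: the enumerated isotypic components (`Comps`) and the refinement of CL2 (helper11)
-/

set_option autoImplicit false

namespace Cfsg.Agent.Lib.Helper11.FCliff

open Matrix Cfsg Cfsg.Geo Cfsg.Agent.Lib.Helper7.Asch Cfsg.Agent.Lib.Helper11.Cliff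
  Cfsg.Agent.Lib.Helper11.CliffAct Cfsg.Agent.Lib.Helper11.CliffCL
open scoped MatrixGroups Kronecker

variable {n : ℕ} {F : Type*} [Field F]

/-- the isotypic components of `V|_X`, enumerated, of equal dimension, permuted transitively by `H` -/
structure Comps {H X : Subgroup (GL (Fin n) F)} (hX : NormBy H X) {t : ℕ} (m : ℕ) (D : Fin t → SubM X) : Prop where
  inj : Function.Injective D
  range : Set.range D = isotypicComponents (envEnd X) (Fin n → F)
  dec : IsMDecomposition m (fun i => (D i).restrictScalars F)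
  perm : ∀ h (hh : h ∈ H), ∃ π : Equiv.Perm (Fin t), ∀ i, gmap h (nzr_of_normBy hX hh) (D i) = D (π i)
  trans : ∀ i j, ∃ h, ∃ hh : h ∈ H, gmap h (nzr_of_normBy hX hh) (D i) = D j

/-- **FC-CL2+**: refinement of CL2 keeping the components. -/
theorem homog_or_comps (H X : Subgroup (GL (Fin n) F)) (hH : Irr H) (hX : NormBy H X) :
    Homog X ∨ ∃ (t m : ℕ) (D : Fin t → SubM X), Comps hX m D := by
  haveI hss : IsSemisimpleModule (envEnd X) (Fin n → F) := isSemisimple_envEnd H X hH hX
  haveI : IsNoetherian (envEnd X) (Fin n → F) := isNoetherian_of_tower F inferInstance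
  set C : Set (SubM X) := isotypicComponents (envEnd X) (Fin n → F) with hC
  haveI : Finite C := inferInstanceAs (Finite (isotypicComponents (envEnd X) (Fin n → F)))
  by_cases h2 : ∃ c₁ ∈ C, ∃ c₂ ∈ C, c₁ ≠ c₂
  swap
  · left
    unfold Homog
    intro (m : SubM X) hm
    refine IsIsotypicOfType.of_isotypicComponent_eq_top (R := envEnd X) (M := Fin n → F) (S := m) ?_
    have hmem : isotypicComponent (envEnd X) (Fin n → F) m ∈ C := ⟨m, hm, rfl⟩
    have hsub : ∀ c ∈ C, c ≤ isotypicComponent (envEnd X) (Fin n → F) m := by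
      intro c hc
      by_contra hne
      exact h2 ⟨c, hc, _, hmem, fun h => hne h.le⟩
    have := sSup_isotypicComponents (envEnd X) (Fin n → F)
    exact top_unique (this ▸ sSup_le hsub)
  · right
    obtain ⟨c₁, hc₁, c₂, hc₂, hne⟩ := h2
    have htrans : ∀ c ∈ C, ∃ g : H, c = gmap g.1 (nzr_of_normBy hX g.2) c₁ := by
      intro c hc
      by_contra hno
      push Not at hno
      have hind := sSupIndep_isotypicComponents (envEnd X) (Fin n → F) hc
      have htop := orbitJoin_eq_top hH hX c₁ (bot_lt_isotypicComponents hc₁).ne'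
      have hle : (⨆ g : H, gmap g.1 (nzr_of_normBy hX g.2) c₁) ≤ sSup (C \ {c}) := by
        apply iSup_le
        intro g
        apply le_sSup
        exact ⟨gmap_mem_isotypicComponents _ hc₁, fun h => hno g h.symm⟩
      rw [htop] at hle
      have h3 : sSup (C \ {c}) = ⊤ := top_unique hle
      rw [h3, disjoint_top] at hind
      exact (bot_lt_isotypicComponents hc).ne' hind
    set t := Nat.card C with ht
    let e : Fin t ≃ C := (Finite.equivFin C).symm
    refine ⟨t, Module.finrank F (c₁.restrictScalars F), fun i => (e i).1, ?_, ?_, ?_, ?_, ?_⟩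
    · intro i j hij
      exact e.injective (Subtype.ext hij)
    · ext c
      constructor
      · rintro ⟨i, rfl⟩
        exact (e i).2
      · intro hc
        exact ⟨e.symm ⟨c, hc⟩, by simp⟩
    · refine ⟨?_, ?_, ?_, ?_, ?_⟩
      · haveI : Nontrivial C := ⟨⟨⟨c₁, hc₁⟩, ⟨c₂, hc₂⟩, by simpa using hne⟩⟩
        exact Finite.one_lt_card_iff_nontrivial.mpr inferInstance
      · rw [Module.finrank_pos_iff]
        rw [Submodule.nontrivial_iff_ne_bot]
        intro h
        exact (bot_lt_isotypicComponents hc₁).ne' ((Submodule.restrictScalars_eq_bot_iff F _ _).mp h)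
      · intro i
        obtain ⟨g, hg⟩ := htrans (e i).1 (e i).2
        change Module.finrank F ((e i).1.restrictScalars F) = _
        rw [hg, ← map_restrictScalars_eq, toLin'_eq_gl, LinearEquiv.finrank_map_eq]
      · apply iSupIndep_restrictScalars
        have h1 : iSupIndep (fun c : C => (c : SubM X)) :=
          (sSupIndep_iff _).mp (sSupIndep_isotypicComponents (envEnd X) (Fin n → F))
        exact h1.comp e.injective
      · have h1 : (⨆ i, (e i).1) = (⊤ : SubM X) := by
          rw [← sSup_isotypicComponents (envEnd X) (Fin n → F), sSup_eq_iSup']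
          exact e.iSup_comp (g := fun c : C => (c : SubM X))
        rw [← Submodule.restrictScalars_iSup, h1, Submodule.restrictScalars_top]
    · intro g hg
      have hN := nzr_of_normBy hX hg
      let pc : C ≃ C :=
        { toFun := fun c => ⟨gmap g hN c.1, gmap_mem_isotypicComponents hN c.2⟩
          invFun := fun c => ⟨gmap g⁻¹ hN.inv c.1, gmap_mem_isotypicComponents hN.inv c.2⟩
          left_inv := fun c => Subtype.ext (gmap_inv_gmap hN c.1)
          right_inv := fun c => Subtype.ext (gmap_gmap_inv hN c.1) }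
      refine ⟨(e.trans pc).trans e.symm, ?_⟩
      intro i
      simp [pc]
    · intro i j
      obtain ⟨gi, hgi⟩ := htrans (e i).1 (e i).2
      obtain ⟨gj, hgj⟩ := htrans (e j).1 (e j).2
      refine ⟨gj.1 * gi.1⁻¹, H.mul_mem gj.2 (H.inv_mem gi.2), ?_⟩
      rw [gmap_mul (nzr_of_normBy hX gj.2) (nzr_of_normBy hX (H.inv_mem gi.2))]
      change gmap gj.1 _ (gmap gi.1⁻¹ _ (e i).1) = (e j).1
      rw [hgj]
      congr 1
      conv_lhs => rw [hgi]
      exact gmap_inv_gmap (nzr_of_normBy hX gi.2) c₁

end Cfsg.Agent.Lib.Helper11.FCliff
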