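import Mathlib
import Cfsg.Prelude.Def_GeometricClasses
import Cfsg.Agent.Lib.Helper7.AschDefs
import Cfsg.Agent.Lib.Helper11.AschCliffDefs
import Cfsg.Agent.Lib.Helper11.AschCliffAct
import Cfsg.Agent.Lib.Helper11.FormCliffDefs
import Cfsg.Agent.Lib.Helper11.FormCliffComps
import Cfsg.Agent.Lib.Helper2.FCliffPERP
import Cfsg.Agent.Lib.Helper2.FCliffDEC
import Cfsg.Agent.Lib.Helper23.FCliffCOMM
import Cfsg.Agent.Lib.Helper23.FCliffSCHUR
import Cfsg.Agent.Lib.Helper23.FCliffTENS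
import Cfsg.Agent.Lib.Helper26.FCliffGRAMADJ
import Cfsg.Agent.Lib.Helper26.FCliffFI
import Cfsg.Agent.Lib.Helper26.FCliffDECB3

/-!
# Clifford theory with a form: BRIDGE (helper11)

Every piece of the sub-skeleton restated with its exact signature from the landed deliveries of helper2, helper23, helper26.
-/

set_option autoImplicit false

namespace Cfsg.Agent.Lib.Helper11.FCliffBridge

open Matrix Cfsg Cfsg.Geo Cfsg.Agent.Lib.Helper7.Asch Cfsg.Agent.Lib.Helper11.Cliff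
  Cfsg.Agent.Lib.Helper11.CliffAct Cfsg.Agent.Lib.Helper11.FCliff
open scoped MatrixGroups Kronecker

variable {n : ℕ} {F : Type*} [Field F] {σ : F ≃+* F} {f : (Fin n → F) → (Fin n → F) → F}

/-! ## Layer 0: Gram matrix, adjoints, perp (pure linear algebra) -/

/-- **FC-GRAM-a**.  Expand `x = Σ x_a e_a`, `y = Σ y_b e_b` (`Pi.single`), use additivity / `smul_left` / `smul_right`
(`Finset` induction on the sums; `pi_eq_sum_univ` or `Finset.univ_sum_single`). -/
theorem eq_formOfGram (hf : RSForm σ f) (x y : Fin n → F) :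
    f x y = formOfGram σ (gramMatrix f) x y :=
  Cfsg.Agent.Lib.Helper26.FCliffGRAMADJ.eq_formOfGram hf x y

/-- **FC-GRAM-b**.  If `det G = 0` there is `w ≠ 0` with `G *ᵥ w = 0` (`Matrix.exists_mulVec_eq_zero_iff`); then
`v := σ⁻¹ ∘ w ≠ 0` has `f x v = 0` for all `x` (FC-GRAM-a), contradicting non-degeneracy. -/
theorem isUnit_det_gram (hf : RSForm σ f) : IsUnit (gramMatrix f).det :=
  Cfsg.Agent.Lib.Helper26.FCliffGRAMADJ.isUnit_det_gram hf

/-- **FC-ADJ-a**.  `f (B u) v = uᵀ Bᵀ G σ(v)` and `f u (B' v) = uᵀ G σ(B') σ(v)` with `σ(B') = G⁻¹ Bᵀ G`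
(FC-GRAM-a, FC-GRAM-b; `Matrix.map` of a product under the ring hom `σ`, `σ (σ.symm a) = a`). -/
theorem form_mulVec_left (hf : RSForm σ f) (B : Matrix (Fin n) (Fin n) F) (u v : Fin n → F) :
    f (B *ᵥ u) v = f u (radjM σ (gramMatrix f) B *ᵥ v) :=
  Cfsg.Agent.Lib.Helper26.FCliffGRAMADJ.form_mulVec_left hf B u v

/-- **FC-ADJ-b**.  `f u (B v) = uᵀ G σ(B) σ(v) = (B' u)ᵀ G σ(v)` with `B'ᵀ = G σ(B) G⁻¹`. -/
theorem form_mulVec_right (hf : RSForm σ f) (B : Matrix (Fin n) (Fin n) F) (u v : Fin n → F) :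
    f u (B *ᵥ v) = f (ladjM σ (gramMatrix f) B *ᵥ u) v :=
  Cfsg.Agent.Lib.Helper26.FCliffGRAMADJ.form_mulVec_right hf B u v

/-- **FC-PERP-a** (dimension formula).  `v ∈ perp W ↔ G *ᵥ (σ ∘ v)` is killed (dot product) by `W`; the map
`v ↦ G *ᵥ (σ ∘ v)` is a `σ`-semilinear bijection.  EASY ROUTE (uses `Fintype F`): compare cardinalities,
`card W' = card F ^ finrank W'` (`Module.card_eq_pow_finrank`), a `σ`-semilinear bijection preserves cardinalities of
subspaces, and for the bilinear dot product `finrank (dualAnnihilator) = n - finrank`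
(`Subspace.finrank_add_finrank_dualAnnihilator_eq`, `Matrix.dotProduct`). -/
theorem finrank_perp [Fintype F] (hf : RSForm σ f) (W : Submodule F (Fin n → F)) :
    Module.finrank F (perp hf W) + Module.finrank F W = n :=
  Cfsg.Agent.Lib.Helper2.FCliffPERP.finrank_perp hf W

/-- **FC-PERP-b**.  `W ≤ perp (perp W)` by reflexivity (`mem_perp'`), equal `finrank` by FC-PERP-a twice
(`Submodule.eq_of_le_of_finrank_eq`). -/
theorem perp_perp [Fintype F] (hf : RSForm σ f) (W : Submodule F (Fin n → F)) :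
    perp hf (perp hf W) = W :=
  Cfsg.Agent.Lib.Helper2.FCliffPERP.perp_perp hf W

/-- **FC-PERP-c**. -/
theorem perp_sup (hf : RSForm σ f) (W W' : Submodule F (Fin n → F)) :
    perp hf (W ⊔ W') = perp hf W ⊓ perp hf W' :=
  Cfsg.Agent.Lib.Helper2.FCliffPERP.perp_sup hf W W'

/-- **FC-PERP-d**.  An isometry commutes with `perp`. -/
theorem perp_map (hf : RSForm σ f) (g : GL (Fin n) F)
    (hg : ∀ u v, f ((g : Matrix (Fin n) (Fin n) F) *ᵥ u) ((g : Matrix (Fin n) (Fin n) F) *ᵥ v) = f u v)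
    (W : Submodule F (Fin n → F)) :
    perp hf (W.map (Matrix.toLin' (g : Matrix (Fin n) (Fin n) F))) =
      (perp hf W).map (Matrix.toLin' (g : Matrix (Fin n) (Fin n) F)) :=
  Cfsg.Agent.Lib.Helper2.FCliffPERP.perp_map hf g hg W

/-- **FC-PERP-e**.  `W ⊓ perp W = ⊥` means `W` is non-degenerate in the frozen sense. -/
theorem isNondegenerateOn_of_inf_perp (hf : RSForm σ f) (W : Submodule F (Fin n → F))
    (h : W ⊓ perp hf W = ⊥) : IsNondegenerateOn f W :=
  Cfsg.Agent.Lib.Helper2.FCliffPERP.isNondegenerateOn_of_inf_perp hf W h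

/-! ## Layer 1: the commutant is closed under adjoints -/

/-- **FC-COMM-a**.  For `M ∈ commAlg X` take `M' := radjM σ G M` (FC-ADJ-a): for `x ∈ X`,
`f (u) (M' x v) = f (M u) (x v) = f (x⁻¹ M u) v = f (M x⁻¹ u) v = f (x⁻¹ u) (M' v) = f u (x M' v)`
(`form_mulVec_right` of the Defs file for isometries), so `M' x = x M'` by `RSForm.eq_of_forall_left` (apply to all `v`,
`Matrix.mulVec` extensionality: `Matrix.toLin'` injective). -/
theorem isAdjointClosedFor_commAlg (hf : RSForm σ f) (X : Subgroup (GL (Fin n) F))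
    (hX : FixesForm (matrixSet X) f) : IsAdjointClosedFor f (commAlg X) :=
  Cfsg.Agent.Lib.Helper23.FCliffCOMM.isAdjointClosedFor_commAlg hf X hX

/-- **FC-COMM-a'**.  The same for left adjoints. -/
theorem ladjM_mem_commAlg (hf : RSForm σ f) (X : Subgroup (GL (Fin n) F))
    (hX : FixesForm (matrixSet X) f) (M : Matrix (Fin n) (Fin n) F) (hM : M ∈ commAlg X) :
    ladjM σ (gramMatrix f) M ∈ commAlg X :=
  Cfsg.Agent.Lib.Helper23.FCliffCOMM.ladjM_mem_commAlg hf X hX M hM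

/-- **FC-COMM-b**.  `M ∈ cenAlg X`, `M'` its right adjoint (in `commAlg X` by FC-COMM-a).  For `C ∈ commAlg X` put
`C'' := ladjM σ G C ∈ commAlg X` (FC-COMM-a'): `f u (M' C v) = f (M u) (C v) = f (C'' M u) v` and
`f u (C M' v) = f (C'' u) (M' v) = f (M C'' u) v`; `M C'' = C'' M` since `M` is central. -/
theorem isAdjointClosedFor_cenAlg (hf : RSForm σ f) (X : Subgroup (GL (Fin n) F))
    (hX : FixesForm (matrixSet X) f) : IsAdjointClosedFor f (cenAlg X) :=
  Cfsg.Agent.Lib.Helper23.FCliffCOMM.isAdjointClosedFor_cenAlg hf X hX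

/-- **FC-COMM-c**.  `k ∈ K`, `k' ∈ E` its adjoint: `f (k ^ j u) v = f u (k' ^ j v)` by induction, so
`f u (k' ^ N v) = f (k ^ N u) v = f (k u) v = f u (k' v)`, hence `k' ^ N = k'`. -/
theorem isAdjointClosedFor_of_canonical (hf : RSForm σ f) (E K : Subalgebra F (Matrix (Fin n) (Fin n) F)) (N : ℕ)
    (hE : IsAdjointClosedFor f E) (hK : ∀ x, x ∈ K ↔ x ∈ E ∧ x ^ N = x) : IsAdjointClosedFor f K :=
  Cfsg.Agent.Lib.Helper23.FCliffCOMM.isAdjointClosedFor_of_canonical hf E K N hE hK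

/-! ## Layer 2: perp of isotypic components -/

/-- **FC-FI**.  `φ : End_{envEnd X}(V)`; `b := LinearMap.toMatrix' (φ.restrictScalars F)` commutes with `X` (i.e.
`b ∈ commAlg X`), so `b'' := ladjM σ G b ∈ commAlg X` (FC-COMM-a'), and a matrix commuting with `X` is `envEnd X`-linear
(`Algebra.adjoin_induction`), so `b'' w ∈ W` for `w ∈ W` (`hW`).  For `v ∈ perpM W`: `f w (φ v) = f (b'' w) v = 0`. -/
theorem isFullyInvariant_perpM (hf : RSForm σ f) {X : Subgroup (GL (Fin n) F)}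
    (hX : FixesForm (matrixSet X) f) (W : SubM X) (hW : W.IsFullyInvariant) :
    (perpM hf hX W).IsFullyInvariant :=
  Cfsg.Agent.Lib.Helper26.FCliffFI.isFullyInvariant_perpM hf hX W hW

/-- **FC-ONE** (every component has exactly one non-orthogonal partner).  `perpM (D i)` is fully invariant (FC-FI,
`Submodule.IsFullyInvariant.of_mem_isotypicComponents`), hence `= sSup s` for a set `s` of components
(`isFullyInvariant_iff_sSup_isotypicComponents`), i.e. `= ⨆ j ∈ J, D j`; by independence `D j ≤ perpM (D i) ↔ j ∈ J`, and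
`finrank (perpM (D i)) = |J| * m` (independent family of `m`-dimensional spaces), `= n - m = (t - 1) * m` by FC-PERP-a and
`t * m = n` (`Helper9.HubCor.mul_eq_of_isMDecomposition`); so exactly one `j ∉ J`.
(Alternative without computing `|J| * m`: if `j ≠ k` are both `∉ J` then `(D j ⊔ D k) ⊓ perpM (D i) = ⊥`
(`iSupIndep.disjoint_biSup`), so `2 m + (n - m) ≤ n`, absurd; and `J ≠ univ` by non-degeneracy.) -/
theorem exists_partner [Fintype F] (hf : RSForm σ f) {H X : Subgroup (GL (Fin n) F)} (hX : NormBy H X)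
    (hss : IsSemisimpleModule (envEnd X) (Fin n → F)) (hXf : FixesForm (matrixSet X) f)
    {t m : ℕ} (D : Fin t → SubM X) (hc : Comps hX m D) :
    ∃ ν : Fin t → Fin t, ∀ i j, D j ≤ perpM hf hXf (D i) ↔ j ≠ ν i :=
  Cfsg.Agent.Lib.Helper2.FCliffDEC.exists_partner hf hX hss hXf D hc

/-- **FC-DEC-0**.  (1) `ν (ν i) = i`: `D j ≤ perpM (D i) ↔ D i ≤ perpM (D j)` by reflexivity.  (2) for `h ∈ H` with
`gmap h (D i) = D (π i)`: `gmap h (perpM (D i)) = perpM (gmap h (D i))` (`h` is an isometry, FC-PERP-d /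
`map_restrictScalars_eq` of `S5630I4CL2`), so `ν (π i) = π (ν i)`.  (3) transitivity: `ν i = i` for one `i` iff for all. -/
theorem partner_invol_and_dichotomy (hf : RSForm σ f) {H X : Subgroup (GL (Fin n) F)} (hX : NormBy H X)
    (hHf : FixesForm (matrixSet H) f) (hXf : FixesForm (matrixSet X) f)
    {t m : ℕ} (D : Fin t → SubM X) (hc : Comps hX m D) (ν : Fin t → Fin t)
    (hν : ∀ i j, D j ≤ perpM hf hXf (D i) ↔ j ≠ ν i) :
    (∀ i, ν (ν i) = i) ∧
    (∀ h (hh : h ∈ H) (π : Equiv.Perm (Fin t)), (∀ i, gmap h (nzr_of_normBy hX hh) (D i) = D (π i)) →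
      ∀ i, ν (π i) = π (ν i)) ∧
    ((∀ i, ν i = i) ∨ (∀ i, ν i ≠ i)) :=
  Cfsg.Agent.Lib.Helper2.FCliffDEC.partner_invol_and_dichotomy hf hX hHf hXf D hc ν hν

/-- **FC-DEC-A** (`ν = id`): the components are non-degenerate (`D i ⊓ perp (D i) = ⊥` by independence, FC-PERP-e) and
pairwise orthogonal; `H` permutes them (`map_restrictScalars_eq`). -/
theorem nondeg_decomposition_of_partner_self (hf : RSForm σ f) {H X : Subgroup (GL (Fin n) F)} (hX : NormBy H X)
    (hXf : FixesForm (matrixSet X) f) {t m : ℕ} (D : Fin t → SubM X) (hc : Comps hX m D)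
    (hν : ∀ i j, D j ≤ perpM hf hXf (D i) ↔ j ≠ i) :
    IsNondegenerateMDecomposition f m (fun i => (D i).restrictScalars F) ∧
      H ≤ decompositionStabilizer (fun i => (D i).restrictScalars F) :=
  Cfsg.Agent.Lib.Helper2.FCliffDEC.nondeg_decomposition_of_partner_self hf hX hXf D hc hν

/-- **FC-DEC-B2** (`ν` fixed-point-free, `t = 2`): both components are totally singular. -/
theorem singular_pair_of_partner (hf : RSForm σ f) {H X : Subgroup (GL (Fin n) F)} (hX : NormBy H X)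
    (hXf : FixesForm (matrixSet X) f) {m : ℕ} (D : Fin 2 → SubM X) (hc : Comps hX m D)
    (ν : Fin 2 → Fin 2) (hν : ∀ i j, D j ≤ perpM hf hXf (D i) ↔ j ≠ ν i) (hfp : ∀ i, ν i ≠ i) :
    IsMDecomposition m (fun i => (D i).restrictScalars F) ∧
      (∀ i, IsTotallySingularFor f ((D i).restrictScalars F)) ∧
      H ≤ decompositionStabilizer (fun i => (D i).restrictScalars F) :=
  Cfsg.Agent.Lib.Helper2.FCliffDEC.singular_pair_of_partner hf hX hXf D hc ν hν hfp

/-- **FC-DEC-B3** (`ν` a fixed-point-free involution commuting with the action of `H`, `t > 2`): the `t / 2 ≥ 2` sums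
`D i ⊔ D (ν i)` form a non-degenerate `2 m`-decomposition permuted by `H`.  Enumerate the finite set
`{D i ⊔ D (ν i)}` (`Finite.equivFin`); `finrank = 2 m` (disjoint); independence from `iSupIndep.disjoint_biSup`;
non-degenerate: `v = a + b ∈ (D i ⊔ D (ν i)) ⊓ perp`, test against `D (ν i)`: `f w a = 0` for all `w ∈ D (ν i)`, so
`a ∈ D i ⊓ perp (D (ν i)) = ⊥`; orthogonal: `D j ≤ perp (D i)` for `j ≠ ν i`. -/
theorem nondeg_decomposition_of_pairs [Fintype F] (hf : RSForm σ f) {H X : Subgroup (GL (Fin n) F)} (hX : NormBy H X)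
    (hXf : FixesForm (matrixSet X) f) {t m : ℕ} (ht : 2 < t) (D : Fin t → SubM X) (hc : Comps hX m D)
    (ν : Fin t → Fin t) (hν : ∀ i j, D j ≤ perpM hf hXf (D i) ↔ j ≠ ν i) (hinv : ∀ i, ν (ν i) = i)
    (hfp : ∀ i, ν i ≠ i)
    (heq : ∀ h (hh : h ∈ H) (π : Equiv.Perm (Fin t)), (∀ i, gmap h (nzr_of_normBy hX hh) (D i) = D (π i)) →
      ∀ i, ν (π i) = π (ν i)) :
    ∃ (t' : ℕ) (E : Fin t' → Submodule F (Fin n → F)), IsNondegenerateMDecomposition f (2 * m) E ∧
      H ≤ decompositionStabilizer E :=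
  Cfsg.Agent.Lib.Helper26.FCliffDECB3.nondeg_decomposition_of_pairs hf hX hXf ht D hc ν hν hinv hfp heq

/-! ## Layer 3: homogeneous case -/

/-- **FC-SCHUR** (invariant sesquilinear forms of an absolutely irreducible group are unique up to scalars, and
non-zero ones are non-degenerate).  `yᵀ Z σ(y) = Z` means `Z' y = σ⁻¹(y⁻ᵀ) Z'` for `Z' := Z.map σ.symm`, so `Z' = 0` or
`IsUnit Z'` (`Helper8.S5630I4TENS.zero_or_isUnit_of_intertwines`); `Z₂ Z₁⁻¹` commutes with all `y⁻ᵀ`, so its transpose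
commutes with `Y`: scalar. -/
theorem sesq_schur {d : ℕ} (Y : Subgroup (GL (Fin d) F)) (hY : AbsIrr Y) (Z₁ Z₂ : Matrix (Fin d) (Fin d) F)
    (h1 : ∀ y ∈ Y, (y : Matrix (Fin d) (Fin d) F)ᵀ * Z₁ * (y : Matrix (Fin d) (Fin d) F).map σ = Z₁)
    (h2 : ∀ y ∈ Y, (y : Matrix (Fin d) (Fin d) F)ᵀ * Z₂ * (y : Matrix (Fin d) (Fin d) F).map σ = Z₂)
    (hne : Z₁ ≠ 0) : IsUnit Z₁.det ∧ ∃ c : F, Z₂ = c • Z₁ :=
  Cfsg.Agent.Lib.Helper23.FCliffSCHUR.sesq_schur Y hY Z₁ Z₂ h1 h2 hne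

/-- **FC-TENS** (the Gram matrix factorises).  `g x y := f (P (x ∘ e)) (P (y ∘ e))` is a non-degenerate
`σ`-sesquilinear form on `Fin d × Fin s → F`, `Γ` its Gram matrix (`Γ p q = g (single p 1) (single q 1)`,
`g = formOfGram σ Γ` as in FC-GRAM-a, `Γ` invertible as in FC-GRAM-b).  `kronL e P a` acts on `P (x ∘ e)` as
`x ↦ (a ⊗ₖ 1) *ᵥ x`, so `(a ⊗ 1)ᵀ Γ σ(a ⊗ 1) = Γ` for `a ∈ Y`, i.e. every `d × d` block `Γ^{jl} := (Γ (i,j) (k,l))_{i,k}`
satisfies `aᵀ Γ^{jl} σ(a) = Γ^{jl}`.  Some block `Z₀` is `≠ 0`; by FC-SCHUR `Z₀` is invertible and `Γ^{jl} = c j l • Z₀`,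
i.e. `Γ = Z₀ ⊗ₖ C`; `det Γ = det Z₀ ^ s * det C ^ d` (`Matrix.det_kronecker`) gives `IsUnit C.det`. -/
theorem gram_kron_of_fixes (hf : RSForm σ f) {d s : ℕ} (hd : 1 ≤ d) (hs : 1 ≤ s)
    (e : Fin n ≃ Fin d × Fin s) (P : GL (Fin n) F) (Y : Subgroup (GL (Fin d) F)) (hY : AbsIrr Y)
    (hfix : FixesForm (matrixSet (Y.map (kronL e P))) f) :
    ∃ (G₁ : Matrix (Fin d) (Fin d) F) (G₂ : Matrix (Fin s) (Fin s) F), IsUnit G₁.det ∧ IsUnit G₂.det ∧
      (∀ y ∈ Y, (y : Matrix (Fin d) (Fin d) F)ᵀ * G₁ * (y : Matrix (Fin d) (Fin d) F).map σ = G₁) ∧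
      ∀ x y : Fin d × Fin s → F,
        f ((P : Matrix (Fin n) (Fin n) F) *ᵥ (x ∘ e)) ((P : Matrix (Fin n) (Fin n) F) *ᵥ (y ∘ e)) =
          formOfGram σ (G₁ ⊗ₖ G₂) x y :=
  Cfsg.Agent.Lib.Helper23.FCliffTENS.gram_kron_of_fixes hf hd hs e P Y hY hfix

end Cfsg.Agent.Lib.Helper11.FCliffBridge
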