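import Mathlib
import Cfsg.Prelude.Def_GeometricClasses
import Cfsg.Agent.Lib.Helper7.AschDefs
import Cfsg.Agent.Lib.Helper11.AschCliffDefs
import Cfsg.Agent.Lib.Helper18.S5630I2
import Cfsg.Agent.Lib.Helper18.S5630I4CEN

/-!
# Clifford theory with a form: the field exit keeping the canonical field (helper11; = helper18's CEN3)
-/

set_option autoImplicit false

namespace Cfsg.Agent.Lib.Helper11.FCliff

open Matrix Cfsg Cfsg.Geo Cfsg.Agent.Lib.Helper7.Asch Cfsg.Agent.Lib.Helper11.Cliff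
  Cfsg.Agent.Lib.Helper18.S5630I4CEN
open scoped MatrixGroups Kronecker

variable {n : ℕ} {F : Type*} [Field F]

/-- **FC-FIELD**: the canonical subfield of prime degree of the centre of the commutant, normalised by `G`. -/
theorem exists_field_block [Fintype F] (G X : Subgroup (GL (Fin n) F)) (hX : NormBy G X)
    {d s : ℕ} (hs : 1 ≤ s) (e : Fin n ≃ Fin d × Fin s) (P : GL (Fin n) F) (Y : Subgroup (GL (Fin d) F))
    (hY : Irr Y) (hnY : ¬ AbsIrr Y) (hXY : X = Y.map (kronL e P)) :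
    ∃ (r : ℕ) (K : Subalgebra F (Matrix (Fin n) (Fin n) F)), r.Prime ∧ IsFieldSubalgebra r K ∧
      (∀ x, x ∈ K ↔ x ∈ cenAlg X ∧ x ^ (Fintype.card F ^ r) = x) ∧ G ≤ subalgebraNormalizer K := by
  subst hXY
  have hmem := mem_cenAlg_kron hs e P Y hY
  have hcommE : ∀ x ∈ cenAlg (Y.map (kronL e P)), ∀ y ∈ cenAlg (Y.map (kronL e P)), x * y = y * x := by
    intro x hx y hy
    obtain ⟨c, hc, rfl⟩ := (hmem x).1 hx
    obtain ⟨c', hc', rfl⟩ := (hmem y).1 hy
    rw [← kronLM_mul, ← kronLM_mul,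
      Cfsg.Agent.Lib.Helper18.S5630I2.centralizer_comm (matrixSet Y) hY c c' hc hc']
  have hinvE : ∀ x ∈ cenAlg (Y.map (kronL e P)), x ≠ 0 → ∃ y ∈ cenAlg (Y.map (kronL e P)), x * y = 1 := by
    intro x hx hx0
    obtain ⟨c, hc, rfl⟩ := (hmem x).1 hx
    have hc0 : c ≠ 0 := by
      rintro rfl
      exact hx0 (kronLM_zero e P)
    obtain ⟨y, hy, h1, _⟩ :=
      Cfsg.Agent.Lib.Helper18.S5630I2.exists_inv_of_mem_centralizer (matrixSet Y) hY c hc hc0
    refine ⟨kronLM e P y, (hmem _).2 ⟨y, hy, rfl⟩, ?_⟩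
    rw [← kronLM_mul, h1, kronLM_one]
  have hneE : ∃ x ∈ cenAlg (Y.map (kronL e P)), ∀ a : F, x ≠ a • (1 : Matrix (Fin n) (Fin n) F) := by
    have h2 : ¬ ∀ M : Matrix (Fin d) (Fin d) F, (∀ t ∈ matrixSet Y, M * t = t * M) →
        ∃ c : F, M = c • (1 : Matrix (Fin d) (Fin d) F) := fun h => hnY ⟨hY, h⟩
    push Not at h2
    obtain ⟨M, hM, hMs⟩ := h2
    refine ⟨kronLM e P M, (hmem _).2 ⟨M, hM, rfl⟩, fun a ha => ?_⟩
    rw [← kronLM_smul_one e P a] at ha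
    exact hMs a (kronLM_injective hs e P ha)
  obtain ⟨r, K, hr, hK, hcanon⟩ :=
    Cfsg.Agent.Lib.Helper18.S5630I2.exists_prime_field_subalgebra (cenAlg (Y.map (kronL e P))) hcommE hinvE hneE
  have h1 := le_normalizer_cenAlg G (Y.map (kronL e P)) hX
  have h2 := Cfsg.Agent.Lib.Helper18.S5630I2.normalizer_le_of_canonical (cenAlg (Y.map (kronL e P))) K _ hcanon
  exact ⟨r, K, hr, hK, hcanon, h1.trans h2⟩

end Cfsg.Agent.Lib.Helper11.FCliff
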