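import Mathlib
import Cfsg.Prelude.Def_GeometricClasses
import Cfsg.Agent.Lib.Helper7.AschDefs
import Cfsg.Agent.Lib.Helper11.AschCliffDefs
import Cfsg.Agent.Lib.Helper11.AschCliffAct
import Cfsg.Agent.Lib.Helper11.FormCliffDefs
import Cfsg.Agent.Lib.Helper11.FormCliffComps
import Cfsg.Agent.Lib.Helper11.FormCliffField
import Cfsg.Agent.Lib.Helper11.AschCliffBridge
import Cfsg.Agent.Lib.Helper11.FormCliffBridge

/-!
# Clifford theory with a form: assembly of `clifford_form` from the sub-skeleton pieces (helper11)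
-/

set_option autoImplicit false

namespace Cfsg.Agent.Lib.Helper11.FCliffMain

open Matrix Cfsg Cfsg.Geo Cfsg.Agent.Lib.Helper7.Asch Cfsg.Agent.Lib.Helper11.Cliff
  Cfsg.Agent.Lib.Helper11.CliffAct Cfsg.Agent.Lib.Helper11.FCliff Cfsg.Agent.Lib.Helper11.CliffBridge
  Cfsg.Agent.Lib.Helper11.FCliffBridge
open scoped MatrixGroups Kronecker

variable {n : ℕ} {F : Type*} [Field F] [Fintype F] {σ : F ≃+* F} {f : (Fin n → F) → (Fin n → F) → F}

/-- the four structured outcomes of Clifford theory with a form -/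
def FormOutcome (σ : F ≃+* F) (f : (Fin n → F) → (Fin n → F) → F) (H X : Subgroup (GL (Fin n) F)) : Prop :=
  (∃ (t m : ℕ) (D : Fin t → Submodule F (Fin n → F)), IsNondegenerateMDecomposition f m D ∧
      H ≤ decompositionStabilizer D) ∨
  (∃ (m : ℕ) (D : Fin 2 → Submodule F (Fin n → F)), IsMDecomposition m D ∧
      (∀ i, IsTotallySingularFor f (D i)) ∧ H ≤ decompositionStabilizer D) ∨
  (∃ (r : ℕ) (K : Subalgebra F (Matrix (Fin n) (Fin n) F)), r.Prime ∧ IsFieldSubalgebra r K ∧
      IsAdjointClosedFor f K ∧ H ≤ subalgebraNormalizer K) ∨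
  (∃ (d s : ℕ) (e : Fin n ≃ Fin d × Fin s) (P : GL (Fin n) F) (Y : Subgroup (GL (Fin d) F))
      (G₁ : Matrix (Fin d) (Fin d) F) (G₂ : Matrix (Fin s) (Fin s) F),
      2 ≤ d ∧ 2 ≤ s ∧ AbsIrr Y ∧ X = Y.map (kronL e P) ∧ IsUnit G₁.det ∧ IsUnit G₂.det ∧
      (∀ y ∈ Y, (y : Matrix (Fin d) (Fin d) F)ᵀ * G₁ * (y : Matrix (Fin d) (Fin d) F).map σ = G₁) ∧
      H ≤ tensorProductSubgroup d s e P ∧
      ∀ x y : Fin d × Fin s → F,
        f ((P : Matrix (Fin n) (Fin n) F) *ᵥ (x ∘ e)) ((P : Matrix (Fin n) (Fin n) F) *ᵥ (y ∘ e)) =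
          formOfGram σ (G₁ ⊗ₖ G₂) x y)

/-- **Clifford with a form**, general version: `X` normalised by the irreducible `H`, both fixing `f`. -/
theorem clifford_form_gen (hn : 3 ≤ n) (hf : RSForm σ f) (H X : Subgroup (GL (Fin n) F)) (hH : Irr H)
    (hX : NormBy H X) (hHf : FixesForm (matrixSet H) f) (hXf : FixesForm (matrixSet X) f) :
    FormOutcome σ f H X ∨ X ≤ scalars (Fin n) F ∨ AbsIrr X := by
  have hss := isSemisimple_envEnd H X hH hX
  rcases homog_or_comps H X hH hX with hhom | ⟨t, m, D, hc⟩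
  swap
  · left
    obtain ⟨ν, hν⟩ := exists_partner hf hX hss hXf D hc
    obtain ⟨hinv, heq, hdich⟩ := partner_invol_and_dichotomy hf hX hHf hXf D hc ν hν
    rcases hdich with hid | hfp
    · left
      have hν' : ∀ i j, D j ≤ perpM hf hXf (D i) ↔ j ≠ i := by
        intro i j
        rw [hν i j, hid i]
      obtain ⟨h1, h2⟩ := nondeg_decomposition_of_partner_self hf hX hXf D hc hν'
      exact ⟨t, m, _, h1, h2⟩
    · have ht2 : 2 ≤ t := hc.dec.two_le
      rcases Nat.lt_or_ge 2 t with ht | ht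
      · left
        obtain ⟨t', E, h1, h2⟩ := nondeg_decomposition_of_pairs hf hX hXf ht D hc ν hν hinv hfp heq
        exact ⟨t', 2 * m, E, h1, h2⟩
      · right; left
        have ht' : t = 2 := by omega
        subst ht'
        obtain ⟨h1, h2, h3⟩ := singular_pair_of_partner hf hX hXf D hc ν hν hfp
        exact ⟨m, _, h1, h2, h3⟩
  obtain ⟨d, s, e, P, Y, hY, hXY⟩ := exists_block_form (by omega) X hss hhom
  have hds : d * s = n := by
    have := Fintype.card_congr e
    simpa [Fintype.card_prod] using this.symm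
  have hd0 : 1 ≤ d := by
    rcases Nat.eq_zero_or_pos d with h0 | h0
    · subst h0; simp at hds; omega
    · exact h0
  have hs0 : 1 ≤ s := by
    rcases Nat.eq_zero_or_pos s with h0 | h0
    · subst h0; simp at hds; omega
    · exact h0
  by_cases hYa : AbsIrr Y
  · rcases Nat.lt_or_ge d 2 with hd | hd
    · have hd1 : d = 1 := by omega
      subst hd1
      exact Or.inr (Or.inl (hXY ▸ map_kronL_le_scalars e P Y))
    · rcases Nat.lt_or_ge s 2 with hs | hs
      · have hs1 : s = 1 := by omega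
        subst hs1
        exact Or.inr (Or.inr (hXY ▸ absIrr_map_kronL e P Y hYa))
      · left; right; right; right
        have hle := le_tensorProductSubgroup_of_normalizes H X hX hd0 hs0 e P Y hYa hXY
        obtain ⟨G₁, G₂, hG1, hG2, hinvY, hform⟩ := gram_kron_of_fixes hf hd0 hs0 e P Y hYa (hXY ▸ hXf)
        exact ⟨d, s, e, P, Y, G₁, G₂, hd, hs, hYa, hXY, hG1, hG2, hinvY, hle, hform⟩
  · left; right; right; left
    obtain ⟨r, K, hr, hK, hcanon, hle⟩ := exists_field_block H X hX hs0 e P Y hY hYa hXY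
    exact ⟨r, K, hr, hK,
      isAdjointClosedFor_of_canonical hf (cenAlg X) K _ (isAdjointClosedFor_cenAlg hf X hXf) hcanon, hle⟩

/-- **Clifford with a form** for a normal subgroup `N` of the absolutely irreducible `H ≤ I(f)`. -/
theorem clifford_form (hn : 3 ≤ n) (hf : RSForm σ f) (H N : Subgroup (GL (Fin n) F)) (hH : AbsIrr H)
    (hNH : N ≤ H) (hnorm : NormBy H N) (hHf : FixesForm (matrixSet H) f) :
    FormOutcome σ f H N ∨ N ≤ scalars (Fin n) F ∨ AbsIrr N :=
  clifford_form_gen hn hf H N hH.1 hnorm hHf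
    (fun s hs => by
      obtain ⟨x, hx, rfl⟩ := hs
      exact hHf _ ⟨x, hNH hx, rfl⟩)

end Cfsg.Agent.Lib.Helper11.FCliffMain
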