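import Mathlib
import Cfsg.Agent.Lib.Helper16.SectRank

/-!
# Helper11: sectional 2-rank bounds, concrete form (for S4188)

`SR k P`: every concrete elementary abelian 2-section `B / N` of `P` has order at most `2 ^ k`.
-/

set_option autoImplicit false

namespace Cfsg.Agent.Lib.Helper11.FratIdx

open Cfsg.Agent.Lib.Helper16.SectRank

/-- every elementary abelian `2`-section of `P` has order at most `2 ^ k` -/
def SR (k : ℕ) (P : Type*) [Group P] : Prop :=
  ∀ B N : Subgroup P, EA 2 B N → Nat.card B ≤ 2 ^ k * Nat.card N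

variable {P Q : Type*} [Group P] [Group Q]

theorem SR.mono {k l : ℕ} (h : SR k P) (hkl : k ≤ l) : SR l P := by
  intro B N hE
  exact (h B N hE).trans (Nat.mul_le_mul_right _ (Nat.pow_le_pow_right (by norm_num) hkl))

theorem SR.of_injective {k : ℕ} (f : P →* Q) (hf : Function.Injective f) (h : SR k Q) :
    SR k P := by
  intro B N hE
  have := h _ _ (hE.map f)
  rwa [Subgroup.card_map_of_injective hf, Subgroup.card_map_of_injective hf] at this

theorem SR.subgroup {k : ℕ} (h : SR k P) (H : Subgroup P) : SR k H :=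
  SR.of_injective H.subtype H.subtype_injective h

theorem SR.of_card_le [Finite P] {k : ℕ} (h : Nat.card P ≤ 2 ^ k) : SR k P := by
  intro B N _
  calc Nat.card B ≤ Nat.card P := Subgroup.card_le_card_group B
    _ ≤ 2 ^ k := h
    _ ≤ 2 ^ k * Nat.card N := Nat.le_mul_of_pos_right _ Nat.card_pos

/-- order of a subgroup via a homomorphism: image times kernel part -/
theorem card_eq_card_map_mul [Finite P] (f : P →* Q) (B : Subgroup P) :
    Nat.card B = Nat.card (B.map f) * Nat.card (f.ker ⊓ B : Subgroup P) := by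
  have h1 := Subgroup.relIndex_mul_relIndex ⊥ (f.ker ⊓ B) B bot_le inf_le_right
  rw [Subgroup.relIndex_bot_left, Subgroup.relIndex_bot_left, Subgroup.inf_relIndex_right,
    Subgroup.relIndex_ker] at h1
  rw [← h1, mul_comm]

theorem card_subgroupOf_eq (H K : Subgroup P) :
    Nat.card (H.subgroupOf K) = Nat.card (H ⊓ K : Subgroup P) := by
  rw [← Subgroup.card_map_of_injective K.subtype_injective, Subgroup.subgroupOf_map_subtype]

/-- extension lemma: sectional rank is subadditive -/
theorem SR.ext [Finite P] {a b : ℕ} (f : P →* Q) (ha : SR a Q) (hb : SR b f.ker) :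
    SR (a + b) P := by
  intro B N hE
  have h1 := ha _ _ (hE.map f)
  have h2 := hb _ _ (hE.comap f.ker.subtype)
  change Nat.card (B.subgroupOf f.ker) ≤ 2 ^ b * Nat.card (N.subgroupOf f.ker) at h2
  rw [card_subgroupOf_eq, card_subgroupOf_eq, inf_comm B, inf_comm N] at h2
  rw [card_eq_card_map_mul f B, card_eq_card_map_mul f N, pow_add]
  calc Nat.card (B.map f) * Nat.card (f.ker ⊓ B : Subgroup P)
      ≤ (2 ^ a * Nat.card (N.map f)) * (2 ^ b * Nat.card (f.ker ⊓ N : Subgroup P)) :=
        Nat.mul_le_mul h1 h2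
    _ = 2 ^ a * 2 ^ b * (Nat.card (N.map f) * Nat.card (f.ker ⊓ N : Subgroup P)) := by ring

/-- extension lemma, range form -/
theorem SR.ext_range [Finite P] {a b : ℕ} (f : P →* Q) (ha : SR a f.range) (hb : SR b f.ker) :
    SR (a + b) P := by
  apply SR.ext f.rangeRestrict ha
  rw [MonoidHom.ker_rangeRestrict]
  exact hb

theorem SR.of_isCyclic [Finite P] [IsCyclic P] : SR 1 P := by
  intro B N hE
  obtain ⟨hNB, -, hpow, -⟩ := hE
  obtain ⟨g, hg⟩ := IsCyclic.exists_generator (α := B)
  have hB : B = Subgroup.zpowers (g : P) := by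
    apply le_antisymm
    · intro x hx
      obtain ⟨k, hk⟩ := Subgroup.mem_zpowers_iff.mp (hg ⟨x, hx⟩)
      refine Subgroup.mem_zpowers_iff.mpr ⟨k, ?_⟩
      have := congrArg Subtype.val hk
      simpa using this
    · rw [Subgroup.zpowers_le]; exact g.2
  have hg2 : (g : P) ^ 2 ∈ N := hpow g g.2
  have hle : Subgroup.zpowers ((g : P) ^ 2) ≤ N := by
    rw [Subgroup.zpowers_le]; exact hg2
  have hc1 : Nat.card B = orderOf (g : P) := by
    rw [Subgroup.orderOf_coe]
    exact (orderOf_eq_card_of_forall_mem_zpowers hg).symm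
  have hc2 : orderOf ((g : P) ^ 2) ≤ Nat.card N := by
    rw [← Nat.card_zpowers]
    exact Subgroup.card_le_of_le hle
  have hpos : 0 < orderOf (g : P) := orderOf_pos _
  have h3 : orderOf ((g : P) ^ 2) = orderOf (g : P) / Nat.gcd (orderOf (g : P)) 2 :=
    orderOf_pow' _ (by norm_num)
  have hgcd : Nat.gcd (orderOf (g : P)) 2 ≤ 2 := Nat.gcd_le_right _ (by norm_num)
  have hdvd : Nat.gcd (orderOf (g : P)) 2 ∣ orderOf (g : P) := Nat.gcd_dvd_left _ _
  have h4 : orderOf (g : P) / Nat.gcd (orderOf (g : P)) 2 * Nat.gcd (orderOf (g : P)) 2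
      = orderOf (g : P) := Nat.div_mul_cancel hdvd
  rw [hc1, pow_one]
  calc orderOf (g : P) = orderOf ((g : P) ^ 2) * Nat.gcd (orderOf (g : P)) 2 := by rw [h3, h4]
    _ ≤ orderOf ((g : P) ^ 2) * 2 := Nat.mul_le_mul_left _ hgcd
    _ = 2 * orderOf ((g : P) ^ 2) := by ring
    _ ≤ 2 * Nat.card N := Nat.mul_le_mul_left _ hc2

theorem SR.of_index_two [Finite P] {k : ℕ} (H : Subgroup P) (hH : H.index = 2) (h : SR k H) :
    SR (k + 1) P := by
  haveI : H.Normal := Subgroup.normal_of_index_eq_two hH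
  have h1 : SR 1 (P ⧸ H) := by
    apply SR.of_card_le
    rw [← Subgroup.index_eq_card, hH]; norm_num
  have h2 : SR k (QuotientGroup.mk' H).ker := by
    rw [QuotientGroup.ker_mk']; exact h
  have := SR.ext (QuotientGroup.mk' H) h1 h2
  rwa [add_comm] at this

theorem SR.frattini_index_le [Finite P] {k : ℕ} (hP : IsPGroup 2 P) (h : SR k P) :
    (frattini P).index ≤ 2 ^ k := by
  haveI : Fact (Nat.Prime 2) := ⟨Nat.prime_two⟩
  have h1 := h _ _ (EA_frattini hP)
  rw [Subgroup.card_top] at h1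
  have h2 := Subgroup.card_mul_index (frattini P)
  have hpos : 0 < Nat.card (frattini P) := Nat.card_pos
  rw [← h2, mul_comm] at h1
  exact Nat.le_of_mul_le_mul_right h1 hpos

/-- a nonabelian group of order at most 8 has sectional 2-rank at most 2 -/
theorem SR.of_card_le_eight [Finite P] (hP : IsPGroup 2 P) (h8 : Nat.card P ≤ 8)
    (hnc : ∃ x y : P, x * y ≠ y * x) : SR 2 P := by
  intro B N hE
  obtain ⟨hNB, -, -, hcomm⟩ := hE
  have hBP : Nat.card B ∣ Nat.card P := Subgroup.card_subgroup_dvd_card B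
  by_cases hN : N = ⊥
  · subst hN
    rw [Subgroup.card_bot, mul_one]
    by_contra hlt
    push Not at hlt
    -- |B| > 4, |B| ∣ |P| ≤ 8, 2-group => B = ⊤
    obtain ⟨m, hm⟩ := IsPGroup.iff_card.mp hP
    have hB2 : IsPGroup 2 B := hP.to_subgroup B
    obtain ⟨j, hj⟩ := IsPGroup.iff_card.mp hB2
    have hm3 : m ≤ 3 := by
      by_contra hm3
      push Not at hm3
      have : 2 ^ 4 ≤ 2 ^ m := Nat.pow_le_pow_right (by norm_num) hm3
      omega
    have hj3 : 3 ≤ j := by
      by_contra hj3
      push Not at hj3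
      have : 2 ^ j ≤ 2 ^ 2 := Nat.pow_le_pow_right (by norm_num) (by omega)
      omega
    have hjm : j ≤ m := by
      have : 2 ^ j ∣ 2 ^ m := by rw [← hj, ← hm]; exact hBP
      exact (Nat.pow_dvd_pow_iff_le_right (by norm_num)).mp this
    have hjm' : j = m := by omega
    have hBtop : B = ⊤ := by
      apply Subgroup.eq_top_of_card_eq
      rw [hj, hm, hjm']
    obtain ⟨x, y, hxy⟩ := hnc
    apply hxy
    have := hcomm x (by rw [hBtop]; trivial) y (by rw [hBtop]; trivial)
    rw [Subgroup.mem_bot] at this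
    calc x * y = (x * y * x⁻¹ * y⁻¹) * (y * x) := by group
      _ = y * x := by rw [this, one_mul]
  · have hN2 : 2 ≤ Nat.card N := by
      have h1 : Nat.card N ≠ 1 := fun h => hN (Subgroup.card_eq_one.mp h)
      have h0 : 0 < Nat.card N := Nat.card_pos
      omega
    have hB8 : Nat.card B ≤ 8 := (Subgroup.card_le_card_group B).trans h8
    calc Nat.card B ≤ 8 := hB8
      _ = 2 ^ 2 * 2 := by norm_num
      _ ≤ 2 ^ 2 * Nat.card N := Nat.mul_le_mul_left _ hN2

end Cfsg.Agent.Lib.Helper11.FratIdx
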