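import Mathlib
import Cfsg.Agent.Lib.Helper11.FratIdxA

/-!
# Helper11: automorphisms of cyclic 2-groups have sectional 2-rank ≤ 2 (for S4188)
-/

set_option autoImplicit false

namespace Cfsg.Agent.Lib.Helper11.FratIdx

instance finite_mulAut (A : Type*) [Group A] [Finite A] : Finite (MulAut A) :=
  Finite.of_injective (fun σ : MulAut A => σ.toEquiv) MulEquiv.toEquiv_injective

/-- units of `ZMod (2^(n+2))` have sectional rank ≤ 2 -/
theorem SR_units_two_pow (n : ℕ) : SR 2 (ZMod (2 ^ (n + 2)))ˣ := by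
  have hcop : Nat.Coprime 5 (2 ^ (n + 2)) := by
    apply Nat.Coprime.pow_right; norm_num
  obtain ⟨u, hu⟩ : ∃ u : (ZMod (2 ^ (n + 2)))ˣ, (u : ZMod (2 ^ (n + 2))) = 5 :=
    ⟨ZMod.unitOfCoprime 5 hcop, by simp⟩
  have hord : orderOf u = 2 ^ n := by
    rw [← orderOf_units, hu]; exact ZMod.orderOf_five n
  have hcard : Nat.card (ZMod (2 ^ (n + 2)))ˣ = 2 ^ (n + 1) := by
    rw [Nat.card_eq_fintype_card, ZMod.card_units_eq_totient,
      Nat.totient_prime_pow Nat.prime_two (by omega)]
    simp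
  have hidx : (Subgroup.zpowers u).index = 2 := by
    have h1 := Subgroup.card_mul_index (Subgroup.zpowers u)
    rw [Nat.card_zpowers, hord, hcard] at h1
    have h2 : 2 ^ (n + 1) = 2 ^ n * 2 := pow_succ 2 n
    rw [h2] at h1
    exact Nat.eq_of_mul_eq_mul_left (by positivity) h1
  have : SR 1 (Subgroup.zpowers u) := SR.of_isCyclic
  exact SR.of_index_two _ hidx this

theorem SR_mulAut_of_isCyclic (A : Type*) [Group A] [Finite A] [IsCyclic A]
    (hA : IsPGroup 2 A) : SR 2 (MulAut A) := by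
  haveI : Fact (Nat.Prime 2) := ⟨Nat.prime_two⟩
  obtain ⟨m, hm⟩ := IsPGroup.iff_card.mp hA
  rcases m with _ | _ | m
  · refine SR.mono (k := 0) ?_ (by norm_num)
    apply SR.of_card_le
    rw [IsCyclic.card_mulAut, hm]; simp
  · refine SR.mono (k := 0) ?_ (by norm_num)
    apply SR.of_card_le
    rw [IsCyclic.card_mulAut, hm]; simp
  · have h2 := SR_units_two_pow m
    have e := IsCyclic.mulAutMulEquiv A
    have e2 : (ZMod (Nat.card A))ˣ ≃* (ZMod (2 ^ (m + 2)))ˣ :=
      Units.mapEquiv (ZMod.ringEquivCongr hm).toMulEquiv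
    exact SR.of_injective (e.trans e2).toMonoidHom (e.trans e2).injective h2

theorem card_mulAut_le_two (A : Type*) [Group A] [Finite A] [IsCyclic A]
    (h : Nat.card A ≤ 4) : Nat.card (MulAut A) ≤ 2 := by
  rw [IsCyclic.card_mulAut]
  have hpos : 0 < Nat.card A := Nat.card_pos
  interval_cases (Nat.card A) <;> decide

theorem mulAut_comm_of_isCyclic (A : Type*) [Group A] [IsCyclic A] (σ τ : MulAut A) :
    σ * τ = τ * σ := by
  apply (IsCyclic.mulAutMulEquiv A).injective
  rw [map_mul, map_mul, mul_comm]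

theorem card_le_two_of_card_three (V : Type*) [Group V] (h : Nat.card V = 3)
    (P : Subgroup (MulAut V)) : Nat.card P ≤ 2 := by
  haveI : Fact (Nat.Prime 3) := ⟨by norm_num⟩
  haveI : IsCyclic V := isCyclic_of_prime_card h
  haveI : Finite V := Nat.finite_of_card_ne_zero (by omega)
  have h1 : Nat.card (MulAut V) ≤ 2 := card_mulAut_le_two V (by omega)
  exact (Subgroup.card_le_card_group P).trans h1

end Cfsg.Agent.Lib.Helper11.FratIdx
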