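import Mathlib
import Cfsg.Agent.Lib.Helper11.FratIdxB

/-!
# Helper11: restriction of automorphisms to an invariant subgroup and its quotient (for S4188)
-/

set_option autoImplicit false

namespace Cfsg.Agent.Lib.Helper11.FratIdx

variable {V : Type*} [CommGroup V]

/-- automorphisms stabilizing the subgroup `W` -/
def stab (W : Subgroup V) : Subgroup (MulAut V) where
  carrier := {σ | ∀ w, σ w ∈ W ↔ w ∈ W}
  one_mem' := by intro w; simp
  mul_mem' := by
    intro σ τ hσ hτ w
    rw [MulAut.mul_apply, hσ, hτ]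
  inv_mem' := by
    intro σ hσ w
    have := hσ (σ⁻¹ w)
    rw [MulAut.apply_inv_self] at this
    exact this.symm

theorem mem_stab_iff {W : Subgroup V} {σ : MulAut V} : σ ∈ stab W ↔ ∀ w, σ w ∈ W ↔ w ∈ W :=
  Iff.rfl

theorem le_stab_of_invariant {W : Subgroup V} {P : Subgroup (MulAut V)}
    (hinv : ∀ σ ∈ P, ∀ w ∈ W, σ w ∈ W) : P ≤ stab W := by
  intro σ hσ w
  constructor
  · intro h
    have := hinv σ⁻¹ (P.inv_mem hσ) _ h
    rwa [MulAut.inv_apply_self] at this
  · exact hinv σ hσ w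

/-- restriction to `W` -/
def resHom (W : Subgroup V) : stab W →* MulAut W where
  toFun σ :=
    { toFun := fun w => ⟨σ.1 w, (σ.2 w).mpr w.2⟩
      invFun := fun w => ⟨σ.1⁻¹ w, ((stab W).inv_mem σ.2 w).mpr w.2⟩
      left_inv := by intro w; ext; simp
      right_inv := by intro w; ext; simp
      map_mul' := by intro a b; ext; simp }
  map_one' := by ext; simp
  map_mul' := by intro σ τ; ext; simp

@[simp] theorem resHom_apply (W : Subgroup V) (σ : stab W) (w : W) :
    ((resHom W σ) w : V) = σ.1 w := rfl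

theorem map_eq_of_mem_stab {W : Subgroup V} (σ : stab W) :
    W.map (σ.1 : V ≃* V).toMonoidHom = W := by
  ext w
  constructor
  · rintro ⟨x, hx, rfl⟩
    exact (σ.2 x).mpr hx
  · intro hw
    exact ⟨σ.1⁻¹ w, ((stab W).inv_mem σ.2 w).mpr hw, by simp⟩

/-- induced action on `V ⧸ W` -/
noncomputable def quotHom (W : Subgroup V) : stab W →* MulAut (V ⧸ W) where
  toFun σ := QuotientGroup.congr W W σ.1 (map_eq_of_mem_stab σ)
  map_one' := by
    ext x
    induction x using QuotientGroup.induction_on with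
    | H x => rfl
  map_mul' := by
    intro σ τ
    ext x
    induction x using QuotientGroup.induction_on with
    | H x => rfl

@[simp] theorem quotHom_mk (W : Subgroup V) (σ : stab W) (v : V) :
    (quotHom W σ) (v : V ⧸ W) = ((σ.1 v : V) : V ⧸ W) := rfl

/-- coprime action: a 2-element trivial on `W` and on `V ⧸ W` is trivial, `V` of odd order -/
theorem eq_one_of_res_quot_trivial [Finite V] (hodd : Odd (Nat.card V)) (W : Subgroup V)
    (σ : stab W) (h2 : ∃ j : ℕ, σ ^ (2 ^ j) = 1) (h1 : resHom W σ = 1) (hq : quotHom W σ = 1) :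
    σ = 1 := by
  obtain ⟨j, hj⟩ := h2
  apply Subtype.ext
  apply MulEquiv.ext
  intro v
  change σ.1 v = v
  set w : V := v⁻¹ * σ.1 v with hw
  have hwW : w ∈ W := by
    have := congrArg (fun f : MulAut (V ⧸ W) => f (v : V ⧸ W)) hq
    simp only [quotHom_mk, MulAut.one_apply] at this
    exact (QuotientGroup.eq.mp this.symm)
  have hσw : σ.1 w = w := by
    have := congrArg (fun f : MulAut W => (f ⟨w, hwW⟩ : V)) h1
    simpa using this
  have hσv : σ.1 v = v * w := by rw [hw]; group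
  have hpow : ∀ n : ℕ, (σ.1 ^ n) v = v * w ^ n := by
    intro n
    induction n with
    | zero => simp
    | succ n ih =>
      rw [pow_succ', MulAut.mul_apply, ih, map_mul, map_pow, hσv, hσw, pow_succ]
      rw [mul_assoc, mul_comm w (w ^ n)]
  have hj' : σ.1 ^ (2 ^ j) = 1 := by
    have := congrArg Subtype.val hj
    simpa using this
  have h3 := hpow (2 ^ j)
  rw [hj', MulAut.one_apply] at h3
  have h4 : w ^ (2 ^ j) = 1 := by
    have : v * w ^ (2 ^ j) = v * 1 := by rw [mul_one]; exact h3.symm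
    exact mul_left_cancel this
  have h5 : orderOf w ∣ 2 ^ j := orderOf_dvd_of_pow_eq_one h4
  have h6 : orderOf w ∣ Nat.card V := orderOf_dvd_natCard w
  have hcop : Nat.Coprime (2 ^ j) (Nat.card V) := by
    apply Nat.Coprime.pow_left
    rw [Nat.coprime_two_left]
    exact hodd
  have h7 : orderOf w = 1 := Nat.eq_one_of_dvd_coprimes hcop h5 h6
  have h8 : w = 1 := orderOf_eq_one_iff.mp h7
  rw [hσv, h8, mul_one]

/-- structural lemma: a 2-group `P` of automorphisms stabilizing `W` maps to `MulAut W` with a kernel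
that embeds in `MulAut (V ⧸ W)` -/
theorem exists_homs [Finite V] (hodd : Odd (Nat.card V)) (W : Subgroup V)
    (P : Subgroup (MulAut V)) (hP : IsPGroup 2 P) (hinv : ∀ σ ∈ P, ∀ w ∈ W, σ w ∈ W) :
    ∃ (f₁ : P →* MulAut W) (f₂ : f₁.ker →* MulAut (V ⧸ W)), Function.Injective f₂ ∧
      (∀ (σ : P) (w : W), ((f₁ σ) w : V) = σ.1 w) := by
  have hPs : P ≤ stab W := le_stab_of_invariant hinv
  set ι : P →* stab W := Subgroup.inclusion hPs with hι
  refine ⟨(resHom W).comp ι, ((quotHom W).comp ι).comp (Subgroup.subtype _), ?_, ?_⟩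
  · rw [injective_iff_map_eq_one]
    intro x hx
    have hx1 : (resHom W) (ι x.1) = 1 := x.2
    have hx2 : (quotHom W) (ι x.1) = 1 := hx
    have hpow : ∃ j : ℕ, (ι x.1) ^ (2 ^ j) = 1 := by
      obtain ⟨j, hj⟩ := hP x.1
      exact ⟨j, by rw [← map_pow, hj, map_one]⟩
    have h1 := eq_one_of_res_quot_trivial hodd W (ι x.1) hpow hx1 hx2
    have h2 : x.1 = 1 := by
      have hinj : Function.Injective ι := Subgroup.inclusion_injective hPs
      apply hinj
      rw [h1, map_one]
    exact Subtype.ext h2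
  · intro σ w
    rfl

/-- reducible case: sectional rank is bounded by the sum of the bounds for `W` and `V ⧸ W` -/
theorem SR_of_invariant [Finite V] (hodd : Odd (Nat.card V)) (W : Subgroup V)
    (P : Subgroup (MulAut V)) (hP : IsPGroup 2 P) (hinv : ∀ σ ∈ P, ∀ w ∈ W, σ w ∈ W) {a b : ℕ}
    (ha : ∀ P' : Subgroup (MulAut W), IsPGroup 2 P' → SR a P')
    (hb : ∀ P' : Subgroup (MulAut (V ⧸ W)), IsPGroup 2 P' → SR b P') : SR (a + b) P := by
  obtain ⟨f₁, f₂, hinj, -⟩ := exists_homs hodd W P hP hinv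
  have h1 : SR a f₁.range :=
    ha _ (IsPGroup.of_surjective hP f₁.rangeRestrict f₁.rangeRestrict_surjective)
  have hK : IsPGroup 2 f₁.ker := hP.to_subgroup _
  have h2 : SR b f₂.range :=
    hb _ (IsPGroup.of_surjective hK f₂.rangeRestrict f₂.rangeRestrict_surjective)
  have h3 : SR b f₁.ker := by
    apply SR.of_injective f₂.rangeRestrict _ h2
    rw [MonoidHom.rangeRestrict_injective_iff]
    exact hinj
  exact SR.ext_range f₁ h1 h3

/-- cardinality form -/
theorem card_le_of_invariant [Finite V] (hodd : Odd (Nat.card V)) (W : Subgroup V)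
    (P : Subgroup (MulAut V)) (hP : IsPGroup 2 P) (hinv : ∀ σ ∈ P, ∀ w ∈ W, σ w ∈ W) {a b : ℕ}
    (ha : ∀ P' : Subgroup (MulAut W), Nat.card P' ≤ a)
    (hb : ∀ P' : Subgroup (MulAut (V ⧸ W)), Nat.card P' ≤ b) : Nat.card P ≤ a * b := by
  obtain ⟨f₁, f₂, hinj, -⟩ := exists_homs hodd W P hP hinv
  have h1 : Nat.card P = Nat.card f₁.range * Nat.card f₁.ker := by
    have := Subgroup.card_mul_index f₁.ker
    rw [Subgroup.index_ker] at this
    rw [← this, mul_comm]
  have h2 : Nat.card f₁.ker = Nat.card f₂.range := by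
    exact Nat.card_congr (MonoidHom.ofInjective hinj).toEquiv
  rw [h1, h2]
  exact Nat.mul_le_mul (ha _) (hb _)

/-- if `P` fixes `W` pointwise the order of `P` is bounded by that of its image on `V ⧸ W` -/
theorem card_le_of_fixing [Finite V] (hodd : Odd (Nat.card V)) (W : Subgroup V)
    (P : Subgroup (MulAut V)) (hP : IsPGroup 2 P) (hfix : ∀ σ ∈ P, ∀ w ∈ W, σ w = w) {b : ℕ}
    (hb : ∀ P' : Subgroup (MulAut (V ⧸ W)), Nat.card P' ≤ b) : Nat.card P ≤ b := by
  have hinv : ∀ σ ∈ P, ∀ w ∈ W, σ w ∈ W := by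
    intro σ hσ w hw
    rw [hfix σ hσ w hw]; exact hw
  obtain ⟨f₁, f₂, hinj, hf₁⟩ := exists_homs hodd W P hP hinv
  have hker : f₁.ker = ⊤ := by
    rw [eq_top_iff]
    intro σ _
    rw [MonoidHom.mem_ker]
    apply MulEquiv.ext
    intro w
    apply Subtype.ext
    rw [hf₁ σ w, hfix σ.1 σ.2 w.1 w.2]
    rfl
  have h2 : Nat.card f₁.ker = Nat.card f₂.range :=
    Nat.card_congr (MonoidHom.ofInjective hinj).toEquiv
  have h3 : Nat.card f₁.ker = Nat.card P := by
    rw [hker]; exact Subgroup.card_top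
  rw [← h3, h2]
  exact hb _

end Cfsg.Agent.Lib.Helper11.FratIdx
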