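import Mathlib
import Cfsg.Agent.Lib.Helper11.FratIdxC
import Cfsg.Agent.Lib.Helper10.UniqueOrderP

/-!
# Helper11: group-theoretic lemmas on 2-groups (for S4188)
-/

set_option autoImplicit false

namespace Cfsg.Agent.Lib.Helper11.FratIdx

open Cfsg.Agent.Lib.Helper10

/-- a noncyclic abelian normal subgroup of a 2-group yields a central involution `z` and a second
involution `e` whose conjugates are `e` and `e z` -/
theorem exists_four {P : Type*} [Group P] [Finite P] (hP : IsPGroup 2 P) (A : Subgroup P)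
    [hAn : A.Normal] (hAc : IsMulCommutative A) (hnc : ¬ IsCyclic A) :
    ∃ z e : P, z ≠ 1 ∧ z * z = 1 ∧ (∀ g : P, g * z = z * g) ∧ e ≠ 1 ∧ e ≠ z ∧ e * e = 1 ∧
      ∀ g : P, g * e * g⁻¹ = e ∨ g * e * g⁻¹ = e * z := by
  haveI : Fact (Nat.Prime 2) := ⟨Nat.prime_two⟩
  have hAcomm : ∀ a ∈ A, ∀ b ∈ A, a * b = b * a := fun a ha b hb =>
    congrArg Subtype.val (hAc.is_comm.comm ⟨a, ha⟩ ⟨b, hb⟩)
  -- two independent involutions in A
  have hnu : ¬ UniqueOrderP 2 A := by
    intro hu
    apply hnc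
    exact isCyclic_of_comm_of_uniqueOrderP (hP.to_subgroup A)
      (fun a b => hAc.is_comm.comm a b) hu
  unfold UniqueOrderP at hnu
  push Not at hnu
  obtain ⟨x, y, hx2, hx1, hy2, hyx⟩ := hnu
  -- Ω = involutions of A
  let Ω : Subgroup P :=
    { carrier := {u | u ∈ A ∧ u * u = 1}
      one_mem' := ⟨A.one_mem, by simp⟩
      mul_mem' := by
        rintro u v ⟨hu, hu2⟩ ⟨hv, hv2⟩
        refine ⟨A.mul_mem hu hv, ?_⟩
        calc u * v * (u * v) = u * (v * u) * v := by group
          _ = u * (u * v) * v := by rw [hAcomm v hv u hu]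
          _ = (u * u) * (v * v) := by group
          _ = 1 := by rw [hu2, hv2, one_mul]
      inv_mem' := by
        rintro u ⟨hu, hu2⟩
        refine ⟨A.inv_mem hu, ?_⟩
        calc u⁻¹ * u⁻¹ = (u * u)⁻¹ := by group
          _ = 1 := by rw [hu2, inv_one] }
  have hΩmem : ∀ u, u ∈ Ω ↔ u ∈ A ∧ u * u = 1 := fun u => Iff.rfl
  haveI hΩn : Ω.Normal := by
    constructor
    intro u hu g
    rw [hΩmem] at hu ⊢
    refine ⟨hAn.conj_mem u hu.1 g, ?_⟩
    calc g * u * g⁻¹ * (g * u * g⁻¹) = g * (u * u) * g⁻¹ := by group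
      _ = 1 := by rw [hu.2]; group
  have hxΩ : (x : P) ∈ Ω := by
    rw [hΩmem]
    refine ⟨x.2, ?_⟩
    have := congrArg Subtype.val hx2
    simpa [pow_two] using this
  have hyΩ : (y : P) ∈ Ω := by
    rw [hΩmem]
    refine ⟨y.2, ?_⟩
    have := congrArg Subtype.val hy2
    simpa [pow_two] using this
  have hx1' : (x : P) ≠ 1 := fun h => hx1 (Subtype.ext h)
  have hΩne : Ω ≠ ⊥ := by
    intro h
    apply hx1'
    have := hxΩ
    rw [h, Subgroup.mem_bot] at this
    exact this
  have hmeet := normal_inf_center_ne_bot hP Ω hΩne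
  obtain ⟨z, hz, hz1⟩ : ∃ z ∈ Ω ⊓ Subgroup.center P, z ≠ 1 := by
    by_contra hcon
    push Not at hcon
    apply hmeet
    rw [Subgroup.eq_bot_iff_forall]
    exact hcon
  obtain ⟨hzΩ, hzc⟩ := hz
  have hzz : z * z = 1 := ((hΩmem z).mp hzΩ).2
  have hz2 : z ^ 2 = 1 := by rw [pow_two]; exact hzz
  have hzcomm : ∀ g : P, g * z = z * g := fun g => Subgroup.mem_center_iff.mp hzc g
  -- Z = ⟨z⟩ is normal
  haveI hZn : (Subgroup.zpowers z).Normal := by
    constructor
    intro n hn g
    obtain ⟨k, rfl⟩ := Subgroup.mem_zpowers_iff.mp hn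
    have : g * z ^ k * g⁻¹ = z ^ k := by
      have h1 : Commute g z := hzcomm g
      have h2 : Commute g (z ^ k) := h1.zpow_right k
      rw [h2.eq]; group
    rw [this]
    exact Subgroup.zpow_mem_zpowers z k
  -- an element of Ω outside Z
  obtain ⟨w, hwΩ, hwZ⟩ : ∃ w ∈ Ω, w ∉ Subgroup.zpowers z := by
    by_cases hxZ : (x : P) ∈ Subgroup.zpowers z
    · refine ⟨y, hyΩ, ?_⟩
      intro hyZ
      rcases eq_one_or_eq_of_mem_zpowers_of_sq hz2 hxZ with h | h
      · exact hx1' h
      · apply hyx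
        -- y ∈ zpowers x in A
        obtain ⟨k, hk⟩ := Subgroup.mem_zpowers_iff.mp hyZ
        refine Subgroup.mem_zpowers_iff.mpr ⟨k, ?_⟩
        apply Subtype.ext
        rw [Subgroup.coe_zpow, h]
        exact hk
    · exact ⟨x, hxΩ, hxZ⟩
  set π := QuotientGroup.mk' (Subgroup.zpowers z) with hπ
  have hπs : Function.Surjective π := QuotientGroup.mk'_surjective _
  haveI hΩbn : (Ω.map π).Normal := Subgroup.Normal.map hΩn π hπs
  have hΩbne : Ω.map π ≠ ⊥ := by
    intro h
    apply hwZ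
    have : π w ∈ Ω.map π := Subgroup.mem_map_of_mem π hwΩ
    rw [h, Subgroup.mem_bot] at this
    exact (QuotientGroup.eq_one_iff w).mp this
  have hQ : IsPGroup 2 (P ⧸ Subgroup.zpowers z) := hP.to_quotient _
  have hmeet2 := normal_inf_center_ne_bot hQ (Ω.map π) hΩbne
  obtain ⟨eb, heb, heb1⟩ : ∃ eb ∈ Ω.map π ⊓ Subgroup.center (P ⧸ Subgroup.zpowers z), eb ≠ 1 := by
    by_contra hcon
    push Not at hcon
    apply hmeet2
    rw [Subgroup.eq_bot_iff_forall]
    exact hcon
  obtain ⟨⟨e, heΩ, rfl⟩, hebc⟩ := heb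
  have heZ : e ∉ Subgroup.zpowers z := fun h => heb1 ((QuotientGroup.eq_one_iff e).mpr h)
  refine ⟨z, e, hz1, hzz, hzcomm, ?_, ?_, ((hΩmem e).mp heΩ).2, ?_⟩
  · intro h; apply heZ; rw [h]; exact Subgroup.one_mem _
  · intro h; apply heZ; rw [h]; exact Subgroup.mem_zpowers z
  · intro g
    have hc : π g * π e = π e * π g := Subgroup.mem_center_iff.mp hebc (π g)
    have hmem : e⁻¹ * (g * e * g⁻¹) ∈ Subgroup.zpowers z := by
      rw [← QuotientGroup.eq_one_iff, ← QuotientGroup.mk'_apply, ← hπ]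
      simp only [map_mul, map_inv]
      rw [hc]; group
    rcases eq_one_or_eq_of_mem_zpowers_of_sq hz2 hmem with h | h
    · left
      calc g * e * g⁻¹ = e * (e⁻¹ * (g * e * g⁻¹)) := by group
        _ = e := by rw [h, mul_one]
    · right
      calc g * e * g⁻¹ = e * (e⁻¹ * (g * e * g⁻¹)) := by group
        _ = e * z := by rw [h]

/-- a 2-group with a cyclic self-centralizing normal subgroup has sectional rank ≤ 3, and ≤ 2 when
the subgroup is small or of index ≤ 2 -/
theorem SR_of_cyclic_selfcentralizing {P : Type*} [Group P] [Finite P] (hP : IsPGroup 2 P)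
    (A : Subgroup P) [hAn : A.Normal] (hcyc : IsCyclic A)
    (hcent : Subgroup.centralizer (A : Set P) ≤ A) :
    SR 3 P ∧ ((Nat.card A ≤ 4 ∨ Nat.card P ≤ 2 * Nat.card A) → SR 2 P) := by
  set c : P →* MulAut A := MulAut.conjNormal with hc
  have hker : c.ker = A := by
    apply le_antisymm
    · intro x hx
      apply hcent
      rw [Subgroup.mem_centralizer_iff]
      intro a ha
      have h1 : c x ⟨a, ha⟩ = ⟨a, ha⟩ := by
        rw [MonoidHom.mem_ker] at hx
        rw [hx]; rfl
      have h2 := congrArg Subtype.val h1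
      rw [hc, MulAut.conjNormal_apply] at h2
      change x * a * x⁻¹ = a at h2
      calc a * x = (x * a * x⁻¹) * x := by rw [h2]
        _ = x * a := by group
    · intro x hx
      rw [MonoidHom.mem_ker]
      apply MulEquiv.ext
      intro a
      apply Subtype.ext
      rw [hc, MulAut.conjNormal_apply]
      have hcomm : (⟨x, hx⟩ : A) * a = a * ⟨x, hx⟩ := by
        obtain ⟨g, hg⟩ := hcyc.exists_generator
        obtain ⟨i, hi⟩ := Subgroup.mem_zpowers_iff.mp (hg ⟨x, hx⟩)
        obtain ⟨j, hj⟩ := Subgroup.mem_zpowers_iff.mp (hg a)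
        rw [← hi, ← hj]
        exact ((Commute.refl g).zpow_zpow i j).eq
      have h3 := congrArg Subtype.val hcomm
      change x * (a : P) = (a : P) * x at h3
      change x * (a : P) * x⁻¹ = (a : P)
      rw [h3]; group
  haveI : IsCyclic c.ker := by rw [hker]; exact hcyc
  have hk1 : SR 1 c.ker := SR.of_isCyclic
  have hA2 : IsPGroup 2 A := hP.to_subgroup A
  have hr2 : SR 2 c.range := (SR_mulAut_of_isCyclic A hA2).subgroup _
  refine ⟨SR.ext_range c hr2 hk1, ?_⟩
  intro h
  have hr1 : SR 1 c.range := by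
    apply SR.of_card_le
    rw [pow_one]
    rcases h with h | h
    · exact (Subgroup.card_le_card_group _).trans (card_mulAut_le_two A h)
    · have h1 := Subgroup.card_mul_index c.ker
      rw [Subgroup.index_ker, hker] at h1
      have hpos : 0 < Nat.card A := Nat.card_pos
      have h2 : Nat.card A * Nat.card c.range ≤ Nat.card A * 2 := by
        rw [h1]; omega
      exact Nat.le_of_mul_le_mul_left h2 hpos
  exact SR.ext_range c hr1 hk1

end Cfsg.Agent.Lib.Helper11.FratIdx
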