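import Mathlib
import Cfsg.Agent.Lib.Helper11.FratIdxD

/-!
# Helper11: irreducible 2-groups of automorphisms of an abelian group of odd order (for S4188)
-/

set_option autoImplicit false

namespace Cfsg.Agent.Lib.Helper11.FratIdx

open scoped Pointwise

variable {V : Type*} [CommGroup V]

/-- fixed points of an automorphism -/
def fixedSub (σ : MulAut V) : Subgroup V where
  carrier := {v | σ v = v}
  one_mem' := map_one σ
  mul_mem' := by
    intro a b ha hb
    simp only [Set.mem_ofPred_eq] at *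
    rw [map_mul, ha, hb]
  inv_mem' := by
    intro a ha
    simp only [Set.mem_ofPred_eq] at *
    rw [map_inv, ha]

theorem mem_fixedSub {σ : MulAut V} {v : V} : v ∈ fixedSub σ ↔ σ v = v := Iff.rfl

/-- no proper nontrivial invariant subgroup -/
def Irred (P : Subgroup (MulAut V)) : Prop :=
  ∀ W : Subgroup V, (∀ σ ∈ P, ∀ w ∈ W, σ w ∈ W) → W = ⊥ ∨ W = ⊤

theorem eq_one_of_sq [Finite V] (hodd : Odd (Nat.card V)) {v : V} (h : v * v = 1) : v = 1 := by
  have h2 : v ^ 2 = 1 := by rw [pow_two]; exact h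
  have h5 : orderOf v ∣ 2 := orderOf_dvd_of_pow_eq_one h2
  have h6 : orderOf v ∣ Nat.card V := orderOf_dvd_natCard v
  have hcop : Nat.Coprime 2 (Nat.card V) := by
    rw [Nat.coprime_two_left]; exact hodd
  exact orderOf_eq_one_iff.mp (Nat.eq_one_of_dvd_coprimes hcop h5 h6)

theorem exists_sq [Finite V] (hodd : Odd (Nat.card V)) (x : V) : ∃ y : V, y * y = x := by
  obtain ⟨m, hm⟩ := hodd
  refine ⟨x ^ (m + 1), ?_⟩
  rw [← pow_add]
  have : m + 1 + (m + 1) = Nat.card V + 1 := by omega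
  rw [this, pow_succ, pow_card_eq_one', one_mul]

/-- the imprimitive case -/
theorem imprimitive [Finite V] (hodd : Odd (Nat.card V)) (P : Subgroup (MulAut V))
    (hirr : Irred P) (z e : MulAut V) (hzP : z ∈ P) (heP : e ∈ P) (hz1 : z ≠ 1)
    (hzz : z * z = 1) (hzc : ∀ σ ∈ P, σ * z = z * σ) (he1 : e ≠ 1) (hez : e ≠ z)
    (hee : e * e = 1) (hec : ∀ σ ∈ P, σ * e * σ⁻¹ = e ∨ σ * e * σ⁻¹ = e * z) :
    ∃ (P₀ : Subgroup (MulAut V)) (V₁ : Subgroup V), P₀ ≤ P ∧ (P₀.subgroupOf P).index = 2 ∧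
      (∀ σ ∈ P₀, ∀ w ∈ V₁, σ w ∈ V₁) ∧ Nat.card V = Nat.card V₁ * Nat.card V₁ ∧
      (∃ t ∈ P, t * e ≠ e * t) := by
  -- Step 1: z is fixed point free
  have hFz : ∀ v, z v = v → v = 1 := by
    have hinv : ∀ σ ∈ P, ∀ w ∈ fixedSub z, σ w ∈ fixedSub z := by
      intro σ hσ w hw
      rw [mem_fixedSub] at hw ⊢
      have h1 : z (σ w) = (z * σ) w := rfl
      rw [h1, ← hzc σ hσ, MulAut.mul_apply, hw]
    rcases hirr _ hinv with h | h
    · intro v hv
      have : v ∈ fixedSub z := hv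
      rw [h, Subgroup.mem_bot] at this
      exact this
    · exfalso
      apply hz1
      apply MulEquiv.ext
      intro v
      have : v ∈ fixedSub z := by rw [h]; trivial
      exact this
  have hzzv : ∀ v, z (z v) = v := by
    intro v
    have : z (z v) = (z * z) v := rfl
    rw [this, hzz]; rfl
  -- Step 2: z inverts V
  have hzinv : ∀ v, z v = v⁻¹ := by
    intro v
    have h1 : z (v * z v) = v * z v := by
      rw [map_mul, hzzv, mul_comm]
    exact eq_inv_of_mul_eq_one_right (hFz _ h1)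
  have heev : ∀ v, e (e v) = v := by
    intro v
    have : e (e v) = (e * e) v := rfl
    rw [this, hee]; rfl
  have hez_comm : e * z = z * e := hzc e heP
  -- Step 3
  set V₁ : Subgroup V := fixedSub e with hV₁
  set P₀ : Subgroup (MulAut V) := P ⊓ Subgroup.centralizer {e} with hP₀
  have hP₀mem : ∀ σ, σ ∈ P₀ ↔ σ ∈ P ∧ σ * e = e * σ := by
    intro σ
    rw [hP₀, Subgroup.mem_inf, Subgroup.mem_centralizer_singleton_iff]
  have hP₀inv : ∀ σ ∈ P₀, ∀ w ∈ V₁, σ w ∈ V₁ := by
    intro σ hσ w hw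
    rw [hV₁, mem_fixedSub] at hw ⊢
    have h1 : e (σ w) = (e * σ) w := rfl
    rw [h1, ← ((hP₀mem σ).mp hσ).2, MulAut.mul_apply, hw]
  -- Step 4: some t ∈ P does not commute with e
  have hex : ∃ t ∈ P, t * e ≠ e * t := by
    by_contra hcon
    push Not at hcon
    have hinv : ∀ σ ∈ P, ∀ w ∈ V₁, σ w ∈ V₁ := fun σ hσ =>
      hP₀inv σ ((hP₀mem σ).mpr ⟨hσ, hcon σ hσ⟩)
    rcases hirr _ hinv with h | h
    · apply hez
      apply MulEquiv.ext
      intro v
      have h1 : v * e v ∈ V₁ := by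
        rw [hV₁, mem_fixedSub, map_mul, heev, mul_comm]
      rw [h, Subgroup.mem_bot] at h1
      rw [hzinv v]
      exact eq_inv_of_mul_eq_one_right h1
    · apply he1
      apply MulEquiv.ext
      intro v
      have : v ∈ V₁ := by rw [h]; trivial
      exact this
  obtain ⟨t, htP, hte⟩ := hex
  have hconj : ∀ σ ∈ P, σ ∉ P₀ → σ * e * σ⁻¹ = e * z := by
    intro σ hσ hσ0
    rcases hec σ hσ with h | h
    · exfalso
      apply hσ0
      rw [hP₀mem]
      refine ⟨hσ, ?_⟩
      calc σ * e = (σ * e * σ⁻¹) * σ := by group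
        _ = e * σ := by rw [h]
    · exact h
  have htP₀ : t ∉ P₀ := fun h => hte ((hP₀mem t).mp h).2
  have hte' : t * e * t⁻¹ = e * z := hconj t htP htP₀
  -- Step 5: index two
  have hidx : (P₀.subgroupOf P).index = 2 := by
    rw [Subgroup.index_eq_two_iff]
    refine ⟨⟨t, htP⟩, ?_⟩
    intro b
    by_cases hb : b ∈ P₀.subgroupOf P
    · right
      refine ⟨hb, ?_⟩
      intro hbt
      apply htP₀
      rw [Subgroup.mem_subgroupOf] at hb hbt
      have : t = (b : MulAut V)⁻¹ * ((b : MulAut V) * t) := by group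
      rw [this]
      exact P₀.mul_mem (P₀.inv_mem hb) hbt
    · left
      refine ⟨?_, hb⟩
      rw [Subgroup.mem_subgroupOf] at hb ⊢
      have hbe : (b : MulAut V) * e * (b : MulAut V)⁻¹ = e * z := hconj b b.2 hb
      have hbz : (b : MulAut V) * z * (b : MulAut V)⁻¹ = z := by
        rw [hzc b b.2]; group
      change (b : MulAut V) * t ∈ P₀
      rw [hP₀mem]
      refine ⟨P.mul_mem b.2 htP, ?_⟩
      have h1 : (b : MulAut V) * t * e * ((b : MulAut V) * t)⁻¹ = e := by
        calc (b : MulAut V) * t * e * ((b : MulAut V) * t)⁻¹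
            = (b : MulAut V) * (t * e * t⁻¹) * (b : MulAut V)⁻¹ := by group
          _ = (b : MulAut V) * (e * z) * (b : MulAut V)⁻¹ := by rw [hte']
          _ = ((b : MulAut V) * e * (b : MulAut V)⁻¹) * ((b : MulAut V) * z * (b : MulAut V)⁻¹) := by
            group
          _ = e * z * z := by rw [hbe, hbz]
          _ = e := by rw [mul_assoc, hzz, mul_one]
      calc (b : MulAut V) * t * e = ((b : MulAut V) * t * e * ((b : MulAut V) * t)⁻¹) *
            ((b : MulAut V) * t) := by group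
        _ = e * ((b : MulAut V) * t) := by rw [h1]
  -- Step 6: V = V₁ × V₂, with V₂ = t V₁
  set V₂ : Subgroup V := fixedSub (e * z) with hV₂
  have hte2 : t * e = e * z * t := by
    calc t * e = (t * e * t⁻¹) * t := by group
      _ = e * z * t := by rw [hte']
  have het : e * t⁻¹ = t⁻¹ * (e * z) := by
    calc e * t⁻¹ = t⁻¹ * (t * e * t⁻¹) := by group
      _ = t⁻¹ * (e * z) := by rw [hte']
  have hmap : V₁.map (t : V ≃* V).toMonoidHom = V₂ := by
    ext u
    constructor
    · rintro ⟨v, hv, rfl⟩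
      rw [SetLike.mem_coe, hV₁, mem_fixedSub] at hv
      rw [hV₂, mem_fixedSub]
      change (e * z) (t v) = t v
      have h1 : (e * z) (t v) = (e * z * t) v := rfl
      rw [h1, ← hte2, MulAut.mul_apply, hv]
    · intro hu
      rw [hV₂, mem_fixedSub] at hu
      refine ⟨t⁻¹ u, ?_, ?_⟩
      · rw [SetLike.mem_coe, hV₁, mem_fixedSub]
        have h1 : e (t⁻¹ u) = (e * t⁻¹) u := rfl
        rw [h1, het, MulAut.mul_apply, hu]
      · change t (t⁻¹ u) = u
        exact MulAut.apply_inv_self V t u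
  have hcard₂ : Nat.card V₂ = Nat.card V₁ := by
    rw [← hmap]
    exact Subgroup.card_map_of_injective (t : V ≃* V).injective
  have hdisj : Disjoint V₁ V₂ := by
    rw [Subgroup.disjoint_def]
    intro v hv1 hv2
    rw [hV₁, mem_fixedSub] at hv1
    rw [hV₂, mem_fixedSub, MulAut.mul_apply, hzinv, map_inv, hv1] at hv2
    apply eq_one_of_sq hodd
    calc v * v = v * v⁻¹ := by rw [hv2]
      _ = 1 := mul_inv_cancel v
  have hprod : (V₁ : Set V) * (V₂ : Set V) = Set.univ := by
    rw [Set.eq_univ_iff_forall]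
    intro x
    obtain ⟨y, hy⟩ := exists_sq hodd x
    refine Set.mem_mul.mpr ⟨y * e y, ?_, y * (e y)⁻¹, ?_, ?_⟩
    · rw [SetLike.mem_coe, hV₁, mem_fixedSub, map_mul, heev, mul_comm]
    · rw [SetLike.mem_coe, hV₂, mem_fixedSub, MulAut.mul_apply, map_mul, map_inv, hzinv, hzinv,
        inv_inv, map_mul, map_inv, heev, mul_comm]
    · rw [← hy]
      calc y * e y * (y * (e y)⁻¹) = y * y * (e y * (e y)⁻¹) := by
            rw [mul_mul_mul_comm]
        _ = y * y := by rw [mul_inv_cancel, mul_one]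
  have hcompl : Subgroup.IsComplement' V₁ V₂ :=
    Subgroup.isComplement'_of_disjoint_and_mul_eq_univ hdisj hprod
  have hcard := hcompl.card_mul_card
  rw [hcard₂] at hcard
  exact ⟨P₀, V₁, inf_le_left, hidx, hP₀inv, hcard.symm, t, htP, hte⟩

end Cfsg.Agent.Lib.Helper11.FratIdx
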