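import Mathlib
import Cfsg.Agent.Lib.Helper11.FratIdxE
import Cfsg.Agent.Lib.Helper10.PGroup

/-!
# Helper11: the main bound for 2-groups of automorphisms of abelian groups of odd order (for S4188)
-/

set_option autoImplicit false

namespace Cfsg.Agent.Lib.Helper11.FratIdx

open Cfsg.Agent.Lib.Helper10

/-- the bound function -/
def gb (n : ℕ) : ℕ := if n = 3 then 2 else (n - 1) / 2

/-- the exponent bound -/
def kb (n : ℕ) : ℕ := Nat.log 2 (gb n)

theorem two_le_gb {n : ℕ} (h3 : 3 ≤ n) (hodd : Odd n) : 2 ≤ gb n := by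
  unfold gb
  split_ifs with h
  · exact le_rfl
  · obtain ⟨a, rfl⟩ := hodd
    omega

theorem gb_le {n : ℕ} (h3 : 3 ≤ n) : gb n ≤ n - 1 := by
  unfold gb
  split_ifs with h
  · omega
  · exact Nat.div_le_self _ _

theorem gb_mul {a b : ℕ} (ha : 3 ≤ a) (hb : 3 ≤ b) (hao : Odd a) (hbo : Odd b) :
    gb a * gb b ≤ gb (a * b) := by
  obtain ⟨x, rfl⟩ := hao
  obtain ⟨y, rfl⟩ := hbo
  have hx1 : 1 ≤ x := by omega
  have hy1 : 1 ≤ y := by omega
  have hab : (2 * x + 1) * (2 * y + 1) ≠ 3 := by nlinarith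
  have hval : ((2 * x + 1) * (2 * y + 1) - 1) / 2 = 2 * x * y + x + y := by
    have h1 : (2 * x + 1) * (2 * y + 1) = 2 * (2 * x * y + x + y) + 1 := by ring
    have h2 : (2 * x + 1) * (2 * y + 1) - 1 = 2 * (2 * x * y + x + y) := by omega
    rw [h2, Nat.mul_div_cancel_left _ (by norm_num)]
  have hx : (2 * x + 1 - 1) / 2 = x := by omega
  have hy : (2 * y + 1 - 1) / 2 = y := by omega
  unfold gb
  rw [if_neg hab, hval, hx, hy]
  split_ifs with h1 h2 h2
  · have hx : x = 1 := by omega
    have hy : y = 1 := by omega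
    subst hx; subst hy; norm_num
  · have hx : x = 1 := by omega
    subst hx; nlinarith
  · have hy : y = 1 := by omega
    subst hy; nlinarith
  · nlinarith

theorem gb_sq {a : ℕ} (ha : 5 ≤ a) (hao : Odd a) : 2 * (gb a * gb a) ≤ gb (a * a) := by
  obtain ⟨x, rfl⟩ := hao
  have hx2 : 2 ≤ x := by omega
  have hab : (2 * x + 1) * (2 * x + 1) ≠ 3 := by nlinarith
  have hval : ((2 * x + 1) * (2 * x + 1) - 1) / 2 = 2 * x * x + x + x := by
    have h1 : (2 * x + 1) * (2 * x + 1) = 2 * (2 * x * x + x + x) + 1 := by ring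
    have h2 : (2 * x + 1) * (2 * x + 1) - 1 = 2 * (2 * x * x + x + x) := by omega
    rw [h2, Nat.mul_div_cancel_left _ (by norm_num)]
  have hx : (2 * x + 1 - 1) / 2 = x := by omega
  have h3 : 2 * x + 1 ≠ 3 := by omega
  unfold gb
  rw [if_neg hab, hval, if_neg h3, hx]
  nlinarith

theorem two_pow_kb_le {n : ℕ} (h3 : 3 ≤ n) (hodd : Odd n) : 2 ^ kb n ≤ gb n := by
  have := two_le_gb h3 hodd
  exact Nat.pow_log_le_self 2 (by omega)

theorem le_kb {n k : ℕ} (h : 2 ^ k ≤ gb n) : k ≤ kb n :=
  Nat.le_log_of_pow_le (by norm_num) h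

variable {V : Type*} [CommGroup V]

/-- an irreducible abelian group has prime exponent -/
theorem exists_prime_pow_card [Finite V] (P : Subgroup (MulAut V)) (hirr : Irred P)
    (h1 : 1 < Nat.card V) :
    ∃ r m : ℕ, r.Prime ∧ Nat.card V = r ^ m ∧ ∀ v : V, v ^ r = 1 := by
  set r := (Nat.card V).minFac with hr
  have hrp : r.Prime := Nat.minFac_prime (by omega)
  haveI : Fact r.Prime := ⟨hrp⟩
  have hdvd : r ∣ Nat.card V := Nat.minFac_dvd _
  let Ω : Subgroup V :=
    { carrier := {v | v ^ r = 1}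
      one_mem' := one_pow r
      mul_mem' := by
        intro a b ha hb
        change (a * b) ^ r = 1
        rw [mul_pow, ha, hb, one_mul]
      inv_mem' := by
        intro a ha
        change a⁻¹ ^ r = 1
        rw [inv_pow, ha, inv_one] }
  have hΩmem : ∀ v, v ∈ Ω ↔ v ^ r = 1 := fun v => Iff.rfl
  have hinv : ∀ σ ∈ P, ∀ w ∈ Ω, σ w ∈ Ω := by
    intro σ _ w hw
    rw [hΩmem] at hw ⊢
    rw [← map_pow, hw, map_one]
  obtain ⟨x, hx⟩ := exists_prime_orderOf_dvd_card' r hdvd
  have hxΩ : x ∈ Ω := by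
    rw [hΩmem, ← hx]; exact pow_orderOf_eq_one x
  have hx1 : x ≠ 1 := by
    intro h
    rw [h, orderOf_one] at hx
    exact hrp.one_lt.ne hx
  rcases hirr Ω hinv with h | h
  · exfalso
    apply hx1
    rw [h, Subgroup.mem_bot] at hxΩ
    exact hxΩ
  · have hexp : ∀ v : V, v ^ r = 1 := by
      intro v
      have : v ∈ Ω := by rw [h]; trivial
      exact this
    have hpg : IsPGroup r V := by
      intro g
      exact ⟨1, by rw [pow_one]; exact hexp g⟩
    obtain ⟨m, hm⟩ := IsPGroup.iff_card.mp hpg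
    exact ⟨r, m, hrp, hm, hexp⟩

/-- 2-groups of automorphisms of an elementary abelian group of order 9 have order at most 16 -/
theorem card_le_sixteen [Finite V] (hV : Nat.card V = 9) (hexp : ∀ v : V, v ^ 3 = 1)
    (P : Subgroup (MulAut V)) (hP : IsPGroup 2 P) : Nat.card P ≤ 16 := by
  have hodd : Odd (Nat.card V) := by rw [hV]; decide
  haveI : Nontrivial V := by
    rw [← Finite.one_lt_card_iff_nontrivial, hV]; norm_num
  obtain ⟨v, hv⟩ := exists_ne (1 : V)
  set S : Subgroup P := MulAction.stabilizer P v with hS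
  have hos : (MulAction.orbit P v).ncard * Nat.card S = Nat.card P := by
    rw [← MulAction.index_stabilizer, mul_comm]
    exact Subgroup.card_mul_index S
  -- the orbit avoids 1
  have horb : (MulAction.orbit P v).ncard ≤ 8 := by
    have hsub : MulAction.orbit P v ⊆ ({1} : Set V)ᶜ := by
      rintro _ ⟨σ, rfl⟩
      rw [Set.mem_compl_iff, Set.mem_singleton_iff]
      intro h
      apply hv
      have h1 : (σ : MulAut V) v = 1 := h
      have h2 : (σ : MulAut V) v = (σ : MulAut V) 1 := by rw [h1, map_one]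
      exact (σ : MulAut V).injective h2
    have h1 := Set.ncard_le_ncard hsub (Set.toFinite _)
    rw [Set.ncard_compl, Set.ncard_singleton, hV] at h1
    exact h1
  -- the stabilizer has order at most 2
  have hstab : Nat.card S ≤ 2 := by
    set S' : Subgroup (MulAut V) := S.map P.subtype with hS'
    have hcS : Nat.card S' = Nat.card S :=
      Subgroup.card_map_of_injective P.subtype_injective
    have hS'2 : IsPGroup 2 S' := (hP.to_subgroup S).map P.subtype
    have hfixv : ∀ σ ∈ S', σ v = v := by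
      rintro _ ⟨s, hs, rfl⟩
      exact MulAction.mem_stabilizer_iff.mp hs
    set W : Subgroup V := Subgroup.zpowers v with hW
    have hfix : ∀ σ ∈ S', ∀ w ∈ W, σ w = w := by
      intro σ hσ w hw
      obtain ⟨k, rfl⟩ := Subgroup.mem_zpowers_iff.mp hw
      rw [map_zpow, hfixv σ hσ]
    have hov : orderOf v = 3 := orderOf_eq_prime (hexp v) hv
    have hcW : Nat.card W = 3 := by rw [hW, Nat.card_zpowers, hov]
    have hcQ : Nat.card (V ⧸ W) = 3 := by
      have := Subgroup.card_eq_card_quotient_mul_card_subgroup W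
      rw [hV, hcW] at this
      omega
    have hb : ∀ P' : Subgroup (MulAut (V ⧸ W)), Nat.card P' ≤ 2 :=
      fun P' => card_le_two_of_card_three (V ⧸ W) hcQ P'
    rw [← hcS]
    exact card_le_of_fixing hodd W S' hS'2 hfix hb
  rw [← hos]
  calc (MulAction.orbit P v).ncard * Nat.card S ≤ 8 * 2 := Nat.mul_le_mul horb hstab
    _ = 16 := by norm_num

end Cfsg.Agent.Lib.Helper11.FratIdx
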