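import Mathlib
import Cfsg.Agent.Lib.Helper11.FratIdxF

/-!
# Helper11: main induction (for S4188)

Every 2-subgroup `P` of `Aut(V)`, `V` abelian of odd order `n > 1`, has sectional 2-rank `k` with
`2 ^ k ≤ gb n`.
-/

set_option autoImplicit false

namespace Cfsg.Agent.Lib.Helper11.FratIdx

open Cfsg.Agent.Lib.Helper10

universe u

theorem main_bound : ∀ (n : ℕ) (V : Type u) [CommGroup V] [Finite V], Nat.card V = n → Odd n →
    1 < n → ∀ P : Subgroup (MulAut V), IsPGroup 2 P → SR (kb n) P := by
  intro n
  induction n using Nat.strong_induction_on with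
  | _ n IH =>
  intro V _ _ hcard hodd h1 P hP
  haveI : Fact (Nat.Prime 2) := ⟨Nat.prime_two⟩
  have h3 : 3 ≤ n := by obtain ⟨a, rfl⟩ := hodd; omega
  have hoddV : Odd (Nat.card V) := by rw [hcard]; exact hodd
  suffices h : ∃ k, 2 ^ k ≤ gb n ∧ SR k P by
    obtain ⟨k, hk, hS⟩ := h
    exact hS.mono (le_kb hk)
  by_cases hred : ∃ W : Subgroup V, W ≠ ⊥ ∧ W ≠ ⊤ ∧ ∀ σ ∈ P, ∀ w ∈ W, σ w ∈ W
  · -- reducible
    obtain ⟨W, hWb, hWt, hinv⟩ := hred
    have hmul : Nat.card W * Nat.card (V ⧸ W) = n := by
      rw [← hcard, mul_comm]; exact (Subgroup.card_eq_card_quotient_mul_card_subgroup W).symm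
    have hW1 : 1 < Nat.card W := W.one_lt_card_iff_ne_bot.mpr hWb
    have hQ1 : 1 < Nat.card (V ⧸ W) := by
      rw [← Subgroup.index_eq_card]
      have h0 : W.index ≠ 0 := Subgroup.index_ne_zero_of_finite
      have h1' : W.index ≠ 1 := fun h => hWt (Subgroup.index_eq_one.mp h)
      omega
    have hWodd : Odd (Nat.card W) := Odd.of_dvd_nat hodd ⟨_, hmul.symm⟩
    have hQodd : Odd (Nat.card (V ⧸ W)) :=
      Odd.of_dvd_nat hodd ⟨_, by rw [mul_comm]; exact hmul.symm⟩
    have hWlt : Nat.card W < n := by nlinarith
    have hQlt : Nat.card (V ⧸ W) < n := by nlinarith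
    have hW3 : 3 ≤ Nat.card W := by obtain ⟨a, ha⟩ := hWodd; omega
    have hQ3 : 3 ≤ Nat.card (V ⧸ W) := by obtain ⟨a, ha⟩ := hQodd; omega
    refine ⟨kb (Nat.card W) + kb (Nat.card (V ⧸ W)), ?_, ?_⟩
    · rw [pow_add, ← hmul]
      exact (Nat.mul_le_mul (two_pow_kb_le hW3 hWodd) (two_pow_kb_le hQ3 hQodd)).trans
        (gb_mul hW3 hQ3 hWodd hQodd)
    · exact SR_of_invariant hoddV W P hP hinv
        (fun P' hP' => IH _ hWlt W rfl hWodd hW1 P' hP')
        (fun P' hP' => IH _ hQlt (V ⧸ W) rfl hQodd hQ1 P' hP')
  · -- irreducible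
    have hirr : Irred P := by
      intro W hinv
      by_contra hcon
      push Not at hcon
      exact hred ⟨W, hcon.1, hcon.2, hinv⟩
    obtain ⟨A, hAn, hAc, hAmax⟩ := exists_maximal_normal_abelian P
    haveI := hAn
    have hcent := centralizer_le_of_maximal_normal_abelian hP A hAc hAmax
    by_cases hcyc : IsCyclic A
    · by_cases hAtop : A = ⊤
      · -- P cyclic
        haveI : IsCyclic P := by
          have e : A ≃* P := (MulEquiv.subgroupCongr hAtop).trans Subgroup.topEquiv
          exact isCyclic_of_surjective e e.surjective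
        refine ⟨1, ?_, SR.of_isCyclic⟩
        rw [pow_one]; exact two_le_gb h3 hodd
      · -- P nonabelian
        have hnc : ¬ ∀ x y : P, x * y = y * x := by
          intro hc
          apply hAtop
          have hT : IsMulCommutative (⊤ : Subgroup P) :=
            ⟨⟨fun a b => Subtype.ext (hc a.1 b.1)⟩⟩
          exact (hAmax ⊤ inferInstance hT le_top).symm
        have hnp : ¬ n.Prime := by
          intro hp
          haveI : Fact n.Prime := ⟨hp⟩
          haveI : IsCyclic V := isCyclic_of_prime_card hcard
          apply hnc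
          intro x y
          apply Subtype.ext
          exact mulAut_comm_of_isCyclic V x.1 y.1
        obtain ⟨r, m, hrp, hrm, hexp⟩ :=
          exists_prime_pow_card P hirr (by rw [hcard]; exact h1)
        rw [hcard] at hrm
        obtain ⟨hS3, hS2⟩ := SR_of_cyclic_selfcentralizing hP A hcyc hcent
        -- numeric
        have hr3 : 3 ≤ r := by
          have h2 : 2 ≤ r := hrp.two_le
          rcases Nat.lt_or_ge 2 r with h | h
          · omega
          · exfalso
            have hr2 : r = 2 := by omega
            rw [hr2] at hrm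
            rcases m with _ | m
            · rw [pow_zero] at hrm; omega
            · rw [hrm, pow_succ] at hodd
              exact (Nat.not_even_iff_odd.mpr hodd) (even_two.mul_left _)
        have hm2 : 2 ≤ m := by
          rcases m with _ | _ | m
          · rw [pow_zero] at hrm; omega
          · rw [pow_one] at hrm; exact absurd (hrm ▸ hrp) hnp
          · omega
        have hcase : n = 9 ∨ 25 ≤ n := by
          rcases Nat.lt_or_ge r 5 with hr5 | hr5
          · have hr : r = 3 := by
              rcases (show r = 3 ∨ r = 4 by omega) with h | h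
              · exact h
              · exfalso; rw [h] at hrp; norm_num at hrp
            rw [hr] at hrm
            rcases Nat.lt_or_ge m 3 with hm | hm
            · left
              have : m = 2 := by omega
              rw [hrm, this]; norm_num
            · right
              have : 3 ^ 3 ≤ 3 ^ m := Nat.pow_le_pow_right (by norm_num) hm
              omega
          · right
            have h1' : r ^ 2 ≤ r ^ m := Nat.pow_le_pow_right (by omega) hm2
            have h2' : 25 ≤ r ^ 2 := by nlinarith
            omega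
        rcases hcase with h9 | h25
        · -- n = 9
          have hr : r = 3 := by
            have hdvd : r ∣ 3 ^ 2 := by
              have : (3 : ℕ) ^ 2 = 9 := by norm_num
              rw [this, ← h9, hrm]; exact dvd_pow_self r (by omega)
            have := Nat.Prime.dvd_of_dvd_pow hrp hdvd
            exact (Nat.prime_dvd_prime_iff_eq hrp Nat.prime_three).mp this
          rw [hr] at hexp
          have h16 := card_le_sixteen (by rw [hcard, h9]) hexp P hP
          refine ⟨2, ?_, hS2 ?_⟩
          · rw [h9]; decide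
          · obtain ⟨j, hj⟩ := IsPGroup.iff_card.mp (hP.to_subgroup A)
            rcases Nat.lt_or_ge j 3 with hj3 | hj3
            · left
              have : 2 ^ j ≤ 2 ^ 2 := Nat.pow_le_pow_right (by norm_num) (by omega)
              omega
            · right
              have : 2 ^ 3 ≤ 2 ^ j := Nat.pow_le_pow_right (by norm_num) hj3
              omega
        · refine ⟨3, ?_, hS3⟩
          unfold gb
          rw [if_neg (by omega)]
          omega
    · -- imprimitive
      obtain ⟨z, e, hz1, hzz, hzc, he1, hez, hee, hec⟩ := exists_four hP A hAc hcyc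
      have hzc' : ∀ σ ∈ P, σ * (z : MulAut V) = (z : MulAut V) * σ := by
        intro σ hσ
        have := congrArg Subtype.val (hzc ⟨σ, hσ⟩)
        simpa using this
      have hec' : ∀ σ ∈ P, σ * (e : MulAut V) * σ⁻¹ = (e : MulAut V) ∨
          σ * (e : MulAut V) * σ⁻¹ = (e : MulAut V) * (z : MulAut V) := by
        intro σ hσ
        rcases hec ⟨σ, hσ⟩ with h | h
        · left; have := congrArg Subtype.val h; simpa using this
        · right; have := congrArg Subtype.val h; simpa using this
      obtain ⟨P₀, V₁, hP₀P, hidx, hinv, hcardV, t, htP, hte⟩ :=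
        imprimitive hoddV P hirr z e z.2 e.2 (fun h => hz1 (Subtype.ext h))
          (by have := congrArg Subtype.val hzz; simpa using this) hzc'
          (fun h => he1 (Subtype.ext h)) (fun h => hez (Subtype.ext h))
          (by have := congrArg Subtype.val hee; simpa using this) hec'
      obtain ⟨n₁, hn₁⟩ : ∃ n₁, n₁ = Nat.card V₁ := ⟨_, rfl⟩
      have hnn : n = n₁ * n₁ := by rw [← hcard, hn₁]; exact hcardV
      have hn₁odd : Odd n₁ := Odd.of_dvd_nat hodd ⟨n₁, hnn⟩
      have hn₁1 : 1 < n₁ := by
        by_contra hcon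
        push Not at hcon
        have : n₁ = 0 ∨ n₁ = 1 := by omega
        rcases this with h | h <;> rw [h] at hnn <;> omega
      have hn₁3 : 3 ≤ n₁ := by obtain ⟨a, ha⟩ := hn₁odd; omega
      have hn₁lt : n₁ < n := by nlinarith
      have hcQ : Nat.card (V ⧸ V₁) = n₁ := by
        have := Subgroup.card_eq_card_quotient_mul_card_subgroup V₁
        rw [hcard, hnn, ← hn₁] at this
        exact (Nat.eq_of_mul_eq_mul_right (by omega) this).symm
      have hP₀2 : IsPGroup 2 P₀ := hP.to_le hP₀P
      have hcP : Nat.card P = Nat.card P₀ * 2 := by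
        have := Subgroup.card_mul_index (P₀.subgroupOf P)
        rw [hidx, card_subgroupOf_eq, inf_of_le_left hP₀P] at this
        exact this.symm
      rcases Nat.lt_or_ge n₁ 5 with h5 | h5
      · -- n₁ = 3
        have hn3 : n₁ = 3 := by obtain ⟨a, ha⟩ := hn₁odd; omega
        have h4 : Nat.card P₀ ≤ 2 * 2 :=
          card_le_of_invariant hoddV V₁ P₀ hP₀2 hinv
            (fun P' => card_le_two_of_card_three V₁ (by rw [← hn₁, hn3]) P')
            (fun P' => card_le_two_of_card_three (V ⧸ V₁) (by rw [hcQ, hn3]) P')
        have h8 : Nat.card P ≤ 8 := by omega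
        refine ⟨2, ?_, SR.of_card_le_eight hP h8 ⟨⟨t, htP⟩, e, ?_⟩⟩
        · rw [hnn, hn3]; decide
        · intro h
          apply hte
          have := congrArg Subtype.val h
          simpa using this
      · have hS0 : SR (kb n₁ + kb n₁) P₀ := by
          apply SR_of_invariant hoddV V₁ P₀ hP₀2 hinv
          · intro P' hP'
            exact IH n₁ hn₁lt V₁ hn₁.symm hn₁odd hn₁1 P' hP'
          · intro P' hP'
            exact IH n₁ hn₁lt (V ⧸ V₁) hcQ hn₁odd hn₁1 P' hP'
        have hS0' : SR (kb n₁ + kb n₁) (P₀.subgroupOf P) :=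
          SR.of_injective (Subgroup.subgroupOfEquivOfLe hP₀P).toMonoidHom
            (Subgroup.subgroupOfEquivOfLe hP₀P).injective hS0
        refine ⟨kb n₁ + kb n₁ + 1, ?_, SR.of_index_two _ hidx hS0'⟩
        rw [pow_succ, pow_add, hnn]
        have h1' := two_pow_kb_le hn₁3 hn₁odd
        calc 2 ^ kb n₁ * 2 ^ kb n₁ * 2 ≤ gb n₁ * gb n₁ * 2 := by
              apply Nat.mul_le_mul_right; exact Nat.mul_le_mul h1' h1'
          _ = 2 * (gb n₁ * gb n₁) := by ring
          _ ≤ gb (n₁ * n₁) := gb_sq h5 hn₁odd

end Cfsg.Agent.Lib.Helper11.FratIdx
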