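import Cfsg.Agent.Lib.Helper11.OrbitSum

/-!
Sums of invariant algebraic-integer valued functions over a free action are divisible by the
group order.
-/

set_option autoImplicit false

namespace Cfsg.Agent.Lib.Helper11

section FreeOrbit
open Classical

variable {A X : Type*} [Group A] [Fintype A] [Fintype X] [MulAction A X]

/-- If `A` acts freely on `X` and `t` is an `A`-invariant function with algebraic-integer
values, then `(∑ t) / |A|` is an algebraic integer. -/
theorem sum_free_action_isIntegral (t : X → ℂ) (hinv : ∀ (a : A) (b : X), t (a • b) = t b)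
    (hfree : ∀ (a : A) (b : X), a • b = b → a = 1) (hint : ∀ b, IsIntegral ℤ (t b)) :
    IsIntegral ℤ ((∑ b : X, t b) / (Nat.card A : ℂ)) := by
  have h1 := sum_stabilizer_div_card (L := A) t hinv
  have hstab : ∀ b : X, Nat.card (MulAction.stabilizer A b) = 1 := by
    intro b
    rw [Subgroup.card_eq_one, Subgroup.eq_bot_iff_forall]
    intro a ha
    exact hfree a b (MulAction.mem_stabilizer_iff.1 ha)
  have h2 : (∑ b : X, t b) / (Nat.card A : ℂ)
      = ∑ b : X, (Nat.card (MulAction.stabilizer A b) : ℂ) / (Nat.card A : ℂ) * t b := by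
    rw [Finset.sum_div]
    apply Finset.sum_congr rfl
    intro b _
    rw [hstab b]
    push_cast
    ring
  rw [h2, h1]
  exact IsIntegral.sum _ (fun ω _ => hint _)

end FreeOrbit

end Cfsg.Agent.Lib.Helper11
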