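import Cfsg.Agent.Lib.Helper11.FrobExc2

/-!
The auxiliary class function `β = Ind_H^L 1 - χ` and the generalized character `B = Ind_L^G β`.
-/

set_option autoImplicit false

namespace Cfsg.Agent.Lib.Helper11

open Cfsg
open Cfsg.Agent.Lib.Helper2
open Cfsg.Agent.S1522
open scoped ComplexConjugate

/-- `β = Ind_H^L 1 - χ`. -/
noncomputable def frobBeta {G : Type*} [Group G] (H L : Subgroup G) [Fintype L] (χ : L → ℂ) :
    L → ℂ :=
  indFun (H.subgroupOf L) (fun _ => (1 : ℂ)) - χ

namespace FrobCtx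

variable {G : Type*} [Group G] [Fintype G] {H L : Subgroup G} [Fintype L]
  {τ₁ : (L → ℂ) → (G → ℂ)}

/-- `Ind_H^L 1` is constant on `H`. -/
theorem rho_apply_mem (C : FrobCtx H L τ₁) (k : H.subgroupOf L) :
    indFun (H.subgroupOf L) (fun _ => (1 : ℂ)) (k : L) = ((H.subgroupOf L).index : ℂ) := by
  haveI := C.normal
  rw [indFun_apply_mem]
  have h1 : ∀ x : L, Cfsg.Agent.Lib.Helper2.conjFun (H.subgroupOf L) x (fun _ => (1 : ℂ)) k = 1 :=
    fun x => rfl
  rw [Finset.sum_congr rfl (fun x _ => h1 x), Finset.sum_const, Finset.card_univ, nsmul_eq_mul,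
    mul_one, ← Nat.card_eq_fintype_card, ← Subgroup.card_mul_index (H.subgroupOf L)]
  push_cast
  rw [← mul_assoc, inv_mul_cancel₀ (by exact_mod_cast (Nat.card_pos (α := H.subgroupOf L)).ne'),
    one_mul]

theorem rho_class (C : FrobCtx H L τ₁) :
    IsClassFunction L (indFun (H.subgroupOf L) (fun _ => (1 : ℂ))) :=
  Cfsg.Agent.Lib.Helper2.indFun_isClassFunction _ _

theorem rho_char (C : FrobCtx H L τ₁) :
    IsCharacter L (indFun (H.subgroupOf L) (fun _ => (1 : ℂ))) :=
  indFun_isCharacter _ _ (IsIrrCharacter.isCharacter isIrrCharacter_one)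

/-- `(ρ, f) = (1, f|_H)`. -/
theorem rho_inner [Fintype (H.subgroupOf L)] (C : FrobCtx H L τ₁) (f : L → ℂ) (hf : IsClassFunction L f) :
    classInner (indFun (H.subgroupOf L) (fun _ => (1 : ℂ))) f
      = classInner (fun _ : H.subgroupOf L => (1 : ℂ)) (fun k : H.subgroupOf L => f k) :=
  frobenius_reciprocity (H.subgroupOf L) _ f hf

theorem rho_inner_one (C : FrobCtx H L τ₁) :
    classInner (indFun (H.subgroupOf L) (fun _ => (1 : ℂ))) (fun _ : L => (1 : ℂ)) = 1 := by
  classical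
  rw [C.rho_inner _ (fun _ _ => rfl)]
  exact classInner_irrCharacter_self (trivialIrr (H.subgroupOf L))

theorem rho_norm (C : FrobCtx H L τ₁) :
    classInner (indFun (H.subgroupOf L) (fun _ => (1 : ℂ)))
      (indFun (H.subgroupOf L) (fun _ => (1 : ℂ))) = ((H.subgroupOf L).index : ℂ) := by
  classical
  rw [C.rho_inner _ C.rho_class]
  have h1 : (fun k : H.subgroupOf L => indFun (H.subgroupOf L) (fun _ => (1 : ℂ)) (k : L))
      = ((H.subgroupOf L).index : ℂ) • (fun _ : H.subgroupOf L => (1 : ℂ)) := by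
    funext k
    rw [C.rho_apply_mem k]
    simp
  rw [h1, classInner_smul_right, Complex.conj_natCast]
  have h2 := classInner_irrCharacter_self (trivialIrr (H.subgroupOf L))
  have h3 : ((trivialIrr (H.subgroupOf L) : IrrCharacter (H.subgroupOf L)) : (H.subgroupOf L) → ℂ)
      = fun _ => (1 : ℂ) := rfl
  rw [h3] at h2
  rw [h2, mul_one]

theorem rho_inner_S (C : FrobCtx H L τ₁) {ψ : L → ℂ}
    (hψ : ψ ∈ inducedIrrAbove (H.subgroupOf L) ⊥) :
    classInner (indFun (H.subgroupOf L) (fun _ => (1 : ℂ))) ψ = 0 := by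
  classical
  obtain ⟨θ, hθ, hθ1, -, rfl⟩ := hψ
  rw [← classInner_conj_symm, frobenius_reciprocity (H.subgroupOf L) θ _ C.rho_class]
  have h1 : (fun k : H.subgroupOf L => indFun (H.subgroupOf L) (fun _ => (1 : ℂ)) (k : L))
      = ((H.subgroupOf L).index : ℂ) • (fun _ : H.subgroupOf L => (1 : ℂ)) := by
    funext k
    rw [C.rho_apply_mem k]
    simp
  rw [h1, classInner_smul_right]
  have h := classInner_irr_eq_ite hθ (isIrrCharacter_one (G := H.subgroupOf L))
  rw [h, if_neg hθ1, mul_zero, map_zero]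

/-- `β` vanishes off `H ∖ 1`. -/
theorem beta_vanish (C : FrobCtx H L τ₁) {χ : L → ℂ}
    (hχ : χ ∈ inducedIrrAbove (H.subgroupOf L) ⊥) (hχ1 : χ 1 = ((H.subgroupOf L).index : ℂ)) :
    ∀ l : L, l ∉ cutSet H L → frobBeta H L χ l = 0 := by
  haveI := C.normal
  intro l hl
  unfold frobBeta
  by_cases h1 : l = 1
  · rw [h1, Pi.sub_apply, indFun_apply_one, hχ1, mul_one, sub_self]
  · have hlK : l ∉ H.subgroupOf L := by
      intro hlK
      apply hl
      exact ⟨Subgroup.mem_subgroupOf.1 hlK, fun h => h1 (Subtype.ext h)⟩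
    rw [Pi.sub_apply, indFun_apply_not_mem _ _ hlK,
      (zspan_induced_props (H.subgroupOf L) ⊥ (Submodule.subset_span hχ)).2.1 l hlK, sub_zero]

theorem beta_class (C : FrobCtx H L τ₁) {χ : L → ℂ}
    (hχ : χ ∈ inducedIrrAbove (H.subgroupOf L) ⊥) : IsClassFunction L (frobBeta H L χ) :=
  isClassFunction_sub C.rho_class (C.classFun (Submodule.subset_span hχ))

theorem beta_gen (C : FrobCtx H L τ₁) {χ : L → ℂ}
    (hχ : χ ∈ inducedIrrAbove (H.subgroupOf L) ⊥) : IsGeneralizedCharacter L (frobBeta H L χ) :=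
  ⟨_, χ, C.rho_char, IsIrrCharacter.isCharacter (C.irr χ hχ), rfl⟩

theorem beta_inner_one (C : FrobCtx H L τ₁) {χ : L → ℂ}
    (hχ : χ ∈ inducedIrrAbove (H.subgroupOf L) ⊥) :
    classInner (frobBeta H L χ) (fun _ : L => (1 : ℂ)) = 1 := by
  unfold frobBeta
  rw [classInner_sub_left, C.rho_inner_one, C.inner_one hχ, sub_zero]

open Classical in
theorem beta_inner_S (C : FrobCtx H L τ₁) {χ ψ : L → ℂ}
    (hχ : χ ∈ inducedIrrAbove (H.subgroupOf L) ⊥)
    (hψ : ψ ∈ inducedIrrAbove (H.subgroupOf L) ⊥) :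
    classInner (frobBeta H L χ) ψ = -(if χ = ψ then 1 else 0) := by
  unfold frobBeta
  rw [classInner_sub_left, C.rho_inner_S hψ, classInner_irr_eq_ite (C.irr χ hχ) (C.irr ψ hψ),
    zero_sub]

theorem beta_norm (C : FrobCtx H L τ₁) {χ : L → ℂ}
    (hχ : χ ∈ inducedIrrAbove (H.subgroupOf L) ⊥) :
    classInner (frobBeta H L χ) (frobBeta H L χ) = ((H.subgroupOf L).index : ℂ) + 1 := by
  classical
  have h1 : classInner (frobBeta H L χ) (frobBeta H L χ)
      = classInner (frobBeta H L χ) (indFun (H.subgroupOf L) (fun _ => (1 : ℂ)))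
        - classInner (frobBeta H L χ) χ := by
    show classInner (frobBeta H L χ) (indFun (H.subgroupOf L) (fun _ => (1 : ℂ)) - χ) = _
    rw [classInner_sub_right]
  rw [h1, C.beta_inner_S hχ hχ, if_pos rfl]
  unfold frobBeta
  rw [classInner_sub_left, C.rho_norm, ← classInner_conj_symm, C.rho_inner_S hχ, map_zero]
  ring

theorem conj_beta (C : FrobCtx H L τ₁) (χ : L → ℂ) :
    conjFun (frobBeta H L χ) = frobBeta H L (conjFun χ) := by
  unfold frobBeta
  have h1 : conjFun (indFun (H.subgroupOf L) (fun _ => (1 : ℂ)) - χ)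
      = conjFun (indFun (H.subgroupOf L) (fun _ => (1 : ℂ))) - conjFun χ := by
    funext x
    simp [conjFun]
  have h2 : conjFun (fun _ : H.subgroupOf L => (1 : ℂ)) = fun _ => (1 : ℂ) := by
    funext x
    simp [conjFun]
  rw [h1, conjFun_indFun, h2]

/-- Inner products of `B` with class functions of `G` whose values on `H ∖ 1` are known. -/
theorem B_inner_of_value (C : FrobCtx H L τ₁) {χ : L → ℂ}
    (hχ : χ ∈ inducedIrrAbove (H.subgroupOf L) ⊥) (hχ1 : χ 1 = ((H.subgroupOf L).index : ℂ))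
    (F : G → ℂ) (hF : IsClassFunction G F) (f₀ : L → ℂ) (c : ℂ)
    (hval : ∀ l ∈ cutSet H L, F l = f₀ l + c) :
    classInner (indFun L (frobBeta H L χ)) F = classInner (frobBeta H L χ) f₀ + conj c := by
  rw [frobenius_reciprocity L _ F hF,
    classInner_congr_of_support (cutSet H L) (C.beta_vanish hχ hχ1)
      (f₂ := f₀ + c • (fun _ : L => (1 : ℂ))) (fun l hl => by
        rw [hval l hl]
        simp),
    classInner_add_right, classInner_smul_right, C.beta_inner_one hχ, mul_one]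

end FrobCtx

end Cfsg.Agent.Lib.Helper11
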