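import Cfsg.Agent.Lib.Helper11.FrobExc3

/-!
The data attached to a Frobenius group with TI kernel, used in the final counting argument for
groups covered by such kernels.
-/

set_option autoImplicit false

namespace Cfsg.Agent.Lib.Helper11

open Cfsg
open Cfsg.Agent.Lib.Helper2
open Cfsg.Agent.S1522
open scoped ComplexConjugate

open Classical in
/-- The character-theoretic data attached to a Frobenius group `L` with TI kernel `H`. -/
structure FrobExcData {G : Type*} [Group G] [Fintype G] (H L : Subgroup G) [Fintype L]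
    (e q : ℕ) (t A : ℤ) (ζ B : G → ℂ) (fam : Finset (G → ℂ)) (a : (G → ℂ) → ℕ) : Prop where
  card_eq : Nat.card H = e * q + 1
  card_L : Nat.card L = e * (e * q + 1)
  one_lt_e : 1 < e
  two_le_q : 2 ≤ q
  fam_gen : ∀ f ∈ fam, IsGeneralizedCharacter G f
  fam_orth : ∀ f ∈ fam, ∀ f' ∈ fam, classInner f f' = if f = f' then 1 else 0
  fam_one : ∀ f ∈ fam, classInner f (fun _ => (1 : ℂ)) = 0
  zeta_mem : ζ ∈ fam
  a_zeta : a ζ = 1
  sum_a : ∑ f ∈ fam, a f ^ 2 = q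
  fam_supp : ∀ f ∈ fam, ∀ y : G, y ∉ conjSet H → f y = (a f : ℂ) * ζ y
  fam_conj : ∀ f ∈ fam, conjFun f ∈ fam ∧ conjFun f ≠ f
  fam_conj_supp : ∀ f ∈ fam, ∀ y : G, y ∉ conjSet H → conjFun f y = f y
  B_gen : IsGeneralizedCharacter G B
  B_norm : classInner B B = (e : ℂ) + 1
  B_one : classInner B (fun _ => (1 : ℂ)) = 1
  B_supp : ∀ y : G, y ∉ conjSet H → B y = 0
  B_real : conjFun (B + ζ) = B + ζ
  B_fam : ∀ f ∈ fam, classInner B f = (a f : ℂ) * (t : ℂ) - if f = ζ then 1 else 0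
  const : ∀ ξ : G → ℂ, IsClassFunction G ξ → (∀ f ∈ fam, classInner f ξ = 0) →
    ∃ c : ℂ, (∀ k ∈ H, k ≠ 1 → ξ k = c) ∧ classInner B ξ = conj c
  zeta_one : ζ 1 = (A : ℂ)
  A_ne : A ≠ 0
  zeta_cut : classInner (Set.indicator (cutSet H L) (fun l : L => ζ l)) (fun l : L => ζ l)
      = (Nat.card L : ℂ)⁻¹ * ((Nat.card L : ℂ) - (e : ℂ) ^ 2 - 2 * (t : ℂ) * (e : ℂ)
          + (t : ℂ) ^ 2 * ((e : ℂ) * (q : ℂ)))

namespace FrobCtx

variable {G : Type*} [Group G] [Fintype G] {H L : Subgroup G} [Fintype L]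
  {τ₁ : (L → ℂ) → (G → ℂ)}

/-- A class function of `G` orthogonal to all `τ₁ ψ` is constant on `H ∖ 1`. -/
theorem const_of_orth (C : FrobCtx H L τ₁) {χ : L → ℂ}
    (hχ : χ ∈ inducedIrrAbove (H.subgroupOf L) ⊥) (hχ1 : χ 1 = ((H.subgroupOf L).index : ℂ))
    (ξ : G → ℂ) (hξ : IsClassFunction G ξ)
    (horth : ∀ ψ ∈ inducedIrrAbove (H.subgroupOf L) ⊥, classInner (τ₁ ψ) ξ = 0) :
    ∃ c : ℂ, (∀ k ∈ H, k ≠ 1 → ξ k = c) ∧
      classInner (indFun L (frobBeta H L χ)) ξ = conj c := by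
  classical
  haveI := C.normal
  set e := (H.subgroupOf L).index with he
  have hepos : 0 < e := Nat.pos_of_ne_zero Subgroup.index_ne_zero_of_finite
  have heC : (e : ℂ) ≠ 0 := by exact_mod_cast hepos.ne'
  set ξL : L → ℂ := fun l : L => ξ l with hξL
  have hξLclass : IsClassFunction L ξL := by
    intro g h
    show ξ ((h * g * h⁻¹ : L) : G) = ξ g
    have h4 : ((h * g * h⁻¹ : L) : G) = (h : G) * g * (h : G)⁻¹ := by simp
    rw [h4]
    exact hξ g h
  have hirr' : ∀ ψ ∈ inducedIrrAbove (H.subgroupOf L) ⊥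
      \ inducedIrrAbove (H.subgroupOf L) (H.subgroupOf L), IsIrrCharacter L ψ :=
    fun ψ hψ => C.irr ψ hψ.1
  have hprop : ∀ ψ ∈ inducedIrrAbove (H.subgroupOf L) ⊥
      \ inducedIrrAbove (H.subgroupOf L) (H.subgroupOf L), ψ ≠ χ →
      χ 1 * classInner ξL ψ = ψ 1 * (classInner ξL χ - 0) := by
    intro ψ hψ _
    have hψchar : IsCharacter L ψ := IsIrrCharacter.isCharacter (C.irr ψ hψ.1)
    obtain ⟨dψ, hdψ⟩ := IsCharacter.apply_one hψchar
    have h1 := indFun_orth_prop L (inducedIrrAbove (H.subgroupOf L) ⊥) τ₁ C.iso C.agree ξ hξ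
      hψ.1 hχ dψ e hdψ hχ1
    rw [horth ψ hψ.1, horth χ hχ, mul_zero, mul_zero, sub_zero] at h1
    have h2 := congrArg (starRingEnd ℂ) h1
    simp only [map_sub, map_mul, Complex.conj_natCast, map_zero, classInner_conj_symm] at h2
    rw [hdψ, hχ1, sub_zero]
    linear_combination -h2
  have hcardL : (Nat.card L : ℂ) = (e : ℂ) * (Nat.card H : ℂ) := by
    rw [C.card_L]
    push_cast
    rfl
  have hval : ∀ l ∈ cutSet H L, ξL l = ξ 1 - classInner ξL χ * (Nat.card H : ℂ) := by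
    intro l hl
    have hlK : l ∈ H.subgroupOf L := Subgroup.mem_subgroupOf.2 hl.1
    have hl1 : l ≠ 1 := by
      intro h
      apply hl.2
      rw [h]
      rfl
    have hv := restrict_value_formula (H.subgroupOf L) (H.subgroupOf L) le_rfl hirr' ξL hξLclass χ
      (C.mem_diff hχ) 0 hprop l hlK hl1
    have hξ1 : ξL 1 = ξ 1 := by
      show ξ ((1 : L) : G) = ξ 1
      rw [Subgroup.coe_one]
    rw [hξ1, hχ1, hcardL] at hv
    apply mul_left_cancel₀ heC
    linear_combination -hv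
  refine ⟨ξ 1 - classInner ξL χ * (Nat.card H : ℂ), ?_, ?_⟩
  · intro k hk hk1
    exact hval ⟨k, C.hHL hk⟩ ⟨hk, hk1⟩
  · rw [C.B_inner_of_value hχ hχ1 ξ hξ 0 _ (fun l hl => by rw [Pi.zero_apply, zero_add]; exact hval l hl),
      ← classInner_conj_symm, classInner_zero_left, map_zero, zero_add]

/-- The local norm of `ζ = τ₁ χ`. -/
theorem zeta_cut_eq (C : FrobCtx H L τ₁) {χ : L → ℂ}
    (hχ : χ ∈ inducedIrrAbove (H.subgroupOf L) ⊥) (e : ℕ) (hχ1 : χ 1 = (e : ℂ)) (t : ℤ)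
    (ht : ∀ l ∈ cutSet H L, τ₁ χ l = χ l + (t : ℂ)) :
    classInner (Set.indicator (cutSet H L) (fun l : L => τ₁ χ l)) (fun l : L => τ₁ χ l)
      = (Nat.card L : ℂ)⁻¹ * ((Nat.card L : ℂ) - (e : ℂ) ^ 2 - 2 * (t : ℂ) * (e : ℂ)
          + (t : ℂ) ^ 2 * ((Nat.card H : ℂ) - 1)) := by
  classical
  haveI := C.normal
  set oneL : L → ℂ := fun _ => (1 : ℂ) with honeL
  set δ : L → ℂ := Set.indicator ({1} : Set L) (fun _ => (1 : ℂ)) with hδ
  have hL0 : (Nat.card L : ℂ) ≠ 0 := by exact_mod_cast (Nat.card_pos (α := L)).ne'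
  have hcongr : ∀ l ∈ cutSet H L, (fun l : L => τ₁ χ l) l = (χ + (t : ℂ) • oneL) l := by
    intro l hl
    show τ₁ χ l = χ l + (t : ℂ) • (1 : ℂ)
    rw [ht l hl, smul_eq_mul, mul_one]
  rw [classInner_cutIndicator_congr H L hcongr hcongr]
  have hindχ : Set.indicator (cutSet H L) χ = χ - (e : ℂ) • δ := by
    funext l
    by_cases hl1 : l = 1
    · have h1 : l ∉ cutSet H L := by
        rw [hl1]
        intro h
        exact h.2 rfl
      rw [Set.indicator_of_notMem h1, hl1, Pi.sub_apply, Pi.smul_apply, hδ,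
        Set.indicator_of_mem (Set.mem_singleton _), hχ1]
      simp
    · have hδl : δ l = 0 := by
        rw [hδ]
        exact Set.indicator_of_notMem (by simpa using hl1) _
      rw [Pi.sub_apply, Pi.smul_apply, hδl, smul_zero, sub_zero]
      by_cases hl : l ∈ cutSet H L
      · rw [Set.indicator_of_mem hl]
      · rw [Set.indicator_of_notMem hl]
        have hlK : l ∉ H.subgroupOf L := by
          intro hlK
          apply hl
          exact ⟨Subgroup.mem_subgroupOf.1 hlK, fun h => hl1 (Subtype.ext h)⟩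
        exact ((zspan_induced_props (H.subgroupOf L) ⊥ (Submodule.subset_span hχ)).2.1 l
          hlK).symm
  have hind : Set.indicator (cutSet H L) (χ + (t : ℂ) • oneL)
      = χ - (e : ℂ) • δ + (t : ℂ) • Set.indicator (cutSet H L) oneL := by
    have hind0 : Set.indicator (cutSet H L) (χ + (t : ℂ) • oneL)
        = Set.indicator (cutSet H L) χ + (t : ℂ) • Set.indicator (cutSet H L) oneL := by
      funext l
      by_cases hl : l ∈ cutSet H L
      · simp [Set.indicator_of_mem hl]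
      · simp [Set.indicator_of_notMem hl]
    rw [hind0, hindχ]
  have hχχ : classInner χ χ = 1 := classInner_irrCharacter_self (⟨χ, C.irr χ hχ⟩ : IrrCharacter L)
  have hχ1' : classInner χ oneL = 0 := C.inner_one hχ
  have hδχ : classInner δ χ = (Nat.card L : ℂ)⁻¹ * (e : ℂ) := by
    rw [hδ, classInner_single_one, hχ1, Complex.conj_natCast]
  have hδ1 : classInner δ oneL = (Nat.card L : ℂ)⁻¹ := by
    rw [hδ, classInner_single_one, honeL]
    simp
  have h11 : classInner (Set.indicator (cutSet H L) oneL) oneL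
      = (Nat.card L : ℂ)⁻¹ * ((Nat.card H : ℂ) - 1) := classInner_cutIndicator_one H L C.hHL
  have h1χ : classInner (Set.indicator (cutSet H L) oneL) χ
      = -((Nat.card L : ℂ)⁻¹ * (e : ℂ)) := by
    rw [classInner_indicator_comm, ← classInner_conj_symm, hindχ, classInner_sub_left,
      classInner_smul_left, hχ1', hδ1, zero_sub, map_neg, map_mul, map_inv₀,
      Complex.conj_natCast, Complex.conj_natCast, mul_comm]
  rw [hind]
  simp only [classInner_add_left, classInner_add_right, classInner_sub_left, classInner_smul_left,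
    classInner_smul_right, hχχ, hχ1', hδχ, hδ1, h11, h1χ, map_intCast]
  field_simp
  ring

set_option maxHeartbeats 4000000 in
/-- Existence of the data. -/
theorem exists_data (C : FrobCtx H L τ₁) (hodd : Odd (Nat.card L))
    (hK1 : H.subgroupOf L ≠ ⊥) (hKtop : H.subgroupOf L ≠ ⊤)
    (hsolv : Group.IsSolvable (H.subgroupOf L)) :
    ∃ (e q : ℕ) (t A : ℤ) (ζ B : G → ℂ) (fam : Finset (G → ℂ)) (a : (G → ℂ) → ℕ),
      FrobExcData H L e q t A ζ B fam a := by
  classical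
  haveI := C.normal
  haveI : Fintype (IrrCharacter (H.subgroupOf L)) := Fintype.ofFinite _
  obtain ⟨e, he⟩ : ∃ e, e = (H.subgroupOf L).index := ⟨_, rfl⟩
  have hepos : 0 < e := by
    rw [he]
    exact Nat.pos_of_ne_zero Subgroup.index_ne_zero_of_finite
  have heC : (e : ℂ) ≠ 0 := by exact_mod_cast hepos.ne'
  -- the character `χ` of degree `e`
  obtain ⟨lam, hlam, hlamdeg⟩ := exists_linear_mem_irrAboveFinset (H.subgroupOf L) hsolv ⊥
    (bot_lt_iff_ne_bot.2 hK1)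
  have hlam' := (mem_irrAboveFinset (H.subgroupOf L) ⊥ lam).1 hlam
  obtain ⟨χ, hχdef⟩ : ∃ χ, χ = indFun (H.subgroupOf L) (lam : (H.subgroupOf L) → ℂ) := ⟨_, rfl⟩
  have hχS : χ ∈ inducedIrrAbove (H.subgroupOf L) ⊥ := ⟨lam.1, lam.2, hlam'.1, hlam'.2, hχdef⟩
  have hχ1 : χ 1 = ((H.subgroupOf L).index : ℂ) := by
    rw [hχdef, indFun_apply_one, irrDeg_spec, hlamdeg]
    simp
  have hχ1e : χ 1 = (e : ℂ) := by rw [hχ1, he]
  -- degrees
  have hdeg' : ∀ ψ : L → ℂ, ∃ aψ : ℕ, ψ ∈ inducedIrrAbove (H.subgroupOf L) ⊥ →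
      0 < aψ ∧ ψ 1 = ((e * aψ : ℕ) : ℂ) := by
    intro ψ
    by_cases h : ψ ∈ inducedIrrAbove (H.subgroupOf L) ⊥
    · obtain ⟨n, h1, h2⟩ := C.deg h
      exact ⟨n, fun _ => ⟨h1, by rw [h2, he]⟩⟩
    · exact ⟨0, fun h' => absurd h' h⟩
  choose aa haa using hdeg'
  have haχ : aa χ = 1 := by
    have h1 := (haa χ hχS).2
    rw [hχ1e] at h1
    have h2 : e * 1 = e * aa χ := by
      rw [mul_one]
      exact_mod_cast h1
    exact (Nat.eq_of_mul_eq_mul_left hepos h2).symm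
  -- `t` and `A`
  obtain ⟨t, ht⟩ := C.zeta_value hχS hχ1
  obtain ⟨A, hA⟩ := IsGeneralizedCharacter.apply_one_int (C.tau_gen hχS)
  have hA0 : A ≠ 0 := by
    rintro rfl
    rw [Int.cast_zero] at hA
    exact (C.tau_signed hχS).apply_one_ne_zero hA
  -- the family
  obtain ⟨FS, hFSdef⟩ : ∃ FS, FS = inducedFinset (H.subgroupOf L) ⊥ := ⟨_, rfl⟩
  have hFS : ∀ ψ, ψ ∈ FS ↔ ψ ∈ inducedIrrAbove (H.subgroupOf L) ⊥ := by
    intro ψ
    rw [hFSdef, ← Finset.mem_coe, coe_inducedFinset]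
  obtain ⟨fam, hfamdef⟩ : ∃ fam, fam = FS.image τ₁ := ⟨_, rfl⟩
  let a : (G → ℂ) → ℕ := fun f =>
    if hf : ∃ ψ ∈ FS, τ₁ ψ = f then aa (Classical.choose hf) else 0
  have ha_tau : ∀ ψ ∈ inducedIrrAbove (H.subgroupOf L) ⊥, a (τ₁ ψ) = aa ψ := by
    intro ψ hψ
    have hex : ∃ ψ' ∈ FS, τ₁ ψ' = τ₁ ψ := ⟨ψ, (hFS ψ).2 hψ, rfl⟩
    show (if hf : ∃ ψ' ∈ FS, τ₁ ψ' = τ₁ ψ then aa (Classical.choose hf) else 0) = aa ψ
    rw [dif_pos hex]
    have hsp := Classical.choose_spec hex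
    rw [C.tau_injective ((hFS _).1 hsp.1) hψ hsp.2]
  have hfam_mem : ∀ f ∈ fam, ∃ ψ ∈ inducedIrrAbove (H.subgroupOf L) ⊥, τ₁ ψ = f := by
    intro f hf
    rw [hfamdef] at hf
    obtain ⟨ψ, hψ, rfl⟩ := Finset.mem_image.1 hf
    exact ⟨ψ, (hFS ψ).1 hψ, rfl⟩
  have hmem_fam : ∀ ψ ∈ inducedIrrAbove (H.subgroupOf L) ⊥, τ₁ ψ ∈ fam := by
    intro ψ hψ
    rw [hfamdef]
    exact Finset.mem_image_of_mem _ ((hFS ψ).2 hψ)
  -- `q`
  obtain ⟨q, hq⟩ : ∃ q, q = ∑ ψ ∈ FS, aa ψ ^ 2 := ⟨_, rfl⟩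
  have hcardK : Nat.card (H.subgroupOf L) = Nat.card H :=
    Nat.card_congr (Subgroup.subgroupOfEquivOfLe C.hHL).toEquiv
  have hcardH : Nat.card H = e * q + 1 := by
    have hd : ∀ φ ∈ inducedIrrAbove (H.subgroupOf L) ⊥,
        φ 1 = (((fun ψ : L → ℂ => e * aa ψ) φ : ℕ) : ℂ) := fun φ hφ => (haa φ hφ).2
    have hn : ∀ φ ∈ inducedIrrAbove (H.subgroupOf L) ⊥,
        classInner φ φ = (((fun _ : L → ℂ => 1) φ : ℕ) : ℂ) := by
      intro φ hφ
      rw [classInner_irrCharacter_self (⟨φ, C.irr φ hφ⟩ : IrrCharacter L)]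
      simp
    have hs := sum_inducedFinset (H.subgroupOf L) ⊥ (fun ψ : L → ℂ => e * aa ψ)
      (fun _ : L → ℂ => 1) hd hn
    rw [Subgroup.relIndex_bot_left, hcardK, ← he, ← hFSdef] at hs
    have h1 : ((e : ℝ) * (e : ℝ)) * (q : ℝ) = (e : ℝ) * ((Nat.card H : ℝ) - 1) := by
      rw [← hs, hq]
      push_cast
      rw [Finset.mul_sum]
      apply Finset.sum_congr rfl
      intro ψ _
      ring
    have heR : (e : ℝ) ≠ 0 := by exact_mod_cast hepos.ne'
    have h2 : (e : ℝ) * (q : ℝ) = (Nat.card H : ℝ) - 1 := by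
      apply mul_left_cancel₀ heR
      linear_combination h1
    have h3 : ((Nat.card H : ℕ) : ℝ) = ((e * q + 1 : ℕ) : ℝ) := by
      push_cast
      linear_combination -h2
    exact_mod_cast h3
  have hcardL : Nat.card L = e * (e * q + 1) := by
    rw [C.card_L, ← he, hcardH]
  have h1e : 1 < e := by
    have h1 : e ≠ 1 := by
      rw [he]
      intro h
      exact hKtop (Subgroup.index_eq_one.1 h)
    omega
  have h2q : 2 ≤ q := by
    have hHodd : Odd (Nat.card H) := by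
      apply Odd.of_dvd_nat hodd
      rw [C.card_L]
      exact Dvd.intro_left _ rfl
    have heodd : Odd e := by
      apply Odd.of_dvd_nat hodd
      rw [hcardL]
      exact Dvd.intro _ rfl
    have hq0 : q ≠ 0 := by
      rintro rfl
      rw [mul_zero, zero_add] at hcardH
      rw [← hcardK] at hcardH
      exact hK1 (Subgroup.card_eq_one.1 hcardH)
    have hqeven : Even q := by
      have h1 : Even (e * q) := by
        obtain ⟨u, hu⟩ := hHodd
        exact ⟨u, by omega⟩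
      exact (Nat.even_mul.1 h1).resolve_left (Nat.not_even_iff_odd.2 heodd)
    obtain ⟨s, hs⟩ := hqeven
    omega
  -- the fields
  have f5 : ∀ f ∈ fam, IsGeneralizedCharacter G f := by
    intro f hf
    obtain ⟨ψ, hψ, rfl⟩ := hfam_mem f hf
    exact C.tau_gen hψ
  have f6 : ∀ f ∈ fam, ∀ f' ∈ fam, classInner f f' = if f = f' then 1 else 0 := by
    intro f hf f' hf'
    obtain ⟨ψ, hψ, rfl⟩ := hfam_mem f hf
    obtain ⟨ψ', hψ', rfl⟩ := hfam_mem f' hf'
    rw [C.tau_inner hψ hψ']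
    by_cases h : ψ = ψ'
    · rw [if_pos h, if_pos (by rw [h])]
    · rw [if_neg h, if_neg (fun h' => h (C.tau_injective hψ hψ' h'))]
  have f7 : ∀ f ∈ fam, classInner f (fun _ => (1 : ℂ)) = 0 := by
    intro f hf
    obtain ⟨ψ, hψ, rfl⟩ := hfam_mem f hf
    exact C.tau_one_orth hψ
  have f8 : τ₁ χ ∈ fam := hmem_fam χ hχS
  have f9 : a (τ₁ χ) = 1 := by rw [ha_tau χ hχS, haχ]
  have f10 : ∑ f ∈ fam, a f ^ 2 = q := by
    rw [hfamdef, Finset.sum_image, hq]
    · apply Finset.sum_congr rfl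
      intro ψ hψ
      rw [ha_tau ψ ((hFS ψ).1 hψ)]
    · intro ψ hψ ψ' hψ' h
      exact C.tau_injective ((hFS ψ).1 hψ) ((hFS ψ').1 hψ') h
  have hvalue : ∀ ψ ∈ inducedIrrAbove (H.subgroupOf L) ⊥,
      (∀ l ∈ cutSet H L, τ₁ ψ l = ψ l + (aa ψ : ℂ) * (t : ℂ)) ∧
      ∀ y : G, y ∉ conjSet H → τ₁ ψ y = (aa ψ : ℂ) * τ₁ χ y := fun ψ hψ =>
    C.tau_value hχS e hepos.ne' hχ1e (t : ℂ) ht hψ (aa ψ) (haa ψ hψ).2
  have f11 : ∀ f ∈ fam, ∀ y : G, y ∉ conjSet H → f y = (a f : ℂ) * τ₁ χ y := by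
    intro f hf y hy
    obtain ⟨ψ, hψ, rfl⟩ := hfam_mem f hf
    rw [ha_tau ψ hψ]
    exact (hvalue ψ hψ).2 y hy
  have f12 : ∀ f ∈ fam, conjFun f ∈ fam ∧ conjFun f ≠ f := by
    intro f hf
    obtain ⟨ψ, hψ, rfl⟩ := hfam_mem f hf
    rw [C.tau_conj hψ]
    refine ⟨hmem_fam _ (C.conj_mem hψ), ?_⟩
    intro h
    exact C.conj_ne ψ hψ (C.tau_injective (C.conj_mem hψ) hψ h)
  have f13 : ∀ f ∈ fam, ∀ y : G, y ∉ conjSet H → conjFun f y = f y := by
    intro f hf y hy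
    obtain ⟨ψ, hψ, rfl⟩ := hfam_mem f hf
    rw [C.tau_conj hψ]
    have h1 := congrFun (C.tau_sub_conj hψ) y
    rw [C.ind_supp (C.sub_conj_mem hψ) hy, Pi.sub_apply] at h1
    linear_combination -h1
  have hβvan := C.beta_vanish hχS hχ1
  have hβclass := C.beta_class hχS
  have f14 : IsGeneralizedCharacter G (indFun L (frobBeta H L χ)) :=
    isGenChar_indFun L (C.beta_gen hχS)
  have f15 : classInner (indFun L (frobBeta H L χ)) (indFun L (frobBeta H L χ))
      = (e : ℂ) + 1 := by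
    rw [classInner_indFun_indFun_of_TI L {g : G | g ∈ H ∧ g ≠ 1} (ti_fusion H L C.hTI C.hN)
      _ _ (fun l hl => hβvan l hl) hβclass (fun l hl => hβvan l hl), C.beta_norm hχS, he]
  have f16 : classInner (indFun L (frobBeta H L χ)) (fun _ => (1 : ℂ)) = 1 := by
    rw [frobenius_reciprocity L _ _ (fun _ _ => rfl)]
    exact C.beta_inner_one hχS
  have f17 : ∀ y : G, y ∉ conjSet H → indFun L (frobBeta H L χ) y = 0 := fun y hy =>
    indFun_eq_zero_of_not_mem_conjSet H L _ hβvan hy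
  have f18 : conjFun (indFun L (frobBeta H L χ) + τ₁ χ) = indFun L (frobBeta H L χ) + τ₁ χ := by
    have h1 : conjFun (indFun L (frobBeta H L χ) + τ₁ χ)
        = conjFun (indFun L (frobBeta H L χ)) + conjFun (τ₁ χ) := by
      funext x
      simp [conjFun]
    rw [h1, conjFun_indFun, C.conj_beta, C.tau_conj hχS]
    have h2 := C.tau_sub_conj hχS
    have h3 : frobBeta H L χ = frobBeta H L (conjFun χ) - (χ - conjFun χ) := by
      unfold frobBeta
      abel
    rw [h3, indFun_sub, ← h2]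
    abel
  have f19 : ∀ f ∈ fam, classInner (indFun L (frobBeta H L χ)) f
      = (a f : ℂ) * (t : ℂ) - if f = τ₁ χ then 1 else 0 := by
    intro f hf
    obtain ⟨ψ, hψ, rfl⟩ := hfam_mem f hf
    rw [ha_tau ψ hψ, C.B_inner_of_value hχS hχ1 (τ₁ ψ)
      (IsGeneralizedCharacter.isClassFunction (C.tau_gen hψ)) ψ ((aa ψ : ℂ) * (t : ℂ))
      (hvalue ψ hψ).1, C.beta_inner_S hχS hψ, map_mul, Complex.conj_natCast, map_intCast]
    by_cases h : χ = ψ
    · rw [if_pos h, if_pos (by rw [h])]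
      ring
    · rw [if_neg h, if_neg (fun h' => h (C.tau_injective hψ hχS h').symm)]
      ring
  have f20 : ∀ ξ : G → ℂ, IsClassFunction G ξ → (∀ f ∈ fam, classInner f ξ = 0) →
      ∃ c : ℂ, (∀ k ∈ H, k ≠ 1 → ξ k = c) ∧
        classInner (indFun L (frobBeta H L χ)) ξ = conj c := by
    intro ξ hξ horth
    exact C.const_of_orth hχS hχ1 ξ hξ (fun ψ hψ => horth _ (hmem_fam ψ hψ))
  have f23 : classInner (Set.indicator (cutSet H L) (fun l : L => τ₁ χ l)) (fun l : L => τ₁ χ l)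
      = (Nat.card L : ℂ)⁻¹ * ((Nat.card L : ℂ) - (e : ℂ) ^ 2 - 2 * (t : ℂ) * (e : ℂ)
          + (t : ℂ) ^ 2 * ((e : ℂ) * (q : ℂ))) := by
    rw [C.zeta_cut_eq hχS e hχ1e t ht, hcardH]
    push_cast
    ring
  exact ⟨e, q, t, A, τ₁ χ, indFun L (frobBeta H L χ), fam, a,
    ⟨hcardH, hcardL, h1e, h2q, f5, f6, f7, f8, f9, f10, f11, f12, f13, f14, f15, f16, f17, f18,
      f19, f20, hA, hA0, f23⟩⟩

end FrobCtx

end Cfsg.Agent.Lib.Helper11
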