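import Cfsg.Agent.Lib.Helper11.FrobExc4
import Cfsg.Agent.Lib.Helper11.FrobCoh

/-!
Packaging: the data `FrobExcData` exists for a Frobenius group `L` of odd order whose kernel `H`
is a TI-subset with normaliser `L`, with the Frobenius condition given through centralisers.
-/

set_option autoImplicit false

namespace Cfsg.Agent.Lib.Helper11

open Cfsg
open Cfsg.Agent.Lib.Helper2
open scoped ComplexConjugate

variable {G : Type*} [Group G] [Fintype G] (H L : Subgroup G) [Fintype L]

/-- The data exists under the hypotheses of the covering theorem. -/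
theorem exists_frobExcData (hodd : Odd (Nat.card G)) (hHL : H < L) (hH1 : H ≠ ⊥)
    (hHn : ∀ x ∈ L, ∀ h ∈ H, x * h * x⁻¹ ∈ H)
    (hfrob : ∀ h ∈ H, h ≠ 1 → L ⊓ Subgroup.centralizer ({h} : Set G) ≤ H)
    (hTI : IsTISubset (H : Set G)) (hN : Subgroup.normalizer (H : Set G) = L) :
    ∃ (e q : ℕ) (t A : ℤ) (ζ B : G → ℂ) (fam : Finset (G → ℂ)) (a : (G → ℂ) → ℕ),
      FrobExcData H L e q t A ζ B fam a := by
  classical
  have hle : H ≤ L := hHL.le
  have hLH : ¬ L ≤ H := fun h => lt_irrefl _ (lt_of_lt_of_le hHL h)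
  have hoddL : Odd (Nat.card L) := Odd.of_dvd_nat hodd (Subgroup.card_subgroup_dvd_card L)
  haveI hKn : (H.subgroupOf L).Normal := ⟨fun n hn g => by
    rw [Subgroup.mem_subgroupOf] at hn ⊢
    have := hHn g g.2 n hn
    simpa using this⟩
  have hcent : ∀ h ∈ H, h ≠ 1 → ∀ x ∈ L, x * h = h * x → x ∈ H := by
    intro h hh hh1 x hx hxh
    apply hfrob h hh hh1
    refine Subgroup.mem_inf.2 ⟨hx, ?_⟩
    rw [Subgroup.mem_centralizer_iff]
    intro y hy
    rw [Set.mem_singleton_iff] at hy
    rw [hy]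
    exact hxh.symm
  have hF : ∀ k ∈ H.subgroupOf L, k ≠ 1 → ∀ x : L, x * k = k * x → x ∈ H.subgroupOf L := by
    intro k hk hk1 x hxk
    rw [Subgroup.mem_subgroupOf] at hk ⊢
    apply hcent k hk (fun h => hk1 (Subtype.ext h)) x x.2
    have := congrArg Subtype.val hxk
    simpa using this
  have hK1 : H.subgroupOf L ≠ ⊥ := by
    intro h
    apply hH1
    rw [Subgroup.subgroupOf_eq_bot] at h
    exact h.eq_bot_of_le hle
  have hKtop : H.subgroupOf L ≠ ⊤ := fun h => hLH (Subgroup.subgroupOf_eq_top.1 h)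
  haveI hnilK : Group.IsNilpotent (H.subgroupOf L) :=
    frob_kernel_nilpotent (H.subgroupOf L) hF hKtop
  have hnil : Group.IsNilpotent H := Group.nilpotent_of_mulEquiv (Subgroup.subgroupOfEquivOfLe hle)
  have hsolv : Group.IsSolvable (H.subgroupOf L) := inferInstance
  obtain ⟨-, τ₁, hτ₁, hagree⟩ :=
    frobenius_TI_coherent H L hoddL hle hLH hH1 hnil hHn hcent hTI hN
  obtain ⟨hirr, R, hS⟩ := frob_coherence_system H L hoddL hK1 hF hTI hN
  have C : FrobCtx H L τ₁ :=
    { hHL := hle
      normal := hKn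
      hHn := hHn
      hTI := hTI
      hN := hN
      irr := hirr
      conj_ne := hS.conj_ne
      iso := hτ₁
      agree := hagree }
  exact C.exists_data hoddL hK1 hKtop hsolv

end Cfsg.Agent.Lib.Helper11
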