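import Cfsg.Agent.Lib.Helper11.GenChar
import Cfsg.Agent.Lib.Helper11.Coherence
import Cfsg.Agent.Lib.Helper2.OddOrderChars
import Cfsg.Agent.Lib.Helper2.NormalInduction
import Cfsg.Agent.Lib.Helper2.BurnsidePQ

/-!
Real-valued generalized characters of a group of odd order: the inner product of two such,
each containing the principal character with multiplicity one, is odd.
-/

set_option autoImplicit false

namespace Cfsg.Agent.Lib.Helper11

open Cfsg
open Cfsg.Agent.Lib.Helper2
open scoped ComplexConjugate

section RealGenChar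

variable {G : Type*} [Group G] [Fintype G]

/-- In a group of odd order, two real generalized characters both containing the principal
character exactly once have odd inner product. -/
theorem classInner_real_genChar_odd (hodd : Odd (Nat.card G)) {X Y : G → ℂ}
    (hX : IsGeneralizedCharacter G X) (hY : IsGeneralizedCharacter G Y)
    (hXr : conjFun X = X) (hYr : conjFun Y = Y)
    (hX1 : classInner X (fun _ => (1 : ℂ)) = 1) (hY1 : classInner Y (fun _ => (1 : ℂ)) = 1) :
    ∃ m : ℤ, classInner X Y = 2 * (m : ℂ) + 1 := by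
  classical
  haveI : Fintype (IrrCharacter G) := Fintype.ofFinite _
  obtain ⟨nX, hnX, -, -⟩ := IsGeneralizedCharacter.exists_int_expansion hX
  obtain ⟨nY, hnY, hexpY, -⟩ := IsGeneralizedCharacter.exists_int_expansion hY
  have hXY : classInner X Y = ((∑ μ : IrrCharacter G, nX μ * nY μ : ℤ) : ℂ) := by
    conv_lhs => rw [hexpY]
    rw [classInner_sum_right]
    push_cast
    apply Finset.sum_congr rfl
    intro μ _
    rw [classInner_smul_right, map_intCast, hnX μ]
    ring
  set one : IrrCharacter G := trivialIrr G with hone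
  have hnX1 : nX one = 1 := by
    have h := hnX one
    have h2 : ((one : IrrCharacter G) : G → ℂ) = fun _ => (1 : ℂ) := rfl
    rw [h2, hX1] at h
    exact_mod_cast h.symm
  have hnY1 : nY one = 1 := by
    have h := hnY one
    have h2 : ((one : IrrCharacter G) : G → ℂ) = fun _ => (1 : ℂ) := rfl
    rw [h2, hY1] at h
    exact_mod_cast h.symm
  let cj : IrrCharacter G → IrrCharacter G := fun μ => ⟨conjFun (μ : G → ℂ), isIrrCharacter_conj μ.2⟩
  have hcjcj : ∀ μ, cj (cj μ) = μ := fun μ => Subtype.ext (conjFun_conjFun _)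
  have hcjone : cj one = one := by
    apply Subtype.ext
    funext g
    show (starRingEnd ℂ) ((1 : ℂ)) = 1
    simp
  have hreal : ∀ (Z : G → ℂ) (nZ : IrrCharacter G → ℤ), conjFun Z = Z →
      (∀ μ : IrrCharacter G, classInner Z (μ : G → ℂ) = (nZ μ : ℂ)) → ∀ μ, nZ (cj μ) = nZ μ := by
    intro Z nZ hZr hnZ μ
    have h1 : classInner Z ((cj μ : IrrCharacter G) : G → ℂ) = conj (classInner Z (μ : G → ℂ)) := by
      conv_lhs => rw [← hZr]
      exact classInner_conjFun_conjFun Z (μ : G → ℂ)
    rw [hnZ, hnZ, map_intCast] at h1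
    exact_mod_cast h1
  have hcjne : ∀ μ : IrrCharacter G, μ ≠ one → cj μ ≠ μ := by
    intro μ hμ h
    apply hμ
    apply eq_trivial_of_real_of_odd hodd μ
    intro g
    have h2 : (starRingEnd ℂ) ((μ : G → ℂ) g) = (μ : G → ℂ) g := by
      have := congrArg (fun ν : IrrCharacter G => (ν : G → ℂ) g) h
      exact this
    exact Complex.conj_eq_iff_im.1 h2
  have heven : ((∑ μ ∈ Finset.univ.erase one, nX μ * nY μ : ℤ) : ZMod 2) = 0 := by
    push_cast
    apply Finset.sum_involution (fun μ _ => cj μ)
    · intro μ _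
      rw [hreal X nX hXr hnX μ, hreal Y nY hYr hnY μ]
      exact CharTwo.add_self_eq_zero _
    · intro μ hμ _
      exact hcjne μ (Finset.ne_of_mem_erase hμ)
    · intro μ hμ
      refine Finset.mem_erase.2 ⟨?_, Finset.mem_univ _⟩
      intro h
      apply Finset.ne_of_mem_erase hμ
      rw [← hcjcj μ, h, hcjone]
    · intro μ _
      exact hcjcj μ
  obtain ⟨m, hm⟩ := (ZMod.intCast_zmod_eq_zero_iff_dvd _ 2).1 heven
  refine ⟨m, ?_⟩
  rw [hXY, ← Finset.add_sum_erase Finset.univ _ (Finset.mem_univ one), hm, hnX1, hnY1]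
  push_cast
  ring

end RealGenChar

end Cfsg.Agent.Lib.Helper11
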