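import Cfsg.Agent.Lib.Helper11.FrobExc5
import Cfsg.Agent.Lib.Helper11.RealGenChar

/-!
Relations between the data attached to two Frobenius groups with TI kernels of coprime orders.
-/

set_option autoImplicit false

namespace Cfsg.Agent.Lib.Helper11

open Cfsg
open Cfsg.Agent.Lib.Helper2
open scoped ComplexConjugate

section Supp

variable {G : Type*} [Group G] [Fintype G]

/-- Functions with disjoint supports are orthogonal. -/
theorem classInner_eq_zero_of_disjoint_supp {f₁ f₂ : G → ℂ} (A₁ A₂ : Set G)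
    (h₁ : ∀ y, y ∉ A₁ → f₁ y = 0) (h₂ : ∀ y, y ∉ A₂ → f₂ y = 0)
    (hdisj : ∀ y, y ∈ A₁ → y ∈ A₂ → False) : classInner f₁ f₂ = 0 := by
  classical
  rw [classInner_def, Finset.sum_eq_zero, mul_zero]
  intro y _
  by_cases hy : y ∈ A₁
  · rw [h₂ y (fun h => hdisj y hy h), map_zero, mul_zero]
  · rw [h₁ y hy, zero_mul]

/-- The principal character has norm one. -/
theorem classInner_one_one :
    classInner (fun _ : G => (1 : ℂ)) (fun _ : G => (1 : ℂ)) = 1 := by
  rw [classInner_def]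
  simp only [map_one, mul_one, Finset.sum_const, Finset.card_univ, nsmul_eq_mul]
  rw [Nat.card_eq_fintype_card]
  have h : (Fintype.card G : ℂ) ≠ 0 := by exact_mod_cast Fintype.card_ne_zero
  exact inv_mul_cancel₀ h

end Supp

namespace FrobExcData

variable {G : Type*} [Group G] [Fintype G] {H L : Subgroup G} [Fintype L]
  {e q : ℕ} {t A : ℤ} {ζ B : G → ℂ} {fam : Finset (G → ℂ)} {a : (G → ℂ) → ℕ}

theorem signed (D : FrobExcData H L e q t A ζ B fam a) {f : G → ℂ} (hf : f ∈ fam) :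
    IsSignedIrr f := by
  classical
  exact IsGeneralizedCharacter.isSignedIrr_of_norm_one (D.fam_gen f hf)
    (by rw [D.fam_orth f hf f hf, if_pos rfl])

theorem zeta_gen (D : FrobExcData H L e q t A ζ B fam a) : IsGeneralizedCharacter G ζ :=
  D.fam_gen ζ D.zeta_mem

theorem one_lt_card (D : FrobExcData H L e q t A ζ B fam a) : 1 < Nat.card H := by
  rw [D.card_eq]
  have h1 := D.one_lt_e
  have h2 := D.two_le_q
  nlinarith

theorem exists_nonid (D : FrobExcData H L e q t A ζ B fam a) : ∃ k ∈ H, k ≠ 1 := by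
  haveI : Nontrivial H := Finite.one_lt_card_iff_nontrivial.1 D.one_lt_card
  obtain ⟨k, hk⟩ := exists_ne (1 : H)
  exact ⟨k, k.2, fun h => hk (Subtype.ext h)⟩

/-- The sum of the squares of the multiplicities of the members of `fam` in `B`. -/
theorem self_sum (D : FrobExcData H L e q t A ζ B fam a) :
    ∑ f ∈ fam, ‖classInner B f‖ ^ 2 = (t : ℝ) ^ 2 * (q : ℝ) - 2 * (t : ℝ) + 1 := by
  classical
  have hsum : ((∑ f ∈ fam.erase ζ, a f ^ 2 : ℕ) : ℝ) = (q : ℝ) - 1 := by
    have h := D.sum_a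
    rw [← Finset.add_sum_erase fam _ D.zeta_mem, D.a_zeta] at h
    have h' : ((1 ^ 2 + ∑ f ∈ fam.erase ζ, a f ^ 2 : ℕ) : ℝ) = (q : ℝ) := by rw [h]
    rw [Nat.cast_add] at h'
    have h1 : ((1 ^ 2 : ℕ) : ℝ) = 1 := by norm_num
    rw [h1] at h'
    linarith
  rw [← Finset.add_sum_erase fam _ D.zeta_mem]
  have h1 : ‖classInner B ζ‖ ^ 2 = ((t : ℝ) - 1) ^ 2 := by
    rw [D.B_fam ζ D.zeta_mem, if_pos rfl, D.a_zeta]
    have h2 : ((1 : ℕ) : ℂ) * (t : ℂ) - 1 = (((t : ℝ) - 1 : ℝ) : ℂ) := by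
      push_cast
      ring
    rw [h2, Complex.norm_real, Real.norm_eq_abs, sq_abs]
  have h2 : ∀ f ∈ fam.erase ζ, ‖classInner B f‖ ^ 2 = (t : ℝ) ^ 2 * ((a f ^ 2 : ℕ) : ℝ) := by
    intro f hf
    obtain ⟨hne, hf'⟩ := Finset.mem_erase.1 hf
    rw [D.B_fam f hf', if_neg hne, sub_zero]
    have h3 : (a f : ℂ) * (t : ℂ) = (((a f : ℝ) * (t : ℝ) : ℝ) : ℂ) := by
      push_cast
      ring
    rw [h3, Complex.norm_real, Real.norm_eq_abs, sq_abs]
    push_cast
    ring
  rw [h1, Finset.sum_congr rfl h2, ← Finset.mul_sum, ← Nat.cast_sum, hsum]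
  ring

/-- The local norm of the principal character. -/
theorem ones_cut (D : FrobExcData H L e q t A ζ B fam a) (hHL : H ≤ L) :
    classInner (Set.indicator (cutSet H L) (fun _ : L => (1 : ℂ))) (fun _ : L => (1 : ℂ))
      = (((q : ℝ) / ((e : ℝ) * (q : ℝ) + 1) : ℝ) : ℂ) := by
  rw [classInner_cutIndicator_one H L hHL, D.card_L, D.card_eq]
  have he : (e : ℂ) ≠ 0 := by
    have := D.one_lt_e
    exact_mod_cast (by omega : e ≠ 0)
  have hh : (e : ℂ) * (q : ℂ) + 1 ≠ 0 := by exact_mod_cast Nat.succ_ne_zero (e * q)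
  push_cast
  field_simp
  ring

/-- The local norm of a class function constant on `H ∖ 1`. -/
theorem const_cut (D : FrobExcData H L e q t A ζ B fam a) (hHL : H ≤ L) (F : G → ℂ) (n : ℤ)
    (hF : ∀ k ∈ H, k ≠ 1 → F k = (n : ℂ)) :
    classInner (Set.indicator (cutSet H L) (fun l : L => F l)) (fun l : L => F l)
      = ((((n : ℝ) ^ 2 * (q : ℝ)) / ((e : ℝ) * (q : ℝ) + 1) : ℝ) : ℂ) := by
  rw [classInner_cutIndicator_const H L hHL (n : ℂ) (n : ℂ) (fun l hl => hF l hl.1 hl.2)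
    (fun l hl => hF l hl.1 hl.2), D.card_L, D.card_eq, map_intCast]
  have he : (e : ℂ) ≠ 0 := by
    have := D.one_lt_e
    exact_mod_cast (by omega : e ≠ 0)
  have hh : (e : ℂ) * (q : ℂ) + 1 ≠ 0 := by exact_mod_cast Nat.succ_ne_zero (e * q)
  push_cast
  field_simp
  ring

/-- The local norm of `ζ`, in real form. -/
theorem zeta_cut_real (D : FrobExcData H L e q t A ζ B fam a) :
    classInner (Set.indicator (cutSet H L) (fun l : L => ζ l)) (fun l : L => ζ l)
      = (((1 : ℝ) - ((e : ℝ) + 2 * (t : ℝ) - (t : ℝ) ^ 2 * (q : ℝ)) / ((e : ℝ) * (q : ℝ) + 1) : ℝ) : ℂ) := by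
  rw [D.zeta_cut, D.card_L]
  have he : (e : ℂ) ≠ 0 := by
    have := D.one_lt_e
    exact_mod_cast (by omega : e ≠ 0)
  have hh : (e : ℂ) * (q : ℂ) + 1 ≠ 0 := by exact_mod_cast Nat.succ_ne_zero (e * q)
  push_cast
  field_simp
  ring

/-- `t² q - 2 t ≥ 0`. -/
theorem t_ineq (D : FrobExcData H L e q t A ζ B fam a) :
    (0 : ℝ) ≤ (t : ℝ) ^ 2 * (q : ℝ) - 2 * (t : ℝ) := by
  have hq : (2 : ℝ) ≤ (q : ℝ) := by exact_mod_cast D.two_le_q
  have ht : (t : ℝ) ≤ (t : ℝ) ^ 2 := by exact_mod_cast Int.le_self_sq t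
  nlinarith [sq_nonneg (t : ℝ)]

/-- `A² ≥ 1`. -/
theorem A_sq (D : FrobExcData H L e q t A ζ B fam a) : (1 : ℝ) ≤ (A : ℝ) ^ 2 := by
  have h0 : A ≠ 0 := D.A_ne
  have h1 : 0 < A ^ 2 := by positivity
  have h2 : (1 : ℤ) ≤ A ^ 2 := h1
  exact_mod_cast h2

section Pair

variable {H' L' : Subgroup G} [Fintype L'] {e' q' : ℕ} {t' A' : ℤ} {ζ' B' : G → ℂ}
  {fam' : Finset (G → ℂ)} {a' : (G → ℂ) → ℕ}

/-- The families attached to two kernels of coprime orders are orthogonal. -/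
theorem fam_cross (D : FrobExcData H L e q t A ζ B fam a)
    (D' : FrobExcData H' L' e' q' t' A' ζ' B' fam' a')
    (hcop : Nat.Coprime (Nat.card H) (Nat.card H')) {f f' : G → ℂ} (hf : f ∈ fam)
    (hf' : f' ∈ fam') : classInner f f' = 0 := by
  classical
  have hsf := D.signed hf
  have hsf' := D'.signed hf'
  have hcf' := D'.signed (D'.fam_conj f' hf').1
  have hne' := (D'.fam_conj f' hf').2
  have h0 : classInner (f - conjFun f) (f' - conjFun f') = 0 := by
    apply classInner_eq_zero_of_disjoint_supp (conjSet H) (conjSet H')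
    · intro y hy
      rw [Pi.sub_apply, D.fam_conj_supp f hf y hy, sub_self]
    · intro y hy
      rw [Pi.sub_apply, D'.fam_conj_supp f' hf' y hy, sub_self]
    · intro y h1 h2
      exact conjSet_disjoint H H' hcop h1 h2
  rw [classInner_sub_left, classInner_sub_right, classInner_sub_right] at h0
  have h1 : classInner (conjFun f) (conjFun f') = conj (classInner f f') :=
    classInner_conjFun_conjFun f f'
  have h2 : classInner (conjFun f) f' = conj (classInner f (conjFun f')) := by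
    rw [← classInner_conjFun_conjFun, conjFun_conjFun]
  rw [h1, h2] at h0
  rcases IsSignedIrr.inner_cases hsf hsf' with ⟨hz, -, -⟩ | ⟨heq, h1'⟩ | ⟨heq, h1'⟩
  · exact hz
  · exfalso
    rcases IsSignedIrr.inner_cases hsf hcf' with ⟨hz2, -, -⟩ | ⟨heq2, h2'⟩ | ⟨heq2, h2'⟩
    · rw [h1', hz2] at h0
      norm_num at h0
    · apply hne'
      rw [← heq2, heq]
    · rw [h1', h2'] at h0
      norm_num at h0
  · exfalso
    rcases IsSignedIrr.inner_cases hsf hcf' with ⟨hz2, -, -⟩ | ⟨heq2, h2'⟩ | ⟨heq2, h2'⟩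
    · rw [h1', hz2] at h0
      norm_num at h0
    · rw [h1', h2'] at h0
      norm_num at h0
    · apply hne'
      have h3 : -f' = -conjFun f' := by rw [← heq, heq2]
      exact (neg_injective h3).symm

/-- The value of `ζ'` on `H ∖ 1`, and the multiplicities of the members of `fam'` in `B`. -/
theorem cross_value (D : FrobExcData H L e q t A ζ B fam a)
    (D' : FrobExcData H' L' e' q' t' A' ζ' B' fam' a')
    (hcop : Nat.Coprime (Nat.card H) (Nat.card H')) :
    ∃ n : ℤ, (∀ k ∈ H, k ≠ 1 → ζ' k = (n : ℂ)) ∧ classInner B ζ' = (n : ℂ) ∧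
      ∀ f ∈ fam', classInner B f = (a' f : ℂ) * (n : ℂ) := by
  classical
  obtain ⟨n, hn⟩ := IsGeneralizedCharacter.inner_int D.B_gen D'.zeta_gen
  obtain ⟨c, hc, hBc⟩ := D.const ζ' (IsGeneralizedCharacter.isClassFunction D'.zeta_gen)
    (fun f hf => D.fam_cross D' hcop hf D'.zeta_mem)
  have hcn : c = (n : ℂ) := by
    have h1 : conj c = (n : ℂ) := by rw [← hBc, hn]
    have h2 := congrArg (starRingEnd ℂ) h1
    rw [Complex.conj_conj, map_intCast] at h2
    exact h2
  refine ⟨n, fun k hk hk1 => by rw [hc k hk hk1, hcn], hn, ?_⟩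
  intro f hf
  obtain ⟨c', hc', hBc'⟩ := D.const f (IsGeneralizedCharacter.isClassFunction (D'.fam_gen f hf))
    (fun f₀ hf₀ => D.fam_cross D' hcop hf₀ hf)
  obtain ⟨k, hk, hk1⟩ := D.exists_nonid
  have hk' : k ∉ conjSet H' := fun h =>
    conjSet_disjoint H H' hcop (mem_conjSet_of_mem H hk hk1) h
  have h3 : c' = (a' f : ℂ) * (n : ℂ) := by
    rw [← hc' k hk hk1, D'.fam_supp f hf k hk', hc k hk hk1, hcn]
  rw [hBc', h3, map_mul, Complex.conj_natCast, map_intCast]

/-- The functions `B`, `B'` are orthogonal. -/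
theorem B_cross (D : FrobExcData H L e q t A ζ B fam a)
    (D' : FrobExcData H' L' e' q' t' A' ζ' B' fam' a')
    (hcop : Nat.Coprime (Nat.card H) (Nat.card H')) : classInner B B' = 0 :=
  classInner_eq_zero_of_disjoint_supp (conjSet H) (conjSet H') D.B_supp D'.B_supp
    (fun _ h1 h2 => conjSet_disjoint H H' hcop h1 h2)

/-- The parity relation. -/
theorem parity (D : FrobExcData H L e q t A ζ B fam a)
    (D' : FrobExcData H' L' e' q' t' A' ζ' B' fam' a')
    (hcop : Nat.Coprime (Nat.card H) (Nat.card H')) (hodd : Odd (Nat.card G)) {n n' : ℤ}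
    (hn : classInner B ζ' = (n : ℂ)) (hn' : classInner B' ζ = (n' : ℂ)) :
    ∃ m : ℤ, n + n' = 2 * m + 1 := by
  have hX : IsGeneralizedCharacter G (B + ζ) := isGenChar_add D.B_gen D.zeta_gen
  have hY : IsGeneralizedCharacter G (B' + ζ') := isGenChar_add D'.B_gen D'.zeta_gen
  have hX1 : classInner (B + ζ) (fun _ => (1 : ℂ)) = 1 := by
    rw [classInner_add_left, D.B_one, D.fam_one ζ D.zeta_mem, add_zero]
  have hY1 : classInner (B' + ζ') (fun _ => (1 : ℂ)) = 1 := by
    rw [classInner_add_left, D'.B_one, D'.fam_one ζ' D'.zeta_mem, add_zero]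
  obtain ⟨m, hm⟩ := classInner_real_genChar_odd hodd hX hY D.B_real D'.B_real hX1 hY1
  refine ⟨m, ?_⟩
  have h2 : classInner ζ B' = (n' : ℂ) := by
    rw [← classInner_conj_symm, hn', map_intCast]
  have h1 : classInner (B + ζ) (B' + ζ') = (n : ℂ) + (n' : ℂ) := by
    rw [classInner_add_left, classInner_add_right, classInner_add_right, D.B_cross D' hcop, hn,
      D.fam_cross D' hcop D.zeta_mem D'.zeta_mem, h2]
    ring
  rw [h1] at hm
  exact_mod_cast hm

/-- The sum of the squares of the multiplicities of the members of `fam'` in `B`. -/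
theorem cross_sum (D' : FrobExcData H' L' e' q' t' A' ζ' B' fam' a') (B : G → ℂ) {n : ℤ}
    (hn : ∀ f ∈ fam', classInner B f = (a' f : ℂ) * (n : ℂ)) :
    ∑ f ∈ fam', ‖classInner B f‖ ^ 2 = (q' : ℝ) * (n : ℝ) ^ 2 := by
  have h2 : ∀ f ∈ fam', ‖classInner B f‖ ^ 2 = ((a' f ^ 2 : ℕ) : ℝ) * (n : ℝ) ^ 2 := by
    intro f hf
    rw [hn f hf]
    have h3 : (a' f : ℂ) * (n : ℂ) = (((a' f : ℝ) * (n : ℝ) : ℝ) : ℂ) := by
      push_cast
      ring
    rw [h3, Complex.norm_real, Real.norm_eq_abs, sq_abs]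
    push_cast
    ring
  rw [Finset.sum_congr rfl h2, ← Finset.sum_mul, ← Nat.cast_sum, D'.sum_a]

end Pair

end FrobExcData

end Cfsg.Agent.Lib.Helper11
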