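import Cfsg.Agent.Lib.Helper11.FrobExc6

/-!
The counting argument: a group of odd order is not covered by the conjugates of two or more TI
Frobenius kernels of pairwise coprime orders.
-/

set_option autoImplicit false

namespace Cfsg.Agent.Lib.Helper11

open Cfsg
open Cfsg.Agent.Lib.Helper2
open scoped ComplexConjugate

section Bessel

variable {G : Type*} [Group G] [Fintype G]

open Classical in
/-- Bessel's inequality for the principal character together with a family of pairwise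
orthogonal orthonormal families. -/
theorem bessel_family {ι : Type*} [Fintype ι] (fam : ι → Finset (G → ℂ))
    (horth : ∀ i, ∀ f ∈ fam i, ∀ f' ∈ fam i, classInner f f' = if f = f' then 1 else 0)
    (hcross : ∀ i j, i ≠ j → ∀ f ∈ fam i, ∀ f' ∈ fam j, classInner f f' = 0)
    (hone : ∀ i, ∀ f ∈ fam i, classInner f (fun _ => (1 : ℂ)) = 0) (X : G → ℂ) :
    ‖classInner X (fun _ => (1 : ℂ))‖ ^ 2 + ∑ i, ∑ f ∈ fam i, ‖classInner X f‖ ^ 2
      ≤ (classInner X X).re := by
  obtain ⟨one, hone_def⟩ : ∃ one : G → ℂ, one = fun _ => (1 : ℂ) := ⟨_, rfl⟩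
  rw [← hone_def]
  have hone' : ∀ i, ∀ f ∈ fam i, classInner f one = 0 := by
    rw [hone_def]
    exact hone
  have h11 : classInner one one = 1 := by
    rw [hone_def]
    exact classInner_one_one
  obtain ⟨U, hU⟩ : ∃ U : Finset (G → ℂ), U = Finset.univ.biUnion fam := ⟨_, rfl⟩
  have h1U : one ∉ U := by
    intro h
    rw [hU] at h
    obtain ⟨i, -, hi⟩ := Finset.mem_biUnion.1 h
    have h1 := hone' i one hi
    rw [h11] at h1
    exact one_ne_zero h1
  have hdisj : ∀ i j, i ≠ j → Disjoint (fam i) (fam j) := by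
    intro i j hij
    rw [Finset.disjoint_left]
    intro f hf hf'
    have h1 := hcross i j hij f hf f hf'
    rw [horth i f hf f hf, if_pos rfl] at h1
    exact one_ne_zero h1
  have hmemU : ∀ α ∈ U, ∃ i, α ∈ fam i := by
    intro α hα
    rw [hU] at hα
    obtain ⟨i, -, hi⟩ := Finset.mem_biUnion.1 hα
    exact ⟨i, hi⟩
  have hF : ∀ α ∈ insert one U, ∀ β ∈ insert one U,
      classInner α β = if α = β then 1 else 0 := by
    intro α hα β hβ
    rcases Finset.mem_insert.1 hα with hα1 | hα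
    · rcases Finset.mem_insert.1 hβ with hβ1 | hβ
      · rw [hα1, hβ1, if_pos rfl]
        exact h11
      · obtain ⟨j, hj⟩ := hmemU β hβ
        have hne : α ≠ β := by
          intro h
          apply h1U
          rw [← hα1, h]
          exact hβ
        rw [if_neg hne, hα1, ← classInner_conj_symm, hone' j β hj, map_zero]
    · obtain ⟨i, hi⟩ := hmemU α hα
      rcases Finset.mem_insert.1 hβ with hβ1 | hβ
      · have hne : α ≠ β := by
          intro h
          apply h1U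
          rw [← hβ1, ← h]
          exact hα
        rw [if_neg hne, hβ1]
        exact hone' i α hi
      · obtain ⟨j, hj⟩ := hmemU β hβ
        by_cases hij : i = j
        · subst hij
          exact horth i α hi β hj
        · have hne : α ≠ β := by
            intro h
            rw [h] at hi
            exact Finset.disjoint_left.1 (hdisj i j hij) hi hj
          rw [if_neg hne]
          exact hcross i j hij α hi β hj
  have hb := bessel_le (insert one U) hF X
  rw [Finset.sum_insert h1U, hU, Finset.sum_biUnion] at hb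
  · exact hb
  · intro i _ j _ hij
    exact hdisj i j hij

end Bessel

section Family

variable {G : Type*} [Group G] [Fintype G] {ι : Type*} [Fintype ι] [DecidableEq ι]
  (H L : ι → Subgroup G) [∀ i, Fintype (L i)] {e q : ι → ℕ} {t A : ι → ℤ} {ζ B : ι → G → ℂ}
  {fam : ι → Finset (G → ℂ)} {a : ι → (G → ℂ) → ℕ}

/-- The bound coming from Bessel's inequality for `B j`. -/
theorem bessel_B
    (hcop : ∀ i j, i ≠ j → Nat.Coprime (Nat.card (H i)) (Nat.card (H j)))
    (D : ∀ i, FrobExcData (H i) (L i) (e i) (q i) (t i) (A i) (ζ i) (B i) (fam i) (a i))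
    (n : ι → ι → ℤ)
    (hn : ∀ i j, i ≠ j → ∀ f ∈ fam j, classInner (B i) f = (a j f : ℂ) * (n i j : ℂ)) (j : ι) :
    ∑ l ∈ Finset.univ.erase j, (q l : ℝ) * (n j l : ℝ) ^ 2 ≤ (e j : ℝ) - 1 := by
  have hb := bessel_family fam (fun i => (D i).fam_orth)
    (fun i i' hii' f hf f' hf' => (D i).fam_cross (D i') (hcop i i' hii') hf hf')
    (fun i => (D i).fam_one) (B j)
  have hre : ((e j : ℂ) + 1).re = (e j : ℝ) + 1 := by simp
  rw [(D j).B_one, (D j).B_norm, norm_one, one_pow, hre,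
    ← Finset.add_sum_erase Finset.univ _ (Finset.mem_univ j), (D j).self_sum] at hb
  have h2 : ∑ l ∈ Finset.univ.erase j, ∑ f ∈ fam l, ‖classInner (B j) f‖ ^ 2
      = ∑ l ∈ Finset.univ.erase j, (q l : ℝ) * (n j l : ℝ) ^ 2 := by
    apply Finset.sum_congr rfl
    intro l hl
    have hjl : j ≠ l := (Finset.ne_of_mem_erase hl).symm
    exact (D l).cross_sum (B j) (hn j l hjl)
  rw [h2] at hb
  have h3 := (D j).t_ineq
  linarith

omit [DecidableEq ι] in
/-- The decomposition of the norm of the principal character. -/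
theorem sum_ones (hHL : ∀ i, H i ≤ L i)
    (hHn : ∀ i, ∀ x ∈ L i, ∀ h ∈ H i, x * h * x⁻¹ ∈ H i)
    (hcop : ∀ i j, i ≠ j → Nat.Coprime (Nat.card (H i)) (Nat.card (H j)))
    (hTI : ∀ i, IsTISubset (H i : Set G) ∧ Subgroup.normalizer (H i : Set G) = L i)
    (hcover : ∀ g : G, g ≠ 1 → ∃ i, ∃ x : G, x * g * x⁻¹ ∈ H i)
    (D : ∀ i, FrobExcData (H i) (L i) (e i) (q i) (t i) (A i) (ζ i) (B i) (fam i) (a i)) :
    (1 : ℝ) = (Nat.card G : ℝ)⁻¹ + ∑ i, (q i : ℝ) / ((e i : ℝ) * (q i : ℝ) + 1) := by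
  have h := classInner_eq_sum_cut H L hHL hHn hcop hTI hcover (fun _ => (1 : ℂ))
    (fun _ => (1 : ℂ)) (fun _ _ => rfl) (fun _ _ => rfl)
  have h' : classInner (fun _ : G => (1 : ℂ)) (fun _ : G => (1 : ℂ))
      = (Nat.card G : ℂ)⁻¹ * (1 * conj 1)
        + ∑ i, (((q i : ℝ) / ((e i : ℝ) * (q i : ℝ) + 1) : ℝ) : ℂ) := by
    refine h.trans ?_
    congr 1
    exact Finset.sum_congr rfl (fun i _ => (D i).ones_cut (hHL i))
  rw [classInner_one_one, map_one, mul_one, mul_one] at h'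
  have h'' : ((1 : ℝ) : ℂ)
      = (((Nat.card G : ℝ)⁻¹ + ∑ i, (q i : ℝ) / ((e i : ℝ) * (q i : ℝ) + 1) : ℝ) : ℂ) := by
    rw [Complex.ofReal_add, Complex.ofReal_sum, Complex.ofReal_one, Complex.ofReal_inv,
      Complex.ofReal_natCast]
    exact h'
  exact Complex.ofReal_injective h''

/-- The decomposition of the norm of `ζ j`. -/
theorem sum_zeta (hHL : ∀ i, H i ≤ L i)
    (hHn : ∀ i, ∀ x ∈ L i, ∀ h ∈ H i, x * h * x⁻¹ ∈ H i)
    (hcop : ∀ i j, i ≠ j → Nat.Coprime (Nat.card (H i)) (Nat.card (H j)))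
    (hTI : ∀ i, IsTISubset (H i : Set G) ∧ Subgroup.normalizer (H i : Set G) = L i)
    (hcover : ∀ g : G, g ≠ 1 → ∃ i, ∃ x : G, x * g * x⁻¹ ∈ H i)
    (D : ∀ i, FrobExcData (H i) (L i) (e i) (q i) (t i) (A i) (ζ i) (B i) (fam i) (a i))
    (n : ι → ι → ℤ)
    (hn : ∀ i j, i ≠ j → ∀ k ∈ H i, k ≠ 1 → ζ j k = (n i j : ℂ)) (j : ι) :
    (1 : ℝ) = (Nat.card G : ℝ)⁻¹ * (A j : ℝ) ^ 2
      + (((1 : ℝ) - ((e j : ℝ) + 2 * (t j : ℝ) - (t j : ℝ) ^ 2 * (q j : ℝ))
            / ((e j : ℝ) * (q j : ℝ) + 1))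
        + ∑ i ∈ Finset.univ.erase j,
            ((n i j : ℝ) ^ 2 * (q i : ℝ)) / ((e i : ℝ) * (q i : ℝ) + 1)) := by
  have hcl := IsGeneralizedCharacter.isClassFunction (D j).zeta_gen
  have h := classInner_eq_sum_cut H L hHL hHn hcop hTI hcover (ζ j) (ζ j) hcl hcl
  have hnorm : classInner (ζ j) (ζ j) = 1 := by
    rw [(D j).fam_orth _ (D j).zeta_mem _ (D j).zeta_mem, if_pos rfl]
  have h' : classInner (ζ j) (ζ j) = (Nat.card G : ℂ)⁻¹ * ((A j : ℂ) * conj (A j : ℂ))
      + ((((1 : ℝ) - ((e j : ℝ) + 2 * (t j : ℝ) - (t j : ℝ) ^ 2 * (q j : ℝ))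
            / ((e j : ℝ) * (q j : ℝ) + 1) : ℝ) : ℂ)
        + ∑ i ∈ Finset.univ.erase j,
            ((((n i j : ℝ) ^ 2 * (q i : ℝ)) / ((e i : ℝ) * (q i : ℝ) + 1) : ℝ) : ℂ)) := by
    refine h.trans ?_
    rw [(D j).zeta_one, ← Finset.add_sum_erase Finset.univ _ (Finset.mem_univ j)]
    congr 1
    congr 1
    · exact (D j).zeta_cut_real
    · apply Finset.sum_congr rfl
      intro i hi
      have hij : i ≠ j := Finset.ne_of_mem_erase hi
      exact (D i).const_cut (hHL i) (ζ j) (n i j) (hn i j hij)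
  have hAA : (A j : ℂ) * conj (A j : ℂ) = (((A j : ℝ) ^ 2 : ℝ) : ℂ) := by
    rw [map_intCast]
    push_cast
    ring
  rw [hnorm, hAA] at h'
  apply Complex.ofReal_injective
  rw [Complex.ofReal_add, Complex.ofReal_add, Complex.ofReal_mul, Complex.ofReal_sum,
    Complex.ofReal_inv, Complex.ofReal_natCast, Complex.ofReal_one]
  exact h'

set_option maxHeartbeats 1000000 in
/-- The final contradiction. -/
theorem cover_contradiction (hodd : Odd (Nat.card G)) (hι : 2 ≤ Fintype.card ι)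
    (hHL : ∀ i, H i ≤ L i)
    (hHn : ∀ i, ∀ x ∈ L i, ∀ h ∈ H i, x * h * x⁻¹ ∈ H i)
    (hcop : ∀ i j, i ≠ j → Nat.Coprime (Nat.card (H i)) (Nat.card (H j)))
    (hTI : ∀ i, IsTISubset (H i : Set G) ∧ Subgroup.normalizer (H i : Set G) = L i)
    (hcover : ∀ g : G, g ≠ 1 → ∃ i, ∃ x : G, x * g * x⁻¹ ∈ H i)
    (D : ∀ i, FrobExcData (H i) (L i) (e i) (q i) (t i) (A i) (ζ i) (B i) (fam i) (a i)) :
    False := by
  -- the cross values
  have hex : ∀ i j, ∃ n : ℤ, i ≠ j → ((∀ k ∈ H i, k ≠ 1 → ζ j k = (n : ℂ)) ∧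
      classInner (B i) (ζ j) = (n : ℂ) ∧
      ∀ f ∈ fam j, classInner (B i) f = (a j f : ℂ) * (n : ℂ)) := by
    intro i j
    by_cases hij : i = j
    · exact ⟨0, fun h => absurd hij h⟩
    · obtain ⟨n, h⟩ := (D i).cross_value (D j) (hcop i j hij)
      exact ⟨n, fun _ => h⟩
  choose n hn using hex
  -- the minimal kernel
  haveI : Nonempty ι := Fintype.card_pos_iff.1 (by omega)
  obtain ⟨j, -, hjmin⟩ := Finset.exists_min_image Finset.univ (fun i => e i * q i + 1)
    ⟨Classical.arbitrary ι, Finset.mem_univ _⟩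
  have hlt : ∀ i, i ≠ j → e j * q j + 2 ≤ e i * q i + 1 := by
    intro i hij
    have h1 := hjmin i (Finset.mem_univ i)
    have h2 : e i * q i + 1 ≠ e j * q j + 1 := by
      intro h
      have h3 := hcop i j hij
      rw [(D i).card_eq, (D j).card_eq, h, Nat.coprime_self] at h3
      have h4 := (D j).one_lt_card
      rw [(D j).card_eq] at h4
      omega
    omega
  -- real quantities
  have hx : (2 : ℝ) ≤ (e j : ℝ) := by exact_mod_cast (D j).one_lt_e
  have hy : (2 : ℝ) ≤ (q j : ℝ) := by exact_mod_cast (D j).two_le_q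
  obtain ⟨hh, hhdef⟩ : ∃ hh : ℝ, hh = (e j : ℝ) * (q j : ℝ) + 1 := ⟨_, rfl⟩
  have hhpos : 0 < hh := by
    rw [hhdef]
    positivity
  have hgpos : (0 : ℝ) < (Nat.card G : ℝ)⁻¹ := by
    have : 0 < Nat.card G := Nat.card_pos
    positivity
  -- the three sums
  have hS3 := bessel_B H L hcop D n (fun i i' hii' => (hn i i' hii').2.2) j
  have hone := sum_ones H L hHL hHn hcop hTI hcover D
  have hzeta := sum_zeta H L hHL hHn hcop hTI hcover D n (fun i i' hii' => (hn i i' hii').1) j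
  rw [← Finset.add_sum_erase Finset.univ _ (Finset.mem_univ j), ← hhdef] at hone
  rw [← hhdef] at hzeta
  -- termwise inequality
  have hterm : ∀ i ∈ Finset.univ.erase j, (q i : ℝ) / ((e i : ℝ) * (q i : ℝ) + 1)
      ≤ ((n i j : ℝ) ^ 2 * (q i : ℝ)) / ((e i : ℝ) * (q i : ℝ) + 1)
        + ((q i : ℝ) * (n j i : ℝ) ^ 2) / (hh + 1) := by
    intro i hi
    have hij : i ≠ j := Finset.ne_of_mem_erase hi
    have hQ : (0 : ℝ) ≤ (q i : ℝ) := Nat.cast_nonneg _
    have hhi : (0 : ℝ) < (e i : ℝ) * (q i : ℝ) + 1 := by positivity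
    have hle : hh + 1 ≤ (e i : ℝ) * (q i : ℝ) + 1 := by
      have h1 := hlt i hij
      have h2 : ((e j * q j + 2 : ℕ) : ℝ) ≤ ((e i * q i + 1 : ℕ) : ℝ) := by exact_mod_cast h1
      rw [hhdef]
      push_cast at h2
      linarith
    obtain ⟨m, hm⟩ := (D i).parity (D j) (hcop i j hij) hodd (hn i j hij).2.1
      (hn j i hij.symm).2.1
    by_cases h0 : n i j = 0
    · have hb : n j i ≠ 0 := by
        intro h
        rw [h0, h] at hm
        omega
      have hb1 : (1 : ℝ) ≤ (n j i : ℝ) ^ 2 := by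
        have h1 : 0 < (n j i) ^ 2 := by positivity
        have h2 : (1 : ℤ) ≤ (n j i) ^ 2 := h1
        exact_mod_cast h2
      rw [h0]
      have e1 : (((0 : ℤ) : ℝ)) ^ 2 * (q i : ℝ) / ((e i : ℝ) * (q i : ℝ) + 1) = 0 := by
        simp
      rw [e1, zero_add]
      calc (q i : ℝ) / ((e i : ℝ) * (q i : ℝ) + 1) ≤ (q i : ℝ) / (hh + 1) :=
            div_le_div_of_nonneg_left hQ (by linarith) hle
        _ ≤ ((q i : ℝ) * (n j i : ℝ) ^ 2) / (hh + 1) := by
            apply div_le_div_of_nonneg_right _ (by linarith : (0 : ℝ) ≤ hh + 1)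
            nlinarith
    · have ha1 : (1 : ℝ) ≤ (n i j : ℝ) ^ 2 := by
        have h1 : 0 < (n i j) ^ 2 := by positivity
        have h2 : (1 : ℤ) ≤ (n i j) ^ 2 := h1
        exact_mod_cast h2
      have h1 : (q i : ℝ) / ((e i : ℝ) * (q i : ℝ) + 1)
          ≤ ((n i j : ℝ) ^ 2 * (q i : ℝ)) / ((e i : ℝ) * (q i : ℝ) + 1) := by
        apply div_le_div_of_nonneg_right _ hhi.le
        nlinarith
      have h2 : (0 : ℝ) ≤ ((q i : ℝ) * (n j i : ℝ) ^ 2) / (hh + 1) := by
        apply div_nonneg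
        · positivity
        · linarith
      linarith
  have hsum := Finset.sum_le_sum hterm
  rw [Finset.sum_add_distrib, ← Finset.sum_div] at hsum
  -- combine
  have h2t := (D j).t_ineq
  have hA := (D j).A_sq
  have hS3' : (∑ i ∈ Finset.univ.erase j, (q i : ℝ) * (n j i : ℝ) ^ 2) / (hh + 1)
      ≤ ((e j : ℝ) - 1) / (hh + 1) :=
    div_le_div_of_nonneg_right hS3 (by linarith)
  have hd1 : ((e j : ℝ) + 2 * (t j : ℝ) - (t j : ℝ) ^ 2 * (q j : ℝ)) / hh ≤ (e j : ℝ) / hh :=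
    div_le_div_of_nonneg_right (by linarith) hhpos.le
  have hgA : (Nat.card G : ℝ)⁻¹ ≤ (Nat.card G : ℝ)⁻¹ * (A j : ℝ) ^ 2 := by
    nlinarith
  have hineq : 1 - ((q j : ℝ) + (e j : ℝ)) / hh ≤ ((e j : ℝ) - 1) / (hh + 1) := by
    rw [add_div]
    linarith
  have e1 : 1 - ((q j : ℝ) + (e j : ℝ)) / hh = (hh - (q j : ℝ) - (e j : ℝ)) / hh := by
    field_simp
    ring
  rw [e1, div_le_div_iff₀ hhpos (by linarith)] at hineq
  rw [hhdef] at hineq
  nlinarith [mul_nonneg (mul_nonneg (by linarith : (0 : ℝ) ≤ (e j : ℝ) - 1)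
    (by linarith : (0 : ℝ) ≤ (q j : ℝ) - 2)) (by positivity : (0 : ℝ) ≤ (e j : ℝ) * (q j : ℝ) + 1 + 1)]

end Family

end Cfsg.Agent.Lib.Helper11
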