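import Cfsg.Agent.Lib.Helper11.FrobExc4

/-!
The general-parity version of the context `FrobCtx`: a Frobenius group `L` with TI kernel `H` in
`G` and a coherent isometry `τ₁`, without the hypothesis that the characters are non-real.
-/

set_option autoImplicit false

namespace Cfsg.Agent.Lib.Helper11

open Cfsg
open Cfsg.Agent.Lib.Helper2
open Cfsg.Agent.S1522
open scoped ComplexConjugate

/-- The context: a Frobenius group `L` with TI kernel `H` in `G` and a coherent isometry. -/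
structure FrobCtx0 {G : Type*} [Group G] [Fintype G] (H L : Subgroup G) [Fintype L]
    (τ₁ : (L → ℂ) → (G → ℂ)) : Prop where
  hHL : H ≤ L
  normal : (H.subgroupOf L).Normal
  hHn : ∀ x ∈ L, ∀ h ∈ H, x * h * x⁻¹ ∈ H
  hTI : IsTISubset (H : Set G)
  hN : Subgroup.normalizer (H : Set G) = L
  irr : ∀ χ ∈ inducedIrrAbove (H.subgroupOf L) ⊥, IsIrrCharacter L χ
  iso : IsLinearIsometryOn (zspan (inducedIrrAbove (H.subgroupOf L) ⊥)) τ₁
  agree : ∀ α ∈ zspanOn (inducedIrrAbove (H.subgroupOf L) ⊥) {1}ᶜ, τ₁ α = indFun L α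

namespace FrobCtx0

variable {G : Type*} [Group G] [Fintype G] {H L : Subgroup G} [Fintype L]
  {τ₁ : (L → ℂ) → (G → ℂ)}

theorem tau_gen (C : FrobCtx0 H L τ₁) {ψ : L → ℂ}
    (hψ : ψ ∈ inducedIrrAbove (H.subgroupOf L) ⊥) : IsGeneralizedCharacter G (τ₁ ψ) :=
  C.iso.2.2.2 ψ (Submodule.subset_span hψ)

open Classical in
theorem tau_inner (C : FrobCtx0 H L τ₁) {ψ ψ' : L → ℂ}
    (hψ : ψ ∈ inducedIrrAbove (H.subgroupOf L) ⊥)
    (hψ' : ψ' ∈ inducedIrrAbove (H.subgroupOf L) ⊥) :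
    classInner (τ₁ ψ) (τ₁ ψ') = if ψ = ψ' then 1 else 0 := by
  rw [C.iso.2.2.1 ψ (Submodule.subset_span hψ) ψ' (Submodule.subset_span hψ')]
  exact classInner_irr_eq_ite (C.irr ψ hψ) (C.irr ψ' hψ')

theorem tau_signed (C : FrobCtx0 H L τ₁) {ψ : L → ℂ}
    (hψ : ψ ∈ inducedIrrAbove (H.subgroupOf L) ⊥) : IsSignedIrr (τ₁ ψ) := by
  classical
  exact IsGeneralizedCharacter.isSignedIrr_of_norm_one (C.tau_gen hψ)
    (by rw [C.tau_inner hψ hψ, if_pos rfl])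

theorem tau_injective (C : FrobCtx0 H L τ₁) {ψ ψ' : L → ℂ}
    (hψ : ψ ∈ inducedIrrAbove (H.subgroupOf L) ⊥)
    (hψ' : ψ' ∈ inducedIrrAbove (H.subgroupOf L) ⊥) (h : τ₁ ψ = τ₁ ψ') : ψ = ψ' := by
  classical
  by_contra hne
  have h1 := C.tau_inner hψ hψ'
  rw [if_neg hne, h, C.tau_inner hψ' hψ', if_pos rfl] at h1
  exact one_ne_zero h1

theorem classFun (C : FrobCtx0 H L τ₁) {α : L → ℂ}
    (hα : α ∈ zspan (inducedIrrAbove (H.subgroupOf L) ⊥)) : IsClassFunction L α := by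
  haveI := C.normal
  exact (zspan_induced_props (H.subgroupOf L) ⊥ hα).1

theorem vanish (C : FrobCtx0 H L τ₁) {α : L → ℂ}
    (hα : α ∈ zspanOn (inducedIrrAbove (H.subgroupOf L) ⊥) {1}ᶜ) :
    ∀ l : L, l ∉ cutSet H L → α l = 0 := by
  haveI := C.normal
  intro l hl
  by_cases h1 : l = 1
  · rw [h1]
    exact hα.2 1 (by simp)
  · apply (zspan_induced_props (H.subgroupOf L) ⊥ hα.1).2.1
    intro hlK
    apply hl
    exact ⟨Subgroup.mem_subgroupOf.1 hlK, fun h => h1 (Subtype.ext h)⟩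

theorem ind_supp (C : FrobCtx0 H L τ₁) {α : L → ℂ}
    (hα : α ∈ zspanOn (inducedIrrAbove (H.subgroupOf L) ⊥) {1}ᶜ) {y : G}
    (hy : y ∉ conjSet H) : indFun L α y = 0 :=
  indFun_eq_zero_of_not_mem_conjSet H L α (C.vanish hα) hy

theorem ind_apply (C : FrobCtx0 H L τ₁) {α : L → ℂ}
    (hα : α ∈ zspanOn (inducedIrrAbove (H.subgroupOf L) ⊥) {1}ᶜ) (l : L)
    (hl : l ∈ cutSet H L) : indFun L α (l : G) = α l :=
  indFun_apply_of_TI L {g : G | g ∈ H ∧ g ≠ 1} (ti_fusion H L C.hTI C.hN) α (C.classFun hα.1)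
    (fun l hl => C.vanish hα l hl) l hl

/-- Members of `S` are orthogonal to the principal character of `L`. -/
theorem inner_one (C : FrobCtx0 H L τ₁) {φ : L → ℂ}
    (hφ : φ ∈ inducedIrrAbove (H.subgroupOf L) ⊥) :
    classInner φ (fun _ : L => (1 : ℂ)) = 0 := by
  classical
  obtain ⟨θ, hθ, hθ1, -, rfl⟩ := hφ
  rw [frobenius_reciprocity (H.subgroupOf L) θ _ (fun _ _ => rfl)]
  have h := classInner_irr_eq_ite hθ (isIrrCharacter_one (G := H.subgroupOf L))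
  rw [h, if_neg hθ1]

/-- Degrees of members of `S`. -/
theorem deg (C : FrobCtx0 H L τ₁) {ψ : L → ℂ}
    (hψ : ψ ∈ inducedIrrAbove (H.subgroupOf L) ⊥) :
    ∃ aψ : ℕ, 0 < aψ ∧ ψ 1 = (((H.subgroupOf L).index * aψ : ℕ) : ℂ) := by
  obtain ⟨θ, hθ, -, -, rfl⟩ := hψ
  obtain ⟨n, hnpos, hn⟩ := IsIrrCharacter.apply_one hθ
  exact ⟨n, hnpos, by rw [indFun_apply_one, hn]; push_cast; ring⟩

/-- The basic degree-zero combinations and their images. -/
theorem combo (C : FrobCtx0 H L τ₁) {ψ χ : L → ℂ}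
    (hψ : ψ ∈ inducedIrrAbove (H.subgroupOf L) ⊥)
    (hχ : χ ∈ inducedIrrAbove (H.subgroupOf L) ⊥) (dψ dχ : ℕ) (hdψ : ψ 1 = (dψ : ℂ))
    (hdχ : χ 1 = (dχ : ℂ)) :
    (dχ : ℂ) • ψ - (dψ : ℂ) • χ ∈ zspanOn (inducedIrrAbove (H.subgroupOf L) ⊥) {1}ᶜ ∧
      (dχ : ℂ) • τ₁ ψ - (dψ : ℂ) • τ₁ χ = indFun L ((dχ : ℂ) • ψ - (dψ : ℂ) • χ) := by
  set δ : L → ℂ := (dχ : ℤ) • ψ - (dψ : ℤ) • χ with hδ
  have hδC : δ = (dχ : ℂ) • ψ - (dψ : ℂ) • χ := by
    rw [hδ, zsmul_eq_complex_smul, zsmul_eq_complex_smul]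
    push_cast
    rfl
  have hψm : ψ ∈ Submodule.span ℤ (inducedIrrAbove (H.subgroupOf L) ⊥) :=
    Submodule.subset_span hψ
  have hχm : χ ∈ Submodule.span ℤ (inducedIrrAbove (H.subgroupOf L) ⊥) :=
    Submodule.subset_span hχ
  have hδmem : δ ∈ zspanOn (inducedIrrAbove (H.subgroupOf L) ⊥) {1}ᶜ := by
    refine ⟨Submodule.sub_mem _ (Submodule.smul_mem _ _ hψm) (Submodule.smul_mem _ _ hχm), ?_⟩
    intro x hx
    have hx1 : x = 1 := by simpa using hx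
    subst hx1
    rw [hδC]
    simp only [Pi.sub_apply, Pi.smul_apply, smul_eq_mul]
    rw [hdψ, hdχ]
    ring
  have e1 : τ₁ δ = (dχ : ℂ) • τ₁ ψ - (dψ : ℂ) • τ₁ χ := by
    rw [hδ, isLinIso_sub (Submodule.span ℤ (inducedIrrAbove (H.subgroupOf L) ⊥)) C.iso
      (Submodule.smul_mem _ _ hψm) (Submodule.smul_mem _ _ hχm), C.iso.2.1 ψ hψm,
      C.iso.2.1 χ hχm, zsmul_eq_complex_smul, zsmul_eq_complex_smul]
    push_cast
    rfl
  rw [← hδC]
  exact ⟨hδmem, by rw [← e1, C.agree δ hδmem]⟩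

/-- The orders. -/
theorem card_L (C : FrobCtx0 H L τ₁) :
    Nat.card L = (H.subgroupOf L).index * Nat.card H := by
  have h5 := Subgroup.card_mul_index (H.subgroupOf L)
  rw [Nat.card_congr (Subgroup.subgroupOfEquivOfLe C.hHL).toEquiv] at h5
  rw [mul_comm]
  exact h5.symm

/-- Members of `S` lie in `S ∖ S(K)`. -/
theorem mem_diff (C : FrobCtx0 H L τ₁) {ψ : L → ℂ}
    (hψ : ψ ∈ inducedIrrAbove (H.subgroupOf L) ⊥) :
    ψ ∈ inducedIrrAbove (H.subgroupOf L) ⊥ \ inducedIrrAbove (H.subgroupOf L) (H.subgroupOf L) :=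
  ⟨hψ, not_mem_inducedIrrAbove_self _ ψ⟩

/-- Values of `ζ = τ₁ χ` on `H ∖ 1`. -/
theorem zeta_value (C : FrobCtx0 H L τ₁) {χ : L → ℂ}
    (hχ : χ ∈ inducedIrrAbove (H.subgroupOf L) ⊥) (hχ1 : χ 1 = ((H.subgroupOf L).index : ℂ)) :
    ∃ t : ℤ, ∀ l ∈ cutSet H L, τ₁ χ l = χ l + (t : ℂ) := by
  classical
  haveI := C.normal
  set e := (H.subgroupOf L).index with he
  have hepos : 0 < e := Nat.pos_of_ne_zero Subgroup.index_ne_zero_of_finite
  have heC : (e : ℂ) ≠ 0 := by exact_mod_cast hepos.ne'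
  set ζ := τ₁ χ with hζ
  have hζgen : IsGeneralizedCharacter G ζ := C.tau_gen hχ
  have hζclass : IsClassFunction G ζ := IsGeneralizedCharacter.isClassFunction hζgen
  set ζL : L → ℂ := fun l : L => ζ l with hζL
  have hζLgen : IsGeneralizedCharacter L ζL := IsGeneralizedCharacter.restrict hζgen L
  have hζLclass : IsClassFunction L ζL := IsGeneralizedCharacter.isClassFunction hζLgen
  have hχchar : IsCharacter L χ := IsIrrCharacter.isCharacter (C.irr χ hχ)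
  obtain ⟨cc, hcc⟩ := IsGeneralizedCharacter.inner_int hζLgen (isGenChar_of_isChar hχchar)
  obtain ⟨A, hA⟩ := IsGeneralizedCharacter.apply_one_int hζgen
  have hirr' : ∀ ψ ∈ inducedIrrAbove (H.subgroupOf L) ⊥
      \ inducedIrrAbove (H.subgroupOf L) (H.subgroupOf L), IsIrrCharacter L ψ :=
    fun ψ hψ => C.irr ψ hψ.1
  have hprop : ∀ ψ ∈ inducedIrrAbove (H.subgroupOf L) ⊥
      \ inducedIrrAbove (H.subgroupOf L) (H.subgroupOf L), ψ ≠ χ →
      χ 1 * classInner ζL ψ = ψ 1 * (classInner ζL χ - 1) := by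
    intro ψ hψ hne
    have hψchar : IsCharacter L ψ := IsIrrCharacter.isCharacter (C.irr ψ hψ.1)
    obtain ⟨dψ, hdψ⟩ := IsCharacter.apply_one hψchar
    have h1 := indFun_orth_prop L (inducedIrrAbove (H.subgroupOf L) ⊥) τ₁ C.iso C.agree ζ hζclass
      hψ.1 hχ dψ e hdψ hχ1
    rw [hζ, C.tau_inner hψ.1 hχ, if_neg hne, C.tau_inner hχ hχ, if_pos rfl, ← hζ] at h1
    rw [classInner_comm_of_genChar hζLgen (isGenChar_of_isChar hψchar),
      classInner_comm_of_genChar hζLgen (isGenChar_of_isChar hχchar), hdψ, hχ1]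
    linear_combination -h1
  have hcardL : (Nat.card L : ℂ) = (e : ℂ) * (Nat.card H : ℂ) := by
    rw [C.card_L]
    push_cast
    rfl
  refine ⟨A - e - (cc - 1) * (Nat.card H : ℤ), ?_⟩
  intro l hl
  have hlK : l ∈ H.subgroupOf L := Subgroup.mem_subgroupOf.2 hl.1
  have hl1 : l ≠ 1 := by
    intro h
    apply hl.2
    rw [h]
    rfl
  have hv := restrict_value_formula (H.subgroupOf L) (H.subgroupOf L) le_rfl hirr' ζL hζLclass χ
    (C.mem_diff hχ) 1 hprop l hlK hl1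
  have hζ1 : ζL 1 = (A : ℂ) := by
    show ζ ((1 : L) : G) = A
    rw [Subgroup.coe_one]
    exact hA
  rw [hζ1, hcc, hχ1, hcardL] at hv
  have h3 : (e : ℂ) * ζL l = (e : ℂ) * (χ l + ((A - e - (cc - 1) * (Nat.card H : ℤ) : ℤ) : ℂ)) := by
    push_cast
    linear_combination -hv
  exact mul_left_cancel₀ heC h3

/-- Values of `τ₁ ψ` on `H ∖ 1` and off the conjugates of `H`. -/
theorem tau_value (C : FrobCtx0 H L τ₁) {χ : L → ℂ}
    (hχ : χ ∈ inducedIrrAbove (H.subgroupOf L) ⊥) (e : ℕ) (he0 : e ≠ 0) (hχ1 : χ 1 = (e : ℂ))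
    (t : ℂ) (ht : ∀ l ∈ cutSet H L, τ₁ χ l = χ l + t) {ψ : L → ℂ}
    (hψ : ψ ∈ inducedIrrAbove (H.subgroupOf L) ⊥) (aψ : ℕ) (hψ1 : ψ 1 = ((e * aψ : ℕ) : ℂ)) :
    (∀ l ∈ cutSet H L, τ₁ ψ l = ψ l + (aψ : ℂ) * t) ∧
      ∀ y : G, y ∉ conjSet H → τ₁ ψ y = (aψ : ℂ) * τ₁ χ y := by
  have heC : (e : ℂ) ≠ 0 := by exact_mod_cast he0
  obtain ⟨hmem, hcombo⟩ := C.combo hψ hχ (e * aψ) e hψ1 hχ1
  constructor
  · intro l hl
    have h1 := congrFun hcombo (l : G)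
    rw [C.ind_apply hmem l hl] at h1
    simp only [Pi.sub_apply, Pi.smul_apply, smul_eq_mul] at h1
    rw [ht l hl] at h1
    apply mul_left_cancel₀ heC
    push_cast at h1
    linear_combination h1
  · intro y hy
    have h1 := congrFun hcombo y
    rw [C.ind_supp hmem hy] at h1
    simp only [Pi.sub_apply, Pi.smul_apply, smul_eq_mul] at h1
    apply mul_left_cancel₀ heC
    push_cast at h1
    linear_combination h1

/-- A class function of `G` orthogonal to all `τ₁ ψ` is constant on `H ∖ 1`. -/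
theorem const_value (C : FrobCtx0 H L τ₁) {χ : L → ℂ}
    (hχ : χ ∈ inducedIrrAbove (H.subgroupOf L) ⊥) (hχ1 : χ 1 = ((H.subgroupOf L).index : ℂ))
    (ξ : G → ℂ) (hξ : IsClassFunction G ξ)
    (horth : ∀ ψ ∈ inducedIrrAbove (H.subgroupOf L) ⊥, classInner (τ₁ ψ) ξ = 0) :
    ∃ c : ℂ, ∀ k ∈ H, k ≠ 1 → ξ k = c := by
  classical
  haveI := C.normal
  set e := (H.subgroupOf L).index with he
  have hepos : 0 < e := Nat.pos_of_ne_zero Subgroup.index_ne_zero_of_finite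
  have heC : (e : ℂ) ≠ 0 := by exact_mod_cast hepos.ne'
  set ξL : L → ℂ := fun l : L => ξ l with hξL
  have hξLclass : IsClassFunction L ξL := by
    intro g h
    show ξ ((h * g * h⁻¹ : L) : G) = ξ g
    have h4 : ((h * g * h⁻¹ : L) : G) = (h : G) * g * (h : G)⁻¹ := by simp
    rw [h4]
    exact hξ g h
  have hirr' : ∀ ψ ∈ inducedIrrAbove (H.subgroupOf L) ⊥
      \ inducedIrrAbove (H.subgroupOf L) (H.subgroupOf L), IsIrrCharacter L ψ :=
    fun ψ hψ => C.irr ψ hψ.1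
  have hprop : ∀ ψ ∈ inducedIrrAbove (H.subgroupOf L) ⊥
      \ inducedIrrAbove (H.subgroupOf L) (H.subgroupOf L), ψ ≠ χ →
      χ 1 * classInner ξL ψ = ψ 1 * (classInner ξL χ - 0) := by
    intro ψ hψ _
    have hψchar : IsCharacter L ψ := IsIrrCharacter.isCharacter (C.irr ψ hψ.1)
    obtain ⟨dψ, hdψ⟩ := IsCharacter.apply_one hψchar
    have h1 := indFun_orth_prop L (inducedIrrAbove (H.subgroupOf L) ⊥) τ₁ C.iso C.agree ξ hξ
      hψ.1 hχ dψ e hdψ hχ1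
    rw [horth ψ hψ.1, horth χ hχ, mul_zero, mul_zero, sub_zero] at h1
    have h2 := congrArg (starRingEnd ℂ) h1
    simp only [map_sub, map_mul, Complex.conj_natCast, map_zero, classInner_conj_symm] at h2
    rw [hdψ, hχ1, sub_zero]
    linear_combination -h2
  have hcardL : (Nat.card L : ℂ) = (e : ℂ) * (Nat.card H : ℂ) := by
    rw [C.card_L]
    push_cast
    rfl
  have hval : ∀ l ∈ cutSet H L, ξL l = ξ 1 - classInner ξL χ * (Nat.card H : ℂ) := by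
    intro l hl
    have hlK : l ∈ H.subgroupOf L := Subgroup.mem_subgroupOf.2 hl.1
    have hl1 : l ≠ 1 := by
      intro h
      apply hl.2
      rw [h]
      rfl
    have hv := restrict_value_formula (H.subgroupOf L) (H.subgroupOf L) le_rfl hirr' ξL hξLclass χ
      (C.mem_diff hχ) 0 hprop l hlK hl1
    have hξ1 : ξL 1 = ξ 1 := by
      show ξ ((1 : L) : G) = ξ 1
      rw [Subgroup.coe_one]
    rw [hξ1, hχ1, hcardL] at hv
    apply mul_left_cancel₀ heC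
    linear_combination -hv
  refine ⟨ξ 1 - classInner ξL χ * (Nat.card H : ℂ), ?_⟩
  intro k hk hk1
  exact hval ⟨k, C.hHL hk⟩ ⟨hk, hk1⟩

end FrobCtx0

end Cfsg.Agent.Lib.Helper11
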