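import Cfsg.Agent.Lib.Helper11.FrobGen
import Cfsg.Agent.Lib.Helper11.FrobSylow

/-!
Consequences of coherence for a TI-subgroup with Frobenius normaliser, in arbitrary parity:
values of the extended isometry on the kernel, and the characterisation of the irreducible
characters `± τ₁ χ` as those that are not constant on `H ∖ 1`.
-/

set_option autoImplicit false

namespace Cfsg.Agent.Lib.Helper11

open Cfsg
open Cfsg.Agent.Lib.Helper2
open Cfsg.Agent.S1522
open scoped ComplexConjugate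

section Main

variable {G : Type*} [Group G] [Fintype G] (H L : Subgroup G) [Fintype L]

/-- All the members of `S` are irreducible, for a Frobenius group. -/
theorem frob_irr_of_cent [hK : (H.subgroupOf L).Normal]
    (hcent : ∀ h ∈ H, h ≠ 1 → ∀ x ∈ L, x * h = h * x → x ∈ H) :
    ∀ χ ∈ inducedIrrAbove (H.subgroupOf L) ⊥, IsIrrCharacter L χ := by
  have hF := frob_cond_subgroupOf H L hcent
  obtain ⟨-, W, hsup, -, hfpf⟩ := exists_complement_of_frob (H.subgroupOf L) hF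
  rintro χ ⟨θ, hθ, hθ1, -, rfl⟩
  exact isIrrCharacter_indFun_of_fpf (H.subgroupOf L) W hsup hfpf hθ hθ1

/-- The context built from the hypotheses in intrinsic form. -/
theorem frobCtx0_of (hHL : H ≤ L) (hHn : ∀ x ∈ L, ∀ h ∈ H, x * h * x⁻¹ ∈ H)
    (hcent : ∀ h ∈ H, h ≠ 1 → ∀ x ∈ L, x * h = h * x → x ∈ H)
    (hTI : IsTISubset (H : Set G)) (hN : Subgroup.normalizer (H : Set G) = L)
    (τ₁ : (L → ℂ) → (G → ℂ))
    (hiso : IsLinearIsometryOn
      (zspan {χ : L → ℂ | IsIrrCharacter L χ ∧ ∃ x : L, (x : G) ∈ H ∧ χ x ≠ χ 1}) τ₁)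
    (hagree : ∀ α ∈ zspanOn {χ : L → ℂ | IsIrrCharacter L χ ∧ ∃ x : L, (x : G) ∈ H ∧ χ x ≠ χ 1}
      {1}ᶜ, τ₁ α = indFun L α) : FrobCtx0 H L τ₁ := by
  haveI hKn : (H.subgroupOf L).Normal := subgroupOf_normal_of_conj H L hHn
  have hirrS := frob_irr_of_cent H L hcent
  have hset := irr_nontriv_eq_induced H L hirrS
  rw [hset] at hiso hagree
  exact
    { hHL := hHL
      normal := hKn
      hHn := hHn
      hTI := hTI
      hN := hN
      irr := hirrS
      iso := hiso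
      agree := hagree }

/-- A character of degree `[L:H]` in `S`. -/
theorem exists_degree_index [hK : (H.subgroupOf L).Normal] (hHL : H ≤ L) (hLH : ¬ L ≤ H)
    (hH1 : H ≠ ⊥) (hcent : ∀ h ∈ H, h ≠ 1 → ∀ x ∈ L, x * h = h * x → x ∈ H) :
    ∃ χ ∈ inducedIrrAbove (H.subgroupOf L) ⊥, χ 1 = ((H.subgroupOf L).index : ℂ) := by
  classical
  haveI : Fintype (IrrCharacter (H.subgroupOf L)) := Fintype.ofFinite _
  have hF := frob_cond_subgroupOf H L hcent
  have hK1 : H.subgroupOf L ≠ ⊥ := by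
    intro h
    apply hH1
    rw [Subgroup.subgroupOf_eq_bot] at h
    exact h.eq_bot_of_le hHL
  have hKtop : H.subgroupOf L ≠ ⊤ := fun h => hLH (Subgroup.subgroupOf_eq_top.1 h)
  haveI hnilK : Group.IsNilpotent (H.subgroupOf L) :=
    frob_kernel_nilpotent (H.subgroupOf L) hF hKtop
  have hsolv : Group.IsSolvable (H.subgroupOf L) := inferInstance
  obtain ⟨lam, hlam, hlamdeg⟩ := exists_linear_mem_irrAboveFinset (H.subgroupOf L) hsolv ⊥
    (bot_lt_iff_ne_bot.2 hK1)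
  have hlam' := (mem_irrAboveFinset (H.subgroupOf L) ⊥ lam).1 hlam
  refine ⟨indFun (H.subgroupOf L) (lam : (H.subgroupOf L) → ℂ),
    ⟨lam.1, lam.2, hlam'.1, hlam'.2, rfl⟩, ?_⟩
  rw [indFun_apply_one, irrDeg_spec, hlamdeg]
  simp

/-- The values of `τ₁ χ - χ` on `H ∖ 1` are `m χ(1) / e` for a single integer `m`. -/
theorem frob_star_value (hHL : H ≤ L) (hLH : ¬ L ≤ H) (hH1 : H ≠ ⊥)
    (hcent : ∀ h ∈ H, h ≠ 1 → ∀ x ∈ L, x * h = h * x → x ∈ H)
    (τ₁ : (L → ℂ) → (G → ℂ)) (C : FrobCtx0 H L τ₁) :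
    ∃ m : ℤ, ∀ χ ∈ inducedIrrAbove (H.subgroupOf L) ⊥, ∀ k : L, (k : G) ∈ H → k ≠ 1 →
      τ₁ χ k - χ k = (m : ℂ) * χ 1 / ((H.subgroupOf L).index : ℂ) := by
  haveI := C.normal
  obtain ⟨χ₀, hχ₀, hχ₀1⟩ := exists_degree_index H L hHL hLH hH1 hcent
  obtain ⟨t, ht⟩ := C.zeta_value hχ₀ hχ₀1
  have he0 : (H.subgroupOf L).index ≠ 0 := Subgroup.index_ne_zero_of_finite
  have heC : (((H.subgroupOf L).index : ℕ) : ℂ) ≠ 0 := by exact_mod_cast he0
  refine ⟨t, ?_⟩
  intro χ hχ k hk hk1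
  obtain ⟨a, -, ha⟩ := C.deg hχ
  have hkcut : k ∈ cutSet H L := ⟨hk, fun h => hk1 (Subtype.ext h)⟩
  have h1 := (C.tau_value hχ₀ _ he0 hχ₀1 (t : ℂ) ht hχ a ha).1 k hkcut
  rw [h1, ha]
  push_cast
  field_simp
  ring

/-- A member of `S` is not constant on `H ∖ 1`, when `S` has at least two members. -/
theorem exists_ne_values (τ₁ : (L → ℂ) → (G → ℂ)) (C : FrobCtx0 H L τ₁) {χ ξ : L → ℂ}
    (hχ : χ ∈ inducedIrrAbove (H.subgroupOf L) ⊥) (hξ : ξ ∈ inducedIrrAbove (H.subgroupOf L) ⊥)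
    (hne : χ ≠ ξ) (hχnt : ∃ x : L, (x : G) ∈ H ∧ χ x ≠ χ 1) :
    ∃ a : L, ∃ b : L, (a : G) ∈ H ∧ (b : G) ∈ H ∧ a ≠ 1 ∧ b ≠ 1 ∧ χ a ≠ χ b := by
  classical
  haveI := C.normal
  by_contra hcon
  push Not at hcon
  obtain ⟨x₀, hx₀H, hx₀⟩ := hχnt
  have hx₀1 : x₀ ≠ 1 := by
    rintro rfl
    exact hx₀ rfl
  obtain ⟨c, hc⟩ : ∃ c, c = χ x₀ := ⟨_, rfl⟩
  have hconst : ∀ l : L, (l : G) ∈ H → l ≠ 1 → χ l = c := by
    intro l hl hl1
    rw [hc]
    exact (hcon x₀ l hx₀H hl hx₀1 hl1).symm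
  have hχvan : ∀ l : L, l ∉ H.subgroupOf L → χ l = 0 :=
    (zspan_induced_props (H.subgroupOf L) ⊥ (Submodule.subset_span hχ)).2.1
  have hξvan : ∀ l : L, l ∉ H.subgroupOf L → ξ l = 0 :=
    (zspan_induced_props (H.subgroupOf L) ⊥ (Submodule.subset_span hξ)).2.1
  -- `χ = c 1_K + (χ(1) - c) δ₁`
  set oneK : L → ℂ := Set.indicator ((H.subgroupOf L : Subgroup L) : Set L) (fun _ => (1 : ℂ))
    with honeK
  set δ : L → ℂ := Set.indicator ({1} : Set L) (fun _ => (1 : ℂ)) with hδ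
  have hχeq : χ = c • oneK + (χ 1 - c) • δ := by
    funext l
    by_cases hl1 : l = 1
    · rw [hl1, Pi.add_apply, Pi.smul_apply, Pi.smul_apply, honeK, hδ,
        Set.indicator_of_mem (Subgroup.one_mem _), Set.indicator_of_mem (Set.mem_singleton _)]
      simp
    · have hδl : δ l = 0 := by
        rw [hδ]
        exact Set.indicator_of_notMem (by simpa using hl1) _
      rw [Pi.add_apply, Pi.smul_apply, Pi.smul_apply, hδl, smul_zero, add_zero]
      by_cases hlK : l ∈ H.subgroupOf L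
      · rw [honeK, Set.indicator_of_mem hlK, smul_eq_mul, mul_one]
        exact hconst l (Subgroup.mem_subgroupOf.1 hlK) hl1
      · rw [honeK, Set.indicator_of_notMem hlK, smul_zero]
        exact hχvan l hlK
  have h1 : classInner ξ oneK = 0 := by
    rw [classInner_congr_of_support ((H.subgroupOf L : Subgroup L) : Set L) hξvan
      (f₂ := fun _ : L => (1 : ℂ)) (fun l hl => by rw [honeK, Set.indicator_of_mem hl])]
    exact C.inner_one hξ
  have h2 : classInner δ ξ = (Nat.card L : ℂ)⁻¹ * conj (ξ 1) := by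
    rw [hδ, classInner_single_one]
  have h3 : classInner χ ξ = 0 := by
    rw [classInner_irr_eq_ite (C.irr χ hχ) (C.irr ξ hξ), if_neg hne]
  rw [hχeq, classInner_add_left, classInner_smul_left, classInner_smul_left, h2,
    ← classInner_conj_symm, h1, map_zero, mul_zero, zero_add] at h3
  have hL0 : (Nat.card L : ℂ)⁻¹ ≠ 0 := by
    apply inv_ne_zero
    exact_mod_cast (Nat.card_pos (α := L)).ne'
  have hξ1 : conj (ξ 1) ≠ 0 := by
    intro h
    have h' : ξ 1 = 0 := by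
      have := congrArg (starRingEnd ℂ) h
      simpa using this
    exact IsSignedIrr.apply_one_ne_zero (Or.inl (C.irr ξ hξ)) h'
  have h4 : χ 1 - c = 0 := by
    rcases mul_eq_zero.1 h3 with h | h
    · exact h
    · exfalso
      rcases mul_eq_zero.1 h with h' | h'
      · exact hL0 h'
      · exact hξ1 h'
  apply hx₀
  rw [← hc]
  exact (sub_eq_zero.1 h4).symm

/-- The irreducible characters `± τ₁ χ` are exactly the irreducible characters of `G` that are
not constant on `H ∖ 1`. -/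
theorem frob_star_irr_iff (hHL : H ≤ L) (hLH : ¬ L ≤ H) (hH1 : H ≠ ⊥)
    (hcent : ∀ h ∈ H, h ≠ 1 → ∀ x ∈ L, x * h = h * x → x ∈ H)
    (τ₁ : (L → ℂ) → (G → ℂ)) (C : FrobCtx0 H L τ₁)
    (htwo : ∃ χ ∈ inducedIrrAbove (H.subgroupOf L) ⊥, ∃ ξ ∈ inducedIrrAbove (H.subgroupOf L) ⊥,
      χ ≠ ξ)
    (hnt : ∀ χ ∈ inducedIrrAbove (H.subgroupOf L) ⊥, ∃ x : L, (x : G) ∈ H ∧ χ x ≠ χ 1)
    (ψ : G → ℂ) (hψ : IsIrrCharacter G ψ) :
    (∃ χ ∈ inducedIrrAbove (H.subgroupOf L) ⊥, ψ = τ₁ χ ∨ ψ = -τ₁ χ) ↔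
      ∃ a ∈ H, ∃ b ∈ H, a ≠ 1 ∧ b ≠ 1 ∧ ψ a ≠ ψ b := by
  classical
  haveI := C.normal
  obtain ⟨m, hm⟩ := frob_star_value H L hHL hLH hH1 hcent τ₁ C
  constructor
  · rintro ⟨χ, hχ, hψχ⟩
    obtain ⟨χ₁, hχ₁, χ₂, hχ₂, h12⟩ := htwo
    obtain ⟨ξ, hξ, hne⟩ : ∃ ξ ∈ inducedIrrAbove (H.subgroupOf L) ⊥, χ ≠ ξ := by
      by_cases h : χ = χ₁
      · exact ⟨χ₂, hχ₂, by rw [h]; exact h12⟩
      · exact ⟨χ₁, hχ₁, h⟩
    obtain ⟨a, b, haH, hbH, ha1, hb1, hab⟩ := exists_ne_values H L τ₁ C hχ hξ hne (hnt χ hχ)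
    have hva := hm χ hχ a haH ha1
    have hvb := hm χ hχ b hbH hb1
    have hdiff : τ₁ χ (a : G) ≠ τ₁ χ (b : G) := by
      intro h
      apply hab
      have : τ₁ χ a - χ a = τ₁ χ b - χ b := by rw [hva, hvb]
      rw [h] at this
      exact sub_right_injective this
    refine ⟨(a : G), haH, (b : G), hbH, fun h => ha1 (Subtype.ext h), fun h => hb1 (Subtype.ext h),
      ?_⟩
    rcases hψχ with rfl | rfl
    · exact hdiff
    · intro h
      apply hdiff
      simp only [Pi.neg_apply] at h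
      exact neg_injective h
  · rintro ⟨a, ha, b, hb, ha1, hb1, hab⟩
    by_contra hcon
    push Not at hcon
    obtain ⟨χ₀, hχ₀, hχ₀1⟩ := exists_degree_index H L hHL hLH hH1 hcent
    have horth : ∀ φ ∈ inducedIrrAbove (H.subgroupOf L) ⊥, classInner (τ₁ φ) ψ = 0 := by
      intro φ hφ
      rcases IsSignedIrr.inner_cases (C.tau_signed hφ) (Or.inl hψ) with h | h | h
      · exact h.1
      · exact absurd h.1.symm (hcon φ hφ).1
      · exfalso
        apply (hcon φ hφ).2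
        rw [h.1, neg_neg]
    obtain ⟨c, hc⟩ := C.const_value hχ₀ hχ₀1 ψ
      (IsCharacter.isClassFunction (IsIrrCharacter.isCharacter hψ)) horth
    apply hab
    rw [hc a ha ha1, hc b hb hb1]

/-- Abelian kernel: induction of differences of members of `S` is given by a signed injective
family of irreducible characters. -/
theorem frob_abelian_signed_family
    (hHn : ∀ x ∈ L, ∀ h ∈ H, x * h * x⁻¹ ∈ H)
    (hcent : ∀ h ∈ H, h ≠ 1 → ∀ x ∈ L, x * h = h * x → x ∈ H)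
    (hTI : IsTISubset (H : Set G)) (hN : Subgroup.normalizer (H : Set G) = L)
    (hab : ∀ a ∈ H, ∀ b ∈ H, a * b = b * a) :
    ∃ (ε : ℂ) (f : {χ : IrrCharacter L // ∃ k : L, (k : G) ∈ H ∧
        (χ : L → ℂ) k ≠ (χ : L → ℂ) 1} → IrrCharacter G),
      (ε = 1 ∨ ε = -1) ∧ Function.Injective f ∧
      ∀ χ ξ, indFun L ((χ.1 : L → ℂ) - (ξ.1 : L → ℂ))
        = ε • ((f χ : G → ℂ) - (f ξ : G → ℂ)) := by
  classical
  haveI hKn : (H.subgroupOf L).Normal := subgroupOf_normal_of_conj H L hHn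
  have hirrS := frob_irr_of_cent H L hcent
  have hset := irr_nontriv_eq_induced H L hirrS
  obtain ⟨hiso, hone⟩ := isLinearIsometryOn_indFun_of_TI H L hTI hN
  by_cases htwo : ∃ i j : {χ : IrrCharacter L // ∃ k : L, (k : G) ∈ H ∧
      (χ : L → ℂ) k ≠ (χ : L → ℂ) 1}, i ≠ j
  swap
  · push Not at htwo
    refine ⟨1, fun _ => trivialIrr G, Or.inl rfl, ?_, ?_⟩
    · intro i j _
      exact htwo i j
    · intro χ ξ
      rw [htwo χ ξ, sub_self, sub_self, smul_zero]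
      exact indFun_zero L
  · obtain ⟨i₁, i₂, h12⟩ := htwo
    have hmemS : ∀ i : {χ : IrrCharacter L // ∃ k : L, (k : G) ∈ H ∧
        (χ : L → ℂ) k ≠ (χ : L → ℂ) 1}, (i.1 : L → ℂ) ∈ inducedIrrAbove (H.subgroupOf L) ⊥ := by
      intro i
      rw [← hset]
      exact ⟨i.1.2, i.2⟩
    -- all degrees are equal
    have hcomm_bot : ⁅H.subgroupOf L, H.subgroupOf L⁆ ≤ (⊥ : Subgroup L) := by
      rw [le_bot_iff, Subgroup.commutator_eq_bot_iff_le_centralizer]
      intro k hk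
      rw [Subgroup.mem_centralizer_iff]
      intro y hy
      apply Subtype.ext
      exact hab y (Subgroup.mem_subgroupOf.1 hy) k (Subgroup.mem_subgroupOf.1 hk)
    have hdegS : ∀ χ ∈ inducedIrrAbove (H.subgroupOf L) ⊥,
        χ 1 = ((H.subgroupOf L).index : ℂ) := by
      rintro χ ⟨θ, hθ, hθ1, htriv, rfl⟩
      have h1 := irrDeg_eq_one_of_commutator_le (H.subgroupOf L) ⊥ hcomm_bot
        (⟨θ, hθ⟩ : IrrCharacter (H.subgroupOf L)) htriv
      have h2 := irrDeg_spec (⟨θ, hθ⟩ : IrrCharacter (H.subgroupOf L))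
      rw [h1] at h2
      have h3 : θ 1 = 1 := by
        simpa using h2
      rw [indFun_apply_one, h3, mul_one]
    have hmem : ∀ ξ ∈ inducedIrrAbove (H.subgroupOf L) ⊥,
        ∀ ξ' ∈ inducedIrrAbove (H.subgroupOf L) ⊥,
        ξ - ξ' ∈ zspanOn (inducedIrrAbove (H.subgroupOf L) ⊥) {1}ᶜ := by
      intro ξ hξ ξ' hξ'
      refine ⟨Submodule.sub_mem _ (Submodule.subset_span hξ) (Submodule.subset_span hξ'), ?_⟩
      intro x hx
      have hx1 : x = 1 := by simpa using hx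
      rw [hx1, Pi.sub_apply, hdegS ξ hξ, hdegS ξ' hξ', sub_self]
    have hinnerS : ∀ ξ ∈ inducedIrrAbove (H.subgroupOf L) ⊥,
        ∀ ξ' ∈ inducedIrrAbove (H.subgroupOf L) ⊥,
        classInner ξ ξ' = if ξ = ξ' then 1 else 0 :=
      fun ξ hξ ξ' hξ' => classInner_irr_eq_ite (hirrS ξ hξ) (hirrS ξ' hξ')
    have hinner4 : ∀ a ∈ inducedIrrAbove (H.subgroupOf L) ⊥,
        ∀ b ∈ inducedIrrAbove (H.subgroupOf L) ⊥, ∀ c ∈ inducedIrrAbove (H.subgroupOf L) ⊥,
        ∀ d ∈ inducedIrrAbove (H.subgroupOf L) ⊥,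
        classInner (indFun L (a - b)) (indFun L (c - d))
          = (if a = c then 1 else 0) - (if a = d then 1 else 0)
            - ((if b = c then 1 else 0) - (if b = d then 1 else 0)) := by
      intro a ha b hb c hc d hd
      rw [hiso.2.2.1 _ (hmem a ha b hb) _ (hmem c hc d hd), classInner_sub_left,
        classInner_sub_right, classInner_sub_right, hinnerS a ha c hc, hinnerS a ha d hd,
        hinnerS b hb c hc, hinnerS b hb d hd]
    have hne : ∀ i j : {χ : IrrCharacter L // ∃ k : L, (k : G) ∈ H ∧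
        (χ : L → ℂ) k ≠ (χ : L → ℂ) 1}, i ≠ j → (i.1 : L → ℂ) ≠ (j.1 : L → ℂ) := by
      intro i j hij h
      exact hij (Subtype.ext (Subtype.ext h))
    obtain ⟨δ, μ, hδ, hμirr, hμinj, hβ⟩ := exists_signed_family
      (fun i j : {χ : IrrCharacter L // ∃ k : L, (k : G) ∈ H ∧
        (χ : L → ℂ) k ≠ (χ : L → ℂ) 1} => indFun L ((i.1 : L → ℂ) - (j.1 : L → ℂ)))
      (by
        intro i j k
        show indFun L ((i.1 : L → ℂ) - (j.1 : L → ℂ)) + indFun L ((j.1 : L → ℂ) - (k.1 : L → ℂ))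
          = indFun L ((i.1 : L → ℂ) - (k.1 : L → ℂ))
        rw [← indFun_add, sub_add_sub_cancel])
      (by
        intro i j hij
        have hnorm : classInner (indFun L ((i.1 : L → ℂ) - (j.1 : L → ℂ)))
            (indFun L ((i.1 : L → ℂ) - (j.1 : L → ℂ))) = 2 := by
          rw [hinner4 _ (hmemS i) _ (hmemS j) _ (hmemS i) _ (hmemS j), if_pos rfl, if_pos rfl,
            if_neg (hne i j hij), if_neg (Ne.symm (hne i j hij))]
          norm_num
        obtain ⟨μ₁, μ₂, hμ, heq⟩ := IsGeneralizedCharacter.eq_sub_of_norm_two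
          (hiso.2.2.2 _ (hmem _ (hmemS i) _ (hmemS j))) hnorm
          (hone _ (hmem _ (hmemS i) _ (hmemS j)))
        exact ⟨μ₁.1, μ₂.1, μ₁.2, μ₂.2, fun h => hμ (Subtype.ext h), heq⟩)
      (by
        intro i j k hij hik hjk
        show classInner (indFun L ((i.1 : L → ℂ) - (j.1 : L → ℂ)))
          (indFun L ((i.1 : L → ℂ) - (k.1 : L → ℂ))) = 1
        rw [hinner4 _ (hmemS i) _ (hmemS j) _ (hmemS i) _ (hmemS k), if_pos rfl,
          if_neg (hne i k hik), if_neg (Ne.symm (hne i j hij)), if_neg (hne j k hjk)]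
        norm_num)
      (by
        intro i
        by_cases h : i = i₁
        · exact ⟨i₂, by rw [h]; exact h12⟩
        · exact ⟨i₁, h⟩)
    refine ⟨δ, fun i => ⟨μ i, hμirr i⟩, hδ, ?_, ?_⟩
    · intro i j hij
      exact hμinj (congrArg Subtype.val hij)
    · intro χ ξ
      exact hβ χ ξ

end Main

end Cfsg.Agent.Lib.Helper11
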