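import Cfsg.Agent.Lib.Helper11.FrobGen2
import Cfsg.Agent.Lib.Helper2.Column
import Cfsg.Agent.Lib.Helper2.Completeness
import Cfsg.Agent.Lib.Helper25.Kernel

/-!
# Non exceptional characters for a coherent TI Frobenius situation

In the context `FrobCtx0 H L τ₁` (TI subgroup `H` with Frobenius normaliser `L` and a coherent
isometry `τ₁`):

* `frob_exists_nonexceptional`: two non conjugate elements outside the conjugates of `H` are
  separated by an irreducible character orthogonal to all the `τ₁ χ`;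
* `frob_degree_of_orth`: an irreducible character orthogonal to all the `τ₁ χ` whose restriction
  to `L` has no constituent with `H` in its kernel has degree divisible by `|H| - 1`.
-/

set_option autoImplicit false

namespace Cfsg.Agent.Lib.Helper11

open Cfsg
open Cfsg.Agent.Lib.Helper2
open Cfsg.Agent.S1522
open scoped ComplexConjugate

section FrobNonExc

variable {G : Type*} [Group G] [Fintype G] (H L : Subgroup G) [Fintype L]

/-- Off the conjugates of `H`, the `τ₁ χ` are proportional to the degrees. -/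
theorem frob_tau_rel (τ₁ : (L → ℂ) → (G → ℂ)) (C : FrobCtx0 H L τ₁) {χ₁ : L → ℂ}
    (hχ₁ : χ₁ ∈ inducedIrrAbove (H.subgroupOf L) ⊥)
    (hχ₁deg : χ₁ 1 = ((H.subgroupOf L).index : ℂ)) {χ : L → ℂ}
    (hχ : χ ∈ inducedIrrAbove (H.subgroupOf L) ⊥) {g : G} (hg : g ∉ conjSet H) :
    τ₁ χ g = (χ 1 / ((H.subgroupOf L).index : ℂ)) * τ₁ χ₁ g := by
  obtain ⟨aχ, -, haχ⟩ := C.deg hχ
  obtain ⟨hmem, hcombo⟩ := C.combo hχ hχ₁ ((H.subgroupOf L).index * aχ) (H.subgroupOf L).index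
    haχ hχ₁deg
  have h2 := congrFun hcombo g
  rw [C.ind_supp hmem hg] at h2
  simp only [Pi.sub_apply, Pi.smul_apply, smul_eq_mul] at h2
  have he0 : ((H.subgroupOf L).index : ℂ) ≠ 0 := by
    exact_mod_cast (Subgroup.index_ne_zero_of_finite (H := H.subgroupOf L))
  rw [haχ]
  push_cast at h2 ⊢
  have h3 : ((H.subgroupOf L).index : ℂ) * (τ₁ χ g - (aχ : ℂ) * τ₁ χ₁ g) = 0 := by
    linear_combination h2
  have h4 := (mul_eq_zero.mp h3).resolve_left he0
  rw [mul_div_cancel_left₀ _ he0]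
  linear_combination h4

/-- The degrees of the members of `S` are natural multiples of the index. -/
theorem frob_coef_nat (τ₁ : (L → ℂ) → (G → ℂ)) (C : FrobCtx0 H L τ₁) {χ : L → ℂ}
    (hχ : χ ∈ inducedIrrAbove (H.subgroupOf L) ⊥) :
    ∃ n : ℕ, 0 < n ∧ χ 1 / ((H.subgroupOf L).index : ℂ) = (n : ℂ) := by
  obtain ⟨aχ, hpos, haχ⟩ := C.deg hχ
  refine ⟨aχ, hpos, ?_⟩
  have he0 : ((H.subgroupOf L).index : ℂ) ≠ 0 := by
    exact_mod_cast (Subgroup.index_ne_zero_of_finite (H := H.subgroupOf L))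
  rw [haχ]
  push_cast
  field_simp

set_option maxHeartbeats 1000000 in
/-- Two non conjugate elements off the conjugates of `H` are separated by an irreducible character
which is not exceptional. -/
theorem frob_exists_nonexceptional (hHL : H ≤ L) (hLH : ¬ L ≤ H) (hH1 : H ≠ ⊥)
    (hcent : ∀ h ∈ H, h ≠ 1 → ∀ x ∈ L, x * h = h * x → x ∈ H)
    (τ₁ : (L → ℂ) → (G → ℂ)) (C : FrobCtx0 H L τ₁)
    {y₁ y₂ : G} (hy₁ : y₁ ∉ conjSet H) (hy₂ : y₂ ∉ conjSet H)
    (hy₁1 : y₁ ≠ 1) (hy₂1 : y₂ ≠ 1) (hconj : ¬ IsConj y₁ y₂) :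
    ∃ X : G → ℂ, IsIrrCharacter G X ∧ X y₁ ≠ X y₂ ∧
      ∀ χ ∈ inducedIrrAbove (H.subgroupOf L) ⊥, classInner (τ₁ χ) X = 0 := by
  classical
  haveI := C.normal
  haveI : Fintype (IrrCharacter (H.subgroupOf L)) := Fintype.ofFinite _
  by_contra hcon
  push Not at hcon
  obtain ⟨χ₁, hχ₁, hχ₁deg⟩ := exists_degree_index H L hHL hLH hH1 hcent
  obtain ⟨e, he⟩ : ∃ e : ℂ, e = ((H.subgroupOf L).index : ℂ) := ⟨_, rfl⟩
  have he0 : e ≠ 0 := by
    rw [he]
    exact_mod_cast (Subgroup.index_ne_zero_of_finite (H := H.subgroupOf L))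
  have hrel : ∀ χ ∈ inducedIrrAbove (H.subgroupOf L) ⊥, ∀ g : G, g ∉ conjSet H →
      τ₁ χ g = (χ 1 / e) * τ₁ χ₁ g := by
    intro χ hχ g hg
    rw [he]
    exact frob_tau_rel H L τ₁ C hχ₁ hχ₁deg hχ hg
  have hnat : ∀ χ ∈ inducedIrrAbove (H.subgroupOf L) ⊥, ∃ n : ℕ, 0 < n ∧ χ 1 / e = (n : ℂ) := by
    intro χ hχ
    rw [he]
    exact frob_coef_nat H L τ₁ C hχ
  obtain ⟨D, hD⟩ : ∃ D : ℂ, D = τ₁ χ₁ y₁ - τ₁ χ₁ y₂ := ⟨_, rfl⟩
  have hx₁ : τ₁ χ₁ 1 ≠ 0 := (C.tau_signed hχ₁).apply_one_ne_zero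
  obtain ⟨n₁, hn₁⟩ : ∃ n : ℕ, n = Nat.card {x : G // IsConj y₁ x} := ⟨_, rfl⟩
  obtain ⟨n₂, hn₂⟩ : ∃ n : ℕ, n = Nat.card {x : G // IsConj y₂ x} := ⟨_, rfl⟩
  have hn₁0 : (n₁ : ℂ) ≠ 0 := by
    have : 0 < Nat.card {x : G // IsConj y₁ x} :=
      Nat.card_pos_iff.mpr ⟨⟨⟨y₁, IsConj.refl y₁⟩⟩, inferInstance⟩
    rw [hn₁]
    exact_mod_cast this.ne'
  have hn₂0 : (n₂ : ℂ) ≠ 0 := by
    have : 0 < Nat.card {x : G // IsConj y₂ x} :=
      Nat.card_pos_iff.mpr ⟨⟨⟨y₂, IsConj.refl y₂⟩⟩, inferInstance⟩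
    rw [hn₂]
    exact_mod_cast this.ne'
  have hG0 : (Nat.card G : ℂ) ≠ 0 := by
    have : 0 < Nat.card G := Nat.card_pos
    exact_mod_cast this.ne'
  obtain ⟨κ, hκ⟩ : ∃ κ : ℂ, κ = (Nat.card G : ℂ)⁻¹ * n₁ * n₂ := ⟨_, rfl⟩
  have hκ0 : κ ≠ 0 := by
    rw [hκ]
    exact mul_ne_zero (mul_ne_zero (inv_ne_zero hG0) hn₁0) hn₂0
  obtain ⟨f, hf⟩ : ∃ f : G → ℂ,
      f = (n₂ : ℂ) • classIndicator y₁ - (n₁ : ℂ) • classIndicator y₂ := ⟨_, rfl⟩
  have hfcf : IsClassFunction G f := by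
    rw [hf]
    exact isClassFunction_sub (isClassFunction_smul _ (classIndicator_isClassFunction _))
      (isClassFunction_smul _ (classIndicator_isClassFunction _))
  have hfin : ∀ χ : G → ℂ, IsClassFunction G χ →
      classInner f χ = κ * conj (χ y₁ - χ y₂) := by
    intro χ hχ
    rw [hf, classInner_sub_left, classInner_smul_left, classInner_smul_left,
      classInner_classIndicator y₁ χ hχ, classInner_classIndicator y₂ χ hχ, ← hn₁, ← hn₂,
      map_sub, hκ]
    ring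
  obtain ⟨Sfin, hSfin⟩ : ∃ S : Finset (L → ℂ), S = inducedFinset (H.subgroupOf L) ⊥ := ⟨_, rfl⟩
  have hSmem : ∀ χ, χ ∈ Sfin ↔ χ ∈ inducedIrrAbove (H.subgroupOf L) ⊥ := by
    intro χ
    rw [hSfin, ← coe_inducedFinset (H.subgroupOf L) ⊥, Finset.mem_coe]
  obtain ⟨Φ, hΦ⟩ : ∃ Φ : G → ℂ, Φ = ∑ χ ∈ Sfin, (χ 1 / e) • τ₁ χ := ⟨_, rfl⟩
  obtain ⟨W, hW⟩ : ∃ W : G → ℂ, W = f - (κ * conj D) • Φ := ⟨_, rfl⟩
  have hτcf : ∀ χ ∈ inducedIrrAbove (H.subgroupOf L) ⊥, IsClassFunction G (τ₁ χ) :=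
    fun χ hχ => IsGeneralizedCharacter.isClassFunction (C.tau_gen hχ)
  have hΦcf : IsClassFunction G Φ := by
    rw [hΦ]
    exact isClassFunction_sum _ _
      (fun χ hχ => isClassFunction_smul _ (hτcf χ ((hSmem χ).mp hχ)))
  have hWcf : IsClassFunction G W := by
    rw [hW]
    exact isClassFunction_sub hfcf (isClassFunction_smul _ hΦcf)
  have hΦin : ∀ X : G → ℂ,
      classInner Φ X = ∑ χ ∈ Sfin, (χ 1 / e) * classInner (τ₁ χ) X := by
    intro X
    rw [hΦ, classInner_sum_left]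
    apply Finset.sum_congr rfl
    intro χ _
    rw [classInner_smul_left]
  have hW0 : ∀ X : IrrCharacter G, classInner W (X : G → ℂ) = 0 := by
    intro X
    have hXcf : IsClassFunction G (X : G → ℂ) :=
      IsCharacter.isClassFunction (IsIrrCharacter.isCharacter X.2)
    rw [hW, classInner_sub_left, classInner_smul_left, hfin _ hXcf, hΦin]
    by_cases hex : ∃ χ₀ ∈ inducedIrrAbove (H.subgroupOf L) ⊥,
        classInner (τ₁ χ₀) (X : G → ℂ) ≠ 0
    · obtain ⟨χ₀, hχ₀, hne⟩ := hex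
      obtain ⟨ε, hε, hτε⟩ : ∃ ε : ℂ, (ε = 1 ∨ ε = -1) ∧ τ₁ χ₀ = ε • (X : G → ℂ) := by
        rcases (C.tau_signed hχ₀).inner_cases (Or.inl X.2 : IsSignedIrr (X : G → ℂ)) with
          ⟨h0, -, -⟩ | ⟨heq, -⟩ | ⟨heq, -⟩
        · exact absurd h0 hne
        · exact ⟨1, Or.inl rfl, by rw [heq, one_smul]⟩
        · exact ⟨-1, Or.inr rfl, by rw [heq, neg_one_smul]⟩
      have hXε : (X : G → ℂ) = ε • τ₁ χ₀ := by
        rw [hτε, smul_smul, sign_mul_self hε, one_smul]
      have hin : ∀ χ ∈ Sfin, (χ 1 / e) * classInner (τ₁ χ) (X : G → ℂ) =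
          if χ = χ₀ then (χ₀ 1 / e) * ε else 0 := by
        intro χ hχ
        rw [hXε, classInner_smul_right, conj_sign hε, C.tau_inner ((hSmem χ).mp hχ) hχ₀]
        by_cases h : χ = χ₀
        · rw [if_pos h, if_pos h, h, mul_one]
        · rw [if_neg h, if_neg h, mul_zero, mul_zero]
      rw [Finset.sum_congr rfl hin, Finset.sum_ite_eq' Sfin χ₀, if_pos ((hSmem χ₀).mpr hχ₀)]
      have hΔ : (X : G → ℂ) y₁ - (X : G → ℂ) y₂ = ε * ((χ₀ 1 / e) * D) := by
        have h1 := congrFun hXε y₁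
        have h2 := congrFun hXε y₂
        simp only [Pi.smul_apply, smul_eq_mul] at h1 h2
        rw [h1, h2, hrel χ₀ hχ₀ y₁ hy₁, hrel χ₀ hχ₀ y₂ hy₂, hD]
        ring
      obtain ⟨n₀, -, hn₀⟩ := hnat χ₀ hχ₀
      rw [hΔ, hn₀, map_mul, map_mul, conj_sign hε, Complex.conj_natCast]
      ring
    · push Not at hex
      have hX : (X : G → ℂ) y₁ = (X : G → ℂ) y₂ := by
        by_contra h
        obtain ⟨χ₀, hχ₀, hne⟩ := hcon X X.2 h
        exact hne (hex χ₀ hχ₀)
      rw [hX, sub_self, map_zero, mul_zero,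
        Finset.sum_eq_zero (fun χ hχ => by rw [hex χ ((hSmem χ).mp hχ), mul_zero]), mul_zero,
        sub_zero]
  have hWz : W = 0 := eq_zero_of_classInner_irr_eq_zero W hWcf hW0
  -- evaluation at `1`
  have hf1 : f 1 = 0 := by
    rw [hf]
    simp only [Pi.sub_apply, Pi.smul_apply, smul_eq_mul]
    have h1 : classIndicator y₁ (1 : G) = 0 := by
      unfold classIndicator
      rw [if_neg]
      intro h
      exact hy₁1 (isConj_one_left.mp h)
    have h2 : classIndicator y₂ (1 : G) = 0 := by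
      unfold classIndicator
      rw [if_neg]
      intro h
      exact hy₂1 (isConj_one_left.mp h)
    rw [h1, h2, mul_zero, mul_zero, sub_zero]
  have hΦ1 : Φ 1 = (τ₁ χ₁ 1) * ∑ χ ∈ Sfin, (χ 1 / e) ^ 2 := by
    rw [hΦ, Finset.sum_apply, Finset.mul_sum]
    apply Finset.sum_congr rfl
    intro χ hχ
    rw [Pi.smul_apply, smul_eq_mul, hrel χ ((hSmem χ).mp hχ) 1 (one_not_mem_conjSet H)]
    ring
  have hsum : ∑ χ ∈ Sfin, (χ 1 / e) ^ 2 ≠ 0 := by
    intro h0
    have hre := congrArg Complex.re h0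
    rw [Complex.re_sum, Complex.zero_re] at hre
    have hnn : ∀ χ ∈ Sfin, 0 ≤ ((χ 1 / e) ^ 2).re := by
      intro χ hχ
      obtain ⟨n, -, hn⟩ := hnat χ ((hSmem χ).mp hχ)
      rw [hn, ← Nat.cast_pow, Complex.natCast_re]
      positivity
    have hpos : 0 < ((χ₁ 1 / e) ^ 2).re := by
      rw [hχ₁deg, ← he, div_self he0]
      simp
    have hle := Finset.single_le_sum hnn ((hSmem χ₁).mpr hχ₁)
    linarith
  have hW1 := congrFun hWz 1
  rw [hW] at hW1
  simp only [Pi.sub_apply, Pi.smul_apply, smul_eq_mul, Pi.zero_apply] at hW1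
  rw [hf1, hΦ1, zero_sub, neg_eq_zero] at hW1
  have hD0 : D = 0 := by
    rcases mul_eq_zero.mp hW1 with h | h
    · rcases mul_eq_zero.mp h with h | h
      · exact absurd h hκ0
      · exact (map_eq_zero (starRingEnd ℂ)).mp h
    · rcases mul_eq_zero.mp h with h | h
      · exact absurd h hx₁
      · exact absurd h hsum
  have hfz : f = 0 := by
    have h1 : W = f := by rw [hW, hD0, map_zero, mul_zero, zero_smul, sub_zero]
    rw [← h1]
    exact hWz
  have hfy : f y₁ = (n₂ : ℂ) := by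
    rw [hf]
    simp only [Pi.sub_apply, Pi.smul_apply, smul_eq_mul]
    have h1 : classIndicator y₁ y₁ = 1 := by
      unfold classIndicator
      rw [if_pos (IsConj.refl y₁)]
    have h2 : classIndicator y₂ y₁ = 0 := by
      unfold classIndicator
      rw [if_neg]
      intro h
      exact hconj h.symm
    rw [h1, h2, mul_one, mul_zero, sub_zero]
  rw [hfz] at hfy
  exact hn₂0 hfy.symm

set_option maxHeartbeats 1000000 in
/-- An irreducible character of `G` orthogonal to the exceptional characters, whose restriction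
to `L` has no constituent with `H` in its kernel, has degree divisible by `|H| - 1`. -/
theorem frob_degree_of_orth (hHL : H ≤ L) (hLH : ¬ L ≤ H) (hH1 : H ≠ ⊥)
    (hcent : ∀ h ∈ H, h ≠ 1 → ∀ x ∈ L, x * h = h * x → x ∈ H)
    (τ₁ : (L → ℂ) → (G → ℂ)) (C : FrobCtx0 H L τ₁)
    {X : G → ℂ} (hX : IsIrrCharacter G X)
    (ha : ∀ χ ∈ inducedIrrAbove (H.subgroupOf L) ⊥, classInner (τ₁ χ) X = 0)
    (hb : ∀ φ : L → ℂ, IsIrrCharacter L φ → (∀ x : L, (x : G) ∈ H → φ x = φ 1) →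
      classInner (fun l : L => X l) φ = 0) :
    ∃ m : ℕ, X 1 = (m : ℂ) * ((Nat.card H : ℂ) - 1) := by
  classical
  haveI := C.normal
  haveI : Fintype (H.subgroupOf L) := Fintype.ofFinite _
  obtain ⟨χ₁, hχ₁, hχ₁deg⟩ := exists_degree_index H L hHL hLH hH1 hcent
  obtain ⟨e, he⟩ : ∃ e : ℂ, e = ((H.subgroupOf L).index : ℂ) := ⟨_, rfl⟩
  have he0 : e ≠ 0 := by
    rw [he]
    exact_mod_cast (Subgroup.index_ne_zero_of_finite (H := H.subgroupOf L))
  have hXcf : IsClassFunction G X := IsCharacter.isClassFunction (IsIrrCharacter.isCharacter hX)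
  obtain ⟨r, hr⟩ : ∃ r : L → ℂ, r = fun l : L => X l := ⟨_, rfl⟩
  have hrchar : IsCharacter L r := by
    rw [hr]
    exact IsCharacter.restrict (IsIrrCharacter.isCharacter hX) L
  have hrcf : IsClassFunction L r := IsCharacter.isClassFunction hrchar
  obtain ⟨m, hm⟩ := IsCharacter.inner_irr_nat hrchar ⟨χ₁, C.irr χ₁ hχ₁⟩
  have hm' : classInner r χ₁ = (m : ℂ) := hm
  have hS : ∀ χ ∈ inducedIrrAbove (H.subgroupOf L) ⊥, classInner r χ = (χ 1 / e) * m := by
    intro χ hχ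
    obtain ⟨aχ, -, haχ⟩ := C.deg hχ
    obtain ⟨hmem, hcombo⟩ := C.combo hχ hχ₁ ((H.subgroupOf L).index * aχ)
      (H.subgroupOf L).index haχ hχ₁deg
    have h1 : classInner X (indFun L ((((H.subgroupOf L).index : ℕ) : ℂ) • χ -
        (((H.subgroupOf L).index * aχ : ℕ) : ℂ) • χ₁)) = 0 := by
      rw [← hcombo, classInner_sub_right, classInner_smul_right, classInner_smul_right,
        ← classInner_conj_symm (τ₁ χ) X, ← classInner_conj_symm (τ₁ χ₁) X, ha χ hχ, ha χ₁ hχ₁]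
      simp
    rw [classInner_indFun_right L _ X hXcf, ← hr, classInner_sub_right, classInner_smul_right,
      classInner_smul_right, Complex.conj_natCast, Complex.conj_natCast, hm'] at h1
    have he0' : ((H.subgroupOf L).index : ℂ) ≠ 0 := by rw [← he]; exact he0
    rw [haχ, he]
    push_cast at h1 ⊢
    have h3 : ((H.subgroupOf L).index : ℂ) * (classInner r χ - (aχ : ℂ) * (m : ℂ)) = 0 := by
      linear_combination h1
    have h4 := (mul_eq_zero.mp h3).resolve_left he0'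
    rw [mul_div_cancel_left₀ _ he0']
    linear_combination h4
  obtain ⟨δ, hδ⟩ : ∃ δ : L → ℂ, δ = Set.indicator ({1} : Set L) (fun _ => (1 : ℂ)) := ⟨_, rfl⟩
  obtain ⟨ρ, hρ⟩ : ∃ ρ : L → ℂ, ρ = indFun (H.subgroupOf L) (fun _ => (1 : ℂ)) := ⟨_, rfl⟩
  have hδcf : IsClassFunction L δ := by
    rw [hδ]
    intro g h
    by_cases hg : g = 1
    · subst hg
      simp
    · have hne : h * g * h⁻¹ ≠ 1 := by
        intro h1
        apply hg
        have h2 : g = h⁻¹ * (h * g * h⁻¹) * h := by group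
        rw [h2, h1]
        group
      rw [Set.indicator_of_notMem (by simpa using hne), Set.indicator_of_notMem (by simpa using hg)]
  have hρcf : IsClassFunction L ρ := by
    rw [hρ]
    exact indFun_isClassFunction _ _
  have hK0 : (Nat.card (H.subgroupOf L) : ℂ) ≠ 0 := by
    have : 0 < Nat.card (H.subgroupOf L) := Nat.card_pos
    exact_mod_cast this.ne'
  have hL0 : (Nat.card L : ℂ) ≠ 0 := by
    have : 0 < Nat.card L := Nat.card_pos
    exact_mod_cast this.ne'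
  have hρin : ∀ φ : L → ℂ, IsIrrCharacter L φ →
      ((∀ x : L, (x : G) ∈ H → φ x = φ 1) → classInner ρ φ = conj (φ 1)) ∧
      ((¬ ∀ x : L, (x : G) ∈ H → φ x = φ 1) → classInner ρ φ = 0) := by
    intro φ hφ
    have hφcf := IsCharacter.isClassFunction (IsIrrCharacter.isCharacter hφ)
    have h0 : classInner ρ φ = (Nat.card (H.subgroupOf L) : ℂ)⁻¹ *
        ∑ k : H.subgroupOf L, conj (φ k) := by
      rw [hρ, frobenius_reciprocity (H.subgroupOf L) _ φ hφcf, classInner_def]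
      congr 1
      apply Finset.sum_congr rfl
      intro k _
      rw [one_mul]
    constructor
    · intro hker
      rw [h0, Finset.sum_congr rfl
        (fun k _ => by rw [hker k (Subgroup.mem_subgroupOf.mp k.2)])]
      rw [Finset.sum_const, Finset.card_univ, nsmul_eq_mul, ← Nat.card_eq_fintype_card,
        ← mul_assoc, inv_mul_cancel₀ hK0, one_mul]
    · intro hnker
      rcases Cfsg.Agent.Lib.Helper25.sum_normal_char hφ (H.subgroupOf L) with h | h
      · exfalso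
        apply hnker
        intro x hx
        exact h x (Subgroup.mem_subgroupOf.mpr hx)
      · have h1 := h 1
        simp only [one_mul] at h1
        rw [h0, ← map_sum, h1, map_zero, mul_zero]
  obtain ⟨Θ, hΘ⟩ : ∃ Θ : L → ℂ, Θ = (Nat.card L : ℂ) • δ - ρ := ⟨_, rfl⟩
  have hΘcf : IsClassFunction L Θ := by
    rw [hΘ]
    exact isClassFunction_sub (isClassFunction_smul _ hδcf) hρcf
  have hΘin : ∀ φ : L → ℂ, classInner Θ φ = conj (φ 1) - classInner ρ φ := by
    intro φ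
    rw [hΘ, classInner_sub_left, classInner_smul_left, hδ, classInner_single_one, ← mul_assoc,
      mul_inv_cancel₀ hL0, one_mul]
  have hzero : r - (m / e) • Θ = 0 := by
    apply eq_zero_of_classInner_irr_eq_zero _
      (isClassFunction_sub hrcf (isClassFunction_smul _ hΘcf))
    intro φ
    rw [classInner_sub_left, classInner_smul_left, hΘin]
    by_cases hker : ∀ x : L, (x : G) ∈ H → (φ : L → ℂ) x = (φ : L → ℂ) 1
    · rw [(hρin φ φ.2).1 hker, sub_self, mul_zero, sub_zero, hr]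
      exact hb φ φ.2 hker
    · rw [(hρin φ φ.2).2 hker, sub_zero]
      have hφS : (φ : L → ℂ) ∈ inducedIrrAbove (H.subgroupOf L) ⊥ := by
        rw [← irr_nontriv_eq_induced H L C.irr]
        push Not at hker
        obtain ⟨x, hx, hne⟩ := hker
        exact ⟨φ.2, x, hx, hne⟩
      rw [hS φ hφS]
      obtain ⟨n, -, hn⟩ := IsIrrCharacter.apply_one φ.2
      rw [hn, Complex.conj_natCast]
      field_simp
      ring
  have h1 := congrFun hzero 1
  simp only [Pi.sub_apply, Pi.smul_apply, smul_eq_mul, Pi.zero_apply] at h1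
  have hΘ1 : Θ 1 = e * ((Nat.card H : ℂ) - 1) := by
    rw [hΘ, hδ, hρ]
    simp only [Pi.sub_apply, Pi.smul_apply, smul_eq_mul]
    rw [Set.indicator_of_mem (Set.mem_singleton _), indFun_apply_one, C.card_L, mul_one, mul_one,
      he]
    push_cast
    ring
  refine ⟨m, ?_⟩
  have hr1 : r 1 = X 1 := by
    rw [hr]
    simp
  rw [← hr1]
  rw [hΘ1] at h1
  have h2 : r 1 = (m / e) * (e * ((Nat.card H : ℂ) - 1)) := sub_eq_zero.mp h1
  rw [h2]
  field_simp

end FrobNonExc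

end Cfsg.Agent.Lib.Helper11
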