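import Cfsg.Agent.Lib.Helper17.M22MultC
import Cfsg.Agent.Lib.Helper11.SchurJA

/-!
# S2101-[AR] (helper16's `G₂(3)` multiplier front): reduction to kernels of exponent dividing `18` (helper11)

If `|G| = 4245696 = 2^6 3^6 7 13` and every finite stem extension of `G` whose kernel has exponent dividing `18`
has a kernel of order dividing `3`, then every finite stem extension of `G` has a kernel of order at most `3`.
-/

set_option autoImplicit false

namespace Cfsg.Agent.Lib.Helper16.G23M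

open Cfsg

namespace H11AR

theorem sq_not_dvd {p : ℕ} (hp : p.Prime) (h2 : p ≠ 2) (h3 : p ≠ 3) : ¬ p ^ 2 ∣ 4245696 := by
  intro h
  have hd : p ∣ 4245696 := dvd_trans (dvd_pow_self p two_ne_zero) h
  have e : (4245696 : ℕ) = 2 ^ 6 * 3 ^ 6 * 7 * 13 := by norm_num
  rw [e] at hd
  rcases (Nat.Prime.dvd_mul hp).mp hd with hd | hd
  · rcases (Nat.Prime.dvd_mul hp).mp hd with hd | hd
    · rcases (Nat.Prime.dvd_mul hp).mp hd with hd | hd
      · exact h2 ((Nat.prime_dvd_prime_iff_eq hp Nat.prime_two).mp (hp.dvd_of_dvd_pow hd))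
      · exact h3 ((Nat.prime_dvd_prime_iff_eq hp Nat.prime_three).mp (hp.dvd_of_dvd_pow hd))
    · have h7 : p = 7 := (Nat.prime_dvd_prime_iff_eq hp (by norm_num)).mp hd
      subst h7
      norm_num at h
  · have h13 : p = 13 := (Nat.prime_dvd_prime_iff_eq hp (by norm_num)).mp hd
    subst h13
    norm_num at h

/-- finite abelian arithmetic: a group whose order has no prime divisor `≥ 5` and whose `18`-torsion subgroup
has order dividing `3` has order at most `3` -/
theorem card_le_three {A : Type*} [Group A] [Finite A] (hcomm : ∀ a b : A, a * b = b * a)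
    (hp : ∀ p : ℕ, p.Prime → p ∣ Nat.card A → p = 2 ∨ p = 3)
    (h18 : Nat.card {a : A // a ^ 18 = 1} ∣ 3) : Nat.card A ≤ 3 := by
  classical
  haveI : Fact (Nat.Prime 2) := ⟨Nat.prime_two⟩
  haveI : Fact (Nat.Prime 3) := ⟨Nat.prime_three⟩
  have hn0 : Nat.card A ≠ 0 := Nat.card_pos.ne'
  have hKc : Nat.card (Cfsg.Agent.Lib.Helper6.M22Mult.Helper17.powHom hcomm 18).ker =
      Nat.card {a : A // a ^ 18 = 1} :=
    Nat.card_congr (Equiv.subtypeEquivRight (fun a => by rw [MonoidHom.mem_ker]; rfl))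
  have hK : Nat.card (Cfsg.Agent.Lib.Helper6.M22Mult.Helper17.powHom hcomm 18).ker ∣ 3 := by
    rw [hKc]; exact h18
  have hmem : ∀ a : A, a ^ 18 = 1 →
      a ∈ (Cfsg.Agent.Lib.Helper6.M22Mult.Helper17.powHom hcomm 18).ker := fun a ha => by
    rw [MonoidHom.mem_ker]; exact ha
  -- no involution
  have h2 : ¬ 2 ∣ Nat.card A := by
    intro hd
    obtain ⟨t, ht⟩ := exists_prime_orderOf_dvd_card' 2 hd
    have ht18 : t ^ 18 = 1 := by
      have : t ^ 2 = 1 := by rw [← ht]; exact pow_orderOf_eq_one t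
      calc t ^ 18 = (t ^ 2) ^ 9 := by rw [← pow_mul]
        _ = 1 := by rw [this, one_pow]
    have h1 := Subgroup.orderOf_dvd_natCard _ (hmem t ht18)
    rw [ht] at h1
    have := dvd_trans h1 hK
    norm_num at this
  -- `9 ∤ |A|`
  have h9 : ¬ 3 ^ 2 ∣ Nat.card A := by
    intro hd
    obtain ⟨H, hH⟩ := Sylow.exists_subgroup_card_pow_prime 3 hd
    have hle : H ≤ (Cfsg.Agent.Lib.Helper6.M22Mult.Helper17.powHom hcomm 18).ker := by
      intro a ha
      apply hmem
      have h1 : (⟨a, ha⟩ : H) ^ Nat.card H = 1 := pow_card_eq_one'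
      have h2 : a ^ Nat.card H = 1 := by
        have := congrArg Subtype.val h1
        rw [Subgroup.coe_pow, Subgroup.coe_one] at this
        exact this
      rw [hH] at h2
      calc a ^ 18 = (a ^ 3 ^ 2) ^ 2 := by rw [← pow_mul]; norm_num
        _ = 1 := by rw [h2, one_pow]
    have h1 := Subgroup.card_dvd_of_le hle
    rw [hH] at h1
    have := dvd_trans h1 hK
    norm_num at this
  -- the order is a power of `3`
  have hpow := Nat.eq_prime_pow_of_unique_prime_dvd (p := 3) hn0 (fun {d} hd hdn => by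
    rcases hp d hd hdn with rfl | rfl
    · exact absurd hdn h2
    · rfl)
  set k := (Nat.card A).primeFactorsList.length with hk
  have hk1 : k ≤ 1 := by
    by_contra hcon
    have hcon' : 2 ≤ k := Nat.lt_of_not_le hcon
    apply h9
    rw [hpow]
    exact pow_dvd_pow 3 hcon'
  rw [hpow]
  calc 3 ^ k ≤ 3 ^ 1 := Nat.pow_le_pow_right (by norm_num) hk1
    _ = 3 := by norm_num

end H11AR

/-- **[AR]** reduction to kernels of exponent dividing `18` -/
theorem card_ker_le_three_of_pow18 {Γ G : Type} [Group Γ] [Finite Γ] [Group G] (σ : Γ →* G)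
    (hσ : IsStemExtension σ) (hG : Nat.card G = 4245696)
    (hB : ∀ (Δ : Type) [Group Δ] [Finite Δ] (τ : Δ →* G), IsStemExtension τ →
      (∀ y ∈ τ.ker, y ^ 18 = 1) → Nat.card τ.ker ∣ 3) : Nat.card σ.ker ≤ 3 := by
  classical
  haveI : Finite G := Nat.finite_of_card_ne_zero (by rw [hG]; norm_num)
  have hcomm : ∀ a b : σ.ker, a * b = b * a := by
    intro a b
    apply Subtype.ext
    exact Subgroup.mem_center_iff.mp (hσ.2.1 b.2) a
  obtain ⟨Δ, iG, iF, τ, hτ, hexp, hcardτ⟩ :=
    Cfsg.Agent.Lib.Helper6.M22Mult.Helper17.pow_quot σ hσ 18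
  have h18 : Nat.card {a : σ.ker // a ^ 18 = 1} ∣ 3 := by
    rw [← hcardτ]
    exact hB Δ τ hτ hexp
  refine H11AR.card_le_three hcomm ?_ h18
  intro p hp hpd
  by_contra hcon
  rw [not_or] at hcon
  haveI : Fact p.Prime := ⟨hp⟩
  refine Cfsg.Agent.Lib.Helper11.SchurJ.not_dvd_of_sq_not_dvd σ hσ p ?_ hpd
  rw [hG]
  exact H11AR.sq_not_dvd hp hcon.1 hcon.2

end Cfsg.Agent.Lib.Helper16.G23M
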