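import Mathlib

/-!
A combinatorial lemma on "additive" matrices `a i j` (satisfying
`a i j + a i' j' = a i j' + a i' j`) with few nonzero entries: the nonzero entries form a
single constant row or a single constant column.
-/

set_option autoImplicit false

namespace Cfsg.Agent.Lib.Helper11

open Finset

theorem grid_few_nonzero {I J : Type*} [Fintype I] [Fintype J] [DecidableEq I] [DecidableEq J]
    (a : I → J → ℂ) (hrel : ∀ i i' j j', a i j + a i' j' = a i j' + a i' j)
    (w : ℕ) (hI : w ≤ Fintype.card I) (hJ : w + 2 ≤ Fintype.card J)
    (hfew : (univ.filter (fun p : I × J => a p.1 p.2 ≠ 0)).card < 2 * w) :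
    (∀ i j, a i j = 0) ∨ (∃ j₀ c, ∀ i j, a i j = if j = j₀ then c else 0) ∨
      (∃ i₀ c, ∀ i j, a i j = if i = i₀ then c else 0) := by
  classical
  set Z := univ.filter (fun p : I × J => a p.1 p.2 ≠ 0) with hZdef
  have hZ : Z.card = ∑ i, (univ.filter (fun j => a i j ≠ 0)).card := by
    simp only [hZdef, Finset.card_filter]
    rw [Fintype.sum_prod_type]
  -- Step 1: a row with at most one nonzero entry
  have hrow : ∃ i₁, (univ.filter (fun j => a i₁ j ≠ 0)).card ≤ 1 := by
    by_contra h
    have h' : ∀ i, 2 ≤ (univ.filter (fun j => a i j ≠ 0)).card := by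
      intro i
      by_contra hi
      exact h ⟨i, by omega⟩
    have : 2 * Fintype.card I ≤ Z.card := by
      rw [hZ]
      calc 2 * Fintype.card I = ∑ _i : I, 2 := by simp [mul_comm]
        _ ≤ _ := Finset.sum_le_sum (fun i _ => h' i)
    omega
  obtain ⟨i₁, hi₁⟩ := hrow
  have hcol : ∀ j j', a i₁ j = 0 → a i₁ j' = 0 → ∀ i, a i j = a i j' := by
    intro j j' h0 h0' i
    have := hrel i i₁ j j'
    rw [h0, h0', add_zero, add_zero] at this
    exact this
  have hJpos : 2 ≤ Fintype.card J := by omega
  rcases Nat.eq_zero_or_pos (univ.filter (fun j => a i₁ j ≠ 0)).card with h0 | hpos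
  · -- the row `i₁` vanishes: all columns coincide
    have hrow0 : ∀ j, a i₁ j = 0 := by
      intro j
      by_contra hne
      have : j ∈ univ.filter (fun j => a i₁ j ≠ 0) := by simp [hne]
      rw [Finset.card_eq_zero.1 h0] at this
      simp at this
    have hJne : Nonempty J := by
      rw [← Fintype.card_pos_iff]; omega
    obtain ⟨js⟩ := hJne
    set κ : I → ℂ := fun i => a i js with hκ
    have hall : ∀ i j, a i j = κ i := fun i j => hcol j js (hrow0 j) (hrow0 js) i
    set T := univ.filter (fun i => κ i ≠ 0) with hT
    have hsub : T ×ˢ (univ : Finset J) ⊆ Z := by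
      intro p hp
      rw [Finset.mem_product] at hp
      simp only [hZdef, Finset.mem_filter, Finset.mem_univ, true_and]
      rw [hall]
      simpa [hT] using hp.1
    have hcard : T.card * Fintype.card J ≤ Z.card := by
      have := Finset.card_le_card hsub
      rwa [Finset.card_product, Finset.card_univ] at this
    have hT1 : T.card ≤ 1 := by
      by_contra hgt
      have : 2 * Fintype.card J ≤ T.card * Fintype.card J := Nat.mul_le_mul_right _ (by omega)
      omega
    rcases Nat.eq_zero_or_pos T.card with hT0 | hTpos
    · left
      intro i j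
      rw [hall]
      by_contra hne
      have : i ∈ T := by simp [hT, hne]
      rw [Finset.card_eq_zero.1 hT0] at this
      simp at this
    · right; right
      have hT1' : T.card = 1 := by omega
      obtain ⟨i₀, hi₀⟩ := Finset.card_eq_one.1 hT1'
      refine ⟨i₀, κ i₀, fun i j => ?_⟩
      rw [hall]
      split_ifs with h
      · rw [h]
      · by_contra hne
        have : i ∈ T := by simp [hT, hne]
        rw [hi₀, Finset.mem_singleton] at this
        exact h this
  · -- exactly one nonzero entry in row `i₁`
    have h1 : (univ.filter (fun j => a i₁ j ≠ 0)).card = 1 := by omega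
    obtain ⟨j₀, hj₀⟩ := Finset.card_eq_one.1 h1
    have hj₀ne : a i₁ j₀ ≠ 0 := by
      have : j₀ ∈ univ.filter (fun j => a i₁ j ≠ 0) := by rw [hj₀]; simp
      simpa using this
    have hrow0 : ∀ j, j ≠ j₀ → a i₁ j = 0 := by
      intro j hj
      by_contra hne
      have : j ∈ univ.filter (fun j => a i₁ j ≠ 0) := by simp [hne]
      rw [hj₀, Finset.mem_singleton] at this
      exact hj this
    have hex : ∃ js, js ≠ j₀ := by
      by_contra hno
      have hall : ∀ j : J, j = j₀ := by
        intro j
        by_contra hj
        exact hno ⟨j, hj⟩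
      have : Fintype.card J ≤ 1 := Fintype.card_le_one_iff.2 (fun x y => by rw [hall x, hall y])
      omega
    obtain ⟨js, hjs⟩ := hex
    set c := a i₁ j₀ with hc
    set κ : I → ℂ := fun i => a i js with hκ
    have hall : ∀ i j, j ≠ j₀ → a i j = κ i :=
      fun i j hj => hcol j js (hrow0 j hj) (hrow0 js hjs) i
    have hcolj₀ : ∀ i, a i j₀ = κ i + c := by
      intro i
      have := hrel i i₁ j₀ js
      rw [hrow0 js hjs, add_zero] at this
      exact this
    set T := univ.filter (fun i => κ i ≠ 0) with hT
    rcases Nat.eq_zero_or_pos T.card with hT0 | hTpos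
    · right; left
      have hκ0 : ∀ i, κ i = 0 := by
        intro i
        by_contra hne
        have : i ∈ T := by simp [hT, hne]
        rw [Finset.card_eq_zero.1 hT0] at this
        simp at this
      refine ⟨j₀, c, fun i j => ?_⟩
      split_ifs with h
      · rw [h, hcolj₀, hκ0, zero_add]
      · rw [hall i j h, hκ0]
    · exfalso
      have hsub : (T ×ˢ (univ.erase j₀)) ∪ (Tᶜ ×ˢ ({j₀} : Finset J)) ⊆ Z := by
        intro p hp
        simp only [hZdef, Finset.mem_filter, Finset.mem_univ, true_and]
        rcases Finset.mem_union.1 hp with hp | hp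
        · rw [Finset.mem_product] at hp
          have hj : p.2 ≠ j₀ := (Finset.mem_erase.1 hp.2).1
          rw [hall p.1 p.2 hj]
          simpa [hT] using hp.1
        · rw [Finset.mem_product] at hp
          have hj : p.2 = j₀ := Finset.mem_singleton.1 hp.2
          have hκ0 : κ p.1 = 0 := by
            have := hp.1
            simpa [hT] using this
          rw [hj, hcolj₀, hκ0, zero_add]
          exact hj₀ne
      have hdisj : Disjoint (T ×ˢ (univ.erase j₀)) (Tᶜ ×ˢ ({j₀} : Finset J)) := by
        rw [Finset.disjoint_left]
        intro p hp hp'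
        rw [Finset.mem_product] at hp hp'
        exact (Finset.mem_erase.1 hp.2).1 (Finset.mem_singleton.1 hp'.2)
      have hcard := Finset.card_le_card hsub
      rw [Finset.card_union_of_disjoint hdisj, Finset.card_product, Finset.card_product,
        Finset.card_erase_of_mem (Finset.mem_univ _), Finset.card_univ, Finset.card_singleton,
        Finset.card_compl, mul_one] at hcard
      have hTle : T.card ≤ Fintype.card I := Finset.card_le_univ T
      obtain ⟨k, hk⟩ : ∃ k, Fintype.card J = k + 2 := ⟨Fintype.card J - 2, by omega⟩
      rw [hk] at hcard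
      have h3 : T.card * (k + 2 - 1) = T.card * k + T.card := by
        have : k + 2 - 1 = k + 1 := by omega
        rw [this]; ring
      have h4 : k ≤ T.card * k := Nat.le_mul_of_pos_left k hTpos
      omega

end Cfsg.Agent.Lib.Helper11
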