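import Mathlib
import Cfsg.Prelude.Def_KGroupFacts

/-!
# S2046 piece [Q4] (helper11 for helper18): from a stem extension with 2-group kernel of order > 2
to one with kernel of order exactly 4
-/

set_option autoImplicit false

namespace Cfsg.Agent.Lib.Helper18.HSMult

universe u v

namespace Helper11

theorem card_eq_mul_ker {Γ : Type u} {G : Type v} [Group Γ] [Group G] (σ : Γ →* G)
    (hs : Function.Surjective σ) : Nat.card Γ = Nat.card G * Nat.card σ.ker := by
  rw [Subgroup.card_eq_card_quotient_mul_card_subgroup σ.ker]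
  congr 1
  exact Nat.card_congr (QuotientGroup.quotientKerEquivOfSurjective σ hs).toEquiv

/-- dividing a finite stem extension by a subgroup of its kernel -/
theorem stem_quotient {Γ : Type u} {G : Type v} [Group Γ] [Finite Γ] [Group G] (σ : Γ →* G)
    (hσ : Cfsg.IsStemExtension σ) (N0 : Subgroup σ.ker) :
    ∃ (Γ' : Type u) (_ : Group Γ') (_ : Finite Γ') (σ' : Γ' →* G), Cfsg.IsStemExtension σ' ∧
      Nat.card σ'.ker * Nat.card N0 = Nat.card σ.ker := by
  obtain ⟨hs, hc, hcomm⟩ := hσ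
  haveI : Finite G := Finite.of_surjective σ hs
  let N : Subgroup Γ := N0.map σ.ker.subtype
  have hNle : N ≤ σ.ker := Subgroup.map_subtype_le N0
  have hNn : N.Normal := by
    refine ⟨fun n hn g => ?_⟩
    have h1 := Subgroup.mem_center_iff.mp (hc (hNle hn)) g
    rw [h1, mul_inv_cancel_right]
    exact hn
  have hNcard : Nat.card N = Nat.card N0 :=
    Subgroup.card_map_of_injective (Subgroup.subtype_injective _)
  let τ : Γ ⧸ N →* G := QuotientGroup.lift N σ (fun x hx => hNle hx)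
  have hτ : ∀ x : Γ, τ (QuotientGroup.mk x) = σ x := fun x => rfl
  have hτs : Function.Surjective τ := fun g => by
    obtain ⟨x, rfl⟩ := hs g
    exact ⟨QuotientGroup.mk x, rfl⟩
  have hcardτ : Nat.card τ.ker * Nat.card N0 = Nat.card σ.ker := by
    have e1 := card_eq_mul_ker σ hs
    have e2 := card_eq_mul_ker τ hτs
    have e3 := Subgroup.card_eq_card_quotient_mul_card_subgroup N
    rw [e2, e1, hNcard] at e3
    have hG : 0 < Nat.card G := Nat.card_pos
    have e4 : Nat.card G * (Nat.card τ.ker * Nat.card N0) = Nat.card G * Nat.card σ.ker := by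
      rw [e3]; ring
    exact Nat.eq_of_mul_eq_mul_left hG e4
  refine ⟨Γ ⧸ N, inferInstance, inferInstance, τ, ⟨hτs, ?_, ?_⟩, hcardτ⟩
  · intro z hz
    obtain ⟨x, rfl⟩ := QuotientGroup.mk_surjective z
    have hx : x ∈ σ.ker := by
      rw [MonoidHom.mem_ker] at hz ⊢
      rw [← hτ x]; exact hz
    rw [Subgroup.mem_center_iff]
    intro w
    obtain ⟨y, rfl⟩ := QuotientGroup.mk_surjective w
    have h1 := Subgroup.mem_center_iff.mp (hc hx) y
    rw [← QuotientGroup.mk_mul, ← QuotientGroup.mk_mul, h1]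
  · intro z hz
    obtain ⟨x, rfl⟩ := QuotientGroup.mk_surjective z
    have hx : x ∈ σ.ker := by
      rw [MonoidHom.mem_ker] at hz ⊢
      rw [← hτ x]; exact hz
    have hxc : x ∈ commutator Γ := hcomm hx
    rw [commutator_def] at hxc ⊢
    have h2 : (QuotientGroup.mk' N) x ∈ Subgroup.map (QuotientGroup.mk' N) ⁅(⊤ : Subgroup Γ), ⊤⁆ :=
      Subgroup.mem_map_of_mem _ hxc
    rw [Subgroup.map_commutator] at h2
    exact Subgroup.commutator_mono le_top le_top h2

end Helper11

/-- [Q4] -/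
theorem exists_stem_card_ker_four {Γ : Type u} {G : Type v} [Group Γ] [Finite Γ] [Group G]
    (σ : Γ →* G) (hσ : Cfsg.IsStemExtension σ) (h2 : IsPGroup 2 σ.ker)
    (h : 2 < Nat.card σ.ker) :
    ∃ (Γ' : Type u) (_ : Group Γ') (_ : Finite Γ') (σ' : Γ' →* G),
      Cfsg.IsStemExtension σ' ∧ Nat.card σ'.ker = 4 := by
  haveI : Fact (Nat.Prime 2) := ⟨Nat.prime_two⟩
  obtain ⟨k, hk⟩ := (IsPGroup.iff_card).mp h2
  have hk2 : 2 ≤ k := by
    by_contra hlt
    rw [not_le] at hlt
    interval_cases k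
    · rw [hk] at h; norm_num at h
    · rw [hk] at h; norm_num at h
  obtain ⟨N0, hN0⟩ := Sylow.exists_subgroup_card_pow_prime (G := σ.ker) 2 (n := k - 2)
    (by rw [hk]; exact pow_dvd_pow 2 (Nat.sub_le k 2))
  obtain ⟨Γ', i1, i2, σ', hσ', hc⟩ := Helper11.stem_quotient σ hσ N0
  refine ⟨Γ', i1, i2, σ', hσ', ?_⟩
  rw [hN0, hk] at hc
  have e : (2 : ℕ) ^ k = 4 * 2 ^ (k - 2) := by
    have : k = 2 + (k - 2) := by omega
    conv_lhs => rw [this, pow_add]
    norm_num
  rw [e] at hc
  exact Nat.eq_of_mul_eq_mul_right (by positivity) hc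

end Cfsg.Agent.Lib.Helper18.HSMult
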