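import Mathlib

/-!
# S2134 piece [G2] (helper11 for helper22): double counting of conjugates fixing a point
-/

set_option autoImplicit false

namespace Cfsg.Agent.Lib.Helper22.HeCent

namespace Helper11

open Classical in
/-- the number of fixed points is a class function -/
theorem card_fix_conj {G : Type*} [Group G] {n : ℕ} (φ : G →* Equiv.Perm (Fin n)) (z g : G) :
    (Finset.univ.filter fun k : Fin n => φ (g * z * g⁻¹) k = k).card =
      (Finset.univ.filter fun k : Fin n => φ z k = k).card := by
  symm
  apply Finset.card_bij (fun j _ => φ g j)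
  · intro j hj
    simp only [Finset.mem_filter, Finset.mem_univ, true_and] at hj ⊢
    simp only [map_mul, map_inv, Equiv.Perm.mul_apply, Equiv.Perm.coe_inv,
      Equiv.symm_apply_apply, hj]
  · intro j _ j' _ h
    exact (φ g).injective h
  · intro k hk
    simp only [Finset.mem_filter, Finset.mem_univ, true_and] at hk ⊢
    refine ⟨(φ g)⁻¹ k, ?_, by simp⟩
    simp only [map_mul, map_inv, Equiv.Perm.mul_apply] at hk
    have := congrArg (fun t => (φ g)⁻¹ t) hk
    simpa using this

open Classical in
/-- the number of `g` with `g z g⁻¹` fixing `k` does not depend on `k` (transitive action) -/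
theorem card_conj_fix_eq {G : Type*} [Group G] [Fintype G] {n : ℕ} (φ : G →* Equiv.Perm (Fin n))
    (z h : G) (p0 k : Fin n) (hk : φ h p0 = k) :
    (Finset.univ.filter fun g : G => φ (g * z * g⁻¹) k = k).card =
      (Finset.univ.filter fun g : G => φ (g * z * g⁻¹) p0 = p0).card := by
  symm
  apply Finset.card_bij (fun g _ => h * g)
  · intro g hg
    simp only [Finset.mem_filter, Finset.mem_univ, true_and] at hg ⊢
    have e : h * g * z * (h * g)⁻¹ = h * (g * z * g⁻¹) * h⁻¹ := by group
    rw [e, map_mul, map_mul, Equiv.Perm.mul_apply, Equiv.Perm.mul_apply, ← hk, map_inv,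
      Equiv.Perm.coe_inv, Equiv.symm_apply_apply, hg]
  · intro g _ g' _ e
    exact mul_left_cancel e
  · intro g' hg'
    simp only [Finset.mem_filter, Finset.mem_univ, true_and] at hg' ⊢
    refine ⟨h⁻¹ * g', ?_, by group⟩
    have e : g' * z * g'⁻¹ = h * (h⁻¹ * g' * z * (h⁻¹ * g')⁻¹) * h⁻¹ := by group
    rw [e, map_mul, map_mul, Equiv.Perm.mul_apply, Equiv.Perm.mul_apply, ← hk, map_inv,
      Equiv.Perm.coe_inv, Equiv.symm_apply_apply] at hg'
    exact (φ h).injective hg'

end Helper11

/-- [G2] counting the conjugates of `z` that fix a point. -/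
theorem card_centralizer_mul_le {G : Type*} [Group G] [Finite G] {n : ℕ}
    (φ : G →* Equiv.Perm (Fin n)) (p0 : Fin n) (htrans : ∀ y : Fin n, ∃ g : G, φ g p0 = y)
    (z : G) (f : ℕ) (hf : (Finset.univ.filter fun k : Fin n => φ z k = k).card ≤ f)
    (S : Finset G) (hS : ∀ c ∈ S, (∃ g : G, c = g * z * g⁻¹) ∧ φ c p0 = p0) :
    Nat.card ↥(Subgroup.centralizer ({z} : Set G)) * (n * S.card) ≤ Nat.card G * f := by
  classical
  haveI : Fintype G := Fintype.ofFinite G
  set C := Subgroup.centralizer ({z} : Set G) with hC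
  set A := (Finset.univ.filter fun g : G => φ (g * z * g⁻¹) p0 = p0) with hA
  -- Step 4 : |C| * |S| ≤ |A|
  have h4 : Nat.card C * S.card ≤ A.card := by
    choose! gc hgc using fun c hc => (hS c hc).1
    rw [Nat.card_eq_fintype_card, ← Finset.card_univ, ← Finset.card_product]
    apply Finset.card_le_card_of_injOn (fun p : C × G => gc p.2 * p.1.1)
    · rintro ⟨x, c⟩ hp
      have hc : c ∈ S := (Finset.mem_product.mp (Finset.mem_coe.mp hp)).2
      have hx : x.1 * z = z * x.1 := by
        exact (Subgroup.mem_centralizer_iff.mp x.2 z (Set.mem_singleton z)).symm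
      have e : gc c * x.1 * z * (gc c * x.1)⁻¹ = c := by
        have : gc c * x.1 * z * (gc c * x.1)⁻¹ = gc c * (x.1 * z * x.1⁻¹) * (gc c)⁻¹ := by group
        rw [this, hx, mul_inv_cancel_right, ← hgc c hc]
      have hmem : gc c * x.1 ∈ A := by
        rw [hA, Finset.mem_filter]
        refine ⟨Finset.mem_univ _, ?_⟩
        rw [e]
        exact (hS c hc).2
      exact Finset.mem_coe.mpr hmem
    · rintro ⟨x, c⟩ hp ⟨x', c'⟩ hp' e
      have hc : c ∈ S := (Finset.mem_product.mp (Finset.mem_coe.mp hp)).2
      have hc' : c' ∈ S := (Finset.mem_product.mp (Finset.mem_coe.mp hp')).2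
      simp only at e
      have hx : x.1 * z = z * x.1 := by
        exact (Subgroup.mem_centralizer_iff.mp x.2 z (Set.mem_singleton z)).symm
      have hx' : x'.1 * z = z * x'.1 := by
        exact (Subgroup.mem_centralizer_iff.mp x'.2 z (Set.mem_singleton z)).symm
      have e1 : gc c * x.1 * z * (gc c * x.1)⁻¹ = c := by
        have : gc c * x.1 * z * (gc c * x.1)⁻¹ = gc c * (x.1 * z * x.1⁻¹) * (gc c)⁻¹ := by group
        rw [this, hx, mul_inv_cancel_right, ← hgc c hc]
      have e2 : gc c' * x'.1 * z * (gc c' * x'.1)⁻¹ = c' := by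
        have : gc c' * x'.1 * z * (gc c' * x'.1)⁻¹ = gc c' * (x'.1 * z * x'.1⁻¹) * (gc c')⁻¹ := by
          group
        rw [this, hx', mul_inv_cancel_right, ← hgc c' hc']
      have hcc : c = c' := by rw [← e1, ← e2, e]
      subst hcc
      have : x.1 = x'.1 := mul_left_cancel e
      exact Prod.ext (Subtype.ext this) rfl
  -- double counting
  have h5 : ∑ k : Fin n, (Finset.univ.filter fun g : G => φ (g * z * g⁻¹) k = k).card
      = ∑ g : G, (Finset.univ.filter fun k : Fin n => φ (g * z * g⁻¹) k = k).card := by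
    simp only [Finset.card_filter]
    exact Finset.sum_comm
  have h6 : ∑ k : Fin n, (Finset.univ.filter fun g : G => φ (g * z * g⁻¹) k = k).card
      = n * A.card := by
    have : ∀ k ∈ (Finset.univ : Finset (Fin n)),
        (Finset.univ.filter fun g : G => φ (g * z * g⁻¹) k = k).card = A.card := by
      intro k _
      obtain ⟨h, hk⟩ := htrans k
      exact Helper11.card_conj_fix_eq φ z h p0 k hk
    rw [Finset.sum_congr rfl this, Finset.sum_const, Finset.card_univ, Fintype.card_fin,
      smul_eq_mul]
  have h7 : ∑ g : G, (Finset.univ.filter fun k : Fin n => φ (g * z * g⁻¹) k = k).card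
      = Nat.card G * (Finset.univ.filter fun k : Fin n => φ z k = k).card := by
    have : ∀ g ∈ (Finset.univ : Finset G),
        (Finset.univ.filter fun k : Fin n => φ (g * z * g⁻¹) k = k).card =
          (Finset.univ.filter fun k : Fin n => φ z k = k).card := by
      intro g _
      convert Helper11.card_fix_conj φ z g
    rw [Finset.sum_congr rfl this, Finset.sum_const, Finset.card_univ, smul_eq_mul,
      Nat.card_eq_fintype_card]
  calc Nat.card C * (n * S.card) = n * (Nat.card C * S.card) := by ring
    _ ≤ n * A.card := Nat.mul_le_mul_left _ h4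
    _ = Nat.card G * (Finset.univ.filter fun k : Fin n => φ z k = k).card := by
        rw [← h6, h5, h7]
    _ ≤ Nat.card G * f := Nat.mul_le_mul_left _ hf

end Cfsg.Agent.Lib.Helper22.HeCent
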