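import Cfsg.Agent.Lib.Helper16.HoloCheckG

/-!
# S2101-[HG] (helper16's G2(3) multiplier front): soundness of the generalised holonomy certificate checker

Port (helper11) of helper17's proof of helper18's [W2] (`Cfsg.Agent.Lib.Helper17.HoloSound`) to the
generalised checker `Cfsg.Agent.Lib.Helper16.HoloCheckG`: `4, 6, 7, 2` become `C.M, C.nl, C.nl + 1, C.N`.
-/

set_option autoImplicit false

namespace Cfsg.Agent.Lib.Helper16.HoloG

open Cfsg.Agent.Lib.Helper18.Holo

namespace H11

variable {A : Type*} [CommGroup A]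

/-! ### semantics of forms -/

theorem sem_nil (S : List A) : sem S [] = 1 := by
  cases S <;> rfl

theorem sem_nil_left (f : List ℕ) : sem ([] : List A) f = 1 := rfl

theorem sem_cons (s : A) (S : List A) (e : ℕ) (f : List ℕ) :
    sem (s :: S) (e :: f) = s ^ e * sem S f := rfl

theorem sem_vadd (S : List A) (f g : List ℕ) : sem S (vadd f g) = sem S f * sem S g := by
  induction S generalizing f g with
  | nil => simp [sem_nil_left]
  | cons s S ih =>
    cases f with
    | nil => simp [vadd, sem_nil]
    | cons a f =>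
      cases g with
      | nil => simp [vadd, sem_nil]
      | cons b g =>
        simp only [vadd, sem_cons, ih, pow_add]
        exact mul_mul_mul_comm _ _ _ _

theorem sem_vsmul (S : List A) (k : ℕ) (f : List ℕ) : sem S (vsmul k f) = sem S f ^ k := by
  induction S generalizing f with
  | nil => simp [sem_nil_left]
  | cons s S ih =>
    cases f with
    | nil => simp [vsmul, sem_nil]
    | cons a f =>
      have := ih f
      unfold vsmul at this ⊢
      simp only [List.map_cons, sem_cons, this, mul_pow, ← pow_mul]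
      rw [Nat.mul_comm]

theorem sem_vneg {M : ℕ} (hM : ∀ a : A, a ^ M = 1) (hM0 : 0 < M) (S : List A) (f : List ℕ) :
    sem S (vneg M f) = (sem S f)⁻¹ := by
  unfold vneg
  rw [sem_vsmul, eq_inv_iff_mul_eq_one, ← pow_succ, Nat.sub_add_cancel hM0]
  exact hM _

theorem pow_mod_M {M : ℕ} (hM : ∀ a : A, a ^ M = 1) (s : A) (a : ℕ) : s ^ a = s ^ (a % M) := by
  conv_lhs => rw [← Nat.mod_add_div a M]
  rw [pow_add, pow_mul, hM, one_pow, mul_one]

theorem sem_eq_one_of_all {M : ℕ} (hM : ∀ a : A, a ^ M = 1) (S : List A) (g : List ℕ)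
    (hg : g.all (· % M == 0) = true) : sem S g = 1 := by
  induction S generalizing g with
  | nil => rfl
  | cons s S ih =>
    cases g with
    | nil => rfl
    | cons b g =>
      rw [List.all_cons, Bool.and_eq_true] at hg
      have hb : b % M = 0 := by simpa using hg.1
      rw [sem_cons, pow_mod_M hM, hb, pow_zero, one_mul]
      exact ih g hg.2

theorem veqM_sem {M : ℕ} (hM : ∀ a : A, a ^ M = 1) (S : List A) (f g : List ℕ)
    (h : veqM M f g = true) : sem S f = sem S g := by
  induction f generalizing S g with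
  | nil =>
    rw [sem_nil]
    have h' : g.all (· % M == 0) = true := by
      cases g <;> simp [veqM] at h ⊢ <;> exact h
    exact (sem_eq_one_of_all hM S g h').symm
  | cons a f ih =>
    cases g with
    | nil =>
      rw [sem_nil]
      have h' : (a :: f).all (· % M == 0) = true := by simpa [veqM] using h
      exact sem_eq_one_of_all hM S _ h'
    | cons b g =>
      have h' : (a % M == b % M) = true ∧ veqM M f g = true := by
        simpa [veqM] using h
      cases S with
      | nil => rfl
      | cons s S =>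
        have hab : a % M = b % M := by simpa using h'.1
        rw [sem_cons, sem_cons, pow_mod_M hM s a, pow_mod_M hM s b, hab, ih S g h'.2]

theorem sem_vunit (S : List A) (t : ℕ) : sem S (vunit t) = S.getD t 1 := by
  induction t generalizing S with
  | zero =>
    cases S with
    | nil => rfl
    | cons s S =>
      show s ^ 1 * sem S [] = _
      rw [sem_nil, pow_one, mul_one]
      rfl
  | succ t ih =>
    cases S with
    | nil => rfl
    | cons s S =>
      have : vunit (t + 1) = 0 :: vunit t := by
        unfold vunit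
        rw [List.replicate_succ, List.cons_append]
      rw [this, sem_cons, pow_zero, one_mul, ih]
      simp

/-! ### values of the variables -/

/-- the value of a variable -/
def value (nl : ℕ) (κ : ℕ → ℕ → A) (ρ : ℕ → A) (v : ℕ) : A :=
  if v % (nl + 1) = nl then ρ (v / (nl + 1)) else κ (v / (nl + 1)) (v % (nl + 1))

theorem mod_edge (nl c l : ℕ) (hl : l < nl + 1) : ((nl + 1) * c + l) % (nl + 1) = l := by
  rw [Nat.mul_add_mod, Nat.mod_eq_of_lt hl]

theorem div_edge (nl c l : ℕ) (hl : l < nl + 1) : ((nl + 1) * c + l) / (nl + 1) = c := by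
  rw [Nat.mul_add_div (Nat.succ_pos nl), Nat.div_eq_of_lt hl, Nat.add_zero]

theorem value_edge (nl : ℕ) (κ : ℕ → ℕ → A) (ρ : ℕ → A) (c l : ℕ) (hl : l < nl) :
    value nl κ ρ ((nl + 1) * c + l) = κ c l := by
  have h1 := mod_edge nl c l (Nat.lt_succ_of_lt hl)
  have h2 := div_edge nl c l (Nat.lt_succ_of_lt hl)
  unfold value
  rw [h1, h2, if_neg (Nat.ne_of_lt hl)]

theorem value_rel (nl : ℕ) (κ : ℕ → ℕ → A) (ρ : ℕ → A) (j : ℕ) :
    value nl κ ρ ((nl + 1) * j + nl) = ρ j := by
  have h1 := mod_edge nl j nl (Nat.lt_succ_self nl)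
  have h2 := div_edge nl j nl (Nat.lt_succ_self nl)
  unfold value
  rw [h1, h2, if_pos rfl]

theorem known_iff (C : Cert) (k u : ℕ) :
    known C k u = true ↔ C.pos u < k ∧ C.ord (C.pos u) = u := by
  unfold known
  rw [force_eq, Bool.and_eq_true, decide_eq_true_eq, beq_iff_eq]

/-- the invariant of `runSteps` -/
def Inv (C : Cert) (κ : ℕ → ℕ → A) (ρ : ℕ → A) (k : ℕ) : Prop :=
  ∀ u, known C k u = true →
    value C.nl κ ρ u = sem (C.seeds.map (value C.nl κ ρ)) (C.val u)

/-! ### walking along a word -/

theorem cyc_spec (C : Cert) (κ : ℕ → ℕ → A) (ρ : ℕ → A) (k v : ℕ) (hInv : Inv C κ ρ k) :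
    ∀ (w : List ℕ) (c c' : ℕ) (acc : List ℕ) (cnt : ℕ),
      cyc C k v w c = some (c', acc, cnt) →
        c' = traceL C.nxt c w ∧
        hol κ C.nxt c w = sem (C.seeds.map (value C.nl κ ρ)) acc * value C.nl κ ρ v ^ cnt ∧
        (v % (C.nl + 1) = C.nl → cnt = 0) := by
  intro w
  induction w with
  | nil =>
    intro c c' acc cnt h
    have h' : some (c, ([] : List ℕ), 0) = some (c', acc, cnt) := h
    simp only [Option.some.injEq, Prod.mk.injEq] at h'
    obtain ⟨rfl, rfl, rfl⟩ := h'
    refine ⟨rfl, ?_, fun _ => rfl⟩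
    rw [sem_nil, pow_zero, mul_one]
    rfl
  | cons l w ih =>
    intro c c' acc cnt h
    cases h0 : cyc C k v w c with
    | none =>
      simp only [cyc, h0] at h
      exact absurd h (by simp)
    | some r =>
      obtain ⟨cur, acc0, cnt0⟩ := r
      obtain ⟨hcur, hhol, hcnt⟩ := ih c cur acc0 cnt0 h0
      simp only [cyc, h0, force_eq] at h
      by_cases hl : l < C.nl
      · rw [if_pos hl] at h
        have htr : traceL C.nxt c (l :: w) = C.nxt cur l := by
          show C.nxt (traceL C.nxt c w) l = _
          rw [← hcur]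
        have hh : hol κ C.nxt c (l :: w) = κ cur l * hol κ C.nxt c w := by
          show κ (traceL C.nxt c w) l * hol κ C.nxt c w = _
          rw [← hcur]
        by_cases hev : (C.nl + 1) * cur + l = v
        · rw [if_pos hev] at h
          simp only [Option.some.injEq, Prod.mk.injEq] at h
          obtain ⟨rfl, rfl, rfl⟩ := h
          refine ⟨htr.symm, ?_, ?_⟩
          · rw [hh, hhol, ← hev, value_edge C.nl κ ρ cur l hl, pow_succ]
            rw [mul_comm (κ cur l), mul_assoc]
          · intro h6
            rw [← hev, mod_edge C.nl cur l (Nat.lt_succ_of_lt hl)] at h6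
            exact absurd h6 (Nat.ne_of_lt hl)
        · rw [if_neg hev] at h
          by_cases hk : known C k ((C.nl + 1) * cur + l) = true
          · rw [if_pos hk] at h
            simp only [Option.some.injEq, Prod.mk.injEq] at h
            obtain ⟨rfl, rfl, rfl⟩ := h
            refine ⟨htr.symm, ?_, hcnt⟩
            have hv := hInv _ hk
            rw [value_edge C.nl κ ρ cur l hl] at hv
            rw [hh, hhol, sem_vadd, hv]
            rw [mul_comm (sem _ (C.val _)), mul_assoc, mul_assoc]
            congr 1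
            rw [mul_comm]
          · rw [if_neg hk] at h
            exact absurd h (by simp)
      · rw [if_neg hl] at h
        exact absurd h (by simp)

/-! ### the steps -/

theorem step_sound (C : Cert) (hM : ∀ a : A, a ^ C.M = 1) (hM0 : 0 < C.M)
    (κ : ℕ → ℕ → A) (ρ : ℕ → A)
    (hcyc : ∀ j < C.nr, ∀ c < C.n, traceL C.nxt c (C.rel j) = c →
      hol κ C.nxt c (C.rel j) = ρ j)
    (hbase : ∀ v, C.isBase v = true → value C.nl κ ρ v = 1)
    (k : ℕ) (hInv : Inv C κ ρ k) (s : Step) (hs : stepOK C k s = true) :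
    value C.nl κ ρ (s.var C) = sem (C.seeds.map (value C.nl κ ρ)) (C.val (s.var C)) := by
  cases s with
  | base v =>
    simp only [stepOK, Bool.and_eq_true] at hs
    show value C.nl κ ρ v = sem (C.seeds.map (value C.nl κ ρ)) (C.val v)
    rw [hbase v hs.1, veqM_sem hM _ _ _ hs.2, sem_nil]
  | seed v t =>
    simp only [stepOK, Bool.and_eq_true, beq_iff_eq] at hs
    show value C.nl κ ρ v = sem (C.seeds.map (value C.nl κ ρ)) (C.val v)
    rw [veqM_sem hM _ _ _ hs.2, sem_vunit]
    have : (C.seeds.map (value C.nl κ ρ))[t]? = some (value C.nl κ ρ v) := by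
      rw [List.getElem?_map, hs.1]
      rfl
    rw [List.getD_eq_getElem?_getD, this]
    rfl
  | solveE e j c =>
    simp only [stepOK, Bool.and_eq_true, decide_eq_true_eq] at hs
    obtain ⟨⟨⟨hj, hc⟩, he⟩, hm⟩ := hs
    show value C.nl κ ρ e = sem (C.seeds.map (value C.nl κ ρ)) (C.val e)
    cases h0 : cyc C k e (C.rel j) c with
    | none =>
      rw [h0] at hm
      exact absurd hm (by simp)
    | some r =>
      obtain ⟨c', acc, cnt⟩ := r
      rw [h0] at hm
      simp only [Bool.and_eq_true, beq_iff_eq] at hm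
      obtain ⟨⟨⟨hc', hcnt⟩, hkn⟩, hveq⟩ := hm
      obtain ⟨htr, hhol, -⟩ := cyc_spec C κ ρ k e hInv _ _ _ _ _ h0
      subst hc' hcnt
      have h1 := hcyc j hj c' hc htr.symm
      have h2 := hInv _ hkn
      unfold Cert.rv at h2 hveq
      rw [value_rel] at h2
      rw [veqM_sem hM _ _ _ hveq, sem_vadd, sem_vneg hM hM0, ← h2, ← h1, hhol, pow_one]
      rw [mul_comm (sem _ acc), mul_inv_cancel_right]
  | solveR j c =>
    simp only [stepOK, Bool.and_eq_true, decide_eq_true_eq] at hs
    obtain ⟨⟨hj, hc⟩, hm⟩ := hs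
    show value C.nl κ ρ (C.rv j) = sem (C.seeds.map (value C.nl κ ρ)) (C.val (C.rv j))
    cases h0 : cyc C k (C.rv j) (C.rel j) c with
    | none =>
      rw [h0] at hm
      exact absurd hm (by simp)
    | some r =>
      obtain ⟨c', acc, cnt⟩ := r
      rw [h0] at hm
      simp only [Bool.and_eq_true, beq_iff_eq] at hm
      obtain ⟨hc', hveq⟩ := hm
      obtain ⟨htr, hhol, hcnt⟩ := cyc_spec C κ ρ k (C.rv j) hInv _ _ _ _ _ h0
      subst hc'
      have h1 := hcyc j hj c' hc htr.symm
      have h0' : cnt = 0 := hcnt (mod_edge C.nl j C.nl (Nat.lt_succ_self _))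
      unfold Cert.rv at hveq ⊢
      rw [value_rel, veqM_sem hM _ _ _ hveq, ← h1, hhol, h0', pow_zero, mul_one]

theorem run_sound (C : Cert) (hM : ∀ a : A, a ^ C.M = 1) (hM0 : 0 < C.M)
    (κ : ℕ → ℕ → A) (ρ : ℕ → A)
    (hcyc : ∀ j < C.nr, ∀ c < C.n, traceL C.nxt c (C.rel j) = c →
      hol κ C.nxt c (C.rel j) = ρ j)
    (hbase : ∀ v, C.isBase v = true → value C.nl κ ρ v = 1)
    (steps : List Step) (k : ℕ) (hInv : Inv C κ ρ k) (h : runSteps C steps k = true) :
    Inv C κ ρ (k + steps.length) := by
  induction steps generalizing k with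
  | nil => simpa using hInv
  | cons s ss ih =>
    simp only [runSteps, Bool.and_eq_true, beq_iff_eq] at h
    obtain ⟨⟨⟨hord, hpos⟩, hstep⟩, hrest⟩ := h
    have hInv' : Inv C κ ρ (k + 1) := by
      intro u hu
      rw [known_iff] at hu
      rcases Nat.lt_succ_iff_lt_or_eq.mp hu.1 with hlt | heq
      · exact hInv u ((known_iff C k u).mpr ⟨hlt, hu.2⟩)
      · have huv : u = s.var C := by rw [← hu.2, heq, hord]
        rw [huv]
        exact step_sound C hM hM0 κ ρ hcyc hbase k hInv s hstep
    have := ih (k + 1) hInv' hrest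
    rw [List.length_cons, ← Nat.add_assoc]
    rwa [Nat.add_right_comm] at this

/-! ### the seed relations -/

theorem seedRel_sound (C : Cert) (hM : ∀ a : A, a ^ C.M = 1) (hM0 : 0 < C.M)
    (κ : ℕ → ℕ → A) (ρ : ℕ → A)
    (hcyc : ∀ j < C.nr, ∀ c < C.n, traceL C.nxt c (C.rel j) = c →
      hol κ C.nxt c (C.rel j) = ρ j)
    (k : ℕ) (hInv : Inv C κ ρ k) (jc : ℕ × ℕ) (R : List ℕ) (h : seedRel C k jc = some R) :
    sem (C.seeds.map (value C.nl κ ρ)) R = 1 := by
  unfold seedRel at h
  by_cases hcond : (decide (jc.1 < C.nr) && decide (jc.2 < C.n) && known C k (C.rv jc.1)) = true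
  · rw [if_pos hcond] at h
    simp only [Bool.and_eq_true, decide_eq_true_eq] at hcond
    obtain ⟨⟨hj, hc⟩, hkn⟩ := hcond
    cases h0 : cyc C k C.nl (C.rel jc.1) jc.2 with
    | none =>
      rw [h0] at h
      exact absurd h (by simp)
    | some r =>
      obtain ⟨c', acc, cnt⟩ := r
      rw [h0] at h
      by_cases hc' : (c' == jc.2) = true
      · simp only [hc', if_true, Option.some.injEq] at h
        rw [beq_iff_eq] at hc'
        rw [hc'] at h0
        obtain ⟨htr, hhol, hcnt⟩ := cyc_spec C κ ρ k C.nl hInv _ _ _ _ _ h0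
        have h1 := hcyc jc.1 hj jc.2 hc htr.symm
        have h2 := hInv _ hkn
        unfold Cert.rv at h2 h
        rw [value_rel] at h2
        have h0' : cnt = 0 := hcnt (Nat.mod_eq_of_lt (Nat.lt_succ_self _))
        rw [← h, sem_vadd, sem_vneg hM hM0, ← h2, ← h1, hhol, h0', pow_zero, mul_one,
          mul_inv_cancel]
      · simp only [hc', Bool.false_eq_true, if_false] at h
        exact absurd h (by simp)
  · rw [if_neg hcond] at h
    exact absurd h (by simp)

theorem seedRels_sound (C : Cert) (hM : ∀ a : A, a ^ C.M = 1) (hM0 : 0 < C.M)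
    (κ : ℕ → ℕ → A) (ρ : ℕ → A)
    (hcyc : ∀ j < C.nr, ∀ c < C.n, traceL C.nxt c (C.rel j) = c →
      hol κ C.nxt c (C.rel j) = ρ j)
    (k : ℕ) (hInv : Inv C κ ρ k) (chk : List (ℕ × ℕ)) (Rs : List (List ℕ))
    (h : seedRels C k chk = some Rs) :
    ∀ R ∈ Rs, sem (C.seeds.map (value C.nl κ ρ)) R = 1 := by
  induction chk generalizing Rs with
  | nil =>
    have : some ([] : List (List ℕ)) = some Rs := h
    simp only [Option.some.injEq] at this
    subst this
    intro R hR
    exact absurd hR List.not_mem_nil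
  | cons jc rest ih =>
    unfold seedRels at h
    cases h1 : seedRel C k jc with
    | none =>
      rw [h1] at h
      exact absurd h (by simp)
    | some R0 =>
      cases h2 : seedRels C k rest with
      | none =>
        rw [h1, h2] at h
        exact absurd h (by simp)
      | some Rs0 =>
        rw [h1, h2] at h
        simp only [Option.some.injEq] at h
        subst h
        intro R hR
        rcases List.mem_cons.mp hR with rfl | hR'
        · exact seedRel_sound C hM hM0 κ ρ hcyc k hInv jc _ h1
        · exact ih Rs0 h2 R hR'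

theorem sem_vcomb (S : List A) (Rs : List (List ℕ)) (hRs : ∀ R ∈ Rs, sem S R = 1)
    (Y : List ℕ) : sem S (vcomb Y Rs) = 1 := by
  induction Y generalizing Rs with
  | nil => exact sem_nil S
  | cons y ys ih =>
    cases Rs with
    | nil => exact sem_nil S
    | cons R Rs =>
      show sem S (vadd (vsmul y R) (vcomb ys Rs)) = 1
      rw [sem_vadd, sem_vsmul, hRs R List.mem_cons_self, one_pow, one_mul]
      exact ih Rs fun R' hR' => hRs R' (List.mem_cons_of_mem _ hR')

theorem elim_sound {M : ℕ} (hM : ∀ a : A, a ^ M = 1) (N : ℕ) (S : List A) (Rs : List (List ℕ))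
    (hRs : ∀ R ∈ Rs, sem S R = 1) (Ys : List (List ℕ)) (as : List ℕ) (t0 : ℕ)
    (h : elimOK M N Rs t0 Ys as = true) :
    ∀ i < Ys.length, (t0 + i = 0 → sem S [N] = 1) ∧
      (t0 + i ≠ 0 → ∃ a, sem S [a] = S.getD (t0 + i) 1) := by
  induction Ys generalizing as t0 with
  | nil => intro i hi; exact absurd hi (by simp)
  | cons Y Ys ih =>
    cases as with
    | nil => exact absurd h (by simp [elimOK])
    | cons a as =>
      have h' : ((if t0 = 0 then veqM M (vcomb Y Rs) [N]
          else veqM M (vadd (vcomb Y Rs) [a]) (vunit t0)) && elimOK M N Rs (t0 + 1) Ys as) = true := h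
      rw [Bool.and_eq_true] at h'
      intro i hi
      cases i with
      | zero =>
        rw [Nat.add_zero]
        constructor
        · intro ht
          have := h'.1
          rw [if_pos ht] at this
          have := veqM_sem hM S _ _ this
          rw [sem_vcomb S Rs hRs] at this
          exact this.symm
        · intro ht
          have := h'.1
          rw [if_neg ht] at this
          have := veqM_sem hM S _ _ this
          rw [sem_vadd, sem_vcomb S Rs hRs, one_mul, sem_vunit] at this
          exact ⟨a, this⟩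
      | succ i =>
        have := ih as (t0 + 1) h'.2 i (by simpa using hi)
        rwa [Nat.add_assoc, Nat.add_comm 1 i] at this

/-! ### the powers of one element -/

theorem pows_mul {s x y : A} (hx : ∃ k : ℕ, x = s ^ k) (hy : ∃ k : ℕ, y = s ^ k) :
    ∃ k : ℕ, x * y = s ^ k := by
  obtain ⟨a, rfl⟩ := hx
  obtain ⟨b, rfl⟩ := hy
  exact ⟨a + b, (pow_add s a b).symm⟩

theorem pows_pow {s x : A} (hx : ∃ k : ℕ, x = s ^ k) (n : ℕ) : ∃ k : ℕ, x ^ n = s ^ k := by
  obtain ⟨a, rfl⟩ := hx
  exact ⟨a * n, (pow_mul s a n).symm⟩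

theorem sem_pows {s : A} (S : List A) (hS : ∀ x ∈ S, ∃ k : ℕ, x = s ^ k)
    (f : List ℕ) : ∃ k : ℕ, sem S f = s ^ k := by
  induction S generalizing f with
  | nil => exact ⟨0, by rw [pow_zero]; rfl⟩
  | cons x S ih =>
    cases f with
    | nil => exact ⟨0, by rw [pow_zero]; rfl⟩
    | cons e f =>
      rw [sem_cons]
      exact pows_mul (pows_pow (hS x List.mem_cons_self) e)
        (ih (fun y hy => hS y (List.mem_cons_of_mem _ hy)) f)

end H11

open H11 in
/-- [HG] SOUNDNESS OF THE GENERALISED CERTIFICATE CHECKER.  `A` an abelian group of exponent dividing `C.M`,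
`κ c l` the holonomy of the edge `(c, l)` (variable `(C.nl + 1) * c + l`), `ρ j` the value of the relator `j`
(variable `(C.nl + 1) * j + C.nl`).  If the cycle equations hold for all relators at all cosets and the `isBase`
variables are trivial, a successful `check` shows that all `κ c l` are powers of one element `s` with `s ^ C.N = 1`. -/
theorem check_sound {A : Type*} [CommGroup A] (C : Cert) (hM : ∀ a : A, a ^ C.M = 1) (hM0 : 0 < C.M)
    (κ : ℕ → ℕ → A) (ρ : ℕ → A)
    (hcyc : ∀ j < C.nr, ∀ c < C.n, traceL C.nxt c (C.rel j) = c →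
      hol κ C.nxt c (C.rel j) = ρ j)
    (hbase : ∀ v, C.isBase v = true →
      (if v % (C.nl + 1) = C.nl then ρ (v / (C.nl + 1)) else κ (v / (C.nl + 1)) (v % (C.nl + 1))) = 1)
    (steps : List Step) (chk : List (ℕ × ℕ)) (Ys : List (List ℕ)) (as : List ℕ)
    (h : check C steps chk Ys as = true) :
    ∃ s : A, s ^ C.N = 1 ∧ ∀ c < C.n, ∀ l < C.nl, ∃ k : ℕ, κ c l = s ^ k := by
  unfold check at h
  rw [Bool.and_eq_true, Bool.and_eq_true] at h
  obtain ⟨⟨hrun, hedges⟩, hend⟩ := h
  have hInv0 : Inv C κ ρ 0 := by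
    intro u hu
    rw [known_iff] at hu
    exact absurd hu.1 (Nat.not_lt_zero _)
  have hInv : Inv C κ ρ steps.length := by
    have := run_sound C hM hM0 κ ρ hcyc hbase steps 0 hInv0 hrun
    rwa [Nat.zero_add] at this
  -- the edges
  have hedge : ∀ c < C.n, ∀ l < C.nl,
      κ c l = sem (C.seeds.map (value C.nl κ ρ)) (C.val ((C.nl + 1) * c + l)) := by
    intro c hc l hl
    unfold edgesDone at hedges
    rw [List.all_eq_true] at hedges
    have h1 := hedges c (List.mem_range.mpr hc)
    rw [List.all_eq_true] at h1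
    have h2 := h1 l (List.mem_range.mpr hl)
    rw [← value_edge C.nl κ ρ c l hl]
    exact hInv _ h2
  cases hR : seedRels C steps.length chk with
  | none =>
    rw [hR] at hend
    exact absurd hend (by simp)
  | some Rs =>
    rw [hR] at hend
    simp only [Bool.and_eq_true, beq_iff_eq] at hend
    obtain ⟨hlen, helim⟩ := hend
    have hRs := seedRels_sound C hM hM0 κ ρ hcyc steps.length hInv chk Rs hR
    have hE := elim_sound hM C.N (C.seeds.map (value C.nl κ ρ)) Rs hRs Ys as 0 helim
    have hlenS : (C.seeds.map (value C.nl κ ρ)).length = Ys.length := by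
      rw [List.length_map, hlen]
    generalize hSdef : C.seeds.map (value C.nl κ ρ) = S at *
    cases S with
    | nil =>
      refine ⟨1, one_pow _, ?_⟩
      intro c hc l hl
      refine ⟨0, ?_⟩
      rw [hedge c hc l hl, pow_zero]
      rfl
    | cons s0 S' =>
      have hpos : 0 < Ys.length := by rw [← hlenS]; simp
      have hs0 : s0 ^ C.N = 1 := by
        have := (hE 0 hpos).1 (by norm_num)
        rw [sem_cons, sem_nil, mul_one] at this
        exact this
      have hS : ∀ x ∈ s0 :: S', ∃ k : ℕ, x = s0 ^ k := by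
        intro x hx
        obtain ⟨t, ht, rfl⟩ := List.getElem_of_mem hx
        cases t with
        | zero => exact ⟨1, by rw [pow_one]; rfl⟩
        | succ t =>
          have ht' : t + 1 < Ys.length := by rw [← hlenS]; exact ht
          obtain ⟨a, ha⟩ := (hE (t + 1) ht').2 (by omega)
          rw [Nat.zero_add, List.getD_eq_getElem _ _ ht, sem_cons, sem_nil, mul_one] at ha
          exact ⟨a, ha.symm⟩
      refine ⟨s0, hs0, ?_⟩
      intro c hc l hl
      rw [hedge c hc l hl]
      exact sem_pows _ hS _

end Cfsg.Agent.Lib.Helper16.HoloG
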