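import Mathlib

set_option autoImplicit false

namespace Cfsg.Agent.Lib.Helper11.Ico

/-- a Boolean `all` over a list can be checked chunk by chunk -/
theorem all_of_chunks {α : Type*} (l : List α) (F : α → Bool) (k m : ℕ) (hk : 0 < k)
    (hlen : l.length ≤ k * m)
    (h : ∀ c < m, ((l.drop (k * c)).take k).all F = true) : l.all F = true := by
  rw [List.all_eq_true]
  intro x hx
  obtain ⟨i, hi, rfl⟩ := List.mem_iff_getElem.mp hx
  have hc : i / k < m := by
    apply Nat.div_lt_of_lt_mul
    exact lt_of_lt_of_le hi hlen
  have h1 := h (i / k) hc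
  rw [List.all_eq_true] at h1
  apply h1
  rw [List.mem_iff_getElem]
  have hmod : i - k * (i / k) = i % k := by
    have := Nat.div_add_mod i k
    omega
  have hlt : i % k < k := Nat.mod_lt _ hk
  have hle : k * (i / k) ≤ i := Nat.mul_div_le i k
  refine ⟨i % k, ?_, ?_⟩
  · rw [List.length_take, List.length_drop]
    omega
  · rw [List.getElem_take, List.getElem_drop]
    congr 1
    omega

theorem all_getD {α : Type*} (l : List α) (d : α) (F : α → Bool)
    (h : ∀ i < l.length, F (l.getD i d) = true) : l.all F = true := by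
  rw [List.all_eq_true]
  intro x hx
  obtain ⟨i, hi, rfl⟩ := List.mem_iff_getElem.mp hx
  have := h i hi
  rwa [List.getD_eq_getElem _ _ hi] at this

end Cfsg.Agent.Lib.Helper11.Ico
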