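import Cfsg.Agent.Lib.Helper11.IcoLeech

/-!
# Hermitian form, minimal vectors and reflections in the computable model (helper11)
-/

set_option autoImplicit false

namespace Cfsg.Agent.Lib.Helper11.Ico

open Quaternion Cfsg.Spor

namespace V3
open Q8

def add (v w : V3) : V3 := ⟨Q8.add v.x w.x, Q8.add v.y w.y, Q8.add v.z w.z⟩
def neg (v : V3) : V3 := ⟨Q8.neg v.x, Q8.neg v.y, Q8.neg v.z⟩
def sub (v w : V3) : V3 := ⟨Q8.sub v.x w.x, Q8.sub v.y w.y, Q8.sub v.z w.z⟩
/-- left scalar multiplication by a model quaternion (meaningful for icosians) -/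
def lsmul (u : Q8) (v : V3) : V3 := ⟨Q8.mul u v.x, Q8.mul u v.y, Q8.mul u v.z⟩

/-- `(dotRaw v r).toH = 2 • qip v r` -/
def dotRaw (v r : V3) : Q8 :=
  Q8.add (Q8.add (mulRaw v.x (conj r.x)) (mulRaw v.y (conj r.y))) (mulRaw v.z (conj r.z))

/-- `4 · (r·r)` as `A + Bτ` -/
def nrm3 (v : V3) : ℤ × ℤ :=
  ((nrm v.x).1 + (nrm v.y).1 + (nrm v.z).1, (nrm v.x).2 + (nrm v.y).2 + (nrm v.z).2)

/-- minimal vectors of the icosian Leech lattice (model) -/
def isMin (v : V3) : Bool := inLeech v && ((nrm3 v).1 == 16 && (nrm3 v).2 == 0)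

/-- the reflection `x ↦ x − ½ (x·r) r` in the model (meaningful when `x·r ∈ 2I`) -/
def reflM (r x : V3) : V3 := sub x (lsmul (quarter (dotRaw x r)) r)

theorem toV_add (v w : V3) : (add v w).toV = v.toV + w.toV := by
  funext t; fin_cases t <;> simp [toV, add, toH_add]

theorem toV_neg (v : V3) : (neg v).toV = -v.toV := by
  funext t; fin_cases t <;> simp [toV, neg, toH_neg]

theorem toV_sub (v w : V3) : (sub v w).toV = v.toV - w.toV := by
  funext t; fin_cases t <;> simp [toV, sub, toH_sub]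

theorem toH_mul {x y : Q8} (hx : inI x = true) (hy : inI y = true) :
    (Q8.mul x y).toH = x.toH * y.toH ∧ inI (Q8.mul x y) = true := by
  obtain ⟨z, hz, hxy⟩ := inI_mul hx hy
  have hzz : Q8.mul x y = z := by
    unfold Q8.mul
    rw [hxy]
    ext <;> simp only [dbl, zs, half] <;> omega
  rw [hzz]
  exact ⟨toH_mul_of_eq hxy, hz⟩

theorem toV_lsmul {u : Q8} {v : V3} (hu : inI u = true) (hx : inI v.x = true) (hy : inI v.y = true)
    (hz : inI v.z = true) : (lsmul u v).toV = fun t => u.toH * v.toV t := by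
  funext t
  fin_cases t
  · simpa [toV, lsmul] using (toH_mul hu hx).1
  · simpa [toV, lsmul] using (toH_mul hu hy).1
  · simpa [toV, lsmul] using (toH_mul hu hz).1

theorem toH_dotRaw (v r : V3) : (dotRaw v r).toH = (2 : ℝ) • qip v.toV r.toV := by
  unfold dotRaw qip
  rw [toH_add, toH_add, toH_mulRaw, toH_mulRaw, toH_mulRaw, toH_conj, toH_conj, toH_conj,
    Fin.sum_univ_three]
  simp [toV, smul_add]

theorem mulRaw_conj_self (x : Q8) : mulRaw x (conj x) = ⟨(nrm x).1, (nrm x).2, 0, 0, 0, 0, 0, 0⟩ := by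
  ext <;> simp only [mulRaw, conj, nrm] <;> ring

/-- `r·r` as a real number -/
noncomputable def nrmR (v : V3) : ℝ := (((nrm3 v).1 : ℝ) + ((nrm3 v).2 : ℝ) * tau) / 4

theorem qip_self (v : V3) : qip v.toV v.toV = ((nrmR v : ℝ) : ℍ[ℝ]) := by
  have h := toH_dotRaw v v
  have h2 : qip v.toV v.toV = (1 / 2 : ℝ) • (dotRaw v v).toH := by
    rw [h, smul_smul]; norm_num
  rw [h2]
  unfold dotRaw
  rw [mulRaw_conj_self, mulRaw_conj_self, mulRaw_conj_self]
  ext
  · simp only [Quaternion.re_smul, Quaternion.re_coe, toH_re, Q8.add, nrmR, nrm3, smul_eq_mul]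
    push_cast; ring
  · simp only [Quaternion.imI_smul, Quaternion.imI_coe, toH_imI, Q8.add, smul_eq_mul]
    push_cast; ring
  · simp only [Quaternion.imJ_smul, Quaternion.imJ_coe, toH_imJ, Q8.add, smul_eq_mul]
    push_cast; ring
  · simp only [Quaternion.imK_smul, Quaternion.imK_coe, toH_imK, Q8.add, smul_eq_mul]
    push_cast; ring

theorem isMin_iff (v : V3) : isMin v = true ↔ inLeech v = true ∧ nrm3 v = (16, 0) := by
  simp only [isMin, Bool.and_eq_true, beq_iff_eq]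
  constructor
  · rintro ⟨h1, h2, h3⟩; exact ⟨h1, Prod.ext h2 h3⟩
  · rintro ⟨h1, h2⟩; rw [h2]; exact ⟨h1, rfl, rfl⟩

theorem qip_self_eq_four_iff (v : V3) : qip v.toV v.toV = 4 ↔ nrm3 v = (16, 0) := by
  rw [qip_self]
  constructor
  · intro h
    have hre := congrArg QuaternionAlgebra.re h
    rw [Quaternion.re_coe] at hre
    have h4 : (QuaternionAlgebra.re (4 : ℍ[ℝ])) = 4 := by
      have : (4 : ℍ[ℝ]) = ((4 : ℝ) : ℍ[ℝ]) := by norm_cast
      rw [this, Quaternion.re_coe]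
    rw [h4] at hre
    unfold nrmR at hre
    have h16 : (((nrm3 v).1 : ℤ) : ℝ) + (((nrm3 v).2 : ℤ) : ℝ) * tau = ((16 : ℤ) : ℝ) + ((0 : ℤ) : ℝ) * tau := by
      push_cast; linarith
    obtain ⟨h1, h2⟩ := int_tau_inj h16
    exact Prod.ext h1 h2
  · intro h
    unfold nrmR
    rw [h]
    norm_num
    norm_cast

/-- the set of minimal vectors is the image of the model minimal vectors -/
theorem minvec_iff (w : Fin 3 → ℍ[ℝ]) :
    (w ∈ icoLeech ∧ qip w w = 4) ↔ ∃ v : V3, isMin v = true ∧ v.toV = w := by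
  constructor
  · rintro ⟨hw, h4⟩
    obtain ⟨v, hv, rfl⟩ := (mem_icoLeech_iff w).mp hw
    refine ⟨v, ?_, rfl⟩
    have h16 := (qip_self_eq_four_iff v).mp h4
    simp only [isMin, hv, Bool.true_and, Bool.and_eq_true, beq_iff_eq, h16]
    exact ⟨trivial, trivial⟩
  · rintro ⟨v, hv, rfl⟩
    simp only [isMin, Bool.and_eq_true, beq_iff_eq] at hv
    exact ⟨(mem_icoLeech_iff _).mpr ⟨v, hv.1, rfl⟩,
      (qip_self_eq_four_iff v).mpr (Prod.ext hv.2.1 hv.2.2)⟩

end V3

end Cfsg.Agent.Lib.Helper11.Ico
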