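import Cfsg.Agent.Lib.Helper11.IcoReflCert
import Cfsg.Agent.Lib.Helper11.IcoPermData

/-!
# The packed tables of `PD.gens` 0..3 agree with the reflection witnesses (helper11)
-/

set_option autoImplicit false
set_option maxRecDepth 100000
set_option maxHeartbeats 0

namespace Cfsg.Agent.Lib.Helper11.Ico

open Cfsg.Agent.Lib.Helper28.BSGS

/-- the table of the `g`-th generator sends `k` to the line index of the witness -/
def tabCheck (g : ℕ) (wit : List (Q8 × ℕ × ℕ)) : Bool :=
  (List.range 315).all fun k =>
    look 9 (PD.gens.getD g (0, 0)).1 k == (wit.getD k (Q8.zero, 0, 0)).2.2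

theorem tab0_ok : tabCheck 0 reflWit0 = true := by decide +kernel
theorem tab1_ok : tabCheck 1 reflWit1 = true := by decide +kernel
theorem tab2_ok : tabCheck 2 reflWit2 = true := by decide +kernel
theorem tab3_ok : tabCheck 3 reflWit3 = true := by decide +kernel

theorem tabCheck_spec {g : ℕ} {wit : List (Q8 × ℕ × ℕ)} (h : tabCheck g wit = true) {k : ℕ}
    (hk : k < 315) :
    look 9 (PD.gens.getD g (0, 0)).1 k = (wit.getD k (Q8.zero, 0, 0)).2.2 := by
  unfold tabCheck at h
  rw [List.all_eq_true] at h
  exact beq_iff_eq.mp (h k (List.mem_range.mpr hk))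

end Cfsg.Agent.Lib.Helper11.Ico
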