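import Mathlib
import Cfsg.Prelude.Def_Spor_J2

/-!
# A computable model of the icosian ring (helper11)

`Q8` = eight integers `a_k, b_k` (k = 0..3), the DOUBLED coordinates of the quaternion
`x = ½ Σ_k (a_k + b_k τ) e_k` (e = 1, i, j, k; τ = (1+√5)/2).  `toH : Q8 → ℍ[ℝ]` is injective and
`icosians = toH '' {x | inI x}`.
-/

set_option autoImplicit false

namespace Cfsg.Agent.Lib.Helper11.Ico

open Quaternion Cfsg.Spor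

/-- doubled coordinates over ℤ[τ] -/
@[ext] structure Q8 where
  a0 : ℤ
  b0 : ℤ
  a1 : ℤ
  b1 : ℤ
  a2 : ℤ
  b2 : ℤ
  a3 : ℤ
  b3 : ℤ
deriving DecidableEq, Repr

namespace Q8

def zero : Q8 := ⟨0, 0, 0, 0, 0, 0, 0, 0⟩
def one : Q8 := ⟨2, 0, 0, 0, 0, 0, 0, 0⟩
def add (x y : Q8) : Q8 :=
  ⟨x.a0 + y.a0, x.b0 + y.b0, x.a1 + y.a1, x.b1 + y.b1, x.a2 + y.a2, x.b2 + y.b2, x.a3 + y.a3, x.b3 + y.b3⟩
def neg (x : Q8) : Q8 := ⟨-x.a0, -x.b0, -x.a1, -x.b1, -x.a2, -x.b2, -x.a3, -x.b3⟩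
def sub (x y : Q8) : Q8 :=
  ⟨x.a0 - y.a0, x.b0 - y.b0, x.a1 - y.a1, x.b1 - y.b1, x.a2 - y.a2, x.b2 - y.b2, x.a3 - y.a3, x.b3 - y.b3⟩
def zs (n : ℤ) (x : Q8) : Q8 :=
  ⟨n * x.a0, n * x.b0, n * x.a1, n * x.b1, n * x.a2, n * x.b2, n * x.a3, n * x.b3⟩
def dbl (x : Q8) : Q8 := zs 2 x
def conj (x : Q8) : Q8 := ⟨x.a0, x.b0, -x.a1, -x.b1, -x.a2, -x.b2, -x.a3, -x.b3⟩
def even (x : Q8) : Bool :=
  x.a0 % 2 == 0 && x.b0 % 2 == 0 && x.a1 % 2 == 0 && x.b1 % 2 == 0 &&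
  x.a2 % 2 == 0 && x.b2 % 2 == 0 && x.a3 % 2 == 0 && x.b3 % 2 == 0
def half (x : Q8) : Q8 := ⟨x.a0 / 2, x.b0 / 2, x.a1 / 2, x.b1 / 2, x.a2 / 2, x.b2 / 2, x.a3 / 2, x.b3 / 2⟩

/-- product of the underlying ℤ[τ]-quaternions (no halving): represents `4·x·y` in doubled
coordinates, i.e. `(mulRaw x y).toH = 2 * (x.toH * y.toH)`. -/
def mulRaw (x y : Q8) : Q8 :=
  ⟨(x.a0 * y.a0 + x.b0 * y.b0) - (x.a1 * y.a1 + x.b1 * y.b1) - (x.a2 * y.a2 + x.b2 * y.b2) - (x.a3 * y.a3 + x.b3 * y.b3),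
   (x.a0 * y.b0 + x.b0 * y.a0 + x.b0 * y.b0) - (x.a1 * y.b1 + x.b1 * y.a1 + x.b1 * y.b1) - (x.a2 * y.b2 + x.b2 * y.a2 + x.b2 * y.b2) - (x.a3 * y.b3 + x.b3 * y.a3 + x.b3 * y.b3),
   (x.a0 * y.a1 + x.b0 * y.b1) + (x.a1 * y.a0 + x.b1 * y.b0) + (x.a2 * y.a3 + x.b2 * y.b3) - (x.a3 * y.a2 + x.b3 * y.b2),
   (x.a0 * y.b1 + x.b0 * y.a1 + x.b0 * y.b1) + (x.a1 * y.b0 + x.b1 * y.a0 + x.b1 * y.b0) + (x.a2 * y.b3 + x.b2 * y.a3 + x.b2 * y.b3) - (x.a3 * y.b2 + x.b3 * y.a2 + x.b3 * y.b2),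
   (x.a0 * y.a2 + x.b0 * y.b2) - (x.a1 * y.a3 + x.b1 * y.b3) + (x.a2 * y.a0 + x.b2 * y.b0) + (x.a3 * y.a1 + x.b3 * y.b1),
   (x.a0 * y.b2 + x.b0 * y.a2 + x.b0 * y.b2) - (x.a1 * y.b3 + x.b1 * y.a3 + x.b1 * y.b3) + (x.a2 * y.b0 + x.b2 * y.a0 + x.b2 * y.b0) + (x.a3 * y.b1 + x.b3 * y.a1 + x.b3 * y.b1),
   (x.a0 * y.a3 + x.b0 * y.b3) + (x.a1 * y.a2 + x.b1 * y.b2) - (x.a2 * y.a1 + x.b2 * y.b1) + (x.a3 * y.a0 + x.b3 * y.b0),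
   (x.a0 * y.b3 + x.b0 * y.a3 + x.b0 * y.b3) + (x.a1 * y.b2 + x.b1 * y.a2 + x.b1 * y.b2) - (x.a2 * y.b1 + x.b2 * y.a1 + x.b2 * y.b1) + (x.a3 * y.b0 + x.b3 * y.a0 + x.b3 * y.b0)⟩

/-- the model product (meaningful when `mulRaw x y` is even, e.g. for `x y` icosians) -/
def mul (x y : Q8) : Q8 := half (mulRaw x y)

/-- `4·N(x)` as an element `A + Bτ` of ℤ[τ] -/
def nrm (x : Q8) : ℤ × ℤ :=
  (x.a0 * x.a0 + x.b0 * x.b0 + x.a1 * x.a1 + x.b1 * x.b1 + x.a2 * x.a2 + x.b2 * x.b2 + x.a3 * x.a3 + x.b3 * x.b3,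
   2 * x.a0 * x.b0 + x.b0 * x.b0 + 2 * x.a1 * x.b1 + x.b1 * x.b1 + 2 * x.a2 * x.b2 + x.b2 * x.b2 + 2 * x.a3 * x.b3 + x.b3 * x.b3)

/-- ℤ-combination of the basis words 1, i, g, ig, gi, igi, gig, igig -/
def lin (c0 c1 c2 c3 c4 c5 c6 c7 : ℤ) : Q8 :=
  ⟨2 * c0 + c2 - c3 - c4 - c5 - c6,
   c3 + c4 + c6 - c7,
   2 * c1 + c2 + c3 + c4 - c5 - c7,
   -c2 + c5 + c6 + c7,
   -c7,
   -c3 + c4,
   c6,
   c2 + c5⟩

def ell0 (x : Q8) : ℤ := x.a0 + x.b0 + x.b1 - x.a3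
def ell1 (x : Q8) : ℤ := -x.b0 + x.a1 + x.b1 + x.a2
def ell2 (x : Q8) : ℤ := -x.b1 - x.a2 + x.a3 + x.b3
def ell3 (x : Q8) : ℤ := x.b0 - x.a2 - x.b2 - x.a3
def ell4 (x : Q8) : ℤ := x.b0 - x.a2 + x.b2 - x.a3
def ell5 (x : Q8) : ℤ := x.b1 + x.a2 - x.a3 + x.b3
def ell6 (x : Q8) : ℤ := 2 * x.a3
def ell7 (x : Q8) : ℤ := -2 * x.a2

/-- membership in the icosian ring (doubled coordinates) -/
def inI (x : Q8) : Bool :=
  ell0 x % 2 == 0 && ell1 x % 2 == 0 && ell2 x % 2 == 0 && ell3 x % 2 == 0 && ell4 x % 2 == 0 && ell5 x % 2 == 0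

def M0 (c0 c1 c2 c3 c4 c5 c6 c7 d0 d1 d2 d3 d4 d5 d6 d7 : ℤ) : ℤ :=
  c0 * d0 - c1 * d1 - c2 * d2 + c2 * d7 + c3 * d4 - c3 * d5 - c3 * d7 + c4 * d3 + c4 * d6 - c5 * d4 - c5 * d5 - c5 * d6 + c6 * d3 - c6 * d5 - c6 * d7 - c7 * d1 - c7 * d3 - c7 * d4 - c7 * d6
def M1 (c0 c1 c2 c3 c4 c5 c6 c7 d0 d1 d2 d3 d4 d5 d6 d7 : ℤ) : ℤ :=
  c0 * d1 + c1 * d0 - c2 * d4 + c2 * d5 + c2 * d7 - c3 * d2 + c3 * d7 + c4 * d4 + c4 * d5 + c4 * d6 + c5 * d3 + c5 * d6 + c6 * d1 + c6 * d3 + c6 * d4 + c6 * d6 + c7 * d3 - c7 * d5 - c7 * d7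
def M2 (c0 c1 c2 c3 c4 c5 c6 c7 d0 d1 d2 d3 d4 d5 d6 d7 : ℤ) : ℤ :=
  c0 * d2 - c1 * d3 + c2 * d0 + c2 * d2 - c2 * d5 - c2 * d7 + c3 * d5 + c3 * d6 - c4 * d1 - c4 * d3 - c4 * d4 - c4 * d6 + c5 * d4 - c5 * d7 - c6 * d1 - c6 * d3 + c6 * d5 + c7 * d1 + c7 * d4
def M3 (c0 c1 c2 c3 c4 c5 c6 c7 d0 d1 d2 d3 d4 d5 d6 d7 : ℤ) : ℤ :=
  c0 * d3 + c1 * d2 - c2 * d5 - c2 * d6 + c3 * d0 + c3 * d2 - c3 * d5 - c3 * d7 - c4 * d4 + c4 * d7 - c5 * d1 - c5 * d3 - c5 * d4 - c5 * d6 - c6 * d1 - c6 * d4 - c7 * d1 - c7 * d3 + c7 * d5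
def M4 (c0 c1 c2 c3 c4 c5 c6 c7 d0 d1 d2 d3 d4 d5 d6 d7 : ℤ) : ℤ :=
  c0 * d4 - c1 * d5 + c2 * d1 + c2 * d4 - c2 * d5 - c3 * d5 - c3 * d7 + c4 * d0 - c4 * d4 - c4 * d5 - c5 * d4 - c5 * d6 - c6 * d1 - c6 * d2 - c6 * d4 - c7 * d1 - c7 * d3 - c7 * d4 + c7 * d5 - c7 * d6 + c7 * d7
def M5 (c0 c1 c2 c3 c4 c5 c6 c7 d0 d1 d2 d3 d4 d5 d6 d7 : ℤ) : ℤ :=
  c0 * d5 + c1 * d4 + c2 * d5 + c2 * d7 + c3 * d1 + c3 * d4 - c3 * d5 + c4 * d4 + c4 * d6 + c5 * d0 - c5 * d4 - c5 * d5 + c6 * d1 + c6 * d3 + c6 * d4 - c6 * d5 + c6 * d6 - c6 * d7 - c7 * d1 - c7 * d2 - c7 * d4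
def M6 (c0 c1 c2 c3 c4 c5 c6 c7 d0 d1 d2 d3 d4 d5 d6 d7 : ℤ) : ℤ :=
  c0 * d6 - c1 * d7 + c2 * d3 + c2 * d6 - c2 * d7 + c3 * d5 + c4 * d2 - c4 * d6 - c4 * d7 + c5 * d4 + c6 * d0 + c6 * d2 - c6 * d3 - c6 * d6 + c7 * d1 + c7 * d4 - c7 * d5
def M7 (c0 c1 c2 c3 c4 c5 c6 c7 d0 d1 d2 d3 d4 d5 d6 d7 : ℤ) : ℤ :=
  c0 * d7 + c1 * d6 - c2 * d5 + c3 * d3 + c3 * d6 - c3 * d7 - c4 * d4 + c5 * d2 - c5 * d6 - c5 * d7 - c6 * d1 - c6 * d4 + c6 * d5 + c7 * d0 + c7 * d2 - c7 * d3 - c7 * d6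

/-! ### The map to the real quaternions -/

theorem tau_sq : tau * tau = tau + 1 := by
  unfold tau
  have h := Real.mul_self_sqrt (show (0:ℝ) ≤ 5 by norm_num)
  nlinarith

theorem sig_eq : sig = 1 - tau := by unfold sig tau; ring

noncomputable def toH (x : Q8) : ℍ[ℝ] :=
  ⟨((x.a0 : ℝ) + x.b0 * tau) / 2, ((x.a1 : ℝ) + x.b1 * tau) / 2,
   ((x.a2 : ℝ) + x.b2 * tau) / 2, ((x.a3 : ℝ) + x.b3 * tau) / 2⟩

@[simp] theorem toH_re (x : Q8) : x.toH.re = ((x.a0 : ℝ) + x.b0 * tau) / 2 := rfl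
@[simp] theorem toH_imI (x : Q8) : x.toH.imI = ((x.a1 : ℝ) + x.b1 * tau) / 2 := rfl
@[simp] theorem toH_imJ (x : Q8) : x.toH.imJ = ((x.a2 : ℝ) + x.b2 * tau) / 2 := rfl
@[simp] theorem toH_imK (x : Q8) : x.toH.imK = ((x.a3 : ℝ) + x.b3 * tau) / 2 := rfl

theorem toH_zero : zero.toH = 0 := by
  ext <;> simp [zero]

theorem toH_one : one.toH = 1 := by
  ext <;> simp [one]

theorem toH_add (x y : Q8) : (add x y).toH = x.toH + y.toH := by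
  ext <;> simp [add] <;> ring

theorem toH_neg (x : Q8) : (neg x).toH = -x.toH := by
  ext <;> simp [neg] <;> ring

theorem toH_sub (x y : Q8) : (sub x y).toH = x.toH - y.toH := by
  ext <;> simp [sub] <;> ring

theorem toH_zs (n : ℤ) (x : Q8) : (zs n x).toH = (n : ℝ) • x.toH := by
  ext <;> simp [zs] <;> ring

theorem toH_dbl (x : Q8) : (dbl x).toH = (2 : ℝ) • x.toH := by
  ext <;> simp [dbl, zs] <;> ring

theorem toH_conj (x : Q8) : (conj x).toH = star x.toH := by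
  ext <;> simp [conj] <;> ring

theorem toH_mulRaw (x y : Q8) : (mulRaw x y).toH = (2 : ℝ) • (x.toH * y.toH) := by
  have ht := tau_sq
  ext
  · simp [mulRaw]
    linear_combination (-(1:ℝ)/2 * (x.b0 * y.b0 - x.b1 * y.b1 - x.b2 * y.b2 - x.b3 * y.b3)) * ht
  · simp [mulRaw]
    linear_combination (-(1:ℝ)/2 * (x.b0 * y.b1 + x.b1 * y.b0 + x.b2 * y.b3 - x.b3 * y.b2)) * ht
  · simp [mulRaw]
    linear_combination (-(1:ℝ)/2 * (x.b0 * y.b2 - x.b1 * y.b3 + x.b2 * y.b0 + x.b3 * y.b1)) * ht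
  · simp [mulRaw]
    linear_combination (-(1:ℝ)/2 * (x.b0 * y.b3 + x.b1 * y.b2 - x.b2 * y.b1 + x.b3 * y.b0)) * ht

theorem int_tau_eq_zero {a b : ℤ} (h : (a : ℝ) + b * tau = 0) : a = 0 ∧ b = 0 := by
  have hirr : Irrational (Real.sqrt 5) := by
    have := Nat.Prime.irrational_sqrt (show Nat.Prime 5 by norm_num)
    simpa using this
  by_cases hb : b = 0
  · subst hb
    simp at h
    exact ⟨by exact_mod_cast h, rfl⟩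
  · exfalso
    have hb' : (b : ℝ) ≠ 0 := by exact_mod_cast hb
    apply hirr
    refine ⟨((-(2 * a + b) : ℤ) : ℚ) / ((b : ℤ) : ℚ), ?_⟩
    push_cast
    unfold tau at h
    field_simp
    linarith

theorem int_tau_inj {a b c d : ℤ} (h : (a : ℝ) + b * tau = c + d * tau) : a = c ∧ b = d := by
  have h' : ((a - c : ℤ) : ℝ) + ((b - d : ℤ) : ℝ) * tau = 0 := by
    push_cast; linarith
  obtain ⟨h1, h2⟩ := int_tau_eq_zero h'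
  exact ⟨by omega, by omega⟩

theorem toH_injective : Function.Injective toH := by
  intro x y h
  have h0 := congrArg QuaternionAlgebra.re h
  have h1 := congrArg QuaternionAlgebra.imI h
  have h2 := congrArg QuaternionAlgebra.imJ h
  have h3 := congrArg QuaternionAlgebra.imK h
  simp only [toH_re, toH_imI, toH_imJ, toH_imK] at h0 h1 h2 h3
  obtain ⟨e0, f0⟩ := int_tau_inj (a := x.a0) (b := x.b0) (c := y.a0) (d := y.b0) (by linarith)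
  obtain ⟨e1, f1⟩ := int_tau_inj (a := x.a1) (b := x.b1) (c := y.a1) (d := y.b1) (by linarith)
  obtain ⟨e2, f2⟩ := int_tau_inj (a := x.a2) (b := x.b2) (c := y.a2) (d := y.b2) (by linarith)
  obtain ⟨e3, f3⟩ := int_tau_inj (a := x.a3) (b := x.b3) (c := y.a3) (d := y.b3) (by linarith)
  ext <;> assumption

/-! ### The ℤ-basis of words -/

theorem lin_ell (x : Q8) :
    lin (ell0 x) (ell1 x) (ell2 x) (ell3 x) (ell4 x) (ell5 x) (ell6 x) (ell7 x) = dbl x := by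
  ext <;> simp [lin, ell0, ell1, ell2, ell3, ell4, ell5, ell6, ell7, dbl, zs] <;> ring

theorem ell_lin (c0 c1 c2 c3 c4 c5 c6 c7 : ℤ) :
    ell0 (lin c0 c1 c2 c3 c4 c5 c6 c7) = 2 * c0 ∧ ell1 (lin c0 c1 c2 c3 c4 c5 c6 c7) = 2 * c1 ∧
    ell2 (lin c0 c1 c2 c3 c4 c5 c6 c7) = 2 * c2 ∧ ell3 (lin c0 c1 c2 c3 c4 c5 c6 c7) = 2 * c3 ∧
    ell4 (lin c0 c1 c2 c3 c4 c5 c6 c7) = 2 * c4 ∧ ell5 (lin c0 c1 c2 c3 c4 c5 c6 c7) = 2 * c5 ∧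
    ell6 (lin c0 c1 c2 c3 c4 c5 c6 c7) = 2 * c6 ∧ ell7 (lin c0 c1 c2 c3 c4 c5 c6 c7) = 2 * c7 := by
  refine ⟨?_, ?_, ?_, ?_, ?_, ?_, ?_, ?_⟩ <;>
    simp [lin, ell0, ell1, ell2, ell3, ell4, ell5, ell6, ell7] <;> ring

theorem lin_dbl (c0 c1 c2 c3 c4 c5 c6 c7 : ℤ) :
    lin (2 * c0) (2 * c1) (2 * c2) (2 * c3) (2 * c4) (2 * c5) (2 * c6) (2 * c7) =
      dbl (lin c0 c1 c2 c3 c4 c5 c6 c7) := by
  ext <;> simp [lin, dbl, zs] <;> ring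

theorem dbl_injective : Function.Injective dbl := by
  intro x y h
  have := congrArg Q8.a0 h
  have h0 := congrArg Q8.a0 h
  have h1 := congrArg Q8.b0 h
  have h2 := congrArg Q8.a1 h
  have h3 := congrArg Q8.b1 h
  have h4 := congrArg Q8.a2 h
  have h5 := congrArg Q8.b2 h
  have h6 := congrArg Q8.a3 h
  have h7 := congrArg Q8.b3 h
  simp only [dbl, zs] at h0 h1 h2 h3 h4 h5 h6 h7
  ext <;> omega

theorem inI_iff (x : Q8) : inI x = true ↔ ∃ c0 c1 c2 c3 c4 c5 c6 c7 : ℤ, x = lin c0 c1 c2 c3 c4 c5 c6 c7 := by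
  constructor
  · intro h
    simp only [inI, Bool.and_eq_true, beq_iff_eq] at h
    obtain ⟨⟨⟨⟨⟨h0, h1⟩, h2⟩, h3⟩, h4⟩, h5⟩ := h
    have h6 : ell6 x % 2 = 0 := by simp [ell6]
    have h7 : ell7 x % 2 = 0 := by simp [ell7]
    refine ⟨ell0 x / 2, ell1 x / 2, ell2 x / 2, ell3 x / 2, ell4 x / 2, ell5 x / 2, ell6 x / 2, ell7 x / 2, ?_⟩
    apply dbl_injective
    rw [← lin_dbl, ← lin_ell]
    congr 1 <;> omega
  · rintro ⟨c0, c1, c2, c3, c4, c5, c6, c7, rfl⟩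
    obtain ⟨h0, h1, h2, h3, h4, h5, -, -⟩ := ell_lin c0 c1 c2 c3 c4 c5 c6 c7
    simp only [inI, Bool.and_eq_true, beq_iff_eq, h0, h1, h2, h3, h4, h5]
    omega

theorem mulRaw_lin (c0 c1 c2 c3 c4 c5 c6 c7 d0 d1 d2 d3 d4 d5 d6 d7 : ℤ) :
    mulRaw (lin c0 c1 c2 c3 c4 c5 c6 c7) (lin d0 d1 d2 d3 d4 d5 d6 d7) =
      dbl (lin (M0 c0 c1 c2 c3 c4 c5 c6 c7 d0 d1 d2 d3 d4 d5 d6 d7)
        (M1 c0 c1 c2 c3 c4 c5 c6 c7 d0 d1 d2 d3 d4 d5 d6 d7)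
        (M2 c0 c1 c2 c3 c4 c5 c6 c7 d0 d1 d2 d3 d4 d5 d6 d7)
        (M3 c0 c1 c2 c3 c4 c5 c6 c7 d0 d1 d2 d3 d4 d5 d6 d7)
        (M4 c0 c1 c2 c3 c4 c5 c6 c7 d0 d1 d2 d3 d4 d5 d6 d7)
        (M5 c0 c1 c2 c3 c4 c5 c6 c7 d0 d1 d2 d3 d4 d5 d6 d7)
        (M6 c0 c1 c2 c3 c4 c5 c6 c7 d0 d1 d2 d3 d4 d5 d6 d7)
        (M7 c0 c1 c2 c3 c4 c5 c6 c7 d0 d1 d2 d3 d4 d5 d6 d7)) := by
  ext <;> simp only [lin, mulRaw, dbl, zs, M0, M1, M2, M3, M4, M5, M6, M7] <;> ring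

theorem toH_mul_of_eq {x y z : Q8} (h : mulRaw x y = dbl z) : z.toH = x.toH * y.toH := by
  have h1 := toH_mulRaw x y
  rw [h, toH_dbl] at h1
  exact smul_right_injective _ (two_ne_zero (α := ℝ)) h1

def iQ : Q8 := ⟨0, 0, 2, 0, 0, 0, 0, 0⟩
def gQ : Q8 := ⟨1, 0, 1, -1, 0, 0, 0, 1⟩

theorem toH_iQ : iQ.toH = qI := by
  ext <;> simp [iQ, qI]

theorem toH_gQ : gQ.toH = (⟨1 / 2, sig / 2, 0, tau / 2⟩ : ℍ[ℝ]) := by
  ext <;> simp [gQ, sig_eq] <;> ring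

theorem lin_add (c0 c1 c2 c3 c4 c5 c6 c7 d0 d1 d2 d3 d4 d5 d6 d7 : ℤ) :
    add (lin c0 c1 c2 c3 c4 c5 c6 c7) (lin d0 d1 d2 d3 d4 d5 d6 d7) =
      lin (c0 + d0) (c1 + d1) (c2 + d2) (c3 + d3) (c4 + d4) (c5 + d5) (c6 + d6) (c7 + d7) := by
  ext <;> simp [lin, add] <;> ring

theorem lin_neg (c0 c1 c2 c3 c4 c5 c6 c7 : ℤ) :
    neg (lin c0 c1 c2 c3 c4 c5 c6 c7) = lin (-c0) (-c1) (-c2) (-c3) (-c4) (-c5) (-c6) (-c7) := by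
  ext <;> simp [lin, neg] <;> ring

theorem lin_zs (n c0 c1 c2 c3 c4 c5 c6 c7 : ℤ) :
    zs n (lin c0 c1 c2 c3 c4 c5 c6 c7) =
      lin (n * c0) (n * c1) (n * c2) (n * c3) (n * c4) (n * c5) (n * c6) (n * c7) := by
  ext <;> simp [lin, zs] <;> ring

theorem lin_sub (c0 c1 c2 c3 c4 c5 c6 c7 d0 d1 d2 d3 d4 d5 d6 d7 : ℤ) :
    sub (lin c0 c1 c2 c3 c4 c5 c6 c7) (lin d0 d1 d2 d3 d4 d5 d6 d7) =
      lin (c0 - d0) (c1 - d1) (c2 - d2) (c3 - d3) (c4 - d4) (c5 - d5) (c6 - d6) (c7 - d7) := by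
  ext <;> simp [lin, sub] <;> ring

/-- the basis words -/
def W0 : Q8 := lin 1 0 0 0 0 0 0 0
def W1 : Q8 := lin 0 1 0 0 0 0 0 0
def W2 : Q8 := lin 0 0 1 0 0 0 0 0
def W3 : Q8 := lin 0 0 0 1 0 0 0 0
def W4 : Q8 := lin 0 0 0 0 1 0 0 0
def W5 : Q8 := lin 0 0 0 0 0 1 0 0
def W6 : Q8 := lin 0 0 0 0 0 0 1 0
def W7 : Q8 := lin 0 0 0 0 0 0 0 1

theorem toH_lin (c0 c1 c2 c3 c4 c5 c6 c7 : ℤ) :
    (lin c0 c1 c2 c3 c4 c5 c6 c7).toH =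
      (c0 : ℝ) • W0.toH + (c1 : ℝ) • W1.toH + (c2 : ℝ) • W2.toH + (c3 : ℝ) • W3.toH +
      (c4 : ℝ) • W4.toH + (c5 : ℝ) • W5.toH + (c6 : ℝ) • W6.toH + (c7 : ℝ) • W7.toH := by
  ext <;> simp [lin, W0, W1, W2, W3, W4, W5, W6, W7] <;> ring

theorem W_mem : W0.toH ∈ icosians ∧ W1.toH ∈ icosians ∧ W2.toH ∈ icosians ∧ W3.toH ∈ icosians ∧
    W4.toH ∈ icosians ∧ W5.toH ∈ icosians ∧ W6.toH ∈ icosians ∧ W7.toH ∈ icosians := by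
  have hi : W1.toH ∈ icosians := by
    have : W1 = iQ := by decide
    rw [this, toH_iQ]
    exact Subring.subset_closure (Set.mem_insert _ _)
  have hg : W2.toH ∈ icosians := by
    have : W2 = gQ := by decide
    rw [this, toH_gQ]
    exact Subring.subset_closure (Set.mem_insert_of_mem _ (Set.mem_singleton _))
  have h0 : W0.toH ∈ icosians := by
    have : W0 = one := by decide
    rw [this, toH_one]
    exact Subring.one_mem _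
  have h3 : W3.toH ∈ icosians := by
    rw [toH_mul_of_eq (x := W1) (y := W2) (z := W3) (by decide)]
    exact Subring.mul_mem _ hi hg
  have h4 : W4.toH ∈ icosians := by
    rw [toH_mul_of_eq (x := W2) (y := W1) (z := W4) (by decide)]
    exact Subring.mul_mem _ hg hi
  have h5 : W5.toH ∈ icosians := by
    rw [toH_mul_of_eq (x := W3) (y := W1) (z := W5) (by decide)]
    exact Subring.mul_mem _ h3 hi
  have h6 : W6.toH ∈ icosians := by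
    rw [toH_mul_of_eq (x := W4) (y := W2) (z := W6) (by decide)]
    exact Subring.mul_mem _ h4 hg
  have h7 : W7.toH ∈ icosians := by
    rw [toH_mul_of_eq (x := W5) (y := W2) (z := W7) (by decide)]
    exact Subring.mul_mem _ h5 hg
  exact ⟨h0, hi, hg, h3, h4, h5, h6, h7⟩

theorem toH_mem_icosians {x : Q8} (h : inI x = true) : x.toH ∈ icosians := by
  obtain ⟨c0, c1, c2, c3, c4, c5, c6, c7, rfl⟩ := (inI_iff x).mp h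
  obtain ⟨h0, h1, h2, h3, h4, h5, h6, h7⟩ := W_mem
  rw [toH_lin]
  have key : ∀ (c : ℤ) (q : ℍ[ℝ]), q ∈ icosians → (c : ℝ) • q ∈ icosians := by
    intro c q hq
    rw [Int.cast_smul_eq_zsmul]
    exact Subring.zsmul_mem _ hq c
  exact Subring.add_mem _ (Subring.add_mem _ (Subring.add_mem _ (Subring.add_mem _
    (Subring.add_mem _ (Subring.add_mem _ (Subring.add_mem _ (key _ _ h0) (key _ _ h1))
    (key _ _ h2)) (key _ _ h3)) (key _ _ h4)) (key _ _ h5)) (key _ _ h6)) (key _ _ h7)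

theorem inI_mul {x y : Q8} (hx : inI x = true) (hy : inI y = true) :
    ∃ z : Q8, inI z = true ∧ mulRaw x y = dbl z := by
  obtain ⟨c0, c1, c2, c3, c4, c5, c6, c7, rfl⟩ := (inI_iff x).mp hx
  obtain ⟨d0, d1, d2, d3, d4, d5, d6, d7, rfl⟩ := (inI_iff y).mp hy
  exact ⟨_, (inI_iff _).mpr ⟨_, _, _, _, _, _, _, _, rfl⟩, mulRaw_lin _ _ _ _ _ _ _ _ _ _ _ _ _ _ _ _⟩

theorem inI_add {x y : Q8} (hx : inI x = true) (hy : inI y = true) : inI (add x y) = true := by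
  obtain ⟨c0, c1, c2, c3, c4, c5, c6, c7, rfl⟩ := (inI_iff x).mp hx
  obtain ⟨d0, d1, d2, d3, d4, d5, d6, d7, rfl⟩ := (inI_iff y).mp hy
  rw [lin_add]
  exact (inI_iff _).mpr ⟨_, _, _, _, _, _, _, _, rfl⟩

theorem inI_neg {x : Q8} (hx : inI x = true) : inI (neg x) = true := by
  obtain ⟨c0, c1, c2, c3, c4, c5, c6, c7, rfl⟩ := (inI_iff x).mp hx
  rw [lin_neg]
  exact (inI_iff _).mpr ⟨_, _, _, _, _, _, _, _, rfl⟩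

theorem inI_sub {x y : Q8} (hx : inI x = true) (hy : inI y = true) : inI (sub x y) = true := by
  obtain ⟨c0, c1, c2, c3, c4, c5, c6, c7, rfl⟩ := (inI_iff x).mp hx
  obtain ⟨d0, d1, d2, d3, d4, d5, d6, d7, rfl⟩ := (inI_iff y).mp hy
  rw [lin_sub]
  exact (inI_iff _).mpr ⟨_, _, _, _, _, _, _, _, rfl⟩

theorem inI_zs (n : ℤ) {x : Q8} (hx : inI x = true) : inI (zs n x) = true := by
  obtain ⟨c0, c1, c2, c3, c4, c5, c6, c7, rfl⟩ := (inI_iff x).mp hx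
  rw [lin_zs]
  exact (inI_iff _).mpr ⟨_, _, _, _, _, _, _, _, rfl⟩

/-- **The icosian ring is the image of the model.** -/
theorem mem_icosians_iff (q : ℍ[ℝ]) : q ∈ icosians ↔ ∃ x : Q8, inI x = true ∧ x.toH = q := by
  constructor
  · intro hq
    let S : Subring ℍ[ℝ] :=
      { carrier := {q | ∃ x : Q8, inI x = true ∧ x.toH = q}
        mul_mem' := by
          rintro _ _ ⟨x, hx, rfl⟩ ⟨y, hy, rfl⟩
          obtain ⟨z, hz, hxy⟩ := inI_mul hx hy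
          exact ⟨z, hz, toH_mul_of_eq hxy⟩
        one_mem' := ⟨one, by decide, toH_one⟩
        add_mem' := by
          rintro _ _ ⟨x, hx, rfl⟩ ⟨y, hy, rfl⟩
          exact ⟨add x y, inI_add hx hy, toH_add x y⟩
        zero_mem' := ⟨zero, by decide, toH_zero⟩
        neg_mem' := by
          rintro _ ⟨x, hx, rfl⟩
          exact ⟨neg x, inI_neg hx, toH_neg x⟩ }
    have hle : icosians ≤ S := by
      unfold icosians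
      rw [Subring.closure_le]
      rintro q (rfl | rfl)
      · exact ⟨iQ, by decide, toH_iQ⟩
      · exact ⟨gQ, by decide, toH_gQ⟩
    exact hle hq
  · rintro ⟨x, hx, rfl⟩
    exact toH_mem_icosians hx

end Q8
end Cfsg.Agent.Lib.Helper11.Ico
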