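import Cfsg.Agent.Lib.Helper11.IcoPermData

set_option autoImplicit false
set_option maxRecDepth 100000
set_option maxHeartbeats 0

namespace Cfsg.Agent.Lib.Helper11.Ico.PD

open Cfsg.Agent.Lib.Helper28.BSGS

theorem gens_ok : gensOK 315 9 gens = true := by decide +kernel

theorem size_ok : codeSize levels = 604800 := by decide +kernel

theorem prods_ok : prodsOK 315 9 levels 7 gens sevens = true := by decide +kernel

theorem orbA_ok : orbitOK 9 (nextGens 9 gens 0) [orbA0] orbA = true := by decide +kernel
theorem orbB_ok : orbitOK 9 (nextGens 9 gens 0) [orbB0] orbB = true := by decide +kernel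
theorem orbC_ok : orbitOK 9 (nextGens 9 gens 0) [orbC0] orbC = true := by decide +kernel
theorem orbD_ok : orbitOK 9 (nextGens 9 gens 0) [orbD0] orbD = true := by decide +kernel
theorem orbE_ok : orbitOK 9 (nextGens 9 gens 0) [orbE0] orbE = true := by decide +kernel

/-- the table of the `k`-th generator -/
def gtab (k : ℕ) : ℕ := (gens.getD k (0, 0)).1

theorem words_ok :
    (List.range 5).all (fun i =>
      wordEq 315 9 [gtab (4 + i)] ((words.getD i []).map gtab)) = true := by decide +kernel

theorem gens_length : gens.length = 9 := by decide +kernel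

/-- the part of `levelOK` at level 0 that does not involve sifting -/
theorem l0_static : (decide ((0 : ℕ) < 315) && headOK 315 9 0 tr0 && tr0.all (entryOK 315 9 0) &&
    nodupB (tr0.map fun e => e.1) &&
    orbitOK 9 gens [0] ((tr0.map fun e => e.1).tail)) = true := by decide +kernel

end Cfsg.Agent.Lib.Helper11.Ico.PD
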