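import Cfsg.Agent.Lib.Helper11.IcoPermData
import Cfsg.Agent.Lib.Helper11.IcoChunk

set_option autoImplicit false
set_option maxRecDepth 100000
set_option maxHeartbeats 0

namespace Cfsg.Agent.Lib.Helper11.Ico.PD

open Cfsg.Agent.Lib.Helper28.BSGS

/-- the generators fixing the point 0 are the last five -/
theorem nextGens0 : nextGens 9 gens 0 = gens.drop 4 := by decide +kernel

theorem l1_static : (decide ((1 : ℕ) < 315) && headOK 315 9 1 tr1 && tr1.all (entryOK 315 9 1) &&
    nodupB (tr1.map fun e => e.1) &&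
    orbitOK 9 (gens.drop 4) [1] ((tr1.map fun e => e.1).tail)) = true := by decide +kernel

theorem sift1_0 : (tr1.all fun e =>
    siftB 315 9 rest1 [((gens.drop 4).getD 0 (0, 0)).1, e.2.1]) = true := by decide +kernel

theorem sift1_1 : (tr1.all fun e =>
    siftB 315 9 rest1 [((gens.drop 4).getD 1 (0, 0)).1, e.2.1]) = true := by decide +kernel

theorem sift1_2 : (tr1.all fun e =>
    siftB 315 9 rest1 [((gens.drop 4).getD 2 (0, 0)).1, e.2.1]) = true := by decide +kernel

theorem sift1_3 : (tr1.all fun e =>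
    siftB 315 9 rest1 [((gens.drop 4).getD 3 (0, 0)).1, e.2.1]) = true := by decide +kernel

theorem sift1_4 : (tr1.all fun e =>
    siftB 315 9 rest1 [((gens.drop 4).getD 4 (0, 0)).1, e.2.1]) = true := by decide +kernel

theorem drop4_length : (gens.drop 4).length = 5 := by decide +kernel

theorem sift1_all :
    (gens.drop 4).all (fun g => tr1.all fun e => siftB 315 9 ((1, tr1) :: rest2) [g.1, e.2.1]) = true := by
  apply all_getD (gens.drop 4) (0, 0)
  intro i hi
  rw [drop4_length] at hi
  interval_cases i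
  · exact sift1_0
  · exact sift1_1
  · exact sift1_2
  · exact sift1_3
  · exact sift1_4

theorem level1_ok : levelOK 315 9 (gens.drop 4) (1, tr1) rest2 = true := by
  show ((decide ((1 : ℕ) < 315) && headOK 315 9 1 tr1 && tr1.all (entryOK 315 9 1) &&
    nodupB (tr1.map fun e => e.1) &&
    orbitOK 9 (gens.drop 4) [1] ((tr1.map fun e => e.1).tail)) &&
    (gens.drop 4).all (fun g => tr1.all fun e => siftB 315 9 ((1, tr1) :: rest2) [g.1, e.2.1])) = true
  rw [Bool.and_eq_true]
  exact ⟨l1_static, sift1_all⟩

theorem chain2_ok : checkChain 315 9 (nextGens 9 (gens.drop 4) 1) rest2 = true := by decide +kernel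

theorem chain1_ok : checkChain 315 9 (nextGens 9 gens 0) rest1 = true := by
  rw [nextGens0]
  show (levelOK 315 9 (gens.drop 4) (1, tr1) rest2 &&
    checkChain 315 9 (nextGens 9 (gens.drop 4) 1) rest2) = true
  rw [level1_ok, chain2_ok]
  rfl

end Cfsg.Agent.Lib.Helper11.Ico.PD
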