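import Cfsg.Agent.Lib.Helper11.IcoPermData
import Cfsg.Agent.Lib.Helper11.IcoChunk

set_option autoImplicit false
set_option maxRecDepth 100000
set_option maxHeartbeats 0

namespace Cfsg.Agent.Lib.Helper11.Ico.PD

open Cfsg.Agent.Lib.Helper28.BSGS

theorem sift0_3_0 : (((tr0.drop (63 * 0)).take 63).all fun e =>
    siftB 315 9 levels [(gens.getD 3 (0, 0)).1, e.2.1]) = true := by decide +kernel

theorem sift0_3_1 : (((tr0.drop (63 * 1)).take 63).all fun e =>
    siftB 315 9 levels [(gens.getD 3 (0, 0)).1, e.2.1]) = true := by decide +kernel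

theorem sift0_3_2 : (((tr0.drop (63 * 2)).take 63).all fun e =>
    siftB 315 9 levels [(gens.getD 3 (0, 0)).1, e.2.1]) = true := by decide +kernel

theorem sift0_3_3 : (((tr0.drop (63 * 3)).take 63).all fun e =>
    siftB 315 9 levels [(gens.getD 3 (0, 0)).1, e.2.1]) = true := by decide +kernel

theorem sift0_3_4 : (((tr0.drop (63 * 4)).take 63).all fun e =>
    siftB 315 9 levels [(gens.getD 3 (0, 0)).1, e.2.1]) = true := by decide +kernel

theorem tr0_length_3 : tr0.length ≤ 63 * 5 := by decide +kernel

/-- Schreier generators of level 0 for the generator number 3 sift to the identity -/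
theorem sift0_3 : (tr0.all fun e => siftB 315 9 levels [(gens.getD 3 (0, 0)).1, e.2.1]) = true := by
  apply all_of_chunks tr0 _ 63 5 (by norm_num) tr0_length_3
  intro c hc
  interval_cases c
  · exact sift0_3_0
  · exact sift0_3_1
  · exact sift0_3_2
  · exact sift0_3_3
  · exact sift0_3_4

end Cfsg.Agent.Lib.Helper11.Ico.PD
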