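import Cfsg.Agent.Lib.Helper11.IcoChunk
import Cfsg.Agent.Lib.Helper11.IcoPermCertA
import Cfsg.Agent.Lib.Helper11.IcoPermCertL1
import Cfsg.Agent.Lib.Helper11.IcoPermCertS0
import Cfsg.Agent.Lib.Helper11.IcoPermCertS1
import Cfsg.Agent.Lib.Helper11.IcoPermCertS2
import Cfsg.Agent.Lib.Helper11.IcoPermCertS3
import Cfsg.Agent.Lib.Helper11.IcoPermCertS4
import Cfsg.Agent.Lib.Helper11.IcoPermCertS5
import Cfsg.Agent.Lib.Helper11.IcoPermCertS6
import Cfsg.Agent.Lib.Helper11.IcoPermCertS7
import Cfsg.Agent.Lib.Helper11.IcoPermCertS8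

/-!
# The verified Schreier–Sims chain of the degree-315 action (helper11)

`chain_ok` assembled from the per-generator kernel checks; with `gens_ok` and `size_ok` it gives
`Nat.card (genGroup 315 9 gens) = 604800` through helper28's `perm_main`.
-/

set_option autoImplicit false
set_option maxRecDepth 100000

namespace Cfsg.Agent.Lib.Helper11.Ico.PD

open Cfsg.Agent.Lib.Helper28.BSGS

theorem sift0_all :
    gens.all (fun g => tr0.all fun e => siftB 315 9 ((0, tr0) :: rest1) [g.1, e.2.1]) = true := by
  apply all_getD gens (0, 0)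
  intro i hi
  rw [gens_length] at hi
  interval_cases i
  · exact sift0_0
  · exact sift0_1
  · exact sift0_2
  · exact sift0_3
  · exact sift0_4
  · exact sift0_5
  · exact sift0_6
  · exact sift0_7
  · exact sift0_8

theorem level0_ok : levelOK 315 9 gens (0, tr0) rest1 = true := by
  show ((decide ((0 : ℕ) < 315) && headOK 315 9 0 tr0 && tr0.all (entryOK 315 9 0) &&
    nodupB (tr0.map fun e => e.1) &&
    orbitOK 9 gens [0] ((tr0.map fun e => e.1).tail)) &&
    gens.all (fun g => tr0.all fun e => siftB 315 9 ((0, tr0) :: rest1) [g.1, e.2.1])) = true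
  rw [Bool.and_eq_true]
  exact ⟨l0_static, sift0_all⟩

theorem chain_ok : checkChain 315 9 gens levels = true := by
  show (levelOK 315 9 gens (0, tr0) rest1 && checkChain 315 9 (nextGens 9 gens 0) rest1) = true
  rw [level0_ok, chain1_ok]
  rfl

/-- **The group generated by the nine tables has order 604800.** -/
theorem card_genGroup : Nat.card (genGroup 315 9 gens) = 604800 := by
  rw [← size_ok]
  exact (perm_main 315 9 gens levels gens_ok chain_ok).1

end Cfsg.Agent.Lib.Helper11.Ico.PD
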