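import Cfsg.Agent.Lib.Helper11.IcoReflData

/-!
# Kernel-checked action of the four generating reflections on the 315 lines (helper11)
-/

set_option autoImplicit false
set_option maxRecDepth 100000
set_option maxHeartbeats 0

namespace Cfsg.Agent.Lib.Helper11.Ico

open Quaternion Cfsg.Spor Q8 V3

/-- `½ (x·r) = e`, `e ∈ I` and `x − e r = u c'` (all arguments are forced to constructor form) -/
def reflCheck1 : V3 → V3 → Q8 → Q8 → V3 → Bool
  | ⟨r0, r1, r2⟩, ⟨x0, x1, x2⟩, e, u, ⟨c0, c1, c2⟩ =>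
    (V3.dotRaw ⟨x0, x1, x2⟩ ⟨r0, r1, r2⟩ == Q8.dbl (Q8.dbl e)) && Q8.inI e &&
      (V3.sub ⟨x0, x1, x2⟩ (V3.lsmul e ⟨r0, r1, r2⟩) == V3.lsmul u ⟨c0, c1, c2⟩)

theorem reflCheck1_eq (r x : V3) (e u : Q8) (c' : V3) :
    reflCheck1 r x e u c' =
      ((V3.dotRaw x r == Q8.dbl (Q8.dbl e)) && Q8.inI e && (V3.sub x (V3.lsmul e r) == V3.lsmul u c')) := by
  cases r; cases x; cases c'; rfl

/-- all 315 lines for one generator -/
def reflCheck (j : ℕ) (wit : List (Q8 × ℕ × ℕ)) : Bool :=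
  (List.range 315).all fun k =>
    match wit.getD k (Q8.zero, 0, 0) with
    | (e, ui, k') => reflCheck1 (cvec j) (cvec k) e (U.getD ui Q8.zero) (cvec k')

theorem reflCheck1_sound {r x : V3} {e u : Q8} {c' : V3} (h : reflCheck1 r x e u c' = true)
    (hr : inI r.x = true ∧ inI r.y = true ∧ inI r.z = true) (hu : inI u = true)
    (hc : inI c'.x = true ∧ inI c'.y = true ∧ inI c'.z = true) :
    qrefl r.toV x.toV = fun t => u.toH * c'.toV t := by
  rw [reflCheck1_eq] at h
  simp only [Bool.and_eq_true, beq_iff_eq] at h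
  obtain ⟨⟨h1, he⟩, h2⟩ := h
  have hE : e.toH = (1 / 2 : ℝ) • qip x.toV r.toV := by
    have h3 := toH_dotRaw x r
    rw [h1, toH_dbl, toH_dbl, smul_smul] at h3
    have := congrArg (fun t => (1 / 4 : ℝ) • t) h3
    simp only [smul_smul] at this
    norm_num at this
    rw [this]
  have h4 := congrArg V3.toV h2
  rw [toV_sub, toV_lsmul he hr.1 hr.2.1 hr.2.2, toV_lsmul hu hc.1 hc.2.1 hc.2.2] at h4
  rw [← h4]
  funext t
  simp only [qrefl, Pi.sub_apply, hE]

theorem reflCheck_sound {j : ℕ} {wit : List (Q8 × ℕ × ℕ)} (h : reflCheck j wit = true) {k : ℕ}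
    (hk : k < 315) :
    reflCheck1 (cvec j) (cvec k) (wit.getD k (Q8.zero, 0, 0)).1
      (U.getD (wit.getD k (Q8.zero, 0, 0)).2.1 Q8.zero) (cvec (wit.getD k (Q8.zero, 0, 0)).2.2) = true := by
  unfold reflCheck at h
  rw [List.all_eq_true] at h
  exact h k (List.mem_range.mpr hk)

theorem refl0_ok : reflCheck 13 reflWit0 = true := by decide +kernel
theorem refl1_ok : reflCheck 277 reflWit1 = true := by decide +kernel
theorem refl2_ok : reflCheck 4 reflWit2 = true := by decide +kernel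
theorem refl3_ok : reflCheck 195 reflWit3 = true := by decide +kernel

end Cfsg.Agent.Lib.Helper11.Ico
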