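import Cfsg.Agent.Lib.Helper11.IcoData

/-!
# Witnesses for the action of four reflections on the 315 canonical minimal vectors (helper11)

For the generator number `g` (reflection in `cvec (gidx[g])`) and the line `k`:
`reflWit[g][k] = (e, ui, k')` with `½ (c_k · r) = e` and `c_k − e r = U[ui] • c_{k'}`.
-/

set_option autoImplicit false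
set_option maxRecDepth 100000

namespace Cfsg.Agent.Lib.Helper11.Ico

/-- indices (in `C`) of the four generating reflections -/
def gidx : List ℕ := [13, 277, 4, 195]

def reflWit0 : List (Q8 × ℕ × ℕ) :=
  [(⟨2, 0, 0, 0, 0, 0, 2, 0⟩, 59, 15),
   (⟨2, 0, 0, 0, 2, 0, 0, 0⟩, 58, 14),
   (⟨0, 0, 0, 0, 0, 0, 0, 0⟩, 119, 2),
   (⟨2, 0, 2, 0, 0, 0, 0, 0⟩, 45, 12),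
   (⟨2, 0, 0, 0, 0, 0, 0, 0⟩, 60, 85),
   (⟨2, 0, 0, 0, 0, 0, 0, 0⟩, 60, 83),
   (⟨2, 0, 0, 0, 0, 0, 0, 0⟩, 60, 80),
   (⟨2, 0, 0, 0, 0, 0, 0, 0⟩, 60, 86),
   (⟨2, 0, 0, 0, 0, 0, 0, 0⟩, 60, 81),
   (⟨2, 0, 0, 0, 0, 0, 0, 0⟩, 60, 87),
   (⟨2, 0, 0, 0, 0, 0, 0, 0⟩, 60, 84),
   (⟨2, 0, 0, 0, 0, 0, 0, 0⟩, 60, 82),
   (⟨2, 0, -2, 0, 0, 0, 0, 0⟩, 74, 3),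
   (⟨4, 0, 0, 0, 0, 0, 0, 0⟩, 0, 13),
   (⟨2, 0, 0, 0, -2, 0, 0, 0⟩, 61, 1),
   (⟨2, 0, 0, 0, 0, 0, -2, 0⟩, 60, 0),
   (⟨2, -1, 0, 0, 1, -1, 1, 0⟩, 42, 165),
   (⟨2, -1, 0, 0, 1, -1, 1, 0⟩, 42, 164),
   (⟨1, 0, -1, 0, 1, -2, 1, 0⟩, 49, 175),
   (⟨1, 0, -1, 0, 1, -2, 1, 0⟩, 49, 174),
   (⟨2, 0, -1, 0, 1, -1, 0, 1⟩, 109, 271),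
   (⟨2, 0, -1, 0, 1, -1, 0, 1⟩, 109, 270),
   (⟨2, 0, -1, 1, 0, -1, 1, 0⟩, 96, 283),
   (⟨2, 0, -1, 1, 0, -1, 1, 0⟩, 96, 282),
   (⟨1, 0, 0, -1, 1, -1, 0, 0⟩, 23, 184),
   (⟨1, 0, 0, -1, 1, -1, 0, 0⟩, 23, 185),
   (⟨1, 0, 0, 0, 0, -1, 1, -1⟩, 10, 196),
   (⟨1, 0, 0, 0, 0, -1, 1, -1⟩, 10, 197),
   (⟨2, 0, 0, 0, 0, 0, 0, 0⟩, 70, 292),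
   (⟨2, 0, 0, 0, 0, 0, 0, 0⟩, 70, 293),
   (⟨1, 1, -1, 0, 0, -1, 0, 0⟩, 77, 302),
   (⟨1, 1, -1, 0, 0, -1, 0, 0⟩, 77, 303),
   (⟨2, 0, 0, -1, 1, 0, 1, -1⟩, 84, 163),
   (⟨2, 0, 0, -1, 1, 0, 1, -1⟩, 84, 162),
   (⟨1, 0, -1, 0, 1, 0, 1, -2⟩, 48, 198),
   (⟨1, 0, -1, 0, 1, 0, 1, -2⟩, 48, 199),
   (⟨1, 0, 0, 0, 0, 1, 1, -1⟩, 12, 173),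
   (⟨1, 0, 0, 0, 0, 1, 1, -1⟩, 12, 172),
   (⟨2, -1, -1, 0, 0, 0, 1, -1⟩, 90, 284),
   (⟨2, -1, -1, 0, 0, 0, 1, -1⟩, 90, 285),
   (⟨1, 1, 0, 0, 1, 0, 0, -1⟩, 29, 183),
   (⟨1, 1, 0, 0, 1, 0, 0, -1⟩, 29, 182),
   (⟨2, 0, -1, 0, 1, -1, 0, -1⟩, 107, 294),
   (⟨2, 0, -1, 0, 1, -1, 0, -1⟩, 107, 295),
   (⟨2, 0, 0, 0, 0, 0, 0, 0⟩, 71, 269),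
   (⟨2, 0, 0, 0, 0, 0, 0, 0⟩, 71, 268),
   (⟨1, 0, -1, 1, 0, 0, 0, -1⟩, 35, 304),
   (⟨1, 0, -1, 1, 0, 0, 0, -1⟩, 35, 305),
   (⟨1, 0, -1, 1, 0, 0, 0, 1⟩, 36, 169),
   (⟨1, 0, -1, 1, 0, 0, 0, 1⟩, 36, 168),
   (⟨2, 0, 0, 0, 0, 0, 0, 0⟩, 72, 200),
   (⟨2, 0, 0, 0, 0, 0, 0, 0⟩, 72, 201),
   (⟨2, 0, -1, 0, -1, 1, 0, 1⟩, 110, 170),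
   (⟨2, 0, -1, 0, -1, 1, 0, 1⟩, 110, 171),
   (⟨1, 1, 0, 0, -1, 0, 0, 1⟩, 30, 287),
   (⟨1, 1, 0, 0, -1, 0, 0, 1⟩, 30, 286),
   (⟨2, -1, -1, 0, 0, 0, -1, 1⟩, 89, 180),
   (⟨2, -1, -1, 0, 0, 0, -1, 1⟩, 89, 181),
   (⟨1, 0, 0, 0, 0, -1, -1, 1⟩, 9, 297),
   (⟨1, 0, 0, 0, 0, -1, -1, 1⟩, 9, 296),
   (⟨1, 0, -1, 0, -1, 0, -1, 2⟩, 47, 267),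
   (⟨1, 0, -1, 0, -1, 0, -1, 2⟩, 47, 266),
   (⟨2, 0, 0, -1, -1, 0, -1, 1⟩, 83, 298),
   (⟨2, 0, 0, -1, -1, 0, -1, 1⟩, 83, 299),
   (⟨1, 1, -1, 0, 0, 1, 0, 0⟩, 78, 166),
   (⟨1, 1, -1, 0, 0, 1, 0, 0⟩, 78, 167),
   (⟨2, 0, 0, 0, 0, 0, 0, 0⟩, 73, 177),
   (⟨2, 0, 0, 0, 0, 0, 0, 0⟩, 73, 176),
   (⟨1, 0, 0, 0, 0, 1, -1, 1⟩, 11, 272),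
   (⟨1, 0, 0, 0, 0, 1, -1, 1⟩, 11, 273),
   (⟨1, 0, 0, -1, -1, 1, 0, 0⟩, 24, 289),
   (⟨1, 0, 0, -1, -1, 1, 0, 0⟩, 24, 288),
   (⟨2, 0, -1, 1, 0, 1, -1, 0⟩, 95, 178),
   (⟨2, 0, -1, 1, 0, 1, -1, 0⟩, 95, 179),
   (⟨2, 0, -1, 0, -1, 1, 0, -1⟩, 108, 195),
   (⟨2, 0, -1, 0, -1, 1, 0, -1⟩, 108, 194),
   (⟨1, 0, -1, 0, -1, 2, -1, 0⟩, 46, 290),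
   (⟨1, 0, -1, 0, -1, 2, -1, 0⟩, 46, 291),
   (⟨2, -1, 0, 0, -1, 1, -1, 0⟩, 41, 301),
   (⟨2, -1, 0, 0, -1, 1, -1, 0⟩, 41, 300),
   (⟨0, 0, 0, 0, 0, 0, 2, 0⟩, 59, 6),
   (⟨0, 0, 0, 0, 0, 0, 2, 0⟩, 59, 8),
   (⟨0, 0, 0, 0, 0, 0, 2, 0⟩, 59, 11),
   (⟨0, 0, 0, 0, 0, 0, 2, 0⟩, 59, 5),
   (⟨0, 0, 0, 0, 0, 0, 2, 0⟩, 59, 10),
   (⟨0, 0, 0, 0, 0, 0, 2, 0⟩, 59, 4),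
   (⟨0, 0, 0, 0, 0, 0, 2, 0⟩, 59, 7),
   (⟨0, 0, 0, 0, 0, 0, 2, 0⟩, 59, 9),
   (⟨0, 0, 0, 0, 0, 0, 0, 0⟩, 119, 88),
   (⟨0, 0, 0, 0, -2, 0, -2, 0⟩, 58, 314),
   (⟨-1, -1, 0, 1, 0, 0, 1, 0⟩, 4, 263),
   (⟨-1, -1, 0, 1, 0, 0, 1, 0⟩, 4, 262),
   (⟨1, -1, 0, 1, 0, 0, 1, 0⟩, 118, 264),
   (⟨1, -1, 0, 1, 0, 0, 1, 0⟩, 118, 265),
   (⟨0, -1, 1, 1, 1, 0, 0, 0⟩, 19, 259),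
   (⟨0, -1, 1, 1, 1, 0, 0, 0⟩, 19, 258),
   (⟨0, -1, -1, 1, 1, 0, 0, 0⟩, 101, 261),
   (⟨0, -1, -1, 1, 1, 0, 0, 0⟩, 101, 260),
   (⟨0, -1, 1, 0, 0, 0, 1, -1⟩, 20, 143),
   (⟨0, -1, 1, 0, 0, 0, 1, -1⟩, 20, 142),
   (⟨0, -1, -1, 2, 0, 0, 1, -1⟩, 102, 144),
   (⟨0, -1, -1, 2, 0, 0, 1, -1⟩, 102, 145),
   (⟨-1, 0, 0, 1, 1, -1, 0, 0⟩, 3, 138),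
   (⟨-1, 0, 0, 1, 1, -1, 0, 0⟩, 3, 139),
   (⟨1, -2, 0, 1, 1, -1, 0, 0⟩, 117, 140),
   (⟨1, -2, 0, 1, 1, -1, 0, 0⟩, 117, 141),
   (⟨-1, 0, 0, 1, -1, 1, 0, 0⟩, 2, 135),
   (⟨-1, 0, 0, 1, -1, 1, 0, 0⟩, 2, 134),
   (⟨1, -2, 0, 1, -1, 1, 0, 0⟩, 116, 137),
   (⟨1, -2, 0, 1, -1, 1, 0, 0⟩, 116, 136),
   (⟨0, -1, 1, 0, 0, 0, -1, 1⟩, 17, 131),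
   (⟨0, -1, 1, 0, 0, 0, -1, 1⟩, 17, 130),
   (⟨0, -1, -1, 2, 0, 0, -1, 1⟩, 99, 132),
   (⟨0, -1, -1, 2, 0, 0, -1, 1⟩, 99, 133),
   (⟨0, -1, 1, 1, -1, 0, 0, 0⟩, 18, 206),
   (⟨0, -1, 1, 1, -1, 0, 0, 0⟩, 18, 207),
   (⟨0, -1, -1, 1, -1, 0, 0, 0⟩, 100, 208),
   (⟨0, -1, -1, 1, -1, 0, 0, 0⟩, 100, 209),
   (⟨-1, -1, 0, 1, 0, 0, -1, 0⟩, 1, 203),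
   (⟨-1, -1, 0, 1, 0, 0, -1, 0⟩, 1, 202),
   (⟨1, -1, 0, 1, 0, 0, -1, 0⟩, 115, 204),
   (⟨1, -1, 0, 1, 0, 0, -1, 0⟩, 115, 205),
   (⟨-1, 1, 2, -1, 0, 0, 1, 0⟩, 20, 279),
   (⟨-1, 1, 2, -1, 0, 0, 1, 0⟩, 20, 278),
   (⟨-1, 1, 0, -1, 0, 0, 1, 0⟩, 102, 280),
   (⟨-1, 1, 0, -1, 0, 0, 1, 0⟩, 102, 281),
   (⟨-2, 1, 1, -1, 1, 0, 0, 0⟩, 3, 274),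
   (⟨-2, 1, 1, -1, 1, 0, 0, 0⟩, 3, 275),
   (⟨0, 1, 1, -1, 1, 0, 0, 0⟩, 117, 276),
   (⟨0, 1, 1, -1, 1, 0, 0, 0⟩, 117, 277),
   (⟨-1, 0, 1, -1, 0, 0, 0, 1⟩, 4, 111),
   (⟨-1, 0, 1, -1, 0, 0, 0, 1⟩, 4, 110),
   (⟨-1, 2, 1, -1, 0, 0, 0, 1⟩, 118, 112),
   (⟨-1, 2, 1, -1, 0, 0, 0, 1⟩, 118, 113),
   (⟨-1, 1, 1, 0, 0, 1, 0, 0⟩, 19, 107),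
   (⟨-1, 1, 1, 0, 0, 1, 0, 0⟩, 19, 106),
   (⟨-1, 1, 1, -2, 0, 1, 0, 0⟩, 101, 109),
   (⟨-1, 1, 1, -2, 0, 1, 0, 0⟩, 101, 108),
   (⟨-1, 1, 1, 0, 0, -1, 0, 0⟩, 18, 102),
   (⟨-1, 1, 1, 0, 0, -1, 0, 0⟩, 18, 103),
   (⟨-1, 1, 1, -2, 0, -1, 0, 0⟩, 100, 104),
   (⟨-1, 1, 1, -2, 0, -1, 0, 0⟩, 100, 105),
   (⟨-1, 0, 1, -1, 0, 0, 0, -1⟩, 1, 99),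
   (⟨-1, 0, 1, -1, 0, 0, 0, -1⟩, 1, 98),
   (⟨-1, 2, 1, -1, 0, 0, 0, -1⟩, 115, 100),
   (⟨-1, 2, 1, -1, 0, 0, 0, -1⟩, 115, 101),
   (⟨-2, 1, 1, -1, -1, 0, 0, 0⟩, 2, 191),
   (⟨-2, 1, 1, -1, -1, 0, 0, 0⟩, 2, 190),
   (⟨0, 1, 1, -1, -1, 0, 0, 0⟩, 116, 193),
   (⟨0, 1, 1, -1, -1, 0, 0, 0⟩, 116, 192),
   (⟨-1, 1, 2, -1, 0, 0, -1, 0⟩, 17, 187),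
   (⟨-1, 1, 2, -1, 0, 0, -1, 0⟩, 17, 186),
   (⟨-1, 1, 0, -1, 0, 0, -1, 0⟩, 99, 188),
   (⟨-1, 1, 0, -1, 0, 0, -1, 0⟩, 99, 189),
   (⟨-1, 0, 1, 0, 1, 0, 1, 0⟩, 61, 312),
   (⟨-1, 0, 1, 0, 1, 0, 1, 0⟩, 61, 306),
   (⟨-1, 0, 1, 0, 1, 0, 1, 0⟩, 61, 309),
   (⟨-1, 0, 1, 0, 1, 0, 1, 0⟩, 61, 311),
   (⟨-1, 0, 1, 0, 1, 0, 1, 0⟩, 61, 308),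
   (⟨-1, 0, 1, 0, 1, 0, 1, 0⟩, 61, 310),
   (⟨-1, 0, 1, 0, 1, 0, 1, 0⟩, 61, 313),
   (⟨-1, 0, 1, 0, 1, 0, 1, 0⟩, 61, 307),
   (⟨-1, -1, 2, -1, 0, 0, 1, 0⟩, 77, 33),
   (⟨-1, -1, 2, -1, 0, 0, 1, 0⟩, 77, 32),
   (⟨-1, 1, 2, -1, 0, 0, 1, 0⟩, 35, 17),
   (⟨-1, 1, 2, -1, 0, 0, 1, 0⟩, 35, 16),
   (⟨-1, -1, 0, 1, 0, 0, 1, 0⟩, 83, 64),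
   (⟨-1, -1, 0, 1, 0, 0, 1, 0⟩, 83, 65),
   (⟨-1, 1, 0, 1, 0, 0, 1, 0⟩, 41, 49),
   (⟨-1, 1, 0, 1, 0, 0, 1, 0⟩, 41, 48),
   (⟨-1, 0, 2, 0, 0, 1, 1, -1⟩, 107, 52),
   (⟨-1, 0, 2, 0, 0, 1, 1, -1⟩, 107, 53),
   (⟨-1, 0, 0, 0, 0, 1, 1, -1⟩, 9, 37),
   (⟨-1, 0, 0, 0, 0, 1, 1, -1⟩, 9, 36),
   (⟨-2, 0, 1, 0, 1, -1, 0, 1⟩, 70, 19),
   (⟨-2, 0, 1, 0, 1, -1, 0, 1⟩, 70, 18),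
   (⟨0, 0, 1, 0, 1, -1, 0, 1⟩, 46, 67),
   (⟨0, 0, 1, 0, 1, -1, 0, 1⟩, 46, 66),
   (⟨-2, 1, 1, 1, 1, 0, 0, 0⟩, 90, 72),
   (⟨-2, 1, 1, 1, 1, 0, 0, 0⟩, 90, 73),
   (⟨-2, 1, 1, -1, 1, 0, 0, 0⟩, 96, 56),
   (⟨-2, 1, 1, -1, 1, 0, 0, 0⟩, 96, 57),
   (⟨0, -1, 1, 1, 1, 0, 0, 0⟩, 24, 41),
   (⟨0, -1, 1, 1, 1, 0, 0, 0⟩, 24, 40),
   (⟨0, -1, 1, -1, 1, 0, 0, 0⟩, 30, 24),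
   (⟨0, -1, 1, -1, 1, 0, 0, 0⟩, 30, 25),
   (⟨-2, 1, 1, 0, 0, 0, 1, -1⟩, 4, 151),
   (⟨-2, 1, 1, 0, 0, 0, 1, -1⟩, 4, 150),
   (⟨0, -1, 1, 0, 0, 0, 1, -1⟩, 118, 152),
   (⟨0, -1, 1, 0, 0, 0, 1, -1⟩, 118, 153),
   (⟨-1, 0, 2, -1, 1, -1, 0, 0⟩, 19, 147),
   (⟨-1, 0, 2, -1, 1, -1, 0, 0⟩, 19, 146),
   (⟨-1, 0, 0, 1, 1, -1, 0, 0⟩, 101, 149),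
   (⟨-1, 0, 0, 1, 1, -1, 0, 0⟩, 101, 148),
   (⟨-1, 0, 2, 0, 0, -1, 1, -1⟩, 109, 75),
   (⟨-1, 0, 2, 0, 0, -1, 1, -1⟩, 109, 74),
   (⟨-1, 0, 0, 0, 0, -1, 1, -1⟩, 11, 26),
   (⟨-1, 0, 0, 0, 0, -1, 1, -1⟩, 11, 27),
   (⟨-2, 0, 1, 0, 1, -1, 0, -1⟩, 71, 34),
   (⟨-2, 0, 1, 0, 1, -1, 0, -1⟩, 71, 35),
   (⟨0, 0, 1, 0, 1, -1, 0, -1⟩, 47, 50),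
   (⟨0, 0, 1, 0, 1, -1, 0, -1⟩, 47, 51),
   (⟨-1, 0, 1, 1, 0, 0, 0, 1⟩, 20, 119),
   (⟨-1, 0, 1, 1, 0, 0, 0, 1⟩, 20, 118),
   (⟨-1, 0, 1, -1, 0, 0, 0, 1⟩, 102, 120),
   (⟨-1, 0, 1, -1, 0, 0, 0, 1⟩, 102, 121),
   (⟨-1, -1, 1, 0, 0, 1, 0, 0⟩, 3, 114),
   (⟨-1, -1, 1, 0, 0, 1, 0, 0⟩, 3, 115),
   (⟨-1, 1, 1, 0, 0, 1, 0, 0⟩, 117, 116),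
   (⟨-1, 1, 1, 0, 0, 1, 0, 0⟩, 117, 117),
   (⟨-1, 0, 1, 0, -1, 0, 1, 0⟩, 60, 254),
   (⟨-1, 0, 1, 0, -1, 0, 1, 0⟩, 60, 252),
   (⟨-1, 0, 1, 0, -1, 0, 1, 0⟩, 60, 256),
   (⟨-1, 0, 1, 0, -1, 0, 1, 0⟩, 60, 250),
   (⟨-1, 0, 1, 0, -1, 0, 1, 0⟩, 60, 257),
   (⟨-1, 0, 1, 0, -1, 0, 1, 0⟩, 60, 251),
   (⟨-1, 0, 1, 0, -1, 0, 1, 0⟩, 60, 255),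
   (⟨-1, 0, 1, 0, -1, 0, 1, 0⟩, 60, 253),
   (⟨-2, 0, 2, 0, 0, 0, 0, 0⟩, 0, 225),
   (⟨-2, 0, 2, 0, 0, 0, 0, 0⟩, 0, 224),
   (⟨-2, 0, 2, 0, 0, 0, 0, 0⟩, 0, 223),
   (⟨-2, 0, 2, 0, 0, 0, 0, 0⟩, 0, 222),
   (⟨-2, 0, 2, 0, 0, 0, 0, 0⟩, 0, 221),
   (⟨-2, 0, 2, 0, 0, 0, 0, 0⟩, 0, 220),
   (⟨-2, 0, 2, 0, 0, 0, 0, 0⟩, 0, 219),
   (⟨-2, 0, 2, 0, 0, 0, 0, 0⟩, 0, 218),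
   (⟨-2, 0, 0, 0, 0, 0, 0, 0⟩, 45, 239),
   (⟨-2, 0, 0, 0, 0, 0, 0, 0⟩, 45, 237),
   (⟨-2, 0, 0, 0, 0, 0, 0, 0⟩, 45, 234),
   (⟨-2, 0, 0, 0, 0, 0, 0, 0⟩, 45, 240),
   (⟨-2, 0, 0, 0, 0, 0, 0, 0⟩, 45, 235),
   (⟨-2, 0, 0, 0, 0, 0, 0, 0⟩, 45, 241),
   (⟨-2, 0, 0, 0, 0, 0, 0, 0⟩, 45, 238),
   (⟨-2, 0, 0, 0, 0, 0, 0, 0⟩, 45, 236),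
   (⟨0, 0, 2, 0, 0, 0, 0, 0⟩, 74, 228),
   (⟨0, 0, 2, 0, 0, 0, 0, 0⟩, 74, 230),
   (⟨0, 0, 2, 0, 0, 0, 0, 0⟩, 74, 233),
   (⟨0, 0, 2, 0, 0, 0, 0, 0⟩, 74, 227),
   (⟨0, 0, 2, 0, 0, 0, 0, 0⟩, 74, 232),
   (⟨0, 0, 2, 0, 0, 0, 0, 0⟩, 74, 226),
   (⟨0, 0, 2, 0, 0, 0, 0, 0⟩, 74, 229),
   (⟨0, 0, 2, 0, 0, 0, 0, 0⟩, 74, 231),
   (⟨0, 0, 0, 0, 0, 0, 0, 0⟩, 119, 242),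
   (⟨0, 0, 0, 0, 0, 0, 0, 0⟩, 119, 243),
   (⟨0, 0, 0, 0, 0, 0, 0, 0⟩, 119, 244),
   (⟨0, 0, 0, 0, 0, 0, 0, 0⟩, 119, 245),
   (⟨0, 0, 0, 0, 0, 0, 0, 0⟩, 119, 246),
   (⟨0, 0, 0, 0, 0, 0, 0, 0⟩, 119, 247),
   (⟨0, 0, 0, 0, 0, 0, 0, 0⟩, 119, 248),
   (⟨0, 0, 0, 0, 0, 0, 0, 0⟩, 119, 249),
   (⟨-1, 0, 1, 0, 1, 0, -1, 0⟩, 59, 213),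
   (⟨-1, 0, 1, 0, 1, 0, -1, 0⟩, 59, 215),
   (⟨-1, 0, 1, 0, 1, 0, -1, 0⟩, 59, 211),
   (⟨-1, 0, 1, 0, 1, 0, -1, 0⟩, 59, 217),
   (⟨-1, 0, 1, 0, 1, 0, -1, 0⟩, 59, 210),
   (⟨-1, 0, 1, 0, 1, 0, -1, 0⟩, 59, 216),
   (⟨-1, 0, 1, 0, 1, 0, -1, 0⟩, 59, 212),
   (⟨-1, 0, 1, 0, 1, 0, -1, 0⟩, 59, 214),
   (⟨-1, -1, 1, 0, 0, -1, 0, 0⟩, 2, 95),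
   (⟨-1, -1, 1, 0, 0, -1, 0, 0⟩, 2, 94),
   (⟨-1, 1, 1, 0, 0, -1, 0, 0⟩, 116, 97),
   (⟨-1, 1, 1, 0, 0, -1, 0, 0⟩, 116, 96),
   (⟨-1, 0, 1, 1, 0, 0, 0, -1⟩, 17, 91),
   (⟨-1, 0, 1, 1, 0, 0, 0, -1⟩, 17, 90),
   (⟨-1, 0, 1, -1, 0, 0, 0, -1⟩, 99, 92),
   (⟨-1, 0, 1, -1, 0, 0, 0, -1⟩, 99, 93),
   (⟨-2, 0, 1, 0, -1, 1, 0, 1⟩, 72, 61),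
   (⟨-2, 0, 1, 0, -1, 1, 0, 1⟩, 72, 60),
   (⟨0, 0, 1, 0, -1, 1, 0, 1⟩, 48, 45),
   (⟨0, 0, 1, 0, -1, 1, 0, 1⟩, 48, 44),
   (⟨-1, 0, 2, 0, 0, 1, -1, 1⟩, 108, 21),
   (⟨-1, 0, 2, 0, 0, 1, -1, 1⟩, 108, 20),
   (⟨-1, 0, 0, 0, 0, 1, -1, 1⟩, 10, 68),
   (⟨-1, 0, 0, 0, 0, 1, -1, 1⟩, 10, 69),
   (⟨-1, 0, 2, -1, -1, 1, 0, 0⟩, 18, 126),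
   (⟨-1, 0, 2, -1, -1, 1, 0, 0⟩, 18, 127),
   (⟨-1, 0, 0, 1, -1, 1, 0, 0⟩, 100, 128),
   (⟨-1, 0, 0, 1, -1, 1, 0, 0⟩, 100, 129),
   (⟨-2, 1, 1, 0, 0, 0, -1, 1⟩, 1, 123),
   (⟨-2, 1, 1, 0, 0, 0, -1, 1⟩, 1, 122),
   (⟨0, -1, 1, 0, 0, 0, -1, 1⟩, 115, 124),
   (⟨0, -1, 1, 0, 0, 0, -1, 1⟩, 115, 125),
   (⟨-2, 1, 1, 1, -1, 0, 0, 0⟩, 89, 23),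
   (⟨-2, 1, 1, 1, -1, 0, 0, 0⟩, 89, 22),
   (⟨-2, 1, 1, -1, -1, 0, 0, 0⟩, 95, 38),
   (⟨-2, 1, 1, -1, -1, 0, 0, 0⟩, 95, 39),
   (⟨0, -1, 1, 1, -1, 0, 0, 0⟩, 23, 55),
   (⟨0, -1, 1, 1, -1, 0, 0, 0⟩, 23, 54),
   (⟨0, -1, 1, -1, -1, 0, 0, 0⟩, 29, 71),
   (⟨0, -1, 1, -1, -1, 0, 0, 0⟩, 29, 70),
   (⟨-2, 0, 1, 0, -1, 1, 0, -1⟩, 73, 76),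
   (⟨-2, 0, 1, 0, -1, 1, 0, -1⟩, 73, 77),
   (⟨0, 0, 1, 0, -1, 1, 0, -1⟩, 49, 28),
   (⟨0, 0, 1, 0, -1, 1, 0, -1⟩, 49, 29),
   (⟨-1, 0, 2, 0, 0, -1, -1, 1⟩, 110, 42),
   (⟨-1, 0, 2, 0, 0, -1, -1, 1⟩, 110, 43),
   (⟨-1, 0, 0, 0, 0, -1, -1, 1⟩, 12, 59),
   (⟨-1, 0, 0, 0, 0, -1, -1, 1⟩, 12, 58),
   (⟨-1, -1, 2, -1, 0, 0, -1, 0⟩, 78, 62),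
   (⟨-1, -1, 2, -1, 0, 0, -1, 0⟩, 78, 63),
   (⟨-1, 1, 2, -1, 0, 0, -1, 0⟩, 36, 79),
   (⟨-1, 1, 2, -1, 0, 0, -1, 0⟩, 36, 78),
   (⟨-1, -1, 0, 1, 0, 0, -1, 0⟩, 84, 30),
   (⟨-1, -1, 0, 1, 0, 0, -1, 0⟩, 84, 31),
   (⟨-1, 1, 0, 1, 0, 0, -1, 0⟩, 42, 46),
   (⟨-1, 1, 0, 1, 0, 0, -1, 0⟩, 42, 47),
   (⟨-1, 0, 1, 0, -1, 0, -1, 0⟩, 58, 155),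
   (⟨-1, 0, 1, 0, -1, 0, -1, 0⟩, 58, 161),
   (⟨-1, 0, 1, 0, -1, 0, -1, 0⟩, 58, 158),
   (⟨-1, 0, 1, 0, -1, 0, -1, 0⟩, 58, 156),
   (⟨-1, 0, 1, 0, -1, 0, -1, 0⟩, 58, 159),
   (⟨-1, 0, 1, 0, -1, 0, -1, 0⟩, 58, 157),
   (⟨-1, 0, 1, 0, -1, 0, -1, 0⟩, 58, 154),
   (⟨-1, 0, 1, 0, -1, 0, -1, 0⟩, 58, 160),
   (⟨-2, 0, 2, 0, 0, 0, 0, 0⟩, 61, 89)]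

def reflWit1 : List (Q8 × ℕ × ℕ) :=
  [(⟨-1, 0, -2, 1, 1, -1, 0, 0⟩, 7, 196),
   (⟨-2, 1, -1, 0, 0, 0, -1, 1⟩, 34, 296),
   (⟨-1, 0, -2, 1, -1, 1, 0, 0⟩, 8, 285),
   (⟨-2, 1, -1, 0, 0, 0, 1, -1⟩, 33, 288),
   (⟨-1, 0, -1, -1, 0, 0, 0, 1⟩, 5, 254),
   (⟨-1, -1, -1, 0, 0, 1, 0, 0⟩, 21, 224),
   (⟨-1, -1, -1, 0, 0, -1, 0, 0⟩, 22, 159),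
   (⟨-1, 0, -1, 1, 0, 0, 0, 1⟩, 89, 108),
   (⟨-1, 0, -1, -1, 0, 0, 0, -1⟩, 6, 239),
   (⟨-1, 1, -1, 0, 0, 1, 0, 0⟩, 41, 100),
   (⟨-1, 1, -1, 0, 0, -1, 0, 0⟩, 42, 106),
   (⟨-1, 0, -1, 1, 0, 0, 0, -1⟩, 90, 113),
   (⟨0, -1, -1, 0, 0, 0, -1, 1⟩, 30, 127),
   (⟨-1, 0, 0, -1, 1, -1, 0, 0⟩, 77, 129),
   (⟨0, -1, -1, 0, 0, 0, 1, -1⟩, 29, 122),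
   (⟨-1, 0, 0, -1, -1, 1, 0, 0⟩, 78, 151),
   (⟨-2, 0, 0, 0, 0, 0, 0, 0⟩, 46, 184),
   (⟨-1, 1, 0, 0, 1, 0, 0, -1⟩, 82, 68),
   (⟨-1, 0, -1, 0, -1, 0, -1, 0⟩, 12, 250),
   (⟨-2, 0, -1, 1, 0, 1, -1, 0⟩, 55, 193),
   (⟨-1, 0, 0, -1, -1, 1, 0, 0⟩, 5, 298),
   (⟨-1, 0, 1, 0, -1, 0, -1, 0⟩, 107, 37),
   (⟨0, 0, 0, 0, 0, 0, 0, 0⟩, 119, 22),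
   (⟨0, -1, -1, 0, 0, 0, -1, -1⟩, 25, 126),
   (⟨-2, 1, 0, 0, -1, 1, 1, 0⟩, 15, 102),
   (⟨-2, 0, -1, 0, -1, 1, 0, -1⟩, 54, 87),
   (⟨-1, 0, -2, 0, 0, 1, 1, -1⟩, 17, 186),
   (⟨-1, 0, -1, 1, 0, 0, 0, -1⟩, 7, 161),
   (⟨0, 0, 0, -1, -1, 0, 1, -1⟩, 108, 56),
   (⟨-1, 0, 0, 0, 0, 1, 1, -1⟩, 1, 163),
   (⟨-1, -1, -1, 0, -2, 1, 0, 0⟩, 27, 278),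
   (⟨0, 0, -1, 0, -1, 1, 0, -1⟩, 0, 220),
   (⟨-2, 0, 0, 0, 0, 0, 0, 0⟩, 47, 240),
   (⟨-2, 1, -1, 0, 0, 0, 1, 1⟩, 37, 188),
   (⟨-1, 0, -2, 0, 0, 1, -1, 1⟩, 18, 192),
   (⟨-1, 0, -1, 1, 0, 0, 0, 1⟩, 7, 155),
   (⟨-1, 0, -1, 0, -1, 0, 1, 0⟩, 11, 164),
   (⟨0, 0, -1, 1, 0, 1, 1, 0⟩, 110, 21),
   (⟨-1, -1, 0, 0, 1, 0, 0, 1⟩, 13, 128),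
   (⟨0, 0, 0, 0, 0, 0, 0, 0⟩, 119, 39),
   (⟨-2, 0, -1, 0, -1, 1, 0, 1⟩, 68, 83),
   (⟨-1, 1, -1, 0, -2, 1, 0, 0⟩, 38, 104),
   (⟨-2, 0, 0, -1, -1, 0, -1, 1⟩, 53, 281),
   (⟨-1, 0, 0, 0, 0, 1, -1, 1⟩, 2, 251),
   (⟨-1, 0, 0, -1, -1, 1, 0, 0⟩, 6, 300),
   (⟨-1, 0, 1, 0, -1, 0, 1, 0⟩, 108, 72),
   (⟨0, -1, 0, 0, -1, 1, -1, 0⟩, 93, 52),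
   (⟨0, 0, -1, 0, -1, 1, 0, 1⟩, 0, 180),
   (⟨-1, 0, -1, 0, 1, 0, -1, 0⟩, 10, 199),
   (⟨0, 0, -1, 1, 0, -1, -1, 0⟩, 107, 79),
   (⟨-1, 1, -1, 0, 2, -1, 0, 0⟩, 39, 110),
   (⟨-2, 0, -1, 0, 1, -1, 0, -1⟩, 7, 82),
   (⟨0, -1, 0, 0, 1, -1, 1, 0⟩, 92, 46),
   (⟨0, 0, -1, 0, 1, -1, 0, -1⟩, 0, 194),
   (⟨-1, 0, -1, 1, 0, 0, 0, -1⟩, 8, 225),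
   (⟨-1, 0, -2, 0, 0, -1, 1, -1⟩, 19, 274),
   (⟨-1, 0, 1, 0, 1, 0, -1, 0⟩, 109, 28),
   (⟨-1, 0, 0, -1, 1, -1, 0, 0⟩, 5, 200),
   (⟨-2, 0, 0, 0, 0, 0, 0, 0⟩, 48, 252),
   (⟨-2, 1, -1, 0, 0, 0, -1, -1⟩, 40, 279),
   (⟨0, 0, 0, 0, 0, 0, 0, 0⟩, 119, 60),
   (⟨-1, -1, 0, 0, -1, 0, 0, -1⟩, 14, 150),
   (⟨-2, 0, 0, -1, 1, 0, 1, -1⟩, 50, 280),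
   (⟨-1, 0, 0, 0, 0, -1, 1, -1⟩, 3, 234),
   (⟨-1, 0, -2, 0, 0, -1, -1, 1⟩, 20, 187),
   (⟨-1, 0, -1, 1, 0, 0, 0, 1⟩, 8, 222),
   (⟨-2, 0, -1, 0, 1, -1, 0, 1⟩, 32, 86),
   (⟨-2, 1, 0, 0, 1, -1, -1, 0⟩, 16, 99),
   (⟨-1, 1, 0, 0, -1, 0, 0, 1⟩, 79, 17),
   (⟨-2, 0, 0, 0, 0, 0, 0, 0⟩, 49, 295),
   (⟨-1, 0, -1, 0, 1, 0, 1, 0⟩, 9, 238),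
   (⟨-2, 0, -1, 1, 0, -1, 1, 0⟩, 56, 275),
   (⟨0, 0, 0, -1, 1, 0, -1, 1⟩, 109, 45),
   (⟨-1, 0, 0, 0, 0, -1, -1, 1⟩, 4, 174),
   (⟨0, 0, -1, 0, 1, -1, 0, 1⟩, 0, 158),
   (⟨-1, -1, -1, 0, 2, -1, 0, 0⟩, 26, 189),
   (⟨0, -1, -1, 0, 0, 0, 1, 1⟩, 28, 123),
   (⟨0, 0, 0, 0, 0, 0, 0, 0⟩, 119, 77),
   (⟨-1, 0, 0, -1, 1, -1, 0, 0⟩, 6, 176),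
   (⟨-1, 0, 1, 0, 1, 0, 1, 0⟩, 110, 49),
   (⟨0, 0, -1, 0, 1, -1, 0, 1⟩, 70, 206),
   (⟨0, -1, -1, 1, 1, 0, 0, 0⟩, 83, 203),
   (⟨0, -1, -1, 1, 1, -2, 0, 0⟩, 14, 51),
   (⟨0, 0, -1, 2, 1, -1, 0, 1⟩, 51, 40),
   (⟨0, 0, -1, 0, 1, -1, 0, -1⟩, 71, 208),
   (⟨0, 1, -1, 1, 1, 0, 0, 0⟩, 41, 262),
   (⟨0, 1, -1, 1, 1, -2, 0, 0⟩, 21, 66),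
   (⟨0, 0, -1, 2, 1, -1, 0, -1⟩, 65, 25),
   (⟨0, 1, 0, 1, 0, -1, 0, -1⟩, 4, 94),
   (⟨1, -1, 1, -1, -1, 1, 1, -1⟩, 3, 134),
   (⟨0, 1, -1, 1, -1, 0, 0, 0⟩, 84, 230),
   (⟨0, 1, -1, 1, 1, 0, 0, 0⟩, 83, 210),
   (⟨0, 1, 0, 0, 1, -1, -1, 0⟩, 80, 246),
   (⟨0, 1, 0, 0, 1, -1, 1, 0⟩, 79, 211),
   (⟨0, 2, 0, 0, 0, 0, 0, 0⟩, 17, 88),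
   (⟨-2, 2, 0, 0, 0, 0, 0, 0⟩, 119, 276),
   (⟨0, 1, 1, 0, 0, 0, -1, 1⟩, 76, 244),
   (⟨0, 1, -1, 0, 0, 0, -1, 1⟩, 86, 232),
   (⟨-1, 2, -1, 0, 1, 0, 1, 0⟩, 115, 213),
   (⟨-1, 1, -1, 1, 1, -1, 1, -1⟩, 5, 67),
   (⟨1, 0, -1, 0, 1, 0, -1, 0⟩, 36, 9),
   (⟨1, 1, -1, 1, 1, -1, -1, 1⟩, 18, 125),
   (⟨-1, 1, -1, 1, -1, 1, -1, 1⟩, 6, 24),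
   (⟨-1, 2, -1, 0, -1, 0, -1, 0⟩, 118, 228),
   (⟨-1, 1, 1, -1, 1, -1, -1, 1⟩, 39, 41),
   (⟨-1, 2, 1, 0, 1, 0, -1, 0⟩, 100, 243),
   (⟨1, 0, -1, 0, -1, 0, 1, 0⟩, 35, 10),
   (⟨1, 1, -1, 1, -1, 1, 1, -1⟩, 19, 147),
   (⟨1, 0, 1, 0, 1, 0, 1, 0⟩, 96, 7),
   (⟨1, 1, 1, -1, 1, -1, 1, -1⟩, 1, 149),
   (⟨-1, 1, 1, -1, -1, 1, 1, -1⟩, 38, 50),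
   (⟨-1, 2, 1, 0, -1, 0, 1, 0⟩, 101, 308),
   (⟨1, 1, 1, -1, -1, 1, -1, 1⟩, 4, 152),
   (⟨1, 0, 1, 0, -1, 0, -1, 0⟩, 95, 11),
   (⟨0, 1, 1, 0, 0, 0, 1, -1⟩, 75, 310),
   (⟨0, 1, -1, 0, 0, 0, 1, -1⟩, 85, 212),
   (⟨2, 0, 0, 0, 0, 0, 0, 0⟩, 0, 135),
   (⟨0, 0, 0, 0, 0, 0, 0, 0⟩, 119, 117),
   (⟨0, 1, 0, 0, -1, 1, -1, 0⟩, 82, 226),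
   (⟨0, 1, 0, 0, -1, 1, 1, 0⟩, 81, 313),
   (⟨0, 1, 1, -1, -1, 0, 0, 0⟩, 78, 307),
   (⟨0, 1, 1, -1, 1, 0, 0, 0⟩, 77, 249),
   (⟨1, 0, -1, 0, 1, 0, 1, 0⟩, 24, 14),
   (⟨0, -1, 0, 1, 0, -1, 0, -1⟩, 25, 76),
   (⟨1, -2, -1, 0, 1, 0, -1, 0⟩, 116, 271),
   (⟨2, -1, 0, 1, 0, -1, 0, 1⟩, 3, 101),
   (⟨0, -1, 0, 1, 0, 1, 0, 1⟩, 28, 23),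
   (⟨1, 0, -1, 0, -1, 0, -1, 0⟩, 23, 12),
   (⟨0, -1, 0, -1, 0, -1, 0, 1⟩, 8, 38),
   (⟨1, 0, 1, 0, 1, 0, -1, 0⟩, 84, 13),
   (⟨1, -1, 1, 0, 0, 1, 0, 0⟩, 87, 195),
   (⟨1, -1, 1, 0, 0, -1, 0, 0⟩, 88, 181),
   (⟨1, -1, 0, 0, -1, 0, 0, 1⟩, 93, 162),
   (⟨1, -1, 0, 0, -1, 0, 0, -1⟩, 94, 201),
   (⟨2, -2, 0, 0, 0, 0, 0, 0⟩, 18, 89),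
   (⟨2, 0, 0, 0, 0, 0, 0, 0⟩, 0, 116),
   (⟨1, -1, 0, -1, 0, 0, 1, 0⟩, 95, 198),
   (⟨1, -1, 0, 1, 0, 0, 1, 0⟩, 89, 177),
   (⟨1, -1, 0, -1, 0, 0, -1, 0⟩, 96, 165),
   (⟨1, -1, 0, 1, 0, 0, -1, 0⟩, 90, 299),
   (⟨0, -2, 0, 0, 0, 0, 0, 0⟩, 119, 191),
   (⟨0, 0, 0, 0, 0, 0, 0, 0⟩, 119, 141),
   (⟨1, -1, 0, 0, 1, 0, 0, 1⟩, 91, 301),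
   (⟨1, -1, 0, 0, 1, 0, 0, -1⟩, 92, 175),
   (⟨1, -1, -1, 0, 0, 1, 0, 0⟩, 97, 185),
   (⟨1, -1, -1, 0, 0, -1, 0, 0⟩, 98, 294),
   (⟨1, -2, -1, 0, -1, 0, 1, 0⟩, 117, 182),
   (⟨2, -1, 0, 1, 0, 1, 0, -1⟩, 2, 107),
   (⟨1, -2, 1, 0, 1, 0, 1, 0⟩, 99, 179),
   (⟨2, -1, 0, -1, 0, -1, 0, -1⟩, 20, 109),
   (⟨0, -1, 0, -1, 0, 1, 0, -1⟩, 7, 61),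
   (⟨1, 0, 1, 0, -1, 0, 1, 0⟩, 83, 15),
   (⟨2, -1, 0, -1, 0, 1, 0, 1⟩, 17, 112),
   (⟨1, -2, 1, 0, -1, 0, -1, 0⟩, 102, 171),
   (⟨1, 1, 0, 0, 1, 0, 0, 1⟩, 91, 221),
   (⟨0, 0, 0, 1, 1, 0, -1, 1⟩, 14, 35),
   (⟨1, 0, -1, 0, 1, 0, -1, 0⟩, 116, 270),
   (⟨1, 1, 0, 1, 0, 0, -1, 0⟩, 90, 235),
   (⟨0, 0, -1, 0, 1, -1, 0, 1⟩, 0, 74),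
   (⟨0, 1, 0, 1, 0, -1, 0, 1⟩, 31, 6),
   (⟨1, 1, -1, 0, 0, -1, 0, 0⟩, 98, 257),
   (⟨0, 0, -1, 1, 0, -1, -1, 0⟩, 14, 27),
   (⟨0, 1, 0, 0, 1, -1, 1, 0⟩, 92, 132),
   (⟨0, 0, 0, 1, 1, 0, 1, -1⟩, 20, 29),
   (⟨0, 0, -1, 1, 0, -1, 1, 0⟩, 10, 36),
   (⟨0, 1, -1, 0, 0, 0, 1, -1⟩, 89, 138),
   (⟨2, -1, 0, 0, 1, -1, -1, 0⟩, 80, 266),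
   (⟨2, 0, 0, 1, 1, 0, -1, 1⟩, 55, 312),
   (⟨2, -1, -1, 0, 0, 0, -1, 1⟩, 86, 269),
   (⟨2, 0, -1, 1, 0, -1, -1, 0⟩, 69, 306),
   (⟨1, 0, -1, 0, 1, 0, 1, 0⟩, 115, 253),
   (⟨1, 1, -1, 1, 1, -1, 1, -1⟩, 115, 153),
   (⟨2, 0, -1, 0, 1, -1, 0, 1⟩, 70, 309),
   (⟨2, -1, -1, 1, 1, 0, 0, 0⟩, 83, 272),
   (⟨0, 0, 0, 1, -1, 0, -1, 1⟩, 17, 73),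
   (⟨0, 1, 0, 0, -1, 1, -1, 0⟩, 93, 143),
   (⟨0, 0, 1, -1, 0, -1, -1, 0⟩, 15, 78),
   (⟨0, 1, 1, 0, 0, 0, -1, 1⟩, 96, 137),
   (⟨1, 0, -1, 0, -1, 0, -1, 0⟩, 118, 236),
   (⟨1, 1, -1, 1, -1, 1, -1, 1⟩, 118, 148),
   (⟨0, 0, -1, 0, -1, 1, 0, 1⟩, 0, 47),
   (⟨0, 1, -1, 1, -1, 0, 0, 0⟩, 97, 131),
   (⟨1, 1, 1, -1, 1, -1, -1, 1⟩, 100, 146),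
   (⟨1, 0, 1, 0, 1, 0, -1, 0⟩, 100, 219),
   (⟨0, 0, 1, 0, 1, -1, 0, 1⟩, 73, 16),
   (⟨0, 1, 1, -1, 1, 0, 0, 0⟩, 88, 144),
   (⟨1, 0, -2, 1, 1, 1, 0, 0⟩, 4, 26),
   (⟨1, 0, -2, 1, -1, -1, 0, 0⟩, 1, 64),
   (⟨1, 0, 0, 0, 2, -1, 1, 1⟩, 40, 33),
   (⟨1, 0, 0, 0, 2, -1, -1, -1⟩, 27, 75),
   (⟨-2, 0, 0, 0, 0, 0, 0, 0⟩, 119, 314),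
   (⟨0, 2, 0, 0, 0, 0, 0, 0⟩, 119, 140),
   (⟨1, 0, -1, -1, 0, 0, -2, 1⟩, 3, 34),
   (⟨1, 0, 1, 1, 0, 0, -2, 1⟩, 64, 19),
   (⟨0, 0, -1, 0, 1, -1, 0, -1⟩, 0, 53),
   (⟨0, 1, -1, 1, 1, 0, 0, 0⟩, 98, 130),
   (⟨1, -1, -1, 1, 1, -1, -1, 1⟩, 14, 0),
   (⟨1, 0, -1, 0, 1, 0, -1, 0⟩, 116, 204),
   (⟨0, 1, -1, 0, 0, 0, -1, 1⟩, 90, 136),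
   (⟨0, 0, -1, 1, 0, 1, -1, 0⟩, 11, 48),
   (⟨0, 0, 0, -1, 1, 0, -1, 1⟩, 16, 57),
   (⟨0, 1, 0, 0, 1, -1, -1, 0⟩, 91, 133),
   (⟨1, 0, 1, 0, -1, 0, -1, 0⟩, 102, 214),
   (⟨2, 0, 0, 0, 0, 0, 0, 0⟩, 78, 81),
   (⟨1, 0, 1, 0, -1, 0, 1, 0⟩, 101, 197),
   (⟨0, 0, 0, 0, 0, 0, 0, 0⟩, 119, 205),
   (⟨2, 0, 0, 0, 0, 0, 0, 0⟩, 49, 80),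
   (⟨1, 0, 1, 0, 1, 0, 1, 0⟩, 99, 231),
   (⟨2, 0, 0, 0, 0, 0, 0, 0⟩, 48, 84),
   (⟨1, 0, -1, 0, -1, 0, 1, 0⟩, 117, 248),
   (⟨1, -1, -1, 0, 0, -1, 0, 0⟩, 78, 91),
   (⟨1, -1, 0, 0, 1, 0, 0, -1⟩, 82, 93),
   (⟨1, -1, 0, 1, 0, 0, 1, 0⟩, 76, 115),
   (⟨2, -1, 0, 1, 0, -1, 0, -1⟩, 102, 98),
   (⟨1, 0, -1, 0, 1, 0, 1, 0⟩, 115, 202),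
   (⟨2, 0, -1, 0, 1, -1, 0, -1⟩, 71, 273),
   (⟨2, 0, -1, 1, 0, -1, 1, 0⟩, 68, 303),
   (⟨2, 0, 0, 1, 1, 0, 1, -1⟩, 54, 304),
   (⟨1, 1, -1, 0, 0, 1, 0, 0⟩, 97, 237),
   (⟨1, 0, -1, 0, -1, 0, 1, 0⟩, 117, 183),
   (⟨0, 0, -1, 0, -1, 1, 0, -1⟩, 0, 31),
   (⟨1, 1, 0, 0, -1, 0, 0, -1⟩, 94, 154),
   (⟨0, 0, -1, 1, 0, 1, 1, 0⟩, 13, 65),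
   (⟨1, 1, 0, 1, 0, 0, 1, 0⟩, 89, 255),
   (⟨0, 1, 0, 1, 0, 1, 0, -1⟩, 32, 5),
   (⟨0, 0, 0, 1, -1, 0, 1, -1⟩, 13, 54),
   (⟨1, -1, 0, 0, -1, 0, 0, 1⟩, 79, 118),
   (⟨2, 0, -1, 0, -1, 1, 0, 1⟩, 72, 287),
   (⟨2, -1, 0, 1, 0, 1, 0, 1⟩, 99, 103),
   (⟨2, 0, 0, 1, -1, 0, -1, 1⟩, 57, 293),
   (⟨1, -1, -1, 0, 0, 1, 0, 0⟩, 77, 90),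
   (⟨1, 0, -1, 0, -1, 0, -1, 0⟩, 118, 207),
   (⟨1, -1, 0, 1, 0, 0, -1, 0⟩, 75, 97),
   (⟨2, 0, -1, 1, 0, 1, -1, 0⟩, 67, 268),
   (⟨0, 0, 1, -1, 0, -1, 1, 0⟩, 18, 63),
   (⟨1, 1, 0, -1, 0, 0, 1, 0⟩, 95, 157),
   (⟨1, 0, 1, 0, 1, 0, 1, 0⟩, 99, 178),
   (⟨1, 1, 1, 0, 0, -1, 0, 0⟩, 88, 218),
   (⟨0, 0, 0, -1, 1, 0, 1, -1⟩, 12, 70),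
   (⟨0, 1, 0, -1, 0, -1, 0, -1⟩, 15, 8),
   (⟨0, 0, 1, 0, 1, -1, 0, -1⟩, 72, 32),
   (⟨1, 1, 0, 0, 1, 0, 0, -1⟩, 92, 256),
   (⟨2, 0, 0, -1, 1, 0, -1, 1⟩, 63, 267),
   (⟨2, -1, 0, -1, 0, -1, 0, 1⟩, 117, 105),
   (⟨1, -1, 0, -1, 0, 0, -1, 0⟩, 85, 96),
   (⟨2, 0, 1, -1, 0, -1, -1, 0⟩, 53, 291),
   (⟨1, -1, 0, 0, 1, 0, 0, 1⟩, 81, 92),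
   (⟨2, 0, 1, 0, 1, -1, 0, 1⟩, 46, 283),
   (⟨1, 0, 1, 0, 1, 0, -1, 0⟩, 100, 209),
   (⟨1, -1, 1, 0, 0, -1, 0, 0⟩, 84, 121),
   (⟨0, 0, 0, -1, -1, 0, -1, 1⟩, 9, 18),
   (⟨0, 0, 1, -1, 0, 1, -1, 0⟩, 19, 43),
   (⟨0, 0, 1, 0, -1, 1, 0, 1⟩, 71, 58),
   (⟨1, 0, 1, 0, -1, 0, -1, 0⟩, 102, 170),
   (⟨0, 1, 0, -1, 0, 1, 0, 1⟩, 16, 4),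
   (⟨1, 1, 0, -1, 0, 0, -1, 0⟩, 96, 223),
   (⟨1, 1, 0, 0, -1, 0, 0, 1⟩, 93, 241),
   (⟨1, 1, 1, 0, 0, 1, 0, 0⟩, 87, 160),
   (⟨1, 0, 1, 0, 1, 0, -1, 0⟩, 100, 284),
   (⟨0, 0, 0, 0, 0, 0, 0, 0⟩, 119, 259),
   (⟨1, 0, -1, 0, -1, 0, -1, 0⟩, 118, 289),
   (⟨0, 0, 0, 0, 0, 0, 0, 0⟩, 119, 261),
   (⟨2, 0, 0, 0, 0, 0, 0, 0⟩, 36, 85),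
   (⟨1, 0, -1, 0, 1, 0, -1, 0⟩, 116, 311),
   (⟨0, 0, 0, 0, 0, 0, 0, 0⟩, 119, 264),
   (⟨1, 0, -1, 0, 1, 0, 1, 0⟩, 115, 297),
   (⟨2, -1, 0, 0, -1, 1, 1, 0⟩, 81, 166),
   (⟨2, 0, 0, 1, -1, 0, 1, -1⟩, 56, 242),
   (⟨2, 0, 1, -1, 0, -1, 1, 0⟩, 52, 233),
   (⟨2, -1, 1, 0, 0, 0, 1, -1⟩, 75, 168),
   (⟨1, 0, 1, 0, -1, 0, 1, 0⟩, 101, 156),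
   (⟨1, 1, 1, -1, -1, 1, 1, -1⟩, 101, 124),
   (⟨2, -1, 1, -1, -1, 0, 0, 0⟩, 78, 173),
   (⟨2, 0, 1, 0, -1, 1, 0, 1⟩, 48, 215),
   (⟨1, 0, -1, -1, 0, 0, 2, -1⟩, 2, 55),
   (⟨1, 0, 1, 1, 0, 0, 2, -1⟩, 63, 71),
   (⟨2, -2, 0, 0, 0, 0, 0, 0⟩, 119, 95),
   (⟨4, 0, 0, 0, 0, 0, 0, 0⟩, 0, 277),
   (⟨1, 0, 0, 0, -2, 1, 1, 1⟩, 26, 30),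
   (⟨1, 0, 0, 0, -2, 1, -1, -1⟩, 37, 59),
   (⟨1, 0, 2, -1, 1, 1, 0, 0⟩, 69, 62),
   (⟨1, 0, 2, -1, -1, -1, 0, 0⟩, 66, 42),
   (⟨2, -1, -1, 1, -1, 0, 0, 0⟩, 84, 286),
   (⟨2, 0, -1, 0, -1, 1, 0, -1⟩, 73, 247),
   (⟨1, 0, -1, 0, -1, 0, 1, 0⟩, 117, 258),
   (⟨1, -1, -1, 1, -1, 1, 1, -1⟩, 13, 2),
   (⟨2, -1, 1, -1, 1, 0, 0, 0⟩, 77, 282),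
   (⟨2, 0, 1, 0, 1, -1, 0, -1⟩, 47, 227),
   (⟨1, -1, 1, -1, 1, -1, 1, -1⟩, 44, 3),
   (⟨1, 0, 1, 0, 1, 0, 1, 0⟩, 99, 260),
   (⟨2, -1, -1, 0, 0, 0, 1, -1⟩, 85, 302),
   (⟨2, 0, -1, 1, 0, 1, 1, 0⟩, 66, 245),
   (⟨2, -1, 0, 0, 1, -1, 1, 0⟩, 79, 305),
   (⟨2, 0, 0, -1, 1, 0, 1, -1⟩, 62, 229),
   (⟨0, 1, 1, -1, -1, 0, 0, 0⟩, 87, 145),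
   (⟨0, 0, 1, 0, -1, 1, 0, -1⟩, 70, 69),
   (⟨1, -1, 1, -1, -1, 1, -1, 1⟩, 43, 1),
   (⟨1, 0, 1, 0, -1, 0, -1, 0⟩, 102, 265),
   (⟨0, 0, 1, -1, 0, 1, 1, 0⟩, 16, 20),
   (⟨0, 1, 1, 0, 0, 0, 1, -1⟩, 95, 139),
   (⟨0, 0, 0, -1, -1, 0, 1, -1⟩, 15, 44),
   (⟨0, 1, 0, 0, -1, 1, 1, 0⟩, 94, 142),
   (⟨2, -1, 1, 0, 0, 0, -1, 1⟩, 76, 290),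
   (⟨2, 0, 1, -1, 0, 1, -1, 0⟩, 51, 216),
   (⟨2, 0, 0, -1, -1, 0, -1, 1⟩, 65, 217),
   (⟨2, -1, 0, 0, -1, 1, -1, 0⟩, 82, 292),
   (⟨2, 0, 1, -1, 0, 1, 1, 0⟩, 50, 169),
   (⟨1, -1, 1, 0, 0, 1, 0, 0⟩, 83, 120),
   (⟨2, -1, 0, -1, 0, 1, 0, -1⟩, 116, 111),
   (⟨2, 0, 1, 0, -1, 1, 0, -1⟩, 49, 172),
   (⟨1, -1, 0, -1, 0, 0, 1, 0⟩, 86, 114),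
   (⟨1, 0, 1, 0, -1, 0, 1, 0⟩, 101, 263),
   (⟨2, 0, 0, -1, -1, 0, 1, -1⟩, 64, 167),
   (⟨1, -1, 0, 0, -1, 0, 0, -1⟩, 80, 119),
   (⟨2, 0, 0, 0, 0, 0, 0, 0⟩, 119, 190)]

def reflWit2 : List (Q8 × ℕ × ℕ) :=
  [(⟨2, 0, 0, 0, 0, 0, 0, 0⟩, 119, 87),
   (⟨2, 0, 0, 0, 0, 0, 0, 0⟩, 45, 81),
   (⟨2, 0, 0, 0, 0, 0, 0, 0⟩, 60, 82),
   (⟨2, 0, 0, 0, 0, 0, 0, 0⟩, 61, 83),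
   (⟨4, 0, 0, 0, 0, 0, 0, 0⟩, 0, 4),
   (⟨2, 0, -2, 0, 0, 0, 0, 0⟩, 74, 10),
   (⟨2, 0, 0, 0, 0, 0, 2, 0⟩, 59, 9),
   (⟨2, 0, 0, 0, 2, 0, 0, 0⟩, 58, 8),
   (⟨2, 0, 0, 0, -2, 0, 0, 0⟩, 61, 7),
   (⟨2, 0, 0, 0, 0, 0, -2, 0⟩, 60, 6),
   (⟨2, 0, 2, 0, 0, 0, 0, 0⟩, 45, 5),
   (⟨0, 0, 0, 0, 0, 0, 0, 0⟩, 119, 11),
   (⟨2, 0, 0, 0, 0, 0, 0, 0⟩, 58, 84),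
   (⟨2, 0, 0, 0, 0, 0, 0, 0⟩, 59, 85),
   (⟨2, 0, 0, 0, 0, 0, 0, 0⟩, 74, 86),
   (⟨2, 0, 0, 0, 0, 0, 0, 0⟩, 0, 80),
   (⟨2, 0, -1, 0, 1, -1, 0, 1⟩, 109, 159),
   (⟨1, 0, 0, 0, 0, -1, 1, -1⟩, 10, 308),
   (⟨2, 0, -1, 1, 0, -1, 1, 0⟩, 96, 160),
   (⟨1, 0, 0, -1, 1, -1, 0, 0⟩, 23, 307),
   (⟨1, 1, -1, 0, 0, -1, 0, 0⟩, 77, 157),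
   (⟨2, -1, 0, 0, 1, -1, 1, 0⟩, 42, 310),
   (⟨2, 0, 0, 0, 0, 0, 0, 0⟩, 70, 154),
   (⟨1, 0, -1, 0, 1, -2, 1, 0⟩, 49, 313),
   (⟨2, 0, 0, 0, 0, 0, 0, 0⟩, 70, 306),
   (⟨1, 0, -1, 0, 1, -2, 1, 0⟩, 49, 161),
   (⟨1, 1, -1, 0, 0, -1, 0, 0⟩, 77, 309),
   (⟨2, -1, 0, 0, 1, -1, 1, 0⟩, 42, 158),
   (⟨2, 0, -1, 1, 0, -1, 1, 0⟩, 96, 312),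
   (⟨1, 0, 0, -1, 1, -1, 0, 0⟩, 23, 155),
   (⟨2, 0, -1, 0, 1, -1, 0, 1⟩, 109, 311),
   (⟨1, 0, 0, 0, 0, -1, 1, -1⟩, 10, 156),
   (⟨2, -1, -1, 0, 0, 0, 1, -1⟩, 90, 238),
   (⟨1, 1, 0, 0, 1, 0, 0, -1⟩, 29, 229),
   (⟨2, 0, -1, 0, 1, -1, 0, -1⟩, 107, 231),
   (⟨1, 0, 0, 0, 0, 1, 1, -1⟩, 12, 236),
   (⟨2, 0, 0, 0, 0, 0, 0, 0⟩, 71, 234),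
   (⟨1, 0, -1, 0, 1, 0, 1, -2⟩, 48, 233),
   (⟨2, 0, 0, -1, 1, 0, 1, -1⟩, 84, 232),
   (⟨1, 0, -1, 1, 0, 0, 0, -1⟩, 35, 235),
   (⟨2, 0, 0, -1, 1, 0, 1, -1⟩, 84, 240),
   (⟨1, 0, -1, 1, 0, 0, 0, -1⟩, 35, 227),
   (⟨2, 0, 0, 0, 0, 0, 0, 0⟩, 71, 226),
   (⟨1, 0, -1, 0, 1, 0, 1, -2⟩, 48, 241),
   (⟨2, 0, -1, 0, 1, -1, 0, -1⟩, 107, 239),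
   (⟨1, 0, 0, 0, 0, 1, 1, -1⟩, 12, 228),
   (⟨2, -1, -1, 0, 0, 0, 1, -1⟩, 90, 230),
   (⟨1, 1, 0, 0, 1, 0, 0, -1⟩, 29, 237),
   (⟨2, 0, 0, -1, -1, 0, -1, 1⟩, 83, 224),
   (⟨1, 0, -1, 1, 0, 0, 0, 1⟩, 36, 243),
   (⟨2, 0, 0, 0, 0, 0, 0, 0⟩, 72, 242),
   (⟨1, 0, -1, 0, -1, 0, -1, 2⟩, 47, 225),
   (⟨2, 0, -1, 0, -1, 1, 0, 1⟩, 110, 247),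
   (⟨1, 0, 0, 0, 0, -1, -1, 1⟩, 9, 220),
   (⟨2, -1, -1, 0, 0, 0, -1, 1⟩, 89, 222),
   (⟨1, 1, 0, 0, -1, 0, 0, 1⟩, 30, 245),
   (⟨2, -1, -1, 0, 0, 0, -1, 1⟩, 89, 246),
   (⟨1, 1, 0, 0, -1, 0, 0, 1⟩, 30, 221),
   (⟨2, 0, -1, 0, -1, 1, 0, 1⟩, 110, 223),
   (⟨1, 0, 0, 0, 0, -1, -1, 1⟩, 9, 244),
   (⟨2, 0, 0, 0, 0, 0, 0, 0⟩, 72, 218),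
   (⟨1, 0, -1, 0, -1, 0, -1, 2⟩, 47, 249),
   (⟨2, 0, 0, -1, -1, 0, -1, 1⟩, 83, 248),
   (⟨1, 0, -1, 1, 0, 0, 0, 1⟩, 36, 219),
   (⟨2, 0, 0, 0, 0, 0, 0, 0⟩, 73, 250),
   (⟨1, 0, -1, 0, -1, 2, -1, 0⟩, 46, 217),
   (⟨1, 1, -1, 0, 0, 1, 0, 0⟩, 78, 213),
   (⟨2, -1, 0, 0, -1, 1, -1, 0⟩, 41, 254),
   (⟨2, 0, -1, 1, 0, 1, -1, 0⟩, 95, 256),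
   (⟨1, 0, 0, -1, -1, 1, 0, 0⟩, 24, 211),
   (⟨2, 0, -1, 0, -1, 1, 0, -1⟩, 108, 215),
   (⟨1, 0, 0, 0, 0, 1, -1, 1⟩, 11, 252),
   (⟨2, 0, -1, 0, -1, 1, 0, -1⟩, 108, 255),
   (⟨1, 0, 0, 0, 0, 1, -1, 1⟩, 11, 212),
   (⟨2, 0, -1, 1, 0, 1, -1, 0⟩, 95, 216),
   (⟨1, 0, 0, -1, -1, 1, 0, 0⟩, 24, 251),
   (⟨1, 1, -1, 0, 0, 1, 0, 0⟩, 78, 253),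
   (⟨2, -1, 0, 0, -1, 1, -1, 0⟩, 41, 214),
   (⟨2, 0, 0, 0, 0, 0, 0, 0⟩, 73, 210),
   (⟨1, 0, -1, 0, -1, 2, -1, 0⟩, 46, 257),
   (⟨2, 0, 0, 0, 0, 0, 0, 0⟩, 0, 15),
   (⟨0, 0, -2, 0, 0, 0, 0, 0⟩, 74, 1),
   (⟨0, 0, 0, 0, 0, 0, 2, 0⟩, 59, 2),
   (⟨0, 0, 0, 0, 2, 0, 0, 0⟩, 58, 3),
   (⟨0, 0, 0, 0, -2, 0, 0, 0⟩, 61, 12),
   (⟨0, 0, 0, 0, 0, 0, -2, 0⟩, 60, 13),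
   (⟨0, 0, 2, 0, 0, 0, 0, 0⟩, 45, 14),
   (⟨-2, 0, 0, 0, 0, 0, 0, 0⟩, 119, 0),
   (⟨-2, 0, 2, 0, 0, 0, 0, 0⟩, 0, 314),
   (⟨0, 0, 0, 0, 0, 0, 0, 0⟩, 119, 89),
   (⟨0, -1, -1, 2, 0, 0, -1, 1⟩, 99, 146),
   (⟨0, -1, 1, 0, 0, 0, 1, -1⟩, 20, 129),
   (⟨1, -2, 0, 1, 1, -1, 0, 0⟩, 117, 124),
   (⟨-1, 0, 0, 1, -1, 1, 0, 0⟩, 2, 151),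
   (⟨0, -1, -1, 2, 0, 0, 1, -1⟩, 102, 122),
   (⟨0, -1, 1, 0, 0, 0, -1, 1⟩, 17, 153),
   (⟨1, -2, 0, 1, -1, 1, 0, 0⟩, 116, 126),
   (⟨-1, 0, 0, 1, 1, -1, 0, 0⟩, 3, 149),
   (⟨1, -1, 0, 1, 0, 0, -1, 0⟩, 115, 190),
   (⟨-1, -1, 0, 1, 0, 0, 1, 0⟩, 4, 277),
   (⟨0, -1, -1, 1, -1, 0, 0, 0⟩, 100, 188),
   (⟨0, -1, 1, 1, 1, 0, 0, 0⟩, 19, 279),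
   (⟨0, -1, -1, 1, 1, 0, 0, 0⟩, 101, 192),
   (⟨0, -1, 1, 1, -1, 0, 0, 0⟩, 18, 275),
   (⟨1, -1, 0, 1, 0, 0, 1, 0⟩, 118, 280),
   (⟨-1, -1, 0, 1, 0, 0, -1, 0⟩, 1, 187),
   (⟨1, -1, 0, 1, 0, 0, 1, 0⟩, 118, 186),
   (⟨-1, -1, 0, 1, 0, 0, -1, 0⟩, 1, 281),
   (⟨0, -1, -1, 1, 1, 0, 0, 0⟩, 101, 274),
   (⟨0, -1, 1, 1, -1, 0, 0, 0⟩, 18, 193),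
   (⟨0, -1, -1, 1, -1, 0, 0, 0⟩, 100, 278),
   (⟨0, -1, 1, 1, 1, 0, 0, 0⟩, 19, 189),
   (⟨1, -1, 0, 1, 0, 0, -1, 0⟩, 115, 276),
   (⟨-1, -1, 0, 1, 0, 0, 1, 0⟩, 4, 191),
   (⟨1, -2, 0, 1, -1, 1, 0, 0⟩, 116, 148),
   (⟨-1, 0, 0, 1, 1, -1, 0, 0⟩, 3, 127),
   (⟨0, -1, -1, 2, 0, 0, 1, -1⟩, 102, 152),
   (⟨0, -1, 1, 0, 0, 0, -1, 1⟩, 17, 123),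
   (⟨1, -2, 0, 1, 1, -1, 0, 0⟩, 117, 150),
   (⟨-1, 0, 0, 1, -1, 1, 0, 0⟩, 2, 125),
   (⟨0, -1, -1, 2, 0, 0, -1, 1⟩, 99, 128),
   (⟨0, -1, 1, 0, 0, 0, 1, -1⟩, 20, 147),
   (⟨-1, 2, 1, -1, 0, 0, 0, -1⟩, 115, 94),
   (⟨-1, 0, 1, -1, 0, 0, 0, 1⟩, 4, 117),
   (⟨-1, 1, 1, -2, 0, -1, 0, 0⟩, 100, 92),
   (⟨-1, 1, 1, 0, 0, 1, 0, 0⟩, 19, 119),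
   (⟨-1, 1, 1, -2, 0, 1, 0, 0⟩, 101, 96),
   (⟨-1, 1, 1, 0, 0, -1, 0, 0⟩, 18, 115),
   (⟨-1, 2, 1, -1, 0, 0, 0, 1⟩, 118, 120),
   (⟨-1, 0, 1, -1, 0, 0, 0, -1⟩, 1, 91),
   (⟨-1, 1, 0, -1, 0, 0, -1, 0⟩, 99, 258),
   (⟨-1, 1, 2, -1, 0, 0, 1, 0⟩, 20, 209),
   (⟨0, 1, 1, -1, 1, 0, 0, 0⟩, 117, 204),
   (⟨-2, 1, 1, -1, -1, 0, 0, 0⟩, 2, 263),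
   (⟨-1, 1, 0, -1, 0, 0, 1, 0⟩, 102, 202),
   (⟨-1, 1, 2, -1, 0, 0, -1, 0⟩, 17, 265),
   (⟨0, 1, 1, -1, -1, 0, 0, 0⟩, 116, 206),
   (⟨-2, 1, 1, -1, 1, 0, 0, 0⟩, 3, 261),
   (⟨0, 1, 1, -1, -1, 0, 0, 0⟩, 116, 260),
   (⟨-2, 1, 1, -1, 1, 0, 0, 0⟩, 3, 207),
   (⟨-1, 1, 0, -1, 0, 0, 1, 0⟩, 102, 264),
   (⟨-1, 1, 2, -1, 0, 0, -1, 0⟩, 17, 203),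
   (⟨0, 1, 1, -1, 1, 0, 0, 0⟩, 117, 262),
   (⟨-2, 1, 1, -1, -1, 0, 0, 0⟩, 2, 205),
   (⟨-1, 1, 0, -1, 0, 0, -1, 0⟩, 99, 208),
   (⟨-1, 1, 2, -1, 0, 0, 1, 0⟩, 20, 259),
   (⟨-1, 2, 1, -1, 0, 0, 0, 1⟩, 118, 90),
   (⟨-1, 0, 1, -1, 0, 0, 0, -1⟩, 1, 121),
   (⟨-1, 1, 1, -2, 0, 1, 0, 0⟩, 101, 114),
   (⟨-1, 1, 1, 0, 0, -1, 0, 0⟩, 18, 97),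
   (⟨-1, 1, 1, -2, 0, -1, 0, 0⟩, 100, 118),
   (⟨-1, 1, 1, 0, 0, 1, 0, 0⟩, 19, 93),
   (⟨-1, 2, 1, -1, 0, 0, 0, -1⟩, 115, 116),
   (⟨-1, 0, 1, -1, 0, 0, 0, 1⟩, 4, 95),
   (⟨0, 0, 1, 0, -1, 1, 0, -1⟩, 49, 22),
   (⟨0, -1, 1, -1, 1, 0, 0, 0⟩, 30, 29),
   (⟨-1, 0, 0, 0, 0, -1, 1, -1⟩, 11, 31),
   (⟨-1, -1, 0, 1, 0, 0, -1, 0⟩, 84, 20),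
   (⟨-1, 1, 2, -1, 0, 0, 1, 0⟩, 35, 27),
   (⟨-1, 0, 2, 0, 0, 1, -1, 1⟩, 108, 16),
   (⟨-2, 1, 1, 1, -1, 0, 0, 0⟩, 89, 18),
   (⟨-2, 0, 1, 0, 1, -1, 0, 1⟩, 70, 25),
   (⟨0, 0, 2, 0, 0, 0, 0, 0⟩, 74, 183),
   (⟨-2, 0, 0, 0, 0, 0, 0, 0⟩, 45, 284),
   (⟨-1, 0, 1, 0, 1, 0, 1, 0⟩, 61, 197),
   (⟨-1, 0, 1, 0, -1, 0, -1, 0⟩, 58, 270),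
   (⟨-1, 0, 1, 0, -1, 0, 1, 0⟩, 60, 177),
   (⟨-1, 0, 1, 0, 1, 0, -1, 0⟩, 59, 290),
   (⟨0, 0, 0, 0, 0, 0, 0, 0⟩, 119, 168),
   (⟨-2, 0, 2, 0, 0, 0, 0, 0⟩, 0, 299),
   (⟨0, 0, 0, 0, 0, 0, 0, 0⟩, 119, 170),
   (⟨-2, 0, 2, 0, 0, 0, 0, 0⟩, 0, 297),
   (⟨0, 0, 2, 0, 0, 0, 0, 0⟩, 74, 199),
   (⟨-2, 0, 0, 0, 0, 0, 0, 0⟩, 45, 268),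
   (⟨-1, 0, 1, 0, 1, 0, 1, 0⟩, 61, 185),
   (⟨-1, 0, 1, 0, -1, 0, -1, 0⟩, 58, 282),
   (⟨-1, 0, 1, 0, -1, 0, 1, 0⟩, 60, 301),
   (⟨-1, 0, 1, 0, 1, 0, -1, 0⟩, 59, 166),
   (⟨-1, 0, 1, 0, -1, 0, 1, 0⟩, 60, 195),
   (⟨-1, 0, 1, 0, 1, 0, -1, 0⟩, 59, 272),
   (⟨0, 0, 0, 0, 0, 0, 0, 0⟩, 119, 180),
   (⟨-2, 0, 2, 0, 0, 0, 0, 0⟩, 0, 287),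
   (⟨0, 0, 2, 0, 0, 0, 0, 0⟩, 74, 305),
   (⟨-2, 0, 0, 0, 0, 0, 0, 0⟩, 45, 162),
   (⟨-1, 0, 1, 0, 1, 0, 1, 0⟩, 61, 293),
   (⟨-1, 0, 1, 0, -1, 0, -1, 0⟩, 58, 174),
   (⟨-1, 0, 1, -1, 0, 0, 0, -1⟩, 99, 106),
   (⟨-1, 0, 1, 1, 0, 0, 0, 1⟩, 20, 105),
   (⟨-1, 1, 1, 0, 0, 1, 0, 0⟩, 117, 100),
   (⟨-1, -1, 1, 0, 0, -1, 0, 0⟩, 2, 111),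
   (⟨-1, 0, 1, -1, 0, 0, 0, 1⟩, 102, 98),
   (⟨-1, 0, 1, 1, 0, 0, 0, -1⟩, 17, 113),
   (⟨-1, 1, 1, 0, 0, -1, 0, 0⟩, 116, 102),
   (⟨-1, -1, 1, 0, 0, 1, 0, 0⟩, 3, 109),
   (⟨-1, 0, 1, 0, -1, 0, 1, 0⟩, 60, 289),
   (⟨-1, 0, 1, 0, 1, 0, -1, 0⟩, 59, 178),
   (⟨-1, 0, 1, 0, 1, 0, 1, 0⟩, 61, 303),
   (⟨-1, 0, 1, 0, -1, 0, -1, 0⟩, 58, 164),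
   (⟨0, 0, 2, 0, 0, 0, 0, 0⟩, 74, 295),
   (⟨-2, 0, 0, 0, 0, 0, 0, 0⟩, 45, 172),
   (⟨0, 0, 0, 0, 0, 0, 0, 0⟩, 119, 200),
   (⟨-2, 0, 2, 0, 0, 0, 0, 0⟩, 0, 267),
   (⟨0, -1, 1, 0, 0, 0, -1, 1⟩, 115, 134),
   (⟨-2, 1, 1, 0, 0, 0, 1, -1⟩, 4, 141),
   (⟨-1, 0, 0, 1, -1, 1, 0, 0⟩, 100, 132),
   (⟨-1, 0, 2, -1, 1, -1, 0, 0⟩, 19, 143),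
   (⟨-1, 0, 0, 1, 1, -1, 0, 0⟩, 101, 136),
   (⟨-1, 0, 2, -1, -1, 1, 0, 0⟩, 18, 139),
   (⟨0, -1, 1, 0, 0, 0, 1, -1⟩, 118, 144),
   (⟨-2, 1, 1, 0, 0, 0, -1, 1⟩, 1, 131),
   (⟨0, 0, 1, 0, 1, -1, 0, 1⟩, 46, 78),
   (⟨0, -1, 1, -1, -1, 0, 0, 0⟩, 29, 69),
   (⟨-1, 0, 0, 0, 0, 1, -1, 1⟩, 10, 73),
   (⟨-1, -1, 0, 1, 0, 0, 1, 0⟩, 83, 66),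
   (⟨-1, 1, 2, -1, 0, 0, -1, 0⟩, 36, 77),
   (⟨-1, 0, 2, 0, 0, -1, 1, -1⟩, 109, 70),
   (⟨-2, 1, 1, 1, 1, 0, 0, 0⟩, 90, 74),
   (⟨-2, 0, 1, 0, -1, 1, 0, -1⟩, 73, 65),
   (⟨0, 0, 1, 0, 1, -1, 0, -1⟩, 47, 60),
   (⟨-1, 1, 0, 1, 0, 0, 1, 0⟩, 41, 63),
   (⟨-1, 0, 0, 0, 0, -1, -1, 1⟩, 12, 53),
   (⟨0, -1, 1, 1, -1, 0, 0, 0⟩, 23, 57),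
   (⟨-2, 1, 1, -1, 1, 0, 0, 0⟩, 96, 54),
   (⟨-1, 0, 2, 0, 0, 1, 1, -1⟩, 107, 58),
   (⟨-1, -1, 2, -1, 0, 0, -1, 0⟩, 78, 48),
   (⟨-2, 0, 1, 0, -1, 1, 0, 1⟩, 72, 51),
   (⟨0, 0, 1, 0, -1, 1, 0, 1⟩, 48, 42),
   (⟨-1, 1, 0, 1, 0, 0, -1, 0⟩, 42, 41),
   (⟨-1, 0, 0, 0, 0, 1, 1, -1⟩, 9, 45),
   (⟨0, -1, 1, 1, 1, 0, 0, 0⟩, 24, 33),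
   (⟨-2, 1, 1, -1, -1, 0, 0, 0⟩, 95, 46),
   (⟨-1, 0, 2, 0, 0, -1, -1, 1⟩, 110, 34),
   (⟨-1, -1, 2, -1, 0, 0, 1, 0⟩, 77, 38),
   (⟨-2, 0, 1, 0, 1, -1, 0, -1⟩, 71, 37),
   (⟨0, 0, 1, 0, -1, 1, 0, 1⟩, 48, 36),
   (⟨-1, 1, 0, 1, 0, 0, -1, 0⟩, 42, 39),
   (⟨-1, 0, 0, 0, 0, 1, 1, -1⟩, 9, 35),
   (⟨0, -1, 1, 1, 1, 0, 0, 0⟩, 24, 47),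
   (⟨-2, 1, 1, -1, -1, 0, 0, 0⟩, 95, 32),
   (⟨-1, 0, 2, 0, 0, -1, -1, 1⟩, 110, 44),
   (⟨-1, -1, 2, -1, 0, 0, 1, 0⟩, 77, 40),
   (⟨-2, 0, 1, 0, 1, -1, 0, -1⟩, 71, 43),
   (⟨0, 0, 1, 0, 1, -1, 0, -1⟩, 47, 50),
   (⟨-1, 1, 0, 1, 0, 0, 1, 0⟩, 41, 49),
   (⟨-1, 0, 0, 0, 0, -1, -1, 1⟩, 12, 59),
   (⟨0, -1, 1, 1, -1, 0, 0, 0⟩, 23, 55),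
   (⟨-2, 1, 1, -1, 1, 0, 0, 0⟩, 96, 56),
   (⟨-1, 0, 2, 0, 0, 1, 1, -1⟩, 107, 52),
   (⟨-1, -1, 2, -1, 0, 0, -1, 0⟩, 78, 62),
   (⟨-2, 0, 1, 0, -1, 1, 0, 1⟩, 72, 61),
   (⟨0, 0, 1, 0, 1, -1, 0, 1⟩, 46, 64),
   (⟨0, -1, 1, -1, -1, 0, 0, 0⟩, 29, 75),
   (⟨-1, 0, 0, 0, 0, 1, -1, 1⟩, 10, 71),
   (⟨-1, -1, 0, 1, 0, 0, 1, 0⟩, 83, 76),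
   (⟨-1, 1, 2, -1, 0, 0, -1, 0⟩, 36, 67),
   (⟨-1, 0, 2, 0, 0, -1, 1, -1⟩, 109, 72),
   (⟨-2, 1, 1, 1, 1, 0, 0, 0⟩, 90, 68),
   (⟨-2, 0, 1, 0, -1, 1, 0, -1⟩, 73, 79),
   (⟨0, -1, 1, 0, 0, 0, 1, -1⟩, 118, 130),
   (⟨-2, 1, 1, 0, 0, 0, -1, 1⟩, 1, 145),
   (⟨-1, 0, 0, 1, 1, -1, 0, 0⟩, 101, 138),
   (⟨-1, 0, 2, -1, -1, 1, 0, 0⟩, 18, 137),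
   (⟨-1, 0, 0, 1, -1, 1, 0, 0⟩, 100, 142),
   (⟨-1, 0, 2, -1, 1, -1, 0, 0⟩, 19, 133),
   (⟨0, -1, 1, 0, 0, 0, -1, 1⟩, 115, 140),
   (⟨-2, 1, 1, 0, 0, 0, 1, -1⟩, 4, 135),
   (⟨0, 0, 0, 0, 0, 0, 0, 0⟩, 119, 266),
   (⟨-2, 0, 2, 0, 0, 0, 0, 0⟩, 0, 201),
   (⟨0, 0, 2, 0, 0, 0, 0, 0⟩, 74, 173),
   (⟨-2, 0, 0, 0, 0, 0, 0, 0⟩, 45, 294),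
   (⟨-1, 0, 1, 0, 1, 0, 1, 0⟩, 61, 165),
   (⟨-1, 0, 1, 0, -1, 0, -1, 0⟩, 58, 302),
   (⟨-1, 0, 1, 0, -1, 0, 1, 0⟩, 60, 179),
   (⟨-1, 0, 1, 0, 1, 0, -1, 0⟩, 59, 288),
   (⟨-1, 1, 1, 0, 0, -1, 0, 0⟩, 116, 108),
   (⟨-1, -1, 1, 0, 0, 1, 0, 0⟩, 3, 103),
   (⟨-1, 0, 1, -1, 0, 0, 0, 1⟩, 102, 112),
   (⟨-1, 0, 1, 1, 0, 0, 0, -1⟩, 17, 99),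
   (⟨-1, 1, 1, 0, 0, 1, 0, 0⟩, 117, 110),
   (⟨-1, -1, 1, 0, 0, -1, 0, 0⟩, 2, 101),
   (⟨-1, 0, 1, -1, 0, 0, 0, -1⟩, 99, 104),
   (⟨-1, 0, 1, 1, 0, 0, 0, 1⟩, 20, 107),
   (⟨-1, 0, 1, 0, 1, 0, 1, 0⟩, 61, 175),
   (⟨-1, 0, 1, 0, -1, 0, -1, 0⟩, 58, 292),
   (⟨0, 0, 2, 0, 0, 0, 0, 0⟩, 74, 163),
   (⟨-2, 0, 0, 0, 0, 0, 0, 0⟩, 45, 304),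
   (⟨0, 0, 0, 0, 0, 0, 0, 0⟩, 119, 286),
   (⟨-2, 0, 2, 0, 0, 0, 0, 0⟩, 0, 181),
   (⟨-1, 0, 1, 0, -1, 0, 1, 0⟩, 60, 273),
   (⟨-1, 0, 1, 0, 1, 0, -1, 0⟩, 59, 194),
   (⟨-1, 0, 1, 0, -1, 0, 1, 0⟩, 60, 167),
   (⟨-1, 0, 1, 0, 1, 0, -1, 0⟩, 59, 300),
   (⟨-1, 0, 1, 0, 1, 0, 1, 0⟩, 61, 283),
   (⟨-1, 0, 1, 0, -1, 0, -1, 0⟩, 58, 184),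
   (⟨0, 0, 2, 0, 0, 0, 0, 0⟩, 74, 269),
   (⟨-2, 0, 0, 0, 0, 0, 0, 0⟩, 45, 198),
   (⟨0, 0, 0, 0, 0, 0, 0, 0⟩, 119, 296),
   (⟨-2, 0, 2, 0, 0, 0, 0, 0⟩, 0, 171),
   (⟨0, 0, 0, 0, 0, 0, 0, 0⟩, 119, 298),
   (⟨-2, 0, 2, 0, 0, 0, 0, 0⟩, 0, 169),
   (⟨-1, 0, 1, 0, -1, 0, 1, 0⟩, 60, 291),
   (⟨-1, 0, 1, 0, 1, 0, -1, 0⟩, 59, 176),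
   (⟨-1, 0, 1, 0, 1, 0, 1, 0⟩, 61, 271),
   (⟨-1, 0, 1, 0, -1, 0, -1, 0⟩, 58, 196),
   (⟨0, 0, 2, 0, 0, 0, 0, 0⟩, 74, 285),
   (⟨-2, 0, 0, 0, 0, 0, 0, 0⟩, 45, 182),
   (⟨0, 0, 1, 0, -1, 1, 0, -1⟩, 49, 24),
   (⟨0, -1, 1, -1, 1, 0, 0, 0⟩, 30, 19),
   (⟨-1, 0, 0, 0, 0, -1, 1, -1⟩, 11, 17),
   (⟨-1, -1, 0, 1, 0, 0, -1, 0⟩, 84, 26),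
   (⟨-1, 1, 2, -1, 0, 0, 1, 0⟩, 35, 21),
   (⟨-1, 0, 2, 0, 0, 1, -1, 1⟩, 108, 30),
   (⟨-2, 1, 1, 1, -1, 0, 0, 0⟩, 89, 28),
   (⟨-2, 0, 1, 0, 1, -1, 0, 1⟩, 70, 23),
   (⟨-2, 0, 2, 0, 0, 0, 0, 0⟩, 0, 88)]

def reflWit3 : List (Q8 × ℕ × ℕ) :=
  [(⟨0, -1, -1, -1, -1, 0, 0, 0⟩, 21, 153),
   (⟨-1, -1, -2, 1, 0, 0, 1, 0⟩, 23, 252),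
   (⟨-1, 0, 0, 0, 0, -1, 1, -1⟩, 108, 75),
   (⟨0, 0, -1, 0, 1, -1, 0, 1⟩, 119, 27),
   (⟨-1, 0, -1, 0, -1, 0, 1, 0⟩, 3, 178),
   (⟨-1, 0, -1, 0, 1, 0, 1, 0⟩, 1, 300),
   (⟨-2, 0, 0, 0, 0, 0, 0, 0⟩, 45, 290),
   (⟨0, 0, 0, 0, 0, 0, 0, 0⟩, 119, 7),
   (⟨-2, 0, -2, 0, 0, 0, 0, 0⟩, 77, 89),
   (⟨0, 0, -2, 0, 0, 0, 0, 0⟩, 0, 176),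
   (⟨-1, 0, -1, 0, -1, 0, -1, 0⟩, 4, 166),
   (⟨-1, 0, -1, 0, 1, 0, -1, 0⟩, 2, 288),
   (⟨-2, 0, -1, 0, -1, 1, 0, -1⟩, 49, 229),
   (⟨-1, 0, -2, 0, 0, 1, -1, 1⟩, 10, 248),
   (⟨-1, 1, 0, -1, 0, 0, -1, 0⟩, 113, 51),
   (⟨-2, 1, -1, 1, 1, 0, 0, 0⟩, 8, 96),
   (⟨0, -1, -1, 1, -1, 0, 0, 0⟩, 112, 54),
   (⟨-1, 0, -1, 0, -1, 0, -1, 0⟩, 12, 268),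
   (⟨-1, 0, -1, 0, -1, 0, 1, -2⟩, 11, 175),
   (⟨0, 0, -1, 0, -1, 1, 0, -1⟩, 0, 245),
   (⟨-2, 0, -2, 0, 0, 0, 0, 0⟩, 70, 238),
   (⟨-2, 0, -1, 0, -1, 1, 0, -1⟩, 61, 80),
   (⟨-1, 1, -1, 0, -2, 1, 0, 0⟩, 37, 110),
   (⟨-1, 0, 0, -1, -1, 1, 0, 0⟩, 5, 208),
   (⟨-1, 0, -1, 1, 0, 0, 0, -1⟩, 7, 281),
   (⟨-1, -1, 0, 0, 1, 0, 0, -1⟩, 13, 133),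
   (⟨0, 0, 0, 0, 0, 0, 0, 0⟩, 119, 26),
   (⟨0, 0, 1, 0, -1, 1, 0, -1⟩, 119, 3),
   (⟨-2, 0, 0, 0, 0, 0, 0, 0⟩, 46, 270),
   (⟨-1, 0, 0, 0, 0, 1, -1, 1⟩, 73, 67),
   (⟨-1, 0, 0, 0, 0, 1, 1, -1⟩, 1, 253),
   (⟨-2, 1, 0, -1, 0, 1, 0, -1⟩, 35, 285),
   (⟨-1, -1, -1, 0, 0, 1, 0, 0⟩, 26, 297),
   (⟨0, -1, -1, 0, 0, 0, -1, 1⟩, 25, 148),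
   (⟨0, -1, 0, 0, -1, 1, 1, 0⟩, 29, 138),
   (⟨-1, 0, 0, 1, -1, 1, 0, 0⟩, 90, 99),
   (⟨-1, -1, 0, 0, -1, 0, 0, 1⟩, 22, 302),
   (⟨-1, 0, 1, -1, 0, 0, 0, 1⟩, 77, 147),
   (⟨-1, 0, 0, 0, -2, 1, -1, 1⟩, 4, 172),
   (⟨-1, 0, -1, 0, -1, 0, -1, 0⟩, 94, 90),
   (⟨-1, 0, 0, 0, 0, 1, 1, 1⟩, 1, 305),
   (⟨-1, 0, -1, 0, 1, 0, 1, 0⟩, 79, 151),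
   (⟨-1, 0, -2, 1, -1, 1, 0, 0⟩, 16, 185),
   (⟨-1, 1, -1, 0, 0, 1, 0, 0⟩, 40, 92),
   (⟨-1, 0, -1, -1, 0, 0, 0, 1⟩, 13, 203),
   (⟨-2, 1, -1, 0, 0, 0, -1, 1⟩, 38, 274),
   (⟨-2, 1, 0, 0, -1, 1, 1, 0⟩, 33, 180),
   (⟨-1, 1, 0, 0, -1, 0, 0, 1⟩, 42, 95),
   (⟨-1, 0, -1, 0, -1, 0, 1, 0⟩, 92, 71),
   (⟨-1, 0, 0, 0, 0, -1, 1, -1⟩, 3, 266),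
   (⟨0, 0, 0, 0, 0, 0, 0, 0⟩, 119, 50),
   (⟨0, -1, -1, 1, 1, 0, 0, 0⟩, 104, 14),
   (⟨-2, 0, 0, 0, 0, 0, 0, 0⟩, 48, 276),
   (⟨-1, -1, 0, -1, 0, 0, -1, 0⟩, 4, 131),
   (⟨0, 0, 0, -1, 1, 0, 1, -1⟩, 105, 16),
   (⟨-1, 0, 0, -1, 1, -1, 0, 0⟩, 5, 269),
   (⟨-1, 0, -1, 1, 0, 0, 0, -1⟩, 8, 226),
   (⟨-2, 0, -1, 1, 0, -1, -1, 0⟩, 57, 182),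
   (⟨-1, 1, -1, 1, 1, -1, 1, -1⟩, 34, 109),
   (⟨0, 0, -1, 0, 1, -1, 0, -1⟩, 0, 204),
   (⟨-2, 1, 0, -1, 0, -1, 0, -1⟩, 36, 215),
   (⟨-2, 0, -1, 0, 1, -1, 0, -1⟩, 98, 85),
   (⟨-1, 0, -1, 0, 1, 0, -1, 0⟩, 10, 249),
   (⟨-1, 0, 0, 0, 2, -1, -1, -1⟩, 2, 299),
   (⟨-1, -1, 0, -1, 0, 0, 1, 0⟩, 3, 134),
   (⟨-1, 0, -1, 0, 1, 0, 1, 0⟩, 9, 279),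
   (⟨0, 0, -1, 0, 1, -1, 0, 1⟩, 0, 271),
   (⟨0, 0, -2, 0, 0, 0, 0, 0⟩, 46, 29),
   (⟨-1, 0, -1, 0, 1, -2, 1, 0⟩, 11, 219),
   (⟨-2, 0, -1, 0, 1, -1, 0, 1⟩, 96, 86),
   (⟨-1, 0, 0, -1, 1, -1, 0, 0⟩, 6, 267),
   (⟨0, -1, 0, 0, 1, -1, -1, 0⟩, 93, 48),
   (⟨-2, 1, -1, 0, 0, 0, 1, 1⟩, 39, 168),
   (⟨-1, 0, -1, 1, 0, 0, 0, 1⟩, 8, 251),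
   (⟨0, 0, 0, 0, 0, 0, 0, 0⟩, 119, 74),
   (⟨-1, 0, 0, 0, 0, 1, -1, 1⟩, 109, 2),
   (⟨-2, 0, 1, 0, 1, -1, 0, 1⟩, 45, 292),
   (⟨-2, 0, 0, 0, 0, 0, 0, 0⟩, 49, 232),
   (⟨-1, 0, 0, 0, 0, -1, -1, 1⟩, 4, 207),
   (⟨-1, 1, -1, 1, 1, -1, -1, 1⟩, 33, 106),
   (⟨1, -1, 0, -1, -2, 0, 1, 0⟩, 58, 21),
   (⟨1, -1, 0, -1, 0, 0, 1, 0⟩, 29, 224),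
   (⟨0, -1, 1, -1, -1, 0, 0, 0⟩, 78, 212),
   (⟨2, -1, 1, -1, -1, 0, 0, 0⟩, 21, 123),
   (⟨0, -1, -1, -1, -1, 0, 0, 0⟩, 111, 114),
   (⟨2, -1, -1, -1, -1, 0, 0, 0⟩, 87, 61),
   (⟨1, -1, 0, -1, -2, 0, -1, 0⟩, 89, 69),
   (⟨1, -1, 0, -1, 0, 0, -1, 0⟩, 30, 237),
   (⟨0, 0, 0, 0, 0, 0, -2, 0⟩, 60, 194),
   (⟨-1, 2, 1, 0, 1, 0, -1, 0⟩, 84, 8),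
   (⟨1, 0, 0, 0, 0, -1, 1, -1⟩, 91, 39),
   (⟨0, 1, 1, -1, -1, 0, 0, 0⟩, 78, 173),
   (⟨1, 0, 0, -1, -1, 1, 0, 0⟩, 37, 43),
   (⟨0, 1, -1, 0, 0, 0, -1, 1⟩, 86, 184),
   (⟨0, 1, 0, 0, 1, -1, 1, 0⟩, 79, 181),
   (⟨1, 0, -1, 1, 0, 0, 0, 1⟩, 35, 47),
   (⟨-1, 1, -1, 1, -1, 1, 1, -1⟩, 13, 15),
   (⟨0, 0, 0, 0, 0, 0, 0, 0⟩, 119, 97),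
   (⟨2, 0, 0, 0, 0, 0, 0, 0⟩, 0, 139),
   (⟨1, 0, 1, 0, 1, 0, -1, 0⟩, 95, 35),
   (⟨0, 1, 0, 0, -1, 1, 1, 0⟩, 81, 231),
   (⟨1, 1, 1, 0, -2, 1, 0, 0⟩, 14, 142),
   (⟨1, 1, 0, 0, 1, 0, 2, -1⟩, 11, 144),
   (⟨0, 1, -1, 0, 0, 0, 1, -1⟩, 85, 250),
   (⟨0, 1, -1, 1, -1, 0, 0, 0⟩, 84, 244),
   (⟨1, 1, -2, 1, 0, 0, -1, 0⟩, 15, 141),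
   (⟨-1, 1, 2, -1, 0, 0, 1, 0⟩, 44, 79),
   (⟨0, 1, 1, -1, 1, 0, 0, 0⟩, 77, 206),
   (⟨0, 1, 1, 0, 0, 0, -1, 1⟩, 76, 205),
   (⟨-1, 1, 0, 0, -1, 0, -2, 1⟩, 43, 58),
   (⟨-1, 1, -1, 0, 2, -1, 0, 0⟩, 40, 22),
   (⟨0, 1, 0, 0, 1, -1, -1, 0⟩, 80, 209),
   (⟨-1, 2, -1, 0, -1, 0, 1, 0⟩, 117, 264),
   (⟨-2, 2, 0, 0, 0, 0, 0, 0⟩, 119, 161),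
   (⟨0, 2, 0, 0, 0, 0, 0, 0⟩, 106, 84),
   (⟨1, 1, 1, -1, 1, -1, -1, 1⟩, 2, 122),
   (⟨-1, 2, 1, -1, 0, 0, 0, -1⟩, 104, 170),
   (⟨0, 1, 0, 0, -1, 1, -1, 0⟩, 82, 158),
   (⟨0, 1, 1, 0, 0, 0, 1, -1⟩, 75, 156),
   (⟨-1, 2, 0, 1, 1, -1, 0, 0⟩, 105, 165),
   (⟨0, 1, -1, 1, 1, 0, 0, 0⟩, 83, 160),
   (⟨-1, 2, 0, 0, 0, 1, -1, 1⟩, 108, 162),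
   (⟨2, -1, 0, -1, 0, -1, 0, 1⟩, 19, 115),
   (⟨2, -2, 0, 0, 0, 0, 0, 0⟩, 32, 83),
   (⟨1, -2, 0, -1, -1, 1, 0, 0⟩, 112, 295),
   (⟨1, -1, 0, 0, -1, 0, 0, -1⟩, 94, 312),
   (⟨1, -1, 0, 1, 0, 0, 1, 0⟩, 89, 310),
   (⟨1, -2, 0, 0, 0, -1, 1, -1⟩, 109, 287),
   (⟨1, -2, -1, 1, 0, 0, 0, 1⟩, 113, 282),
   (⟨1, -1, -1, 0, 0, 1, 0, 0⟩, 97, 308),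
   (⟨1, -1, -1, 0, 0, -1, 0, 0⟩, 98, 277),
   (⟨0, -1, 0, 0, -1, -1, -1, 0⟩, 17, 53),
   (⟨1, -1, 0, -1, 0, 0, 1, 0⟩, 95, 280),
   (⟨0, -1, -1, -1, 1, 0, 0, 0⟩, 8, 25),
   (⟨0, -1, 1, 0, 0, 0, 1, 1⟩, 18, 64),
   (⟨1, -1, 0, 0, -1, 0, 0, 1⟩, 93, 278),
   (⟨0, -2, 0, 0, 0, 0, 0, 0⟩, 119, 306),
   (⟨1, -2, 1, 0, 1, 0, -1, 0⟩, 100, 193),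
   (⟨1, 0, -1, 0, -1, 0, 1, 0⟩, 24, 34),
   (⟨2, 0, 0, 0, 0, 0, 0, 0⟩, 0, 98),
   (⟨1, -1, 0, 0, 1, 0, 0, -1⟩, 92, 247),
   (⟨2, -1, -1, 0, 0, 0, -1, -1⟩, 6, 105),
   (⟨2, -1, 1, 1, -1, 0, 0, 0⟩, 7, 101),
   (⟨1, -1, 0, 1, 0, 0, -1, 0⟩, 90, 228),
   (⟨2, -1, 0, 0, 1, 1, 1, 0⟩, 10, 102),
   (⟨1, -1, 1, 0, 0, 1, 0, 0⟩, 87, 257),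
   (⟨1, -1, 1, 0, 0, -1, 0, 0⟩, 88, 303),
   (⟨1, 0, 1, -1, 0, 0, 0, -1⟩, 84, 37),
   (⟨1, 0, 0, 0, 0, 1, -1, 1⟩, 28, 33),
   (⟨1, -1, 0, -1, 0, 0, -1, 0⟩, 96, 296),
   (⟨1, -1, 0, 0, 1, 0, 0, 1⟩, 91, 304),
   (⟨1, 0, 0, 1, 1, -1, 0, 0⟩, 82, 41),
   (⟨0, 0, 0, 0, 0, 0, 0, 0⟩, 119, 152),
   (⟨0, -1, 0, 1, 0, 1, 0, -1⟩, 32, 0),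
   (⟨1, 0, -1, 0, -1, 0, 1, 0⟩, 117, 265),
   (⟨2, -1, 0, 0, -1, 1, 1, 0⟩, 81, 163),
   (⟨1, -1, 0, -1, 0, 0, 1, 0⟩, 86, 118),
   (⟨2, -1, -1, 0, 0, 0, 1, -1⟩, 85, 171),
   (⟨1, -1, 0, 0, -1, 0, 0, 1⟩, 79, 117),
   (⟨2, -1, -1, 1, -1, 0, 0, 0⟩, 84, 164),
   (⟨1, -1, -1, 0, 0, -1, 0, 0⟩, 78, 120),
   (⟨2, -2, 0, 0, 0, 0, 0, 0⟩, 119, 113),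
   (⟨2, -1, 0, 0, -1, -1, -1, 0⟩, 109, 121),
   (⟨2, -1, 0, 0, 1, -1, -1, 0⟩, 80, 155),
   (⟨2, -1, 1, -1, 1, 0, 0, 0⟩, 77, 159),
   (⟨2, -1, -1, -1, 1, 0, 0, 0⟩, 112, 119),
   (⟨0, 0, 0, 0, -2, 0, 0, 0⟩, 17, 10),
   (⟨2, 0, 0, 0, -2, 0, 0, 0⟩, 61, 301),
   (⟨1, 0, 0, -1, -1, 1, 2, 0⟩, 38, 72),
   (⟨1, 0, 0, -1, -1, 1, 0, 0⟩, 112, 256),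
   (⟨2, -1, 1, 0, 0, 0, 1, 1⟩, 113, 116),
   (⟨2, -1, 1, 0, 0, 0, -1, 1⟩, 76, 157),
   (⟨1, -1, 1, 0, -2, 1, 0, 0⟩, 17, 38),
   (⟨1, -1, 1, 0, 0, 1, 0, 0⟩, 83, 91),
   (⟨1, 0, 0, 0, 0, -1, 1, -1⟩, 109, 246),
   (⟨1, 0, -2, 0, 0, -1, 1, -1⟩, 10, 18),
   (⟨0, 0, -2, 0, 0, 0, 0, 0⟩, 0, 9),
   (⟨2, 0, -2, 0, 0, 0, 0, 0⟩, 74, 291),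
   (⟨0, 0, 0, 0, 0, 0, 2, 0⟩, 18, 4),
   (⟨2, 0, 0, 0, 0, 0, 2, 0⟩, 59, 289),
   (⟨1, -1, 0, 0, 1, 0, 2, -1⟩, 44, 46),
   (⟨1, -1, 0, 0, 1, 0, 0, -1⟩, 82, 94),
   (⟨1, 0, -1, 1, -2, 0, 0, 1⟩, 62, 57),
   (⟨1, 0, -1, 1, 0, 0, 0, 1⟩, 113, 233),
   (⟨1, -1, 0, 1, 0, 0, -1, 0⟩, 75, 93),
   (⟨1, -1, -2, 1, 0, 0, -1, 0⟩, 5, 42),
   (⟨2, 0, 1, -1, 0, 1, 1, 0⟩, 50, 259),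
   (⟨2, -1, 1, 0, 0, 0, 1, -1⟩, 75, 239),
   (⟨2, 0, 0, 1, -1, 0, -1, 1⟩, 57, 260),
   (⟨2, -1, 0, 0, -1, 1, -1, 0⟩, 82, 220),
   (⟨2, -1, -1, 1, 1, 0, 0, 0⟩, 83, 210),
   (⟨2, 0, -1, 0, 1, -1, 0, -1⟩, 71, 263),
   (⟨1, 0, -1, 0, -1, 0, 1, 0⟩, 117, 313),
   (⟨1, 1, -1, 1, -1, 1, 1, -1⟩, 117, 137),
   (⟨2, 0, 0, 0, 0, 0, 0, 0⟩, 59, 88),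
   (⟨4, 0, 0, 0, 0, 0, 0, 0⟩, 0, 195),
   (⟨2, 0, 1, 0, -1, 1, 0, -1⟩, 49, 235),
   (⟨2, 0, -1, 0, -1, 1, 0, -1⟩, 73, 222),
   (⟨2, 0, 0, 1, -1, 0, 1, -1⟩, 56, 241),
   (⟨2, 0, 0, 1, 1, 0, 1, -1⟩, 54, 214),
   (⟨2, 0, -1, 1, 0, 1, 1, 0⟩, 66, 216),
   (⟨2, 0, -1, 1, 0, 1, -1, 0⟩, 67, 218),
   (⟨1, 0, -1, 0, -1, 0, 1, 0⟩, 117, 275),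
   (⟨0, 1, 0, -1, 0, -1, 0, 1⟩, 8, 44),
   (⟨0, 0, -1, 0, 1, -1, 0, -1⟩, 0, 59),
   (⟨1, -1, 0, -1, 0, 0, -1, 0⟩, 85, 108),
   (⟨1, -1, 1, 0, 0, -1, 0, 0⟩, 84, 107),
   (⟨0, 0, 0, 1, -1, 0, -1, 1⟩, 17, 78),
   (⟨0, 0, 1, -1, 0, 1, 1, 0⟩, 16, 23),
   (⟨1, -1, 0, 0, 1, 0, 0, 1⟩, 81, 111),
   (⟨2, -1, 1, -1, -1, 0, 0, 0⟩, 78, 190),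
   (⟨1, 0, 0, -1, -1, 1, 0, 0⟩, 112, 225),
   (⟨2, 0, 0, 0, 0, 0, 0, 0⟩, 83, 82),
   (⟨1, 0, 1, -1, 0, 0, 0, -1⟩, 104, 234),
   (⟨2, 0, 0, -1, -1, 0, -1, 1⟩, 65, 199),
   (⟨1, 0, 1, -2, -1, 0, -1, 0⟩, 41, 60),
   (⟨2, 0, 1, -1, 0, -1, -1, 0⟩, 53, 200),
   (⟨1, 1, 0, -1, 0, 0, -1, 0⟩, 96, 262),
   (⟨2, 0, 1, -1, 0, -1, 1, 0⟩, 52, 201),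
   (⟨1, 0, 1, 0, 1, -2, 1, 0⟩, 10, 68),
   (⟨2, -1, 0, 0, 1, -1, 1, 0⟩, 79, 189),
   (⟨1, 0, 0, 0, 0, -1, 1, -1⟩, 109, 240),
   (⟨2, 0, 1, 0, 1, -1, 0, 1⟩, 46, 197),
   (⟨1, 1, 1, 0, 0, -1, 0, 0⟩, 88, 261),
   (⟨2, 0, 0, 0, 0, 0, 0, 0⟩, 24, 81),
   (⟨1, 0, 0, 1, 1, -1, 0, 0⟩, 105, 211),
   (⟨0, 0, 0, 1, -1, 0, 1, -1⟩, 13, 56),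
   (⟨1, 0, 0, 0, 0, -1, 1, -1⟩, 109, 293),
   (⟨0, 1, 1, 0, 0, 0, 1, -1⟩, 95, 143),
   (⟨1, 0, 1, 0, -1, 0, 1, -2⟩, 70, 12),
   (⟨0, 0, 0, 0, 0, 0, 0, 0⟩, 119, 230),
   (⟨1, -1, 0, 0, -1, 0, 0, -1⟩, 80, 100),
   (⟨0, 0, 1, 0, -1, 1, 0, -1⟩, 70, 77),
   (⟨1, 0, 1, -1, 0, 0, 0, -1⟩, 104, 183),
   (⟨1, 0, -1, 1, 0, 0, 0, 1⟩, 113, 213),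
   (⟨2, 0, -1, 0, 1, -1, 0, 1⟩, 70, 196),
   (⟨1, 1, 0, 0, 1, 0, 0, 1⟩, 91, 258),
   (⟨2, 0, 0, 0, 0, 0, 0, 0⟩, 23, 87),
   (⟨1, 0, -1, 0, 1, 0, -1, 2⟩, 49, 20),
   (⟨2, -1, -1, 0, 0, 0, -1, 1⟩, 86, 187),
   (⟨1, 0, 0, 0, 0, 1, -1, 1⟩, 108, 221),
   (⟨2, 0, 0, -1, 1, 0, -1, 1⟩, 63, 198),
   (⟨1, 0, 0, -1, -1, 1, 0, 0⟩, 112, 298),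
   (⟨0, 0, 0, 0, 0, 0, 0, 0⟩, 119, 243),
   (⟨1, -1, -1, 0, 0, 1, 0, 0⟩, 77, 104),
   (⟨0, 0, -1, 0, -1, 1, 0, -1⟩, 0, 19),
   (⟨1, 0, 0, 0, 0, 1, -1, 1⟩, 108, 174),
   (⟨0, 1, 0, 0, -1, 1, -1, 0⟩, 93, 140),
   (⟨1, 0, -1, 0, -1, 2, -1, 0⟩, 11, 13),
   (⟨0, 0, -1, 1, 0, 1, -1, 0⟩, 11, 62),
   (⟨1, -1, 0, 1, 0, 0, 1, 0⟩, 76, 103),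
   (⟨0, 0, -1, 1, 0, 1, 1, 0⟩, 13, 73),
   (⟨1, 0, -1, 2, 1, 0, 1, 0⟩, 30, 1),
   (⟨0, 0, 0, 1, 1, 0, 1, -1⟩, 20, 30),
   (⟨1, 0, -1, 1, 0, 0, 0, 1⟩, 113, 284),
   (⟨0, 0, 0, 0, 0, 0, 0, 0⟩, 119, 255),
   (⟨1, 0, 0, 1, 1, -1, 0, 0⟩, 105, 169),
   (⟨0, 1, -1, 1, 1, 0, 0, 0⟩, 98, 145),
   (⟨1, 1, 0, 0, -1, 0, 0, -1⟩, 94, 236),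
   (⟨2, 0, -1, 1, 0, -1, -1, 0⟩, 69, 186),
   (⟨2, 0, 0, -1, 1, 0, 1, -1⟩, 62, 188),
   (⟨1, 1, -1, 0, 0, 1, 0, 0⟩, 97, 223),
   (⟨1, 1, 0, 1, 0, 0, 1, 0⟩, 89, 217),
   (⟨2, 0, 1, 0, -1, 1, 0, 1⟩, 48, 191),
   (⟨2, -1, 0, 1, 0, 1, 0, -1⟩, 100, 112),
   (⟨1, 0, 1, 0, 1, 0, -1, 0⟩, 100, 154),
   (⟨0, 0, 1, -1, 0, -1, 1, 0⟩, 18, 49),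
   (⟨0, 0, 1, -1, 0, -1, -1, 0⟩, 15, 70),
   (⟨0, 0, 0, -1, -1, 0, -1, 1⟩, 9, 17),
   (⟨0, 0, 0, -1, 1, 0, -1, 1⟩, 16, 55),
   (⟨0, 0, 1, 0, 1, -1, 0, 1⟩, 73, 28),
   (⟨0, 0, -1, 0, 1, -1, 0, 1⟩, 0, 66),
   (⟨-2, 0, 0, 0, 0, 0, 0, 0⟩, 119, 314),
   (⟨0, 0, 0, 0, 0, 0, 0, 0⟩, 119, 273),
   (⟨1, -1, 1, -1, 1, -1, -1, 1⟩, 39, 45),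
   (⟨1, 0, 1, 0, 1, 0, -1, 0⟩, 100, 202),
   (⟨0, 0, 1, 0, -1, 1, 0, 1⟩, 71, 52),
   (⟨0, 1, 1, -1, -1, 0, 0, 0⟩, 87, 130),
   (⟨0, 1, 0, 0, 1, -1, 1, 0⟩, 92, 135),
   (⟨0, 0, 0, -1, 1, 0, 1, -1⟩, 12, 65),
   (⟨0, 1, -1, 0, 0, 0, -1, 1⟩, 90, 132),
   (⟨0, 0, -1, 1, 0, -1, -1, 0⟩, 14, 24),
   (⟨1, 1, 2, -1, 0, 0, 1, 0⟩, 104, 128),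
   (⟨1, 1, 0, -1, 0, 0, 1, 0⟩, 95, 311),
   (⟨1, 0, 1, -1, 0, 0, 0, -1⟩, 104, 254),
   (⟨1, 0, 1, -1, 2, 0, 0, -1⟩, 42, 31),
   (⟨1, 1, 0, 0, -1, 0, 0, 1⟩, 93, 309),
   (⟨1, 1, 0, 0, -1, 0, -2, 1⟩, 108, 127),
   (⟨0, 0, 0, 0, 0, 0, -2, 0⟩, 19, 11),
   (⟨2, 0, 0, 0, 0, 0, -2, 0⟩, 60, 179),
   (⟨0, 0, 2, 0, 0, 0, 0, 0⟩, 74, 6),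
   (⟨2, 0, 2, 0, 0, 0, 0, 0⟩, 45, 177),
   (⟨1, 0, 2, 0, 0, 1, -1, 1⟩, 74, 76),
   (⟨1, 0, 0, 0, 0, 1, -1, 1⟩, 108, 227),
   (⟨1, 1, -1, 0, 0, -1, 0, 0⟩, 98, 307),
   (⟨1, 1, -1, 0, 2, -1, 0, 0⟩, 105, 124),
   (⟨0, 1, -1, 0, 0, 0, 1, -1⟩, 89, 149),
   (⟨0, 1, -1, 0, 0, 0, -1, -1⟩, 27, 32),
   (⟨1, 0, 0, 1, 1, -1, 0, 0⟩, 105, 242),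
   (⟨1, 0, 0, 1, 1, -1, -2, 0⟩, 19, 63),
   (⟨0, 0, 0, 0, 2, 0, 0, 0⟩, 20, 5),
   (⟨2, 0, 0, 0, 2, 0, 0, 0⟩, 58, 167),
   (⟨0, 1, 1, 1, -1, 0, 0, 0⟩, 31, 36),
   (⟨0, 1, -1, 1, -1, 0, 0, 0⟩, 97, 146),
   (⟨0, 1, 0, 0, -1, 1, 1, 0⟩, 94, 150),
   (⟨0, 1, 0, 0, 1, 1, 1, 0⟩, 20, 40),
   (⟨0, 2, 0, 0, 0, 0, 0, 0⟩, 119, 136),
   (⟨1, 1, 1, 0, 0, 1, 0, 0⟩, 87, 294),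
   (⟨0, 1, 1, -1, 1, 0, 0, 0⟩, 88, 129),
   (⟨1, 1, 0, 0, 1, 0, 0, -1⟩, 92, 286),
   (⟨0, 1, 1, 0, 0, 0, -1, 1⟩, 96, 126),
   (⟨1, 1, 0, 1, 0, 0, -1, 0⟩, 90, 283),
   (⟨0, 1, 0, 0, 1, -1, -1, 0⟩, 91, 125),
   (⟨1, 0, 1, 0, 1, 0, -1, 0⟩, 100, 192),
   (⟨2, 0, 0, 0, 0, 0, 0, 0⟩, 119, 272)]

end Cfsg.Agent.Lib.Helper11.Ico
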