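import Cfsg.Agent.Lib.Helper11.IcoPermData

/-!
# The five suborbits of the degree-315 action as finsets (helper11)
-/

set_option autoImplicit false
set_option maxRecDepth 100000
set_option maxHeartbeats 0

namespace Cfsg.Agent.Lib.Helper11.Ico.PD

open Cfsg.Agent.Lib.Helper28.BSGS

def OA : Finset (Fin 315) := Finset.univ.filter fun x : Fin 315 => ((orbA0 :: orbA).contains x.val) = true
def OB : Finset (Fin 315) := Finset.univ.filter fun x : Fin 315 => ((orbB0 :: orbB).contains x.val) = true
def OC : Finset (Fin 315) := Finset.univ.filter fun x : Fin 315 => ((orbC0 :: orbC).contains x.val) = true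
def OD : Finset (Fin 315) := Finset.univ.filter fun x : Fin 315 => ((orbD0 :: orbD).contains x.val) = true
def OE : Finset (Fin 315) := Finset.univ.filter fun x : Fin 315 => ((orbE0 :: orbE).contains x.val) = true

theorem card_OA : OA.card = 80 := by decide +kernel
theorem card_OB : OB.card = 160 := by decide +kernel
theorem card_OC : OC.card = 10 := by decide +kernel
theorem card_OD : OD.card = 32 := by decide +kernel
theorem card_OE : OE.card = 32 := by decide +kernel

theorem cover_all : ∀ x : Fin 315, (x.val == 0 || (orbA0 :: orbA).contains x.val ||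
    (orbB0 :: orbB).contains x.val || (orbC0 :: orbC).contains x.val ||
    (orbD0 :: orbD).contains x.val || (orbE0 :: orbE).contains x.val) = true := by decide +kernel

theorem zero_notMem : (⟨0, by norm_num⟩ : Fin 315) ∉ OA ∧ (⟨0, by norm_num⟩ : Fin 315) ∉ OB ∧
    (⟨0, by norm_num⟩ : Fin 315) ∉ OC ∧ (⟨0, by norm_num⟩ : Fin 315) ∉ OD ∧
    (⟨0, by norm_num⟩ : Fin 315) ∉ OE := by decide +kernel

/-- every point occurs in the first transversal (transitivity) -/
theorem tr0_all : ∀ y : Fin 315, (tr0.any fun e => e.1 == y.val) = true := by decide +kernel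

/-- no proper nonempty union of suborbits together with the base point has size dividing 315 -/
theorem subsums_ok : ∀ s ∈ [80, 160, 10, 32, 32].sublists, s ≠ [] → s.length < 5 →
    ¬ (s.sum + 1) ∣ 315 := by decide

end Cfsg.Agent.Lib.Helper11.Ico.PD
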