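import Mathlib
import Cfsg.Prelude.Def_Characters
import Cfsg.Agent.Lib.Helper2.Induction
import Cfsg.Agent.Lib.Helper2.Linear
import Cfsg.Agent.Lib.Helper2.CharBasic
import Cfsg.Agent.Lib.Helper7.LinearChar

/-!
# Mackey irreducibility criterion for induced linear characters

If `μ` is a linear character of `N ≤ G` and for every `x ∉ N` there is `k ∈ N ∩ x N x⁻¹`
with `μ k ≠ μ (x⁻¹ k x)`, then `μ^G` is irreducible.
-/

set_option autoImplicit false

namespace Cfsg.Agent.Lib.Helper11

open Cfsg Cfsg.Agent.Lib.Helper2 Cfsg.Agent.Lib.Helper7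
open scoped ComplexConjugate

section IndLinear

attribute [local instance] Classical.propDecidable

variable {G : Type*} [Group G] [Fintype G] (N : Subgroup G)

theorem linear_char_conj {μ : N → ℂ} (hμ : IsCharacter N μ) (h1 : μ 1 = 1) (k : N) :
    conj (μ k) = (μ k)⁻¹ := by
  have hpow : μ k ^ orderOf k = 1 := by
    have := map_pow (linearCharHom hμ h1) k (orderOf k)
    rw [pow_orderOf_eq_one, map_one] at this
    exact this.symm
  exact (inv_eq_conj_of_pow_eq_one (orderOf_pos k).ne' hpow).symm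

theorem linear_char_mul_conj {μ : N → ℂ} (hμ : IsCharacter N μ) (h1 : μ 1 = 1) (k : N) :
    μ k * conj (μ k) = 1 := by
  rw [linear_char_conj N hμ h1, mul_inv_cancel₀ (linear_char_ne_zero hμ h1 k)]

omit [Fintype G] in
theorem linear_char_conj_apply {μ : N → ℂ} (hμ : IsCharacter N μ) (h1 : μ 1 = 1) (x k : N) :
    μ (x⁻¹ * k * x) = μ k := by
  rw [linear_char_mul hμ h1, linear_char_mul hμ h1, linear_char_inv hμ h1]
  have := linear_char_ne_zero hμ h1 x
  field_simp

omit [Fintype G] in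
theorem extendByZero_linear_mul_left {μ : N → ℂ} (hμ : IsCharacter N μ) (h1 : μ 1 = 1)
    (y₀ : N) (y : G) :
    extendByZero N μ ((y₀ : G) * y) = μ y₀ * extendByZero N μ y := by
  by_cases hy : y ∈ N
  · rw [extendByZero_of_mem N μ hy, extendByZero_of_mem N μ (N.mul_mem y₀.2 hy)]
    exact linear_char_mul hμ h1 y₀ ⟨y, hy⟩
  · have : (y₀ : G) * y ∉ N := fun h => hy ((Subgroup.mul_mem_cancel_left N y₀.2).mp h)
    rw [extendByZero_of_not_mem N μ hy, extendByZero_of_not_mem N μ this, mul_zero]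

/-- The twisted sum over `N` attached to `x`. -/
theorem sum_linear_twist {μ : N → ℂ} (hμ : IsCharacter N μ) (h1 : μ 1 = 1)
    (hx : ∀ x : G, x ∉ N → ∃ k : N, ∃ hk : x⁻¹ * (k : G) * x ∈ N,
      μ k ≠ μ ⟨x⁻¹ * (k : G) * x, hk⟩) [Fintype N] (x : G) :
    ∑ k : N, μ k * conj (extendByZero N μ (x⁻¹ * (k : G) * x)) =
      if x ∈ N then (Nat.card N : ℂ) else 0 := by
  classical
  by_cases hxN : x ∈ N
  · rw [if_pos hxN]
    have h2 : ∀ k : N, μ k * conj (extendByZero N μ (x⁻¹ * (k : G) * x)) = 1 := by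
      intro k
      have h3 : x⁻¹ * (k : G) * x = (((⟨x, hxN⟩ : N)⁻¹ * k * ⟨x, hxN⟩ : N) : G) := by
        simp
      rw [h3, extendByZero_coe, linear_char_conj_apply N hμ h1, linear_char_mul_conj N hμ h1]
    simp only [h2, Finset.sum_const, Finset.card_univ, nsmul_eq_mul, mul_one,
      Nat.card_eq_fintype_card]
  · rw [if_neg hxN]
    obtain ⟨k₀, hk, hne⟩ := hx x hxN
    set y₀ : N := ⟨x⁻¹ * (k₀ : G) * x, hk⟩ with hy₀
    set f : N → ℂ := fun k => μ k * conj (extendByZero N μ (x⁻¹ * (k : G) * x)) with hf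
    set c : ℂ := μ k₀ * conj (μ y₀) with hc
    have hre : ∑ k : N, f k = ∑ k : N, f (k₀ * k) :=
      (Fintype.sum_equiv (Equiv.mulLeft k₀) (fun k => f (k₀ * k)) f (fun k => rfl)).symm
    have hpt : ∀ k : N, f (k₀ * k) = c * f k := by
      intro k
      have h3 : x⁻¹ * ((k₀ * k : N) : G) * x = (y₀ : G) * (x⁻¹ * (k : G) * x) := by
        rw [hy₀, Subgroup.coe_mul]
        group
      simp only [hf, hc]
      rw [h3, extendByZero_linear_mul_left N hμ h1, linear_char_mul hμ h1, map_mul]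
      ring
    have hS : ∑ k : N, f k = c * ∑ k : N, f k := by
      rw [Finset.mul_sum]
      conv_lhs => rw [hre]
      exact Finset.sum_congr rfl (fun k _ => hpt k)
    have hc1 : c ≠ 1 := by
      rw [hc, linear_char_conj N hμ h1]
      intro h
      apply hne
      have h0 := linear_char_ne_zero hμ h1 y₀
      field_simp at h
      exact h
    have : (1 - c) * ∑ k : N, f k = 0 := by
      rw [sub_mul, one_mul, ← hS, sub_self]
    rcases mul_eq_zero.mp this with h | h
    · exact absurd (sub_eq_zero.mp h).symm hc1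
    · exact h

/-- Mackey criterion: norm one. -/
theorem classInner_indFun_linear_self {μ : N → ℂ} (hμ : IsCharacter N μ) (h1 : μ 1 = 1)
    (hx : ∀ x : G, x ∉ N → ∃ k : N, ∃ hk : x⁻¹ * (k : G) * x ∈ N,
      μ k ≠ μ ⟨x⁻¹ * (k : G) * x, hk⟩) :
    classInner (indFun N μ) (indFun N μ) = 1 := by
  classical
  haveI : Fintype N := Fintype.ofFinite N
  rw [frobenius_reciprocity N μ _ (indFun_isClassFunction N μ), classInner_def]
  have hN0 : (Nat.card N : ℂ) ≠ 0 := by
    have : 0 < Nat.card N := Nat.card_pos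
    exact_mod_cast this.ne'
  have h2 : ∀ k : N, μ k * conj (indFun N μ (k : G)) =
      (Nat.card N : ℂ)⁻¹ * ∑ x : G, μ k * conj (extendByZero N μ (x⁻¹ * (k : G) * x)) := by
    intro k
    rw [indFun_apply, map_mul, map_sum, map_inv₀, Complex.conj_natCast, Finset.mul_sum,
      Finset.mul_sum, Finset.mul_sum]
    apply Finset.sum_congr rfl
    intro x _
    ring
  simp only [h2]
  rw [← Finset.mul_sum, Finset.sum_comm]
  simp only [sum_linear_twist N hμ h1 hx]
  rw [Finset.sum_ite, Finset.sum_const_zero, add_zero, Finset.sum_const, nsmul_eq_mul]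
  have h3 : (Finset.univ.filter (fun x : G => x ∈ N)).card = Nat.card N := by
    rw [Nat.card_eq_fintype_card, Fintype.card_subtype]
  rw [h3]
  field_simp

/-- Mackey criterion for an induced linear character. -/
theorem isIrrCharacter_indFun_linear {μ : N → ℂ} (hμ : IsCharacter N μ) (h1 : μ 1 = 1)
    (hx : ∀ x : G, x ∉ N → ∃ k : N, ∃ hk : x⁻¹ * (k : G) * x ∈ N,
      μ k ≠ μ ⟨x⁻¹ * (k : G) * x, hk⟩) :
    IsIrrCharacter G (indFun N μ) :=
  isIrrCharacter_of_classInner_self_eq_one (indFun_isCharacter N μ hμ)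
    (classInner_indFun_linear_self N hμ h1 hx)

end IndLinear

end Cfsg.Agent.Lib.Helper11
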