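import Mathlib
import Cfsg.Agent.Lib.Helper1.Hall

/-!
# No solvable subgroup of `GL(4,3)` has order divisible by `65` (helper11, for S4025)

`no_solvable_65`: a finite solvable group acting faithfully and linearly on an elementary abelian group of
order `81` has order not divisible by both `5` and `13`.
-/

set_option autoImplicit false

namespace Cfsg.Agent.Lib.Helper11.Kill81

section card

variable {V : Type*} [AddCommGroup V] [Module (ZMod 3) V]

omit [AddCommGroup V] [Module (ZMod 3) V] in
theorem finite_of_card (hV : Nat.card V = 81) : Finite V :=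
  Nat.finite_of_card_ne_zero (by rw [hV]; norm_num)

theorem finrank_eq_four (hV : Nat.card V = 81) : Module.finrank (ZMod 3) V = 4 := by
  have : Finite V := finite_of_card hV
  have h := Module.natCard_eq_pow_finrank (K := ZMod 3) (V := V)
  rw [hV, Nat.card_zmod] at h
  have h2 : (3 : ℕ) ^ 4 = 3 ^ Module.finrank (ZMod 3) V := by rw [← h]; norm_num
  exact (Nat.pow_right_injective (by norm_num : 2 ≤ 3) h2).symm

/-- `|GL(4,3)| = 2^9 * 3^6 * 5 * 13` -/
theorem card_linearEquiv (hV : Nat.card V = 81) : Nat.card (V ≃ₗ[ZMod 3] V) = 24261120 := by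
  have : Finite V := finite_of_card hV
  have hfr := finrank_eq_four hV
  let b : Module.Basis (Fin 4) (ZMod 3) V := Module.finBasisOfFinrankEq (ZMod 3) V hfr
  have e1 : (V ≃ₗ[ZMod 3] V) ≃ GL (Fin 4) (ZMod 3) :=
    ((LinearMap.GeneralLinearGroup.generalLinearEquiv (ZMod 3) V).symm.toEquiv).trans
      (Units.mapEquiv (LinearMap.toMatrixAlgEquiv b).toMulEquiv).toEquiv
  rw [Nat.card_congr e1, Matrix.card_GL_field]
  simp [Fin.prod_univ_four, ZMod.card]

end card

section fix

variable {V : Type*} [AddCommGroup V] [Module (ZMod 3) V]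

/-- the fixed points of a linear automorphism, as an additive subgroup -/
def fixAdd (g : V ≃ₗ[ZMod 3] V) : AddSubgroup V where
  carrier := {v | g v = v}
  zero_mem' := map_zero g
  add_mem' := by
    intro a b ha hb
    simp only [Set.mem_ofPred_eq] at ha hb ⊢
    rw [map_add, ha, hb]
  neg_mem' := by
    intro a ha
    simp only [Set.mem_ofPred_eq] at ha ⊢
    rw [map_neg, ha]

theorem mem_fixAdd {g : V ≃ₗ[ZMod 3] V} {v : V} : v ∈ fixAdd g ↔ g v = v := Iff.rfl

/-- the cardinality of the fixed space is a power of `3` -/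
theorem card_fixAdd_mem (hV : Nat.card V = 81) (g : V ≃ₗ[ZMod 3] V) :
    Nat.card (fixAdd g) = 1 ∨ Nat.card (fixAdd g) = 3 ∨ Nat.card (fixAdd g) = 9 ∨
      Nat.card (fixAdd g) = 27 ∨ Nat.card (fixAdd g) = 81 := by
  have : Finite V := finite_of_card hV
  have hd : Nat.card (fixAdd g) ∣ 3 ^ 4 := by
    have := AddSubgroup.card_addSubgroup_dvd_card (fixAdd g)
    rw [hV] at this
    exact this
  obtain ⟨k, hk, hk'⟩ := (Nat.dvd_prime_pow Nat.prime_three).1 hd
  rw [hk']
  interval_cases k <;> simp

/-- if everything is fixed, the automorphism is trivial -/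
theorem eq_one_of_card_fixAdd (hV : Nat.card V = 81) {g : V ≃ₗ[ZMod 3] V}
    (h : Nat.card (fixAdd g) = 81) : g = 1 := by
  have : Finite V := finite_of_card hV
  have htop : fixAdd g = ⊤ := AddSubgroup.eq_top_of_card_eq _ (by rw [h, hV])
  ext v
  have : v ∈ fixAdd g := by rw [htop]; trivial
  exact this

/-- fixed-point congruence for an automorphism of prime order -/
theorem card_modEq_card_fixAdd (hV : Nat.card V = 81) {g : V ≃ₗ[ZMod 3] V} {r : ℕ} [Fact r.Prime]
    (hg : orderOf g = r) : Nat.card V ≡ Nat.card (fixAdd g) [MOD r] := by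
  have : Finite V := finite_of_card hV
  have hZ : IsPGroup r (Subgroup.zpowers g) := by
    apply IsPGroup.of_card (n := 1)
    rw [Nat.card_zpowers, hg, pow_one]
  have h := hZ.card_modEq_card_fixedPoints V
  have heq : (MulAction.fixedPoints (Subgroup.zpowers g) V) = (fixAdd g : Set V) := by
    ext v
    constructor
    · intro hv
      exact hv ⟨g, Subgroup.mem_zpowers g⟩
    · intro hv z
      have h1 : g ∈ MulAction.stabilizer (V ≃ₗ[ZMod 3] V) v := hv
      have h2 : Subgroup.zpowers g ≤ MulAction.stabilizer (V ≃ₗ[ZMod 3] V) v :=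
        (Subgroup.zpowers_le).2 h1
      exact h2 z.2
  rw [heq] at h
  exact h

theorem card_fixAdd_of_orderOf_13 (hV : Nat.card V = 81) {g : V ≃ₗ[ZMod 3] V}
    (hg : orderOf g = 13) : Nat.card (fixAdd g) = 3 := by
  have : Fact (Nat.Prime 13) := ⟨by norm_num⟩
  have h := card_modEq_card_fixAdd hV hg
  rw [hV] at h
  rcases card_fixAdd_mem hV g with h1 | h1 | h1 | h1 | h1
  · rw [h1] at h; exact absurd h (by decide)
  · exact h1
  · rw [h1] at h; exact absurd h (by decide)
  · rw [h1] at h; exact absurd h (by decide)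
  · have := eq_one_of_card_fixAdd hV h1
    rw [this, orderOf_one] at hg
    omega

theorem card_fixAdd_of_orderOf_5 (hV : Nat.card V = 81) {g : V ≃ₗ[ZMod 3] V}
    (hg : orderOf g = 5) : Nat.card (fixAdd g) = 1 := by
  have : Fact (Nat.Prime 5) := ⟨by norm_num⟩
  have h := card_modEq_card_fixAdd hV hg
  rw [hV] at h
  rcases card_fixAdd_mem hV g with h1 | h1 | h1 | h1 | h1
  · exact h1
  · rw [h1] at h; exact absurd h (by decide)
  · rw [h1] at h; exact absurd h (by decide)
  · rw [h1] at h; exact absurd h (by decide)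
  · have := eq_one_of_card_fixAdd hV h1
    rw [this, orderOf_one] at hg
    omega

/-- an automorphism of order `13` and one of order `5` cannot commute -/
theorem not_commute_13_5 (hV : Nat.card V = 81) {x y : V ≃ₗ[ZMod 3] V} (hx : orderOf x = 13)
    (hy : orderOf y = 5) (hxy : Commute x y) : False := by
  have : Finite V := finite_of_card hV
  have : Fact (Nat.Prime 5) := ⟨by norm_num⟩
  have hx3 := card_fixAdd_of_orderOf_13 hV hx
  have hy1 := card_fixAdd_of_orderOf_5 hV hy
  have hZ : IsPGroup 5 (Subgroup.zpowers y) := by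
    apply IsPGroup.of_card (n := 1)
    rw [Nat.card_zpowers, hy, pow_one]
  -- `zpowers y` acts on the fixed space of `x`
  let S : SubMulAction (Subgroup.zpowers y) V :=
    { carrier := (fixAdd x : Set V)
      smul_mem' := by
        rintro ⟨z, hz⟩ v hv
        obtain ⟨k, rfl⟩ := Subgroup.mem_zpowers_iff.1 hz
        have hc : Commute x (y ^ k) := hxy.zpow_right k
        show x ((y ^ k) v) = (y ^ k) v
        have h1 : x ((y ^ k) v) = (x * y ^ k) v := rfl
        have h2 : (y ^ k) (x v) = (y ^ k * x) v := rfl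
        rw [h1, hc.eq, ← h2]
        congr 1 }
  have hS : Nat.card S = 3 := by
    exact (Nat.card_congr (Equiv.subtypeEquivRight (fun v => Iff.rfl))).trans hx3
  have h := hZ.card_modEq_card_fixedPoints S
  rw [hS] at h
  -- fixed points inject into the fixed space of `y`
  have hle : Nat.card (MulAction.fixedPoints (Subgroup.zpowers y) S) ≤ Nat.card (fixAdd y) := by
    refine Nat.card_le_card_of_injective
      (fun s => (⟨(s.1 : V), ?_⟩ : fixAdd y)) ?_
    · have := s.2 ⟨y, Subgroup.mem_zpowers y⟩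
      have h3 : ((⟨y, Subgroup.mem_zpowers y⟩ : Subgroup.zpowers y) • (s.1 : S) : S).1 = (s.1 : S).1 := by
        rw [this]
      exact h3
    · intro s t hst
      apply Subtype.ext
      apply Subtype.ext
      exact congrArg (fun u : fixAdd y => (u : V)) hst
  rw [hy1] at hle
  have h4 : Nat.card (MulAction.fixedPoints (Subgroup.zpowers y) S) = 0 ∨
      Nat.card (MulAction.fixedPoints (Subgroup.zpowers y) S) = 1 := by omega
  rcases h4 with h4 | h4 <;> rw [h4] at h <;> exact absurd h (by decide)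

end fix

section grp

/-- in a group of order `65` there are commuting elements of orders `13` and `5` -/
theorem exists_commute_of_card_65 {H : Type*} [Group H] (hH : Nat.card H = 65) :
    ∃ x y : H, orderOf x = 13 ∧ orderOf y = 5 ∧ Commute x y := by
  have : Finite H := Nat.finite_of_card_ne_zero (by rw [hH]; norm_num)
  have : Fact (Nat.Prime 5) := ⟨by norm_num⟩
  have : Fact (Nat.Prime 13) := ⟨by norm_num⟩
  have key : ∀ (p : ℕ) [Fact p.Prime], Nat.card (Sylow p H) ∣ 65 := by
    intro p _
    obtain ⟨P⟩ : Nonempty (Sylow p H) := inferInstance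
    have h1 := P.card_dvd_index
    have h2 : (P : Subgroup H).index ∣ Nat.card H := Subgroup.index_dvd_card _
    rw [hH] at h2
    exact h1.trans h2
  have hdiv : ∀ d : ℕ, d ∣ 65 → d = 1 ∨ d = 5 ∨ d = 13 ∨ d = 65 := by
    intro d hd
    have hle : d ≤ 65 := Nat.le_of_dvd (by norm_num) hd
    interval_cases d <;> omega
  have h13 : Nat.card (Sylow 13 H) = 1 := by
    have hm := card_sylow_modEq_one 13 H
    rcases hdiv _ (key 13) with h | h | h | h
    · exact h
    · rw [h] at hm; exact absurd hm (by decide)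
    · rw [h] at hm; exact absurd hm (by decide)
    · rw [h] at hm; exact absurd hm (by decide)
  have h5 : Nat.card (Sylow 5 H) = 1 := by
    have hm := card_sylow_modEq_one 5 H
    rcases hdiv _ (key 5) with h | h | h | h
    · exact h
    · rw [h] at hm; exact absurd hm (by decide)
    · rw [h] at hm; exact absurd hm (by decide)
    · rw [h] at hm; exact absurd hm (by decide)
  have : Subsingleton (Sylow 13 H) := (Nat.card_eq_one_iff_unique.1 h13).1
  have : Subsingleton (Sylow 5 H) := (Nat.card_eq_one_iff_unique.1 h5).1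
  obtain ⟨x, hx⟩ := exists_prime_orderOf_dvd_card' (G := H) 13 (by rw [hH]; norm_num)
  obtain ⟨y, hy⟩ := exists_prime_orderOf_dvd_card' (G := H) 5 (by rw [hH]; norm_num)
  have hZx : IsPGroup 13 (Subgroup.zpowers x) := by
    apply IsPGroup.of_card (n := 1)
    rw [Nat.card_zpowers, hx, pow_one]
  have hZy : IsPGroup 5 (Subgroup.zpowers y) := by
    apply IsPGroup.of_card (n := 1)
    rw [Nat.card_zpowers, hy, pow_one]
  obtain ⟨P, hP⟩ := hZx.exists_le_sylow
  obtain ⟨Q, hQ⟩ := hZy.exists_le_sylow
  have hPn : (P : Subgroup H).Normal := P.normal_of_subsingleton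
  have hQn : (Q : Subgroup H).Normal := Q.normal_of_subsingleton
  have hdis : Disjoint (P : Subgroup H) (Q : Subgroup H) :=
    IsPGroup.disjoint_of_ne 13 5 (by norm_num) _ _ P.isPGroup' Q.isPGroup'
  exact ⟨x, y, hx, hy, Subgroup.commute_of_normal_of_disjoint _ _ hPn hQn hdis x y
    (hP (Subgroup.mem_zpowers x)) (hQ (Subgroup.mem_zpowers y))⟩

end grp

section main

variable {V : Type*} [AddCommGroup V] [Module (ZMod 3) V]

/-- **no solvable subgroup of `GL(4,3)` has order divisible by `65`**, subgroup form -/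
theorem no_solvable_65_subgroup (hV : Nat.card V = 81) (Γ : Subgroup (V ≃ₗ[ZMod 3] V))
    (hs : Group.IsSolvable Γ) (h5 : 5 ∣ Nat.card Γ) (h13 : 13 ∣ Nat.card Γ) : False := by
  have : Finite V := finite_of_card hV
  have : Finite (V ≃ₗ[ZMod 3] V) :=
    Nat.finite_of_card_ne_zero (by rw [card_linearEquiv hV]; norm_num)
  have hdvd : Nat.card Γ ∣ 24261120 := by
    rw [← card_linearEquiv hV]; exact Subgroup.card_subgroup_dvd_card Γ
  have h65 : 65 ∣ Nat.card Γ :=
    Nat.Coprime.mul_dvd_of_dvd_of_dvd (by norm_num : Nat.Coprime 5 13) h5 h13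
  obtain ⟨t, ht⟩ := h65
  have htd : t ∣ 373248 := by
    have h1 : 65 * t ∣ 65 * 373248 := by rw [← ht]; exact hdvd
    exact Nat.dvd_of_mul_dvd_mul_left (by norm_num) h1
  have hcop : Nat.Coprime 65 t :=
    Nat.Coprime.coprime_dvd_right htd (by norm_num : Nat.Coprime 65 373248)
  have := hs
  obtain ⟨H, hH⟩ := Cfsg.Agent.Lib.Helper1.hall_exists (G := Γ) 65 t ht hcop
  obtain ⟨x, y, hx, hy, hxy⟩ := exists_commute_of_card_65 hH
  refine not_commute_13_5 hV (x := ((x : Γ) : V ≃ₗ[ZMod 3] V))
    (y := ((y : Γ) : V ≃ₗ[ZMod 3] V)) ?_ ?_ ?_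
  · rw [Subgroup.orderOf_coe, Subgroup.orderOf_coe]; exact hx
  · rw [Subgroup.orderOf_coe, Subgroup.orderOf_coe]; exact hy
  · have h1 : (x * y : H) = y * x := hxy.eq
    have h2 : (((x * y : H) : Γ) : V ≃ₗ[ZMod 3] V) = (((y * x : H) : Γ) : V ≃ₗ[ZMod 3] V) := by
      rw [h1]
    exact h2

/-- **no solvable subgroup of `GL(4,3)` has order divisible by `65`**, faithful linear action form -/
theorem no_solvable_65 (hV : Nat.card V = 81) {Γ : Type*} [Group Γ] [Finite Γ]
    (hs : Group.IsSolvable Γ) (ρ : Γ →* (V ≃ₗ[ZMod 3] V)) (hρ : Function.Injective ρ)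
    (h5 : 5 ∣ Nat.card Γ) (h13 : 13 ∣ Nat.card Γ) : False := by
  have e : Γ ≃* ρ.range := MonoidHom.ofInjective hρ
  have hc : Nat.card ρ.range = Nat.card Γ := (Nat.card_congr e.toEquiv).symm
  have hs' : Group.IsSolvable ρ.range := by
    have := hs
    exact Group.isSolvable_of_surjective (f := ρ.rangeRestrict) ρ.rangeRestrict_surjective
  exact no_solvable_65_subgroup hV ρ.range hs' (hc ▸ h5) (hc ▸ h13)

/-- a homomorphism to `Perm V` by additive maps is a homomorphism to `GL(V)` -/
def permToLin {Γ : Type*} [Group Γ] (ρ : Γ →* Equiv.Perm V)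
    (hadd : ∀ g v w, ρ g (v + w) = ρ g v + ρ g w) : Γ →* (V ≃ₗ[ZMod 3] V) where
  toFun g :=
    { toFun := ρ g
      invFun := (ρ g).symm
      left_inv := (ρ g).left_inv
      right_inv := (ρ g).right_inv
      map_add' := hadd g
      map_smul' := fun c v => ZMod.map_smul (AddMonoidHom.mk' (ρ g) (hadd g)) c v }
  map_one' := by ext v; simp
  map_mul' := by intro g h; ext v; simp; rfl

theorem permToLin_apply {Γ : Type*} [Group Γ] (ρ : Γ →* Equiv.Perm V)
    (hadd : ∀ g v w, ρ g (v + w) = ρ g v + ρ g w) (g : Γ) (v : V) :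
    permToLin ρ hadd g v = ρ g v := rfl

/-- **no solvable group of additive permutations of `3^4` has order divisible by `65`** -/
theorem no_solvable_65_perm (hV : Nat.card V = 81) {Γ : Type*} [Group Γ] [Finite Γ]
    (hs : Group.IsSolvable Γ) (ρ : Γ →* Equiv.Perm V)
    (hadd : ∀ g v w, ρ g (v + w) = ρ g v + ρ g w) (hρ : Function.Injective ρ)
    (h5 : 5 ∣ Nat.card Γ) (h13 : 13 ∣ Nat.card Γ) : False := by
  refine no_solvable_65 hV hs (permToLin ρ hadd) ?_ h5 h13
  intro g h hgh
  apply hρ
  ext v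
  have := congrArg (fun u : V ≃ₗ[ZMod 3] V => u v) hgh
  exact this

end main

end Cfsg.Agent.Lib.Helper11.Kill81
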