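import Cfsg.Agent.Lib.Helper11.Kill81
import Cfsg.Agent.Lib.Helper2.HC25.Planes

/-!
# S4025, PART B: the case `|V| = 81` is impossible (helper11)

`card_subgroups_dvd`: a group `Γ` of additive permutations of `V` which is transitive on the subgroups of each order
has order divisible by the number of subgroups of any given order.  `not_81`: with `|V| = 3^4` the `130` subgroups of
order `9` give `5 ∣ |Γ|` and `13 ∣ |Γ|`, which is impossible for a solvable `Γ` (`Kill81.no_solvable_65_perm`).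
-/

set_option autoImplicit false

open Pointwise

namespace Cfsg.Agent.Lib.Helper11.Kill81

variable {V : Type*} [AddCommGroup V]

/-- the action of a group of additive permutations -/
@[reducible] def permDistribMulAction (Γ : Subgroup (Equiv.Perm V))
    (hadd : ∀ γ ∈ Γ, ∀ v w : V, γ (v + w) = γ v + γ w) : DistribMulAction ↥Γ V where
  smul γ v := (γ : Equiv.Perm V) v
  one_smul v := rfl
  mul_smul γ δ v := rfl
  smul_zero γ := by
    show (γ : Equiv.Perm V) 0 = 0
    have h := hadd γ γ.2 0 0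
    rw [add_zero] at h
    exact left_eq_add.1 h
  smul_add γ v w := hadd γ γ.2 v w

/-- orbit-stabiliser: the number of subgroups of order `c` divides `|Γ|` -/
theorem card_subgroups_dvd [Finite V] (Γ : Subgroup (Equiv.Perm V))
    (hadd : ∀ γ ∈ Γ, ∀ v w : V, γ (v + w) = γ v + γ w)
    (htr : ∀ U₁ U₂ : AddSubgroup V, Nat.card U₁ = Nat.card U₂ → ∃ γ ∈ Γ, ∀ v, v ∈ U₁ ↔ γ v ∈ U₂)
    (c : ℕ) (U₀ : AddSubgroup V) (hU₀ : Nat.card U₀ = c) :
    Nat.card {U : AddSubgroup V // Nat.card U = c} ∣ Nat.card ↥Γ := by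
  let _ : DistribMulAction ↥Γ V := permDistribMulAction Γ hadd
  have hsm : ∀ (γ : ↥Γ) (v : V), γ • v = (γ : Equiv.Perm V) v := fun _ _ => rfl
  have hcard : ∀ (γ : ↥Γ) (U : AddSubgroup V), Nat.card ↥(γ • U) = Nat.card U := by
    intro γ U
    rw [AddSubgroup.pointwise_smul_def]
    apply AddSubgroup.card_map_of_injective
    intro v w hvw
    exact (γ : Equiv.Perm V).injective hvw
  have horb : MulAction.orbit ↥Γ U₀ = {U : AddSubgroup V | Nat.card U = c} := by
    ext U
    constructor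
    · rintro ⟨γ, rfl⟩
      show Nat.card ↥(γ • U₀) = c
      rw [hcard, hU₀]
    · intro hU
      have hU' : Nat.card U = c := hU
      obtain ⟨γ, hγ, hiff⟩ := htr U₀ U (by rw [hU₀, hU'])
      refine ⟨⟨γ, hγ⟩, ?_⟩
      ext w
      show w ∈ (⟨γ, hγ⟩ : ↥Γ) • U₀ ↔ w ∈ U
      rw [AddSubgroup.mem_smul_pointwise_iff_exists]
      constructor
      · rintro ⟨s, hs, rfl⟩
        exact (hiff s).1 hs
      · intro hw
        refine ⟨γ.symm w, (hiff _).2 ?_, ?_⟩
        · rw [Equiv.apply_symm_apply]; exact hw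
        · show γ (γ.symm w) = w
          exact Equiv.apply_symm_apply γ w
  have h1 : (MulAction.orbit ↥Γ U₀).ncard ∣ Nat.card ↥Γ := by
    rw [← MulAction.index_stabilizer]
    exact Subgroup.index_dvd_card _
  have h2 : Nat.card {U : AddSubgroup V // Nat.card U = c} = (MulAction.orbit ↥Γ U₀).ncard := by
    rw [horb, ← Nat.card_coe_set_eq]
    exact Nat.card_congr (Equiv.subtypeEquivRight (fun _ => Iff.rfl))
  rw [h2]
  exact h1

/-- **the case `|V| = 3^4` of S4025 PART B is impossible** -/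
theorem not_81 [Finite V] (hV : Nat.card V = 3 ^ 4) (hexp : ∀ v : V, 3 • v = 0)
    (Γ : Subgroup (Equiv.Perm V)) (hadd : ∀ γ ∈ Γ, ∀ v w : V, γ (v + w) = γ v + γ w)
    (hsol : Group.IsSolvable ↥Γ)
    (htr : ∀ U₁ U₂ : AddSubgroup V, Nat.card U₁ = Nat.card U₂ → ∃ γ ∈ Γ, ∀ v, v ∈ U₁ ↔ γ v ∈ U₂) :
    False := by
  have : Fact (Nat.Prime 3) := ⟨Nat.prime_three⟩
  have hpl := Cfsg.Agent.Lib.Helper2.HC25.card_planes_mul (p := 3) (n := 4) hV hexp
  have h130 : Nat.card {U : AddSubgroup V // Nat.card ↥U = 3 ^ 2} = 130 := by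
    have : Nat.card {U : AddSubgroup V // Nat.card ↥U = 3 ^ 2} * 48 = 130 * 48 := by
      rw [show (48 : ℕ) = (3 ^ 2 - 1) * (3 ^ 2 - 3) by norm_num, hpl]; norm_num
    exact Nat.eq_of_mul_eq_mul_right (by norm_num) this
  have hne : Nonempty {U : AddSubgroup V // Nat.card ↥U = 3 ^ 2} := by
    apply (Nat.card_pos_iff.1 _).1
    rw [h130]; norm_num
  obtain ⟨⟨U₀, hU₀⟩⟩ := hne
  have hdvd := card_subgroups_dvd Γ hadd htr (3 ^ 2) U₀ hU₀
  rw [h130] at hdvd
  have h5 : 5 ∣ Nat.card ↥Γ := Dvd.dvd.trans (by norm_num) hdvd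
  have h13 : 13 ∣ Nat.card ↥Γ := Dvd.dvd.trans (by norm_num) hdvd
  let _ : Module (ZMod 3) V := AddCommGroup.zmodModule hexp
  have hV' : Nat.card V = 81 := by rw [hV]; norm_num
  have : Finite (Equiv.Perm V) := inferInstance
  exact no_solvable_65_perm hV' hsol Γ.subtype (fun g v w => hadd g g.2 v w)
    Subtype.coe_injective h5 h13

end Cfsg.Agent.Lib.Helper11.Kill81
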