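import Mathlib
import Cfsg.Prelude.Def_KGroupFacts
import Cfsg.Agent.S0102
import Cfsg.Agent.Lib.Helper1.WeakL4

/-!
# S2088 piece [A] (helper11 for helper7): prime-by-prime bound `|ker| ≤ 48` for `|G| = 20160`
-/

set_option autoImplicit false

namespace Cfsg.Agent.Lib.Helper7.L34

open Cfsg Cfsg.Agent.Lib.Helper10.Weak

universe u v

namespace Helper11

/-- a stem extension of a perfect group is perfect -/
theorem perfect_of_stem {Γ : Type u} {G : Type v} [Group Γ] [Group G] (σ : Γ →* G)
    (hσ : IsStemExtension σ) (hperf : commutator G = ⊤) : commutator Γ = ⊤ := by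
  obtain ⟨hs, _, hcomm⟩ := hσ
  rw [eq_top_iff]
  intro x _
  have hx : σ x ∈ (commutator Γ).map σ := by
    have h1 : (commutator Γ).map σ = commutator G := by
      rw [commutator_def, commutator_def, Subgroup.map_commutator, ← MonoidHom.range_eq_map,
        MonoidHom.range_eq_top.mpr hs]
    rw [h1, hperf]; exact Subgroup.mem_top _
  obtain ⟨y, hy, hyx⟩ := hx
  have hk : y⁻¹ * x ∈ σ.ker := by
    rw [MonoidHom.mem_ker, map_mul, map_inv, hyx, inv_mul_cancel]
  have : x = y * (y⁻¹ * x) := by group
  rw [this]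
  exact mul_mem hy (hcomm hk)

theorem prime_dvd_20160 {p : ℕ} (hp : p.Prime) (h : p ∣ 20160) : p = 2 ∨ p = 3 ∨ p = 5 ∨ p = 7 := by
  have e : (20160 : ℕ) = 2 ^ 6 * 3 ^ 2 * 5 * 7 := by norm_num
  rw [e] at h
  rcases (Nat.Prime.dvd_mul hp).mp h with h | h
  · rcases (Nat.Prime.dvd_mul hp).mp h with h | h
    · rcases (Nat.Prime.dvd_mul hp).mp h with h | h
      · left; exact (Nat.prime_dvd_prime_iff_eq hp Nat.prime_two).mp (hp.dvd_of_dvd_pow h)
      · right; left; exact (Nat.prime_dvd_prime_iff_eq hp Nat.prime_three).mp (hp.dvd_of_dvd_pow h)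
    · right; right; left; exact (Nat.prime_dvd_prime_iff_eq hp Nat.prime_five).mp h
  · right; right; right; exact (Nat.prime_dvd_prime_iff_eq hp (by norm_num)).mp h

theorem factorization_20160_le {p : ℕ} (hp : p.Prime) (h5 : 5 ≤ p) :
    (20160 : ℕ).factorization p ≤ 1 := by
  by_contra hcon
  rw [not_le] at hcon
  have h2 : p ^ 2 ∣ 20160 := by
    have := (hp.pow_dvd_iff_le_factorization (by norm_num : (20160 : ℕ) ≠ 0)).mpr hcon
    exact this
  have hd : p ∣ 20160 := dvd_trans (dvd_pow_self p (by norm_num)) h2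
  rcases prime_dvd_20160 hp hd with rfl | rfl | rfl | rfl
  · omega
  · omega
  · norm_num at h2
  · norm_num at h2

end Helper11

/-- [A] prime by prime -/
theorem card_ker_le_of_primes {G : Type u} [Group G] [Finite G] (hcard : Nat.card G = 20160)
    (hperf : commutator G = ⊤)
    (h2 : ∀ (Γ : Type u) [Group Γ] [Finite Γ] (σ : Γ →* G), IsStemExtension σ → IsPGroup 2 σ.ker →
      Nat.card σ.ker ≤ 16)
    (h3 : ∀ (Γ : Type u) [Group Γ] [Finite Γ] (σ : Γ →* G), IsStemExtension σ → IsPGroup 3 σ.ker →
      Nat.card σ.ker ≤ 3)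
    (Γ : Type u) [Group Γ] [Finite Γ] (σ : Γ →* G) (hσ : IsStemExtension σ) :
    Nat.card σ.ker ≤ 48 := by
  classical
  have hn0 : Nat.card σ.ker ≠ 0 := Nat.card_pos.ne'
  -- p = 2
  have e2 : (Nat.card σ.ker).factorization 2 ≤ 4 := by
    haveI : Fact (Nat.Prime 2) := ⟨Nat.prime_two⟩
    obtain ⟨Δ, i1, i2, τ, hτ, hp, hc⟩ := exists_pker σ hσ 2
    have := h2 Δ τ hτ hp
    rw [hc] at this
    exact (Nat.pow_le_pow_iff_right (by norm_num : 1 < 2)).mp (by simpa using this)
  have e3 : (Nat.card σ.ker).factorization 3 ≤ 1 := by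
    haveI : Fact (Nat.Prime 3) := ⟨Nat.prime_three⟩
    obtain ⟨Δ, i1, i2, τ, hτ, hp, hc⟩ := exists_pker σ hσ 3
    have := h3 Δ τ hτ hp
    rw [hc] at this
    exact (Nat.pow_le_pow_iff_right (by norm_num : 1 < 3)).mp (by simpa using this)
  have e5 : ∀ p : ℕ, p.Prime → 5 ≤ p → (Nat.card σ.ker).factorization p = 0 := by
    intro p hp h5
    haveI : Fact p.Prime := ⟨hp⟩
    have hcyc : ∀ P : Sylow p G, IsCyclic P := by
      intro P
      have hc : Nat.card P = p ^ (Nat.card G).factorization p := Sylow.card_eq_multiplicity P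
      rw [hcard] at hc
      have hle := Helper11.factorization_20160_le hp h5
      interval_cases hf : (20160 : ℕ).factorization p
      · rw [pow_zero] at hc
        haveI : Subsingleton P := (Nat.card_eq_one_iff_unique.mp hc).1
        infer_instance
      · rw [pow_one] at hc
        exact isCyclic_of_prime_card hc
    have hΓ : commutator Γ = ⊤ := Helper11.perfect_of_stem σ hσ hperf
    have hnd : ¬ p ∣ Nat.card σ.ker :=
      Cfsg.Agent.S0102.result hperf hcyc σ hσ.1 hσ.2.1 hΓ
    exact Nat.factorization_eq_zero_of_not_dvd hnd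
  have hdvd : Nat.card σ.ker ∣ 48 := by
    rw [← Nat.factorization_le_iff_dvd hn0 (by norm_num)]
    have e48 : (48 : ℕ).factorization = Finsupp.single 2 4 + Finsupp.single 3 1 := by
      have : (48 : ℕ) = 2 ^ 4 * 3 ^ 1 := by norm_num
      rw [this, Nat.factorization_mul (by norm_num) (by norm_num),
        Nat.Prime.factorization_pow Nat.prime_two, Nat.Prime.factorization_pow Nat.prime_three]
    rw [e48]
    intro p
    by_cases hp : p.Prime
    · by_cases hp2 : p = 2
      · subst hp2; simpa using e2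
      · by_cases hp3 : p = 3
        · subst hp3; simpa using e3
        · have h5 : 5 ≤ p := by
            have := hp.two_le
            by_contra hlt
            rw [not_le] at hlt
            interval_cases p
            · exact hp2 rfl
            · exact hp3 rfl
            · exact absurd hp (by norm_num)
          rw [e5 p hp h5]; exact Nat.zero_le _
    · rw [Nat.factorization_eq_zero_of_not_prime _ hp]; exact Nat.zero_le _
  exact Nat.le_of_dvd (by norm_num) hdvd

end Cfsg.Agent.Lib.Helper7.L34
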