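import Cfsg.Agent.Lib.Helper26.L34LocDefs

/-!
# S3154-[T1] (helper26's front): the subgroup `quad a ⊔ quad b` (helper11)

`quad b` normalises `quad a` and conversely, and every element of `T = quad a ⊔ quad b` has the normal form
`(a1^i a2^j) (b1^k b2^l) u` with `u ∈ duo w1 w2`.
-/

set_option autoImplicit false

namespace Cfsg.Agent.Lib.Helper26.L34Loc

namespace H11T1

variable {X : Type*} [Group X]

theorem inv_eq_self {g : X} (hg : g * g = 1) : g⁻¹ = g := inv_eq_of_mul_eq_one_left hg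

theorem duo_le_quad (x1 x2 w1 w2 : X) : duo w1 w2 ≤ quad x1 x2 w1 w2 := by
  unfold duo quad
  refine sup_le_sup_right (Subgroup.closure_mono ?_) _
  intro s hs
  simp only [Set.mem_insert_iff, Set.mem_singleton_iff] at hs ⊢
  rcases hs with rfl | rfl
  · exact Or.inr (Or.inr (Or.inl rfl))
  · exact Or.inr (Or.inr (Or.inr rfl))

theorem mem_quad₁ (x1 x2 y1 y2 : X) : x1 ∈ quad x1 x2 y1 y2 :=
  Subgroup.mem_sup_left (Subgroup.subset_closure (by simp))

theorem mem_quad₂ (x1 x2 y1 y2 : X) : x2 ∈ quad x1 x2 y1 y2 :=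
  Subgroup.mem_sup_left (Subgroup.subset_closure (by simp))

theorem mem_quad₃ (x1 x2 y1 y2 : X) : y1 ∈ quad x1 x2 y1 y2 :=
  Subgroup.mem_sup_left (Subgroup.subset_closure (by simp))

theorem mem_quad₄ (x1 x2 y1 y2 : X) : y2 ∈ quad x1 x2 y1 y2 :=
  Subgroup.mem_sup_left (Subgroup.subset_closure (by simp))

theorem center_le_quad (x1 x2 y1 y2 : X) : Subgroup.center X ≤ quad x1 x2 y1 y2 := le_sup_right

theorem center_le_duo (y1 y2 : X) : Subgroup.center X ≤ duo y1 y2 := le_sup_right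

theorem mem_duo₁ (y1 y2 : X) : y1 ∈ duo y1 y2 :=
  Subgroup.mem_sup_left (Subgroup.subset_closure (by simp))

theorem mem_duo₂ (y1 y2 : X) : y2 ∈ duo y1 y2 :=
  Subgroup.mem_sup_left (Subgroup.subset_closure (by simp))

/-- an element commuting with `w1` and `w2` commutes with `duo w1 w2` -/
theorem duo_commute {x w1 w2 : X} (h1 : x * w1 = w1 * x) (h2 : x * w2 = w2 * x) {u : X}
    (hu : u ∈ duo w1 w2) : Commute x u := by
  have hle : duo w1 w2 ≤ Subgroup.centralizer {x} := by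
    unfold duo
    refine sup_le ((Subgroup.closure_le _).mpr ?_) (Subgroup.center_le_centralizer _)
    intro s hs
    simp only [Set.mem_insert_iff, Set.mem_singleton_iff] at hs
    rw [SetLike.mem_coe, Subgroup.mem_centralizer_iff]
    intro t ht
    rw [Set.mem_singleton_iff] at ht
    subst ht
    rcases hs with rfl | rfl
    · exact h1
    · exact h2
  exact Subgroup.mem_centralizer_iff.mp (hle hu) x rfl

/-- an involution normalises a subgroup as soon as it conjugates it into itself -/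
theorem mem_normalizer_of_invol {A : Subgroup X} {g : X} (hg : g * g = 1)
    (h : ∀ k ∈ A, g * k * g⁻¹ ∈ A) : g ∈ Subgroup.normalizer (A : Set X) := by
  rw [Subgroup.mem_normalizer_iff]
  intro k
  refine ⟨h k, fun hk => ?_⟩
  have hginv : g⁻¹ = g := inv_eq_self hg
  have h2 := h _ hk
  have e : g * (g * k * g⁻¹) * g⁻¹ = k := by
    rw [hginv]
    calc g * (g * k * g) * g = (g * g) * k * (g * g) := by simp only [mul_assoc]
      _ = k := by rw [hg, one_mul, mul_one]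
  rwa [e] at h2

/-- conjugation by `g` maps `closure S ⊔ Z` into `A` as soon as it does so on `S` -/
theorem conj_mem_of_gens {S : Set X} {A : Subgroup X} (g : X)
    (hS : ∀ s ∈ S, g * s * g⁻¹ ∈ A) (hZ : Subgroup.center X ≤ A) :
    ∀ k ∈ Subgroup.closure S ⊔ Subgroup.center X, g * k * g⁻¹ ∈ A := by
  intro k hk
  have hle : (Subgroup.closure S ⊔ Subgroup.center X).map (MulAut.conj g).toMonoidHom ≤ A := by
    rw [Subgroup.map_sup, MonoidHom.map_closure]
    refine sup_le ((Subgroup.closure_le _).mpr ?_) ?_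
    · rintro _ ⟨s, hs, rfl⟩
      exact hS s hs
    · rintro _ ⟨z, hz, rfl⟩
      have : (MulAut.conj g).toMonoidHom z = z := by
        show g * z * g⁻¹ = z
        rw [Subgroup.mem_center_iff.mp hz g, mul_inv_cancel_right]
      rw [this]
      exact hZ hz
  exact hle ⟨k, hk, rfl⟩

/-- the general form of the two normaliser statements -/
theorem quad_le_normalizer_aux {x1 x2 y1 y2 w1 w2 : X} (hx : Inv4 x1 x2 w1 w2)
    (hy : Inv4 y1 y2 w1 w2)
    (h11 : y1 * x1 * y1⁻¹ * x1⁻¹ ∈ duo w1 w2) (h12 : y1 * x2 * y1⁻¹ * x2⁻¹ ∈ duo w1 w2)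
    (h21 : y2 * x1 * y2⁻¹ * x1⁻¹ ∈ duo w1 w2) (h22 : y2 * x2 * y2⁻¹ * x2⁻¹ ∈ duo w1 w2) :
    quad y1 y2 w1 w2 ≤ Subgroup.normalizer ((quad x1 x2 w1 w2 : Subgroup X) : Set X) := by
  have hW := duo_le_quad x1 x2 w1 w2
  have hmem3 : w1 ∈ Subgroup.normalizer ((quad x1 x2 w1 w2 : Subgroup X) : Set X) :=
    Subgroup.le_normalizer (mem_quad₃ x1 x2 w1 w2)
  have hmem4 : w2 ∈ Subgroup.normalizer ((quad x1 x2 w1 w2 : Subgroup X) : Set X) :=
    Subgroup.le_normalizer (mem_quad₄ x1 x2 w1 w2)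
  -- an involution `y` commuting with `w1, w2` and with commutators in `duo` normalises `quad x`
  have key : ∀ y : X, y * y = 1 → y * w1 = w1 * y → y * w2 = w2 * y →
      y * x1 * y⁻¹ * x1⁻¹ ∈ duo w1 w2 → y * x2 * y⁻¹ * x2⁻¹ ∈ duo w1 w2 →
      y ∈ Subgroup.normalizer ((quad x1 x2 w1 w2 : Subgroup X) : Set X) := by
    intro y hyy hyw1 hyw2 hc1 hc2
    refine mem_normalizer_of_invol hyy ?_
    refine conj_mem_of_gens y ?_ (center_le_quad _ _ _ _)
    intro s hs
    simp only [Set.mem_insert_iff, Set.mem_singleton_iff] at hs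
    rcases hs with rfl | rfl | rfl | rfl
    · have := (quad s x2 w1 w2).mul_mem (hW hc1) (mem_quad₁ s x2 w1 w2)
      rwa [inv_mul_cancel_right] at this
    · have := (quad x1 s w1 w2).mul_mem (hW hc2) (mem_quad₂ x1 s w1 w2)
      rwa [inv_mul_cancel_right] at this
    · rw [hyw1, mul_inv_cancel_right]
      exact mem_quad₃ _ _ _ _
    · rw [hyw2, mul_inv_cancel_right]
      exact mem_quad₄ _ _ _ _
  unfold quad
  refine sup_le ((Subgroup.closure_le _).mpr ?_) ?_
  · intro s hs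
    simp only [Set.mem_insert_iff, Set.mem_singleton_iff] at hs
    rcases hs with rfl | rfl | rfl | rfl
    · exact key s hy.s1 hy.c13 hy.c14 h11 h12
    · exact key s hy.s2 hy.c23 hy.c24 h21 h22
    · exact hmem3
    · exact hmem4
  · intro z hz
    rw [Subgroup.mem_normalizer_iff]
    intro k
    rw [← Subgroup.mem_center_iff.mp hz k, mul_inv_cancel_right]

/-- `t * t ^ i` for an involution `t` -/
theorem mul_pow_lt_two {t : X} (ht : t * t = 1) {i : ℕ} (hi : i < 2) :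
    ∃ i' < 2, t * t ^ i = t ^ i' := by
  interval_cases i
  · exact ⟨1, by norm_num, by simp⟩
  · exact ⟨0, by norm_num, by simpa using ht⟩

theorem stepB {Pa Qb R u c b : X} (h1 : b * Pa = Pa * c * b) (hcR : c * (b * Qb) = (b * Qb) * c)
    (hR : b * Qb = R) : b * (Pa * Qb * u) = Pa * R * (c * u) := by
  calc b * (Pa * Qb * u) = (b * Pa) * Qb * u := by simp only [mul_assoc]
    _ = Pa * (c * (b * Qb)) * u := by rw [h1]; simp only [mul_assoc]
    _ = Pa * R * (c * u) := by rw [hcR, hR]; simp only [mul_assoc]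

theorem stepW {g Pa Qb u : X} (h1 : g * Pa = Pa * g) (h2 : g * Qb = Qb * g) :
    g * (Pa * Qb * u) = Pa * Qb * (g * u) := by
  calc g * (Pa * Qb * u) = (g * Pa) * Qb * u := by simp only [mul_assoc]
    _ = Pa * (g * Qb) * u := by rw [h1]; simp only [mul_assoc]
    _ = Pa * Qb * (g * u) := by rw [h2]; simp only [mul_assoc]

/-- commutators of `a1 ^ i * a2 ^ j` with `b` lie in `duo w1 w2` -/
theorem comm_mem {a1 a2 w1 w2 b : X} (hA : Inv4 a1 a2 w1 w2)
    (hb1 : a1 * b * a1⁻¹ * b⁻¹ ∈ duo w1 w2) (hb2 : a2 * b * a2⁻¹ * b⁻¹ ∈ duo w1 w2)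
    {i j : ℕ} (hi : i < 2) (hj : j < 2) :
    (a1 ^ i * a2 ^ j)⁻¹ * b * (a1 ^ i * a2 ^ j) * b⁻¹ ∈ duo w1 w2 := by
  have e1 : a1⁻¹ = a1 := inv_eq_self hA.s1
  have e2 : a2⁻¹ = a2 := inv_eq_self hA.s2
  have hc1 : a1⁻¹ * b * a1 * b⁻¹ ∈ duo w1 w2 := by
    have := hb1
    rw [e1] at this ⊢
    exact this
  have hc2 : a2⁻¹ * b * a2 * b⁻¹ ∈ duo w1 w2 := by
    have := hb2
    rw [e2] at this ⊢
    exact this
  interval_cases i <;> interval_cases j
  · simp
  · simpa using hc2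
  · simpa using hc1
  · have hcomm : Commute a2 (a1⁻¹ * b * a1 * b⁻¹) := duo_commute hA.c23 hA.c24 hc1
    have key : (a1 ^ 1 * a2 ^ 1)⁻¹ * b * (a1 ^ 1 * a2 ^ 1) * b⁻¹ =
        (a2⁻¹ * (a1⁻¹ * b * a1 * b⁻¹) * a2) * (a2⁻¹ * b * a2 * b⁻¹) := by group
    rw [key, mul_assoc a2⁻¹, ← hcomm.eq, inv_mul_cancel_left]
    exact (duo w1 w2).mul_mem hc1 hc2

end H11T1

open H11T1

section T

variable {X : Type*} [Group X] {a1 a2 b1 b2 w1 w2 : X}

theorem quadB_le_normalizer (h : Hyp a1 a2 b1 b2 w1 w2) :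
    quad b1 b2 w1 w2 ≤ Subgroup.normalizer ((quad a1 a2 w1 w2 : Subgroup X) : Set X) := by
  have inv : ∀ a b : X, b * a * b⁻¹ * a⁻¹ = (a * b * a⁻¹ * b⁻¹)⁻¹ := fun a b => by group
  refine quad_le_normalizer_aux h.hA h.hB ?_ ?_ ?_ ?_
  · rw [inv]; exact (duo w1 w2).inv_mem h.ab11
  · rw [inv]; exact (duo w1 w2).inv_mem h.ab21
  · rw [inv]; exact (duo w1 w2).inv_mem h.ab12
  · rw [inv]; exact (duo w1 w2).inv_mem h.ab22

theorem quadA_le_normalizer (h : Hyp a1 a2 b1 b2 w1 w2) :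
    quad a1 a2 w1 w2 ≤ Subgroup.normalizer ((quad b1 b2 w1 w2 : Subgroup X) : Set X) :=
  quad_le_normalizer_aux h.hB h.hA h.ab11 h.ab12 h.ab21 h.ab22

/-- normal form in `T = quad a ⊔ quad b` -/
theorem sup_form (h : Hyp a1 a2 b1 b2 w1 w2) {x : X} (hx : x ∈ quad a1 a2 w1 w2 ⊔ quad b1 b2 w1 w2) :
    ∃ i j k l : ℕ, i < 2 ∧ j < 2 ∧ k < 2 ∧ l < 2 ∧ ∃ u ∈ duo w1 w2,
      x = (a1 ^ i * a2 ^ j) * (b1 ^ k * b2 ^ l) * u := by
  -- the generating set
  have hle : quad a1 a2 w1 w2 ⊔ quad b1 b2 w1 w2 ≤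
      Subgroup.closure (({a1, a2, b1, b2} : Set X) ∪ (duo w1 w2 : Set X)) := by
    have hWle : ∀ {z : X}, z ∈ duo w1 w2 →
        z ∈ Subgroup.closure (({a1, a2, b1, b2} : Set X) ∪ (duo w1 w2 : Set X)) :=
      fun hz => Subgroup.subset_closure (Or.inr hz)
    unfold quad
    refine sup_le (sup_le ((Subgroup.closure_le _).mpr ?_) fun z hz => hWle (center_le_duo _ _ hz))
      (sup_le ((Subgroup.closure_le _).mpr ?_) fun z hz => hWle (center_le_duo _ _ hz))
    · intro s hs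
      simp only [Set.mem_insert_iff, Set.mem_singleton_iff] at hs
      rcases hs with rfl | rfl | rfl | rfl
      · exact Subgroup.subset_closure (Or.inl (by simp))
      · exact Subgroup.subset_closure (Or.inl (by simp))
      · exact hWle (mem_duo₁ _ _)
      · exact hWle (mem_duo₂ _ _)
    · intro s hs
      simp only [Set.mem_insert_iff, Set.mem_singleton_iff] at hs
      rcases hs with rfl | rfl | rfl | rfl
      · exact Subgroup.subset_closure (Or.inl (by simp))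
      · exact Subgroup.subset_closure (Or.inl (by simp))
      · exact hWle (mem_duo₁ _ _)
      · exact hWle (mem_duo₂ _ _)
  -- commutation of `duo w1 w2` with the generators
  have cA1 : ∀ {u : X}, u ∈ duo w1 w2 → Commute a1 u := fun hu => duo_commute h.hA.c13 h.hA.c14 hu
  have cA2 : ∀ {u : X}, u ∈ duo w1 w2 → Commute a2 u := fun hu => duo_commute h.hA.c23 h.hA.c24 hu
  have cB1 : ∀ {u : X}, u ∈ duo w1 w2 → Commute b1 u := fun hu => duo_commute h.hB.c13 h.hB.c14 hu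
  have cB2 : ∀ {u : X}, u ∈ duo w1 w2 → Commute b2 u := fun hu => duo_commute h.hB.c23 h.hB.c24 hu
  have cPa : ∀ {u : X}, u ∈ duo w1 w2 → ∀ i j : ℕ, Commute u (a1 ^ i * a2 ^ j) := fun hu i j =>
    Commute.mul_right ((cA1 hu).symm.pow_right i) ((cA2 hu).symm.pow_right j)
  have cQb : ∀ {u : X}, u ∈ duo w1 w2 → ∀ k l : ℕ, Commute u (b1 ^ k * b2 ^ l) := fun hu k l =>
    Commute.mul_right ((cB1 hu).symm.pow_right k) ((cB2 hu).symm.pow_right l)
  -- one step
  have hstep : ∀ g ∈ (({a1, a2, b1, b2} : Set X) ∪ (duo w1 w2 : Set X)), ∀ y : X,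
      (∃ i j k l : ℕ, i < 2 ∧ j < 2 ∧ k < 2 ∧ l < 2 ∧ ∃ u ∈ duo w1 w2,
        y = (a1 ^ i * a2 ^ j) * (b1 ^ k * b2 ^ l) * u) →
      ∃ i j k l : ℕ, i < 2 ∧ j < 2 ∧ k < 2 ∧ l < 2 ∧ ∃ u ∈ duo w1 w2,
        g * y = (a1 ^ i * a2 ^ j) * (b1 ^ k * b2 ^ l) * u := by
    rintro g hg y ⟨i, j, k, l, hi, hj, hk, hl, u, hu, rfl⟩
    rcases hg with hg | hg
    · simp only [Set.mem_insert_iff, Set.mem_singleton_iff] at hg
      rcases hg with rfl | rfl | rfl | rfl
      · -- `a1`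
        obtain ⟨i', hi', e⟩ := mul_pow_lt_two h.hA.s1 hi
        refine ⟨i', j, k, l, hi', hj, hk, hl, u, hu, ?_⟩
        rw [← e]
        simp only [mul_assoc]
      · -- `a2`
        obtain ⟨j', hj', e⟩ := mul_pow_lt_two h.hA.s2 hj
        refine ⟨i, j', k, l, hi, hj', hk, hl, u, hu, ?_⟩
        have hc : g * a1 ^ i = a1 ^ i * g :=
          (Commute.pow_right (show Commute g a1 from h.hA.c12.symm) i).eq
        calc g * (a1 ^ i * g ^ j * (b1 ^ k * b2 ^ l) * u)
            = (g * a1 ^ i) * g ^ j * (b1 ^ k * b2 ^ l) * u := by simp only [mul_assoc]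
          _ = a1 ^ i * (g * g ^ j) * (b1 ^ k * b2 ^ l) * u := by rw [hc]; simp only [mul_assoc]
          _ = a1 ^ i * g ^ j' * (b1 ^ k * b2 ^ l) * u := by rw [e]
      · -- `b1`
        obtain ⟨k', hk', e⟩ := mul_pow_lt_two h.hB.s1 hk
        have hcW := comm_mem (b := g) h.hA h.ab11 h.ab21 hi hj
        refine ⟨i, j, k', l, hi, hj, hk', hl, _, (duo w1 w2).mul_mem hcW hu, ?_⟩
        refine stepB (by group) ?_ (by rw [← e, mul_assoc])
        exact (Commute.mul_right (cB1 hcW).symm (cQb hcW k l)).eq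
      · -- `b2`
        obtain ⟨l', hl', e⟩ := mul_pow_lt_two h.hB.s2 hl
        have hcW := comm_mem (b := g) h.hA h.ab12 h.ab22 hi hj
        refine ⟨i, j, k, l', hi, hj, hk, hl', _, (duo w1 w2).mul_mem hcW hu, ?_⟩
        have hc : g * b1 ^ k = b1 ^ k * g :=
          (Commute.pow_right (show Commute g b1 from h.hB.c12.symm) k).eq
        refine stepB (by group) ?_ (by rw [← e, ← mul_assoc, hc, mul_assoc])
        exact (Commute.mul_right (cB2 hcW).symm (cQb hcW k l)).eq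
    · -- an element of `duo w1 w2`
      refine ⟨i, j, k, l, hi, hj, hk, hl, g * u, (duo w1 w2).mul_mem hg hu, ?_⟩
      exact stepW (cPa hg i j).eq (cQb hg k l).eq
  have hinv : ∀ g ∈ (({a1, a2, b1, b2} : Set X) ∪ (duo w1 w2 : Set X)),
      g⁻¹ ∈ (({a1, a2, b1, b2} : Set X) ∪ (duo w1 w2 : Set X)) := by
    rintro g (hg | hg)
    · left
      simp only [Set.mem_insert_iff, Set.mem_singleton_iff] at hg
      rcases hg with rfl | rfl | rfl | rfl
      · rw [inv_eq_self h.hA.s1]; simp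
      · rw [inv_eq_self h.hA.s2]; simp
      · rw [inv_eq_self h.hB.s1]; simp
      · rw [inv_eq_self h.hB.s2]; simp
    · exact Or.inr ((duo w1 w2).inv_mem hg)
  have hxG := hle hx
  clear hx
  induction hxG using Subgroup.closure_induction_left with
  | one =>
    exact ⟨0, 0, 0, 0, by norm_num, by norm_num, by norm_num, by norm_num, 1, one_mem _, by simp⟩
  | mul_left g hg y _ ih => exact hstep g hg y ih
  | inv_mul_cancel g hg y _ ih => exact hstep g⁻¹ (hinv g hg) y ih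

end T

end Cfsg.Agent.Lib.Helper26.L34Loc
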