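import Mathlib
import Cfsg.Agent.Lib.Helper15.SLNormal

/-!
# S2088 (helper11 for helper7): `PSL₃(F)` is perfect (the `hperf` of the assembly)
-/

set_option autoImplicit false

namespace Cfsg.Agent.Lib.Helper7.L34

universe u

namespace Helper11

/-- a quotient of a perfect group is perfect -/
theorem commutator_quotient_eq_top {G : Type u} [Group G] (N : Subgroup G) [N.Normal]
    (h : commutator G = ⊤) : commutator (G ⧸ N) = ⊤ := by
  have hs : Function.Surjective (QuotientGroup.mk' N) := QuotientGroup.mk'_surjective N
  have h1 : (commutator G).map (QuotientGroup.mk' N) = commutator (G ⧸ N) := by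
    rw [commutator_def, commutator_def, Subgroup.map_commutator, ← MonoidHom.range_eq_map,
      MonoidHom.range_eq_top.mpr hs]
  rw [← h1, h, ← MonoidHom.range_eq_map, MonoidHom.range_eq_top.mpr hs]

end Helper11

/-- `PSL_n(F)` is perfect for `n ≥ 3` -/
theorem psl_commutator_eq_top {F : Type u} [Field F] {ι : Type*} [DecidableEq ι] [Fintype ι]
    (h3 : 3 ≤ Fintype.card ι) :
    commutator (Matrix.ProjectiveSpecialLinearGroup ι F) = ⊤ :=
  Helper11.commutator_quotient_eq_top _ (Cfsg.Agent.Lib.Helper15.SLn_commutator_eq_top h3)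

/-- the `hperf` of `main` -/
theorem psl3_commutator_eq_top {F : Type u} [Field F] :
    commutator (Matrix.ProjectiveSpecialLinearGroup (Fin 3) F) = ⊤ :=
  psl_commutator_eq_top (by simp)

end Cfsg.Agent.Lib.Helper7.L34
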