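import Cfsg.Agent.Lib.Helper29.Law.Defs

set_option autoImplicit false

/-! S2355 farm (architect helper29), piece [E1]: over `F[X]` the matrices `gen F[X] X i` satisfy no
nontrivial relation, even modulo scalars (degree-dominance induction over the reduced word). -/

namespace Cfsg.Agent.Lib.Helper29.Law

open Matrix Polynomial

namespace Helper11

variable {F : Type*} [Field F]

/-- upper elementary matrix over `F[X]` -/
noncomputable def Tm (g : F[X]) : Matrix (Fin 2) (Fin 2) F[X] := !![1, g; 0, 1]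

/-- lower elementary matrix over `F[X]` -/
noncomputable def Tl (g : F[X]) : Matrix (Fin 2) (Fin 2) F[X] := !![1, 0; g, 1]

theorem Tm_mul_zero (g : F[X]) (Y : Matrix (Fin 2) (Fin 2) F[X]) (c : Fin 2) :
    (Tm g * Y) 0 c = Y 0 c + g * Y 1 c := by
  simp [Tm, Matrix.mul_apply, Fin.sum_univ_two]

theorem Tm_mul_one (g : F[X]) (Y : Matrix (Fin 2) (Fin 2) F[X]) (c : Fin 2) :
    (Tm g * Y) 1 c = Y 1 c := by
  simp [Tm, Matrix.mul_apply, Fin.sum_univ_two]

theorem Tl_mul_zero (g : F[X]) (Y : Matrix (Fin 2) (Fin 2) F[X]) (c : Fin 2) :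
    (Tl g * Y) 0 c = Y 0 c := by
  simp [Tl, Matrix.mul_apply, Fin.sum_univ_two]

theorem Tl_mul_one (g : F[X]) (Y : Matrix (Fin 2) (Fin 2) F[X]) (c : Fin 2) :
    (Tl g * Y) 1 c = g * Y 0 c + Y 1 c := by
  simp [Tl, Matrix.mul_apply, Fin.sum_univ_two]

theorem Tl_mul_Tl (a b : F[X]) : Tl a * Tl b = Tl (a + b) := by
  ext i j
  fin_cases i <;> fin_cases j <;> simp [Tl, Matrix.mul_apply, Fin.sum_univ_two]

theorem Tm_mul_Tm (a b : F[X]) : Tm a * Tm b = Tm (a + b) := by
  ext i j
  fin_cases i <;> fin_cases j <;> simp [Tm, Matrix.mul_apply, Fin.sum_univ_two, add_comm]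

/-- the top row dominates the bottom row in degree, in each column -/
def TopDom (Y : Matrix (Fin 2) (Fin 2) F[X]) : Prop := ∀ c, degree (Y 1 c) < degree (Y 0 c)

/-- the bottom row dominates the top row in degree, in each column -/
def BotDom (Y : Matrix (Fin 2) (Fin 2) F[X]) : Prop := ∀ c, degree (Y 0 c) < degree (Y 1 c)

theorem deg_lt_add {p q g : F[X]} (hg : 0 < degree g) (h : degree p < degree q) :
    degree q < degree (p + g * q) := by
  have hq : q ≠ 0 := ne_zero_of_degree_gt h
  have hg0 : g ≠ 0 := ne_zero_of_degree_gt hg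
  have h1 : degree q < degree (g * q) := by
    rw [degree_mul, degree_eq_natDegree hq, degree_eq_natDegree hg0]
    have h2 : 0 < natDegree g := natDegree_pos_iff_degree_pos.mpr hg
    exact_mod_cast (by omega : natDegree q < natDegree g + natDegree q)
  rw [degree_add_eq_right_of_degree_lt (h.trans h1)]
  exact h1

theorem topDom_of_botDom {g : F[X]} (hg : 0 < degree g) {Y : Matrix (Fin 2) (Fin 2) F[X]}
    (h : BotDom Y) : TopDom (Tm g * Y) := by
  intro c
  rw [Tm_mul_zero, Tm_mul_one]
  exact deg_lt_add hg (h c)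

theorem botDom_of_topDom {g : F[X]} (hg : 0 < degree g) {Y : Matrix (Fin 2) (Fin 2) F[X]}
    (h : TopDom Y) : BotDom (Tl g * Y) := by
  intro c
  rw [Tl_mul_zero, Tl_mul_one, add_comm]
  exact deg_lt_add hg (h c)

/-- `X ^ (i + 1)` -/
noncomputable def fX (F : Type*) [Field F] (i : ℕ) : F[X] := X ^ (i + 1)

theorem degree_fX (i : ℕ) : degree (fX F i) = ((i + 1 : ℕ) : WithBot ℕ) := by
  unfold fX
  rw [degree_X_pow]

theorem degree_fX_pos (i : ℕ) : 0 < degree (fX F i) := by
  rw [degree_fX]
  exact_mod_cast Nat.succ_pos i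

theorem degree_neg_fX_pos (i : ℕ) : 0 < degree (-fX F i) := by
  rw [degree_neg]
  exact degree_fX_pos i

theorem degree_fX_sub_pos {i j : ℕ} (hij : i ≠ j) : 0 < degree (fX F i - fX F j) := by
  rcases Nat.lt_or_gt_of_ne hij with h | h
  · have hlt : degree (fX F i) < degree (fX F j) := by
      rw [degree_fX, degree_fX]
      exact_mod_cast Nat.succ_lt_succ h
    rw [degree_sub_eq_right_of_degree_lt hlt]
    exact degree_fX_pos j
  · have hlt : degree (fX F j) < degree (fX F i) := by
      rw [degree_fX, degree_fX]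
      exact_mod_cast Nat.succ_lt_succ h
    rw [degree_sub_eq_left_of_degree_lt hlt]
    exact degree_fX_pos i

/-- the matrix of a letter -/
noncomputable def M (F : Type*) [Field F] (x : ℕ × Bool) : Matrix (Fin 2) (Fin 2) F[X] :=
  if x.2 then Tm (fX F x.1) * Tl (fX F x.1) else Tl (-fX F x.1) * Tm (-fX F x.1)

/-- the matrix of a word -/
noncomputable def P (F : Type*) [Field F] (L : List (ℕ × Bool)) : Matrix (Fin 2) (Fin 2) F[X] :=
  (L.map (M F)).prod

theorem P_cons (x : ℕ × Bool) (L : List (ℕ × Bool)) : P F (x :: L) = M F x * P F L := by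
  simp [P]

theorem coe_gen (i : ℕ) :
    ((gen F[X] X i : SpecialLinearGroup (Fin 2) F[X]) : Matrix (Fin 2) (Fin 2) F[X])
      = Tm (fX F i) * Tl (fX F i) := by
  ext a b
  fin_cases a <;> fin_cases b <;>
    simp [gen, Tm, Tl, fX, Matrix.mul_apply, Fin.sum_univ_two]

theorem coe_gen_inv (i : ℕ) :
    (((gen F[X] X i)⁻¹ : SpecialLinearGroup (Fin 2) F[X]) : Matrix (Fin 2) (Fin 2) F[X])
      = Tl (-fX F i) * Tm (-fX F i) := by
  rw [Matrix.SpecialLinearGroup.coe_inv]
  ext a b
  fin_cases a <;> fin_cases b <;>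
    simp [gen, Tm, Tl, fX, Matrix.mul_apply, Fin.sum_univ_two, Matrix.adjugate_fin_two]
  ring

theorem coe_lift (L : List (ℕ × Bool)) :
    ((FreeGroup.lift (fun i => gen F[X] X i) (FreeGroup.mk L) :
      SpecialLinearGroup (Fin 2) F[X]) : Matrix (Fin 2) (Fin 2) F[X]) = P F L := by
  rw [FreeGroup.lift_mk]
  induction L with
  | nil => simp [P]
  | cons x L ih =>
    rw [List.map_cons, List.prod_cons, Matrix.SpecialLinearGroup.coe_mul, ih, P_cons]
    congr 1
    obtain ⟨i, b⟩ := x
    cases b
    · simp only [cond_false, M, Bool.false_eq_true, if_false]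
      exact coe_gen_inv i
    · simp only [cond_true, M, if_true]
      exact coe_gen i

/-- the invariant of the induction over the reduced word -/
theorem inv : ∀ (L : List (ℕ × Bool)) (x : ℕ × Bool), FreeGroup.IsReduced (x :: L) →
    (x.2 = true → ∃ Y, P F (x :: L) = Tm (fX F x.1) * Y ∧ BotDom Y) ∧
    (x.2 = false → ∃ Y, P F (x :: L) = Tl (-fX F x.1) * Y ∧ TopDom Y) := by
  intro L
  induction L with
  | nil =>
    intro x _
    constructor
    · intro hx
      refine ⟨Tl (fX F x.1), by simp [P, M, hx], ?_⟩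
      intro c
      fin_cases c
      · show degree ((Tl (fX F x.1)) 0 0) < degree ((Tl (fX F x.1)) 1 0)
        simp only [Tl, Matrix.of_apply, Matrix.cons_val_zero, Matrix.cons_val_one]
        rw [degree_one]
        exact degree_fX_pos x.1
      · show degree ((Tl (fX F x.1)) 0 1) < degree ((Tl (fX F x.1)) 1 1)
        simp [Tl]
    · intro hx
      refine ⟨Tm (-fX F x.1), by simp [P, M, hx], ?_⟩
      intro c
      fin_cases c
      · show degree ((Tm (-fX F x.1)) 1 0) < degree ((Tm (-fX F x.1)) 0 0)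
        simp [Tm]
      · show degree ((Tm (-fX F x.1)) 1 1) < degree ((Tm (-fX F x.1)) 0 1)
        simp only [Tm, Matrix.of_apply, Matrix.cons_val_zero, Matrix.cons_val_one]
        rw [degree_one]
        exact degree_neg_fX_pos x.1
  | cons y L ih =>
    intro x hred
    rw [FreeGroup.isReduced_cons_cons] at hred
    obtain ⟨hxy, hred'⟩ := hred
    obtain ⟨ih1, ih2⟩ := ih y hred'
    rw [P_cons]
    constructor
    · intro hx
      have hM : M F x = Tm (fX F x.1) * Tl (fX F x.1) := by simp [M, hx]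
      rw [hM]
      by_cases hy : y.2 = true
      · obtain ⟨Y', hP, hY'⟩ := ih1 hy
        refine ⟨Tl (fX F x.1) * (Tm (fX F y.1) * Y'), by rw [hP, Matrix.mul_assoc], ?_⟩
        exact botDom_of_topDom (degree_fX_pos _) (topDom_of_botDom (degree_fX_pos _) hY')
      · have hy' : y.2 = false := by simpa using hy
        obtain ⟨Y', hP, hY'⟩ := ih2 hy'
        have hne : x.1 ≠ y.1 := by
          intro h
          have := hxy h
          rw [hx, hy'] at this
          exact Bool.noConfusion this
        refine ⟨Tl (fX F x.1 - fX F y.1) * Y', ?_, ?_⟩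
        · rw [hP, Matrix.mul_assoc, ← Matrix.mul_assoc (Tl (fX F x.1)), Tl_mul_Tl, sub_eq_add_neg]
        · exact botDom_of_topDom (degree_fX_sub_pos hne) hY'
    · intro hx
      have hM : M F x = Tl (-fX F x.1) * Tm (-fX F x.1) := by simp [M, hx]
      rw [hM]
      by_cases hy : y.2 = true
      · obtain ⟨Y', hP, hY'⟩ := ih1 hy
        have hne : y.1 ≠ x.1 := by
          intro h
          have := hxy h.symm
          rw [hx, hy] at this
          exact Bool.noConfusion this
        refine ⟨Tm (fX F y.1 - fX F x.1) * Y', ?_, ?_⟩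
        · rw [hP, Matrix.mul_assoc, ← Matrix.mul_assoc (Tm (-fX F x.1)), Tm_mul_Tm,
            neg_add_eq_sub]
        · exact topDom_of_botDom (degree_fX_sub_pos hne) hY'
      · have hy' : y.2 = false := by simpa using hy
        obtain ⟨Y', hP, hY'⟩ := ih2 hy'
        refine ⟨Tm (-fX F x.1) * (Tl (-fX F y.1) * Y'), by rw [hP, Matrix.mul_assoc], ?_⟩
        exact topDom_of_botDom (degree_neg_fX_pos _) (botDom_of_topDom (degree_neg_fX_pos _) hY')

end Helper11

/-- [E1] Over `F[X]`, the matrices `gen F[X] X i` satisfy no nontrivial relation, even modulo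
scalars: `w(gen)` has a nonzero off-diagonal entry. -/
theorem offDiag_ne_zero (F : Type*) [Field F] (w : FreeGroup ℕ) (hw : w ≠ 1) :
    ∃ a b : Fin 2, a ≠ b ∧
      (FreeGroup.lift (fun i => gen (Polynomial F) Polynomial.X i) w :
        Matrix (Fin 2) (Fin 2) (Polynomial F)) a b ≠ 0 := by
  have hL : w.toWord ≠ [] := fun h => hw (FreeGroup.toWord_eq_nil_iff.mp h)
  have hred : FreeGroup.IsReduced w.toWord := FreeGroup.isReduced_toWord
  have hcoe := Helper11.coe_lift (F := F) w.toWord
  rw [FreeGroup.mk_toWord] at hcoe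
  rw [hcoe]
  obtain ⟨x, L, hxL⟩ := List.exists_cons_of_ne_nil hL
  rw [hxL] at hred ⊢
  obtain ⟨h1, h2⟩ := Helper11.inv (F := F) L x hred
  by_cases hx : x.2 = true
  · obtain ⟨Y, hP, hY⟩ := h1 hx
    have hT := Helper11.topDom_of_botDom (Helper11.degree_fX_pos (F := F) x.1) hY
    rw [← hP] at hT
    refine ⟨0, 1, by decide, ?_⟩
    intro h0
    have := hT 1
    rw [h0, degree_zero] at this
    exact not_lt_bot this
  · have hx' : x.2 = false := by simpa using hx
    obtain ⟨Y, hP, hY⟩ := h2 hx'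
    have hB := Helper11.botDom_of_topDom (Helper11.degree_neg_fX_pos (F := F) x.1) hY
    rw [← hP] at hB
    refine ⟨1, 0, by decide, ?_⟩
    intro h0
    have := hB 0
    rw [h0, degree_zero] at this
    exact not_lt_bot this

end Cfsg.Agent.Lib.Helper29.Law
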