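import Cfsg.Agent.Lib.Helper11.ExcPrime

/-!
A self-centralising subgroup `P` of prime order `p` whose normaliser has order `p (p - 1)`:
every irreducible character of `G` is integer valued and constant on `P ∖ 1`.
-/

set_option autoImplicit false

namespace Cfsg.Agent.Lib.Helper11

open Cfsg
open Cfsg.Agent.Lib.Helper2
open Cfsg.Agent.S1522
open scoped ComplexConjugate

section RationalPrime

variable {G : Type*} [Group G]

theorem rational_prime [Finite G] [Fintype (IrrCharacter G)] (p : ℕ) (hp : p.Prime)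
    (P : Subgroup G) (hP : Nat.card P = p)
    (hC : Subgroup.centralizer (P : Set G) = P)
    (he : Nat.card (Subgroup.normalizer (P : Set G)) = p * (p - 1)) :
    ∃ (c : IrrCharacter G → ℤ) (d : IrrCharacter G → ℕ),
      (∀ χ : IrrCharacter G, (χ : G → ℂ) 1 = (d χ : ℂ)) ∧ c (trivialIrr G) = 1 ∧
      (∀ χ : IrrCharacter G, ∀ z ∈ P, z ≠ 1 → (χ : G → ℂ) z = (c χ : ℂ)) ∧
      (∀ χ : IrrCharacter G, (p : ℤ) ∣ (d χ : ℤ) - c χ) ∧
      (∑ χ : IrrCharacter G, c χ ^ 2 = (p : ℤ)) ∧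
      (∑ χ : IrrCharacter G, c χ * (d χ : ℤ) = 0) := by
  classical
  haveI : Fintype G := Fintype.ofFinite G
  haveI : Fintype (Subgroup.normalizer (P : Set G)) := Fintype.ofFinite _
  have hHL : P ≤ Subgroup.normalizer (P : Set G) := Subgroup.le_normalizer
  have hHn : ∀ x ∈ Subgroup.normalizer (P : Set G), ∀ h ∈ P, x * h * x⁻¹ ∈ P := by
    intro x hx h hh
    exact (Subgroup.mem_normalizer_iff.1 hx h).1 hh
  have hab : ∀ a ∈ P, ∀ b ∈ P, a * b = b * a := by
    intro a ha b hb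
    have ha' : a ∈ Subgroup.centralizer (P : Set G) := by rw [hC]; exact ha
    exact ((Subgroup.mem_centralizer_iff.1 ha') b hb).symm
  have hcent : ∀ h ∈ P, h ≠ 1 → ∀ x ∈ Subgroup.normalizer (P : Set G),
      x * h = h * x → x ∈ P := by
    intro h hh hh1 x _ hxh
    rw [← hC, Subgroup.mem_centralizer_iff]
    intro y hy
    have hy' : y ∈ Subgroup.zpowers h := by
      rw [zpowers_eq_of_prime_card P hp hP hh hh1]
      exact hy
    obtain ⟨k, rfl⟩ := Subgroup.mem_zpowers_iff.1 hy'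
    have hc : Commute x h := hxh
    exact (hc.zpow_right k).symm.eq
  haveI hKn : (P.subgroupOf (Subgroup.normalizer (P : Set G))).Normal :=
    subgroupOf_normal_of_conj P _ hHn
  haveI : Fintype (ExcIdx P (Subgroup.normalizer (P : Set G))) := Fintype.ofFinite _
  have hp0 : 0 < p := hp.pos
  have hp2 : 2 ≤ p := hp.two_le
  have hidx : (P.subgroupOf (Subgroup.normalizer (P : Set G))).index = p - 1 := by
    have h1 := Subgroup.card_mul_index (P.subgroupOf (Subgroup.normalizer (P : Set G)))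
    rw [Nat.card_congr (Subgroup.subgroupOfEquivOfLe hHL).toEquiv, hP, he] at h1
    exact Nat.eq_of_mul_eq_mul_left hp0 h1
  have hcm := exc_card_mul P (Subgroup.normalizer (P : Set G)) hHL hcent hab
  rw [hidx, hP] at hcm
  have hcard : Fintype.card (ExcIdx P (Subgroup.normalizer (P : Set G))) = 1 := by
    have h1 : Fintype.card (ExcIdx P (Subgroup.normalizer (P : Set G))) * (p - 1)
        = 1 * (p - 1) := by omega
    exact Nat.eq_of_mul_eq_mul_right (by omega) h1
  obtain ⟨θ₀, hθ₀⟩ := Fintype.card_eq_one_iff.1 hcard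
  have huniv : (Finset.univ : Finset (ExcIdx P (Subgroup.normalizer (P : Set G)))) = {θ₀} := by
    ext θ
    simp [hθ₀ θ]
  -- a nonidentity element of `P`
  obtain ⟨x, hx, hx1⟩ : ∃ x ∈ P, x ≠ 1 := by
    have hne : P ≠ ⊥ := by
      intro h
      rw [h, Subgroup.card_bot] at hP
      omega
    exact (Subgroup.ne_bot_iff_exists_ne_one.1 hne).elim fun y hy => ⟨y.1, y.2, by
      intro h
      apply hy
      exact Subtype.ext h⟩
  have hθ : ∀ z : G, ∀ hz : z ∈ P, z ≠ 1 →
      (θ₀.1 : Subgroup.normalizer (P : Set G) → ℂ) ⟨z, hHL hz⟩ = -1 := by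
    intro z hz hz1
    have hzL1 : (⟨z, hHL hz⟩ : Subgroup.normalizer (P : Set G)) ≠ 1 := by
      intro h
      apply hz1
      exact congrArg Subtype.val h
    have := exc_sum_apply P (Subgroup.normalizer (P : Set G)) hcent hab ⟨z, hHL hz⟩ hz hzL1
    rwa [huniv, Finset.sum_singleton] at this
  have hθ1 : (θ₀.1 : Subgroup.normalizer (P : Set G) → ℂ) 1 = ((p - 1 : ℕ) : ℂ) := by
    rw [(excIdx_props P (Subgroup.normalizer (P : Set G)) hcent hab θ₀).1, hidx]
  -- restriction data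
  have hdata : ∀ χ : IrrCharacter G, ∃ A b : ℕ,
      (∀ z ∈ P, z ≠ 1 → (χ : G → ℂ) z = (A : ℂ) - (b : ℂ)) ∧
        (χ : G → ℂ) 1 = (A : ℂ) + (b : ℂ) * ((p - 1 : ℕ) : ℂ) := by
    intro χ
    have hχ : IsCharacter G (χ : G → ℂ) := IsIrrCharacter.isCharacter χ.2
    obtain ⟨A, hA⟩ := exc_restrict_apply P (Subgroup.normalizer (P : Set G)) hχ
    obtain ⟨b, hb⟩ := IsCharacter.inner_irr_nat
      (IsCharacter.restrict hχ (Subgroup.normalizer (P : Set G))) θ₀.1
    have h2 : classInner (fun l : Subgroup.normalizer (P : Set G) => (χ : G → ℂ) l)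
        (θ₀.1 : Subgroup.normalizer (P : Set G) → ℂ) = (b : ℂ) := hb
    refine ⟨A, b, ?_, ?_⟩
    · intro z hz hz1
      have h1 := hA ⟨z, hHL hz⟩ hz
      rw [huniv, Finset.sum_singleton, hθ z hz hz1, h2] at h1
      have h3 : (((⟨z, hHL hz⟩ : Subgroup.normalizer (P : Set G))) : G) = z := rfl
      rw [h3] at h1
      rw [h1]
      ring
    · have h1 := hA 1 (by simp)
      rw [huniv, Finset.sum_singleton, hθ1, h2] at h1
      have h3 : (((1 : Subgroup.normalizer (P : Set G))) : G) = 1 := rfl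
      rw [h3] at h1
      exact h1
  choose A b hAx hA1 using hdata
  have hcz : ∀ χ : IrrCharacter G, ∀ z ∈ P, z ≠ 1 →
      (χ : G → ℂ) z = (((A χ : ℤ) - (b χ : ℤ) : ℤ) : ℂ) := by
    intro χ z hz hz1
    rw [hAx χ z hz hz1]
    push_cast
    ring
  have hcx : ∀ χ : IrrCharacter G, (χ : G → ℂ) x = (((A χ : ℤ) - (b χ : ℤ) : ℤ) : ℂ) :=
    fun χ => hcz χ x hx hx1
  have hd1 : ∀ χ : IrrCharacter G, (χ : G → ℂ) 1 = ((A χ + b χ * (p - 1) : ℕ) : ℂ) := by
    intro χ
    rw [hA1 χ]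
    push_cast
    ring
  refine ⟨fun χ => (A χ : ℤ) - (b χ : ℤ), fun χ => A χ + b χ * (p - 1), hd1, ?_, hcz, ?_, ?_, ?_⟩
  · have h1 := hcx (trivialIrr G)
    have h2 : ((trivialIrr G : IrrCharacter G) : G → ℂ) x = 1 := rfl
    rw [h2] at h1
    have h3 : ((1 : ℤ) : ℂ) = (((A (trivialIrr G) : ℤ) - (b (trivialIrr G) : ℤ) : ℤ) : ℂ) := by
      rw [← h1]; simp
    exact (Int.cast_injective h3).symm
  · intro χ
    refine ⟨(b χ : ℤ), ?_⟩
    have h1 : ((p - 1 : ℕ) : ℤ) = (p : ℤ) - 1 := by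
      rw [Nat.cast_sub (by omega)]; simp
    push_cast
    rw [h1]
    ring
  · -- column orthogonality at `x`
    have hCx : Subgroup.centralizer ({x} : Set G) = P := by
      ext y
      rw [Subgroup.mem_centralizer_singleton_iff]
      constructor
      · intro hy
        rw [← hC, Subgroup.mem_centralizer_iff]
        intro z hz
        have hz' : z ∈ Subgroup.zpowers x := by
          rw [zpowers_eq_of_prime_card P hp hP hx hx1]
          exact hz
        obtain ⟨k, rfl⟩ := Subgroup.mem_zpowers_iff.1 hz'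
        have hc : Commute y x := hy
        exact (hc.zpow_right k).symm.eq
      · intro hy
        exact hab y hy x hx
    have h0 := column_orthogonality (G := G) x x
    rw [if_pos (IsConj.refl x), hCx, hP] at h0
    have h1 : ∑ χ : IrrCharacter G, (χ : G → ℂ) x * conj ((χ : G → ℂ) x)
        = ((∑ χ : IrrCharacter G, ((A χ : ℤ) - (b χ : ℤ)) ^ 2 : ℤ) : ℂ) := by
      rw [Int.cast_sum]
      apply Finset.sum_congr rfl
      intro χ _
      rw [hcx χ, map_intCast]
      push_cast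
      ring
    rw [h1] at h0
    have h2 : ((∑ χ : IrrCharacter G, ((A χ : ℤ) - (b χ : ℤ)) ^ 2 : ℤ) : ℂ) = ((p : ℤ) : ℂ) := by
      rw [h0]; simp
    exact Int.cast_injective h2
  · have h0 := sum_irr_degree_mul (G := G) x
    rw [if_neg hx1] at h0
    have h1 : ∑ χ : IrrCharacter G, (χ : G → ℂ) 1 * (χ : G → ℂ) x
        = ((∑ χ : IrrCharacter G, ((A χ : ℤ) - (b χ : ℤ)) * ((A χ + b χ * (p - 1) : ℕ) : ℤ) : ℤ) : ℂ) := by
      rw [Int.cast_sum]
      apply Finset.sum_congr rfl
      intro χ _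
      rw [hcx χ, hd1 χ]
      push_cast
      ring
    rw [h1] at h0
    have h2 : ((∑ χ : IrrCharacter G, ((A χ : ℤ) - (b χ : ℤ)) * ((A χ + b χ * (p - 1) : ℕ) : ℤ) : ℤ) : ℂ)
        = ((0 : ℤ) : ℂ) := by
      rw [h0]; simp
    exact Int.cast_injective h2

end RationalPrime

end Cfsg.Agent.Lib.Helper11
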