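import Cfsg.Agent.Lib.Helper11.ExcDegree5
import Cfsg.Agent.Lib.Helper11.ExcPrime

/-!
Exceptional characters for a self-centralising subgroup of prime order: the general version
(no lower bound on the number of exceptional characters beyond `t ≥ 2`), with the exceptional
family packaged as a finset.
-/

set_option autoImplicit false

namespace Cfsg.Agent.Lib.Helper11

open Cfsg
open Cfsg.Agent.Lib.Helper2
open scoped ComplexConjugate

section ExcPrime2

variable {G : Type*} [Group G]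

theorem exc_prime2 [Finite G] (p : ℕ) (hp : p.Prime) (P : Subgroup G)
    (hP : Nat.card P = p)
    (hC : Subgroup.centralizer (P : Set G) = P)
    (e t : ℕ) (he : Nat.card (Subgroup.normalizer (P : Set G)) = p * e)
    (hte : t * e + 1 = p) (ht : 2 ≤ t) :
    ∃ (ε m₀ : ℤ) (x₀ : ℕ) (E Nz : Finset (IrrCharacter G))
      (m : IrrCharacter G → ℤ) (d : IrrCharacter G → ℕ),
      (ε = 1 ∨ ε = -1) ∧ E.card = t ∧
      (∀ χ : IrrCharacter G, (χ : G → ℂ) 1 = (d χ : ℂ)) ∧ (∀ χ ∈ E, d χ = x₀) ∧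
      trivialIrr G ∉ E ∧ m (trivialIrr G) = 1 ∧
      (∀ χ, χ ∈ Nz ↔ χ ∉ E ∧ m χ ≠ 0) ∧
      (∀ χ ∉ E, (p : ℤ) ∣ (d χ : ℤ) - m χ) ∧
      (∑ χ ∈ Nz, (m χ) ^ 2 + (t : ℤ) * m₀ ^ 2 - 2 * ε * m₀ = (e : ℤ)) ∧
      (∑ χ ∈ Nz, m χ * (d χ : ℤ) + ((t : ℤ) * m₀ - ε) * (x₀ : ℤ) = 0) := by
  classical
  haveI : Fintype G := Fintype.ofFinite G
  haveI : Fintype (Subgroup.normalizer (P : Set G)) := Fintype.ofFinite _
  have hHL : P ≤ Subgroup.normalizer (P : Set G) := Subgroup.le_normalizer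
  have hHn : ∀ x ∈ Subgroup.normalizer (P : Set G), ∀ h ∈ P, x * h * x⁻¹ ∈ P := by
    intro x hx h hh
    exact (Subgroup.mem_normalizer_iff.1 hx h).1 hh
  have hab : ∀ a ∈ P, ∀ b ∈ P, a * b = b * a := by
    intro a ha b hb
    have ha' : a ∈ Subgroup.centralizer (P : Set G) := by rw [hC]; exact ha
    exact ((Subgroup.mem_centralizer_iff.1 ha') b hb).symm
  have hcent : ∀ h ∈ P, h ≠ 1 → ∀ x ∈ Subgroup.normalizer (P : Set G),
      x * h = h * x → x ∈ P := by
    intro h hh hh1 x _ hxh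
    rw [← hC, Subgroup.mem_centralizer_iff]
    intro y hy
    have hy' : y ∈ Subgroup.zpowers h := by
      rw [zpowers_eq_of_prime_card P hp hP hh hh1]
      exact hy
    obtain ⟨k, rfl⟩ := Subgroup.mem_zpowers_iff.1 hy'
    have hc : Commute x h := hxh
    exact (hc.zpow_right k).symm.eq
  have hTI := isTISubset_of_prime_card P hp hP
  haveI hKn : (P.subgroupOf (Subgroup.normalizer (P : Set G))).Normal :=
    subgroupOf_normal_of_conj P _ hHn
  haveI : Fintype (ExcIdx P (Subgroup.normalizer (P : Set G))) := Fintype.ofFinite _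
  have hp0 : 0 < p := hp.pos
  have hidx : (P.subgroupOf (Subgroup.normalizer (P : Set G))).index = e := by
    have h1 := Subgroup.card_mul_index (P.subgroupOf (Subgroup.normalizer (P : Set G)))
    rw [Nat.card_congr (Subgroup.subgroupOfEquivOfLe hHL).toEquiv, hP, he] at h1
    exact Nat.eq_of_mul_eq_mul_left hp0 h1
  have hcm := exc_card_mul P (Subgroup.normalizer (P : Set G)) hHL hcent hab
  rw [hidx, hP, ← Nat.card_eq_fintype_card] at hcm
  have he0 : 0 < e := by
    rcases Nat.eq_zero_or_pos e with h | h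
    · rw [h, mul_zero, zero_add] at hte
      exact absurd hte.symm hp.one_lt.ne'
    · exact h
  have hcard : Nat.card (ExcIdx P (Subgroup.normalizer (P : Set G))) = t := by
    have : Nat.card (ExcIdx P (Subgroup.normalizer (P : Set G))) * e = t * e := by omega
    exact Nat.eq_of_mul_eq_mul_right he0 this
  obtain ⟨ε, m₀, x₀, f, Nz, m, d, hε, hinj, hd, hfx, htriv, hm1, hNz, -, hdvd, -, -, hnorm, hdeg, -⟩ :=
    exc_degree_main2 P (Subgroup.normalizer (P : Set G)) hHn hcent hTI rfl hab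
      (by rw [hcard]; exact ht)
  have hmemE : ∀ χ : IrrCharacter G, χ ∈ Finset.univ.image f ↔ χ ∈ Set.range f := by
    intro χ
    simp
  refine ⟨ε, m₀, x₀, Finset.univ.image f, Nz, m, d, hε, ?_, hd, ?_, ?_, hm1, ?_, ?_, ?_, ?_⟩
  · rw [Finset.card_image_of_injective _ hinj, Finset.card_univ, ← Nat.card_eq_fintype_card, hcard]
  · intro χ hχ
    obtain ⟨θ, -, rfl⟩ := Finset.mem_image.1 hχ
    exact hfx θ
  · rw [hmemE]; exact htriv
  · intro χ
    rw [hNz χ, hmemE]
  · intro χ hχ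
    rw [hmemE] at hχ
    have := hdvd χ hχ
    rwa [hP] at this
  · rw [hcard, hidx] at hnorm
    exact hnorm
  · rw [hcard] at hdeg
    exact hdeg

end ExcPrime2

end Cfsg.Agent.Lib.Helper11
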