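import Mathlib

/-!
# S3413 farm (architect helper28), leaf [GL] -- SPARE (official version: Lib/Helper22/M11CGGL.lean)

In `GL(2,3)` an element whose centralizer has order divisible by 16 squares to one: a non-scalar
`g` has a cyclic vector `v`, and `h ↦ h v` is injective on the centralizer of `g`, which therefore
has at most 9 elements.
-/

set_option autoImplicit false

namespace Cfsg.Agent.Lib.Helper28.M11CG

namespace Helper11

/-- A matrix commuting with `M` and killing a cyclic vector of `M` is zero. -/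
theorem comm_kill_eq_zero (M K : Matrix (Fin 2) (Fin 2) (ZMod 3)) (v : Fin 2 → ZMod 3)
    (hv : v 0 * (M.mulVec v) 1 - v 1 * (M.mulVec v) 0 ≠ 0)
    (hK : K * M = M * K) (hKv : K.mulVec v = 0) : K = 0 := by
  have hKw : K.mulVec (M.mulVec v) = 0 := by
    rw [Matrix.mulVec_mulVec, hK, ← Matrix.mulVec_mulVec, hKv, Matrix.mulVec_zero]
  set w := M.mulVec v with hw
  have e1 : ∀ i, K i 0 * v 0 + K i 1 * v 1 = 0 := by
    intro i
    have := congrFun hKv i
    simpa [Matrix.mulVec, dotProduct, Fin.sum_univ_two] using this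
  have e2 : ∀ i, K i 0 * w 0 + K i 1 * w 1 = 0 := by
    intro i
    have := congrFun hKw i
    simpa [Matrix.mulVec, dotProduct, Fin.sum_univ_two] using this
  ext i j
  fin_cases j
  · have : K i 0 * (v 0 * w 1 - v 1 * w 0) = 0 := by
      linear_combination (w 1) * e1 i - (v 1) * e2 i
    simpa using (mul_eq_zero.1 this).resolve_right hv
  · have : K i 1 * (v 0 * w 1 - v 1 * w 0) = 0 := by
      linear_combination (v 0) * e2 i - (w 0) * e1 i
    simpa using (mul_eq_zero.1 this).resolve_right hv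

/-- The centralizer of an element of `GL(2,3)` with a cyclic vector has at most 9 elements. -/
theorem card_centralizer_le_nine (g : GL (Fin 2) (ZMod 3)) (v : Fin 2 → ZMod 3)
    (hv : v 0 * ((g : Matrix (Fin 2) (Fin 2) (ZMod 3)).mulVec v) 1
      - v 1 * ((g : Matrix (Fin 2) (Fin 2) (ZMod 3)).mulVec v) 0 ≠ 0) :
    Nat.card (Subgroup.centralizer ({g} : Set (GL (Fin 2) (ZMod 3)))) ≤ 9 := by
  have hc : ∀ k : Subgroup.centralizer ({g} : Set (GL (Fin 2) (ZMod 3))),
      ((k : GL (Fin 2) (ZMod 3)) : Matrix (Fin 2) (Fin 2) (ZMod 3))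
          * (g : Matrix (Fin 2) (Fin 2) (ZMod 3))
        = (g : Matrix (Fin 2) (Fin 2) (ZMod 3))
          * ((k : GL (Fin 2) (ZMod 3)) : Matrix (Fin 2) (Fin 2) (ZMod 3)) := by
    intro k
    have hk := k.2
    rw [Subgroup.mem_centralizer_iff] at hk
    have h2 := hk g (Set.mem_singleton g)
    have h3 := congrArg (fun u : GL (Fin 2) (ZMod 3) => (u : Matrix (Fin 2) (Fin 2) (ZMod 3))) h2
    simpa using h3.symm
  have hinj : Function.Injective
      (fun h : Subgroup.centralizer ({g} : Set (GL (Fin 2) (ZMod 3))) =>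
        ((h : GL (Fin 2) (ZMod 3)) : Matrix (Fin 2) (Fin 2) (ZMod 3)).mulVec v) := by
    intro h h' hh
    have hh' : ((h : GL (Fin 2) (ZMod 3)) : Matrix (Fin 2) (Fin 2) (ZMod 3)).mulVec v
        = ((h' : GL (Fin 2) (ZMod 3)) : Matrix (Fin 2) (Fin 2) (ZMod 3)).mulVec v := hh
    have h0 := comm_kill_eq_zero (g : Matrix (Fin 2) (Fin 2) (ZMod 3))
      (((h : GL (Fin 2) (ZMod 3)) : Matrix (Fin 2) (Fin 2) (ZMod 3))
        - ((h' : GL (Fin 2) (ZMod 3)) : Matrix (Fin 2) (Fin 2) (ZMod 3))) v hv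
      (by rw [sub_mul, mul_sub, hc h, hc h'])
      (by rw [Matrix.sub_mulVec]; exact sub_eq_zero.2 hh')
    apply Subtype.ext
    apply Units.ext
    exact sub_eq_zero.1 h0
  calc Nat.card (Subgroup.centralizer ({g} : Set (GL (Fin 2) (ZMod 3))))
      ≤ Nat.card (Fin 2 → ZMod 3) := Nat.card_le_card_of_injective _ hinj
    _ = 9 := by
      rw [Nat.card_eq_fintype_card]
      simp

theorem zmod3_mul_self_eq_one : ∀ a : ZMod 3, a ≠ 0 → a * a = 1 := by decide

/-- [GL] in `GL(2,3)` only the two scalar matrices have a centralizer of order divisible by 16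
(a non-scalar `g` has a cyclic vector `v`; `h ↦ h v` is injective on the centralizer, so it has at
most 9 elements) -/
theorem GL23_sq_eq_one_of_sixteen_dvd_spare (g : GL (Fin 2) (ZMod 3))
    (h : 16 ∣ Nat.card (Subgroup.centralizer ({g} : Set (GL (Fin 2) (ZMod 3))))) : g * g = 1 := by
  have hpos : 0 < Nat.card (Subgroup.centralizer ({g} : Set (GL (Fin 2) (ZMod 3)))) :=
    Nat.card_pos
  have hge : 16 ≤ Nat.card (Subgroup.centralizer ({g} : Set (GL (Fin 2) (ZMod 3)))) :=
    Nat.le_of_dvd hpos h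
  have hno : ∀ v : Fin 2 → ZMod 3,
      v 0 * ((g : Matrix (Fin 2) (Fin 2) (ZMod 3)).mulVec v) 1
        - v 1 * ((g : Matrix (Fin 2) (Fin 2) (ZMod 3)).mulVec v) 0 = 0 := by
    intro v
    by_contra hv
    have := Helper11.card_centralizer_le_nine g v hv
    omega
  have h1 := hno ![1, 0]
  have h2 := hno ![0, 1]
  have h3 := hno ![1, 1]
  simp [Matrix.mulVec, dotProduct, Fin.sum_univ_two] at h1 h2 h3
  have hdet : IsUnit (g : Matrix (Fin 2) (Fin 2) (ZMod 3)).det :=
    (Matrix.isUnit_iff_isUnit_det _).1 g.isUnit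
  rw [Matrix.det_fin_two, h1, h2] at hdet
  have h4 : (g : Matrix (Fin 2) (Fin 2) (ZMod 3)) 1 1 = (g : Matrix (Fin 2) (Fin 2) (ZMod 3)) 0 0 := by
    rw [h1, h2] at h3
    have h5 : (g : Matrix (Fin 2) (Fin 2) (ZMod 3)) 1 1
        - (g : Matrix (Fin 2) (Fin 2) (ZMod 3)) 0 0 = 0 := by
      linear_combination h3
    exact sub_eq_zero.1 h5
  rw [h4, mul_zero, sub_zero] at hdet
  have hne : (g : Matrix (Fin 2) (Fin 2) (ZMod 3)) 0 0 ≠ 0 := by
    intro h0
    rw [h0, mul_zero] at hdet
    exact not_isUnit_zero hdet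
  have hsq := Helper11.zmod3_mul_self_eq_one _ hne
  apply Units.ext
  ext i j
  fin_cases i <;> fin_cases j <;>
    simp [Matrix.mul_apply, Fin.sum_univ_two, h1, h2, h4, hsq]

end Helper11

end Cfsg.Agent.Lib.Helper28.M11CG
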