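import Mathlib
import Cfsg.Agent.Lib.Helper11.ExcArith

/-!
Pure arithmetic for the principal 11-block of a simple group of order 7920.
-/

set_option autoImplicit false

namespace Cfsg.Agent.Lib.Helper11.M11

open Cfsg.Agent.Lib.Helper11

/-- possible (sign, degree) pairs -/
theorem deg_cases (d : ℕ) (m : ℤ) (hd : d ∣ 7920) (h88 : d ≤ 88) (hc : (11 : ℤ) ∣ (d : ℤ) - m)
    (hm : m = 1 ∨ m = -1 ∨ m = 2 ∨ m = -2) :
    (m = 1 ∧ (d = 1 ∨ d = 12 ∨ d = 45)) ∨ (m = -1 ∧ d = 10) ∨
      (m = 2 ∧ (d = 2 ∨ d = 24)) ∨ (m = -2 ∧ (d = 9 ∨ d = 20)) := by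
  have hmem : d ∈ Nat.divisors 7920 := Nat.mem_divisors.2 ⟨hd, by norm_num⟩
  simp only [Nat.divisors_ofNat, Finset.mem_insert, Finset.mem_singleton] at hmem
  obtain ⟨k, hk⟩ := hc
  rcases hm with rfl | rfl | rfl | rfl <;> omega

/-- a multiset of naturals with entries in `{12, 45, 10}` -/
theorem multiset_three (M : Multiset ℕ) (h : ∀ n ∈ M, n = 12 ∨ n = 45 ∨ n = 10) :
    M = Multiset.replicate (M.count 12) 12 + Multiset.replicate (M.count 45) 45
      + Multiset.replicate (M.count 10) 10 := by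
  ext n
  rw [Multiset.count_add, Multiset.count_add, Multiset.count_replicate, Multiset.count_replicate,
    Multiset.count_replicate]
  by_cases h12 : n = 12
  · subst h12; simp
  · by_cases h45 : n = 45
    · subst h45; simp
    · by_cases h10 : n = 10
      · subst h10; simp
      · have : n ∉ M := by
          intro hn
          rcases h n hn with h' | h' | h' <;> contradiction
        rw [Multiset.count_eq_zero_of_notMem this]
        simp [Ne.symm h12, Ne.symm h45, Ne.symm h10]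

theorem sum_eq_of_three {ι : Type*} (T : Finset ι) (dg : ι → ℕ) (a b c : ℕ)
    (hM : T.val.map dg = Multiset.replicate a 12 + Multiset.replicate b 45
      + Multiset.replicate c 10) (F : ℕ → ℤ) :
    ∑ χ ∈ T, F (dg χ) = a * F 12 + b * F 45 + c * F 10 := by
  have h1 : ∑ χ ∈ T, F (dg χ) = ((T.val.map dg).map F).sum := by
    rw [Multiset.map_map]
    rfl
  rw [h1, hM]
  simp [Multiset.map_add, Multiset.map_replicate, Multiset.sum_replicate]

/-- The arithmetic core: the possible patterns of the principal `11`-block. -/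
theorem pattern_arith {ι : Type*} [DecidableEq ι] (T : Finset ι) (m : ι → ℤ) (dg : ι → ℕ)
    (hm : ∀ χ ∈ T, m χ ≠ 0)
    (hcong : ∀ χ ∈ T, (11 : ℤ) ∣ (dg χ : ℤ) - m χ)
    (hdvd : ∀ χ ∈ T, dg χ ∣ 7920)
    (hne1 : ∀ χ ∈ T, dg χ ≠ 1)
    (hsq : ∑ χ ∈ T, m χ ^ 2 = 4)
    (x₀ : ℕ) (hx₀ : x₀ ∣ 7920) (s : ℤ) (hs : s = 1 ∨ s = -1)
    (hx : (x₀ : ℤ) = s * (1 + ∑ χ ∈ T, m χ * (dg χ : ℤ)))
    (R' : ℕ) (htot : 1 + ∑ χ ∈ T, (dg χ) ^ 2 + 2 * x₀ ^ 2 + 121 * R' = 7920) :
    (x₀ = 16 ∧ T.val.map dg = {45, 10, 10, 10}) ∨ (x₀ = 5 ∧ T.val.map dg = {12, 12, 10, 10}) ∨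
      (x₀ = 5 ∧ T.val.map dg = {2}) := by
  -- bounds
  have h88 : ∀ χ ∈ T, dg χ ≤ 88 := by
    intro χ hχ
    have h1 : (dg χ) ^ 2 ≤ ∑ χ ∈ T, (dg χ) ^ 2 :=
      Finset.single_le_sum (f := fun χ => (dg χ) ^ 2) (fun _ _ => Nat.zero_le _) hχ
    have h2 : (dg χ) ^ 2 ≤ 7920 := by omega
    by_contra hlt
    push Not at hlt
    have : 89 ^ 2 ≤ (dg χ) ^ 2 := Nat.pow_le_pow_left (by omega) 2
    omega
  have hm4 : ∀ χ ∈ T, m χ = 1 ∨ m χ = -1 ∨ m χ = 2 ∨ m χ = -2 := by
    intro χ hχ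
    have h1 : (m χ) ^ 2 ≤ ∑ χ ∈ T, (m χ) ^ 2 :=
      Finset.single_le_sum (f := fun χ => (m χ) ^ 2) (fun _ _ => sq_nonneg _) hχ
    rw [hsq] at h1
    have h0 := hm χ hχ
    have h2 : m χ ≤ 2 := by nlinarith
    have h3 : -2 ≤ m χ := by nlinarith
    omega
  have hcases : ∀ χ ∈ T, (m χ = 1 ∧ (dg χ = 12 ∨ dg χ = 45)) ∨ (m χ = -1 ∧ dg χ = 10) ∨
      (m χ = 2 ∧ (dg χ = 2 ∨ dg χ = 24)) ∨ (m χ = -2 ∧ (dg χ = 9 ∨ dg χ = 20)) := by
    intro χ hχ
    have := deg_cases (dg χ) (m χ) (hdvd χ hχ) (h88 χ hχ) (hcong χ hχ) (hm4 χ hχ)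
    have h1 := hne1 χ hχ
    tauto
  by_cases hbig : ∃ χ₀ ∈ T, m χ₀ = 2 ∨ m χ₀ = -2
  · -- a single character with `m = ± 2`
    obtain ⟨χ₀, hχ₀, hm₀⟩ := hbig
    have hsplit := Finset.add_sum_erase T (fun χ => m χ ^ 2) hχ₀
    have hm0sq : m χ₀ ^ 2 = 4 := by rcases hm₀ with h | h <;> rw [h] <;> norm_num
    have hrest : ∑ χ ∈ T.erase χ₀, m χ ^ 2 = 0 := by
      have : m χ₀ ^ 2 + ∑ χ ∈ T.erase χ₀, m χ ^ 2 = 4 := by rw [hsplit, hsq]
      omega
    have hempty : T.erase χ₀ = ∅ := by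
      have hle := card_le_sum_sq (T.erase χ₀) m
        (fun χ hχ => hm χ (Finset.mem_of_mem_erase hχ))
      rw [hrest] at hle
      have : (T.erase χ₀).card = 0 := by exact_mod_cast le_antisymm hle (by positivity)
      exact Finset.card_eq_zero.1 this
    have hT : T = {χ₀} := by
      rw [← Finset.insert_erase hχ₀, hempty]
      rfl
    rw [hT, Finset.sum_singleton] at hx htot
    right; right
    have hc := hcases χ₀ hχ₀
    have hc' : (m χ₀ = 2 ∧ (dg χ₀ = 2 ∨ dg χ₀ = 24)) ∨ (m χ₀ = -2 ∧ (dg χ₀ = 9 ∨ dg χ₀ = 20)) := by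
      rcases hc with ⟨h1, -⟩ | ⟨h1, -⟩ | h | h
      · exfalso; rcases hm₀ with h | h <;> omega
      · exfalso; rcases hm₀ with h | h <;> omega
      · exact Or.inl h
      · exact Or.inr h
    rcases hs with rfl | rfl <;> rcases hc' with ⟨h1, h2 | h2⟩ | ⟨h1, h2 | h2⟩ <;>
      rw [h1, h2] at hx <;> first
      | (exfalso; omega)
      | (have hx' : x₀ = 5 := by omega
         refine ⟨hx', ?_⟩
         rw [hT]
         simp [h2])
      | (exfalso
         have hx' : x₀ = 49 := by omega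
         rw [hx'] at hx₀
         norm_num at hx₀)
      | (exfalso
         have hx' : x₀ = 17 := by omega
         rw [hx'] at hx₀
         norm_num at hx₀)
      | (exfalso
         have hx' : x₀ = 39 := by omega
         rw [hx'] at hx₀
         norm_num at hx₀)
      | (exfalso; omega)
  · -- all `m = ± 1`
    push Not at hbig
    have hc3 : ∀ χ ∈ T, (m χ = 1 ∧ (dg χ = 12 ∨ dg χ = 45)) ∨ (m χ = -1 ∧ dg χ = 10) := by
      intro χ hχ
      have h1 := hcases χ hχ
      have h2 := hbig χ hχ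
      tauto
    have hM := multiset_three (T.val.map dg) (by
      intro n hn
      obtain ⟨χ, hχ, rfl⟩ := Multiset.mem_map.1 hn
      have := hc3 χ hχ
      tauto)
    set a := (T.val.map dg).count 12 with ha
    set b := (T.val.map dg).count 45 with hb
    set c := (T.val.map dg).count 10 with hc
    -- the three sums
    have hcard : (a : ℤ) + b + c = 4 := by
      have h1 := sum_eq_of_three T dg a b c hM (fun _ => 1)
      have h2 : ∑ χ ∈ T, m χ ^ 2 = ∑ χ ∈ T, (1 : ℤ) := by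
        apply Finset.sum_congr rfl
        intro χ hχ
        rcases hc3 χ hχ with ⟨h, -⟩ | ⟨h, -⟩ <;> rw [h] <;> norm_num
      rw [hsq] at h2
      simp only [mul_one] at h1
      linarith
    have hmd : ∑ χ ∈ T, m χ * (dg χ : ℤ) = 12 * a + 45 * b - 10 * c := by
      have h1 := sum_eq_of_three T dg a b c hM (fun n => if n = 10 then -10 else (n : ℤ))
      have h2 : ∑ χ ∈ T, m χ * (dg χ : ℤ)
          = ∑ χ ∈ T, (fun n : ℕ => if n = 10 then (-10 : ℤ) else (n : ℤ)) (dg χ) := by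
        apply Finset.sum_congr rfl
        intro χ hχ
        rcases hc3 χ hχ with ⟨h, h' | h'⟩ | ⟨h, h'⟩ <;> rw [h, h'] <;> norm_num
      rw [h2, h1]
      norm_num
      ring
    have hdd : ((∑ χ ∈ T, (dg χ) ^ 2 : ℕ) : ℤ) = 144 * a + 2025 * b + 100 * c := by
      have h1 := sum_eq_of_three T dg a b c hM (fun n => (n : ℤ) ^ 2)
      push_cast
      rw [h1]
      norm_num
      ring
    rw [hmd] at hx
    have ha4 : a ≤ 4 := by omega
    have hb4 : b ≤ 4 := by omega
    have htot' : (1 : ℤ) + (144 * a + 2025 * b + 100 * c) + 2 * (x₀ : ℤ) ^ 2 + 121 * R' = 7920 := by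
      rw [← hdd]
      exact_mod_cast htot
    have hMfinal : T.val.map dg = Multiset.replicate a 12 + Multiset.replicate b 45
        + Multiset.replicate c 10 := hM
    clear_value a b c
    have hc' : c = 4 - a - b := by omega
    subst hc'
    interval_cases a <;> interval_cases b <;> rcases hs with rfl | rfl <;>
      first
      | (exfalso; omega)
      | (left
         have hx' : x₀ = 16 := by omega
         exact ⟨hx', by rw [hMfinal]; rfl⟩)
      | (right; left
         have hx' : x₀ = 5 := by omega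
         exact ⟨hx', by rw [hMfinal]; rfl⟩)
      | (exfalso
         have hx' : (x₀ : ℤ) = 60 := by omega
         rw [hx'] at htot'
         omega)
      | (exfalso
         obtain ⟨v, hv⟩ : ∃ v : ℕ, x₀ = v ∧ ¬ v ∣ 7920 := by
           first
           | exact ⟨39, by omega, by norm_num⟩
           | exact ⟨71, by omega, by norm_num⟩
           | exact ⟨126, by omega, by norm_num⟩
           | exact ⟨181, by omega, by norm_num⟩
           | exact ⟨17, by omega, by norm_num⟩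
           | exact ⟨38, by omega, by norm_num⟩
           | exact ⟨93, by omega, by norm_num⟩
           | exact ⟨148, by omega, by norm_num⟩
           | exact ⟨115, by omega, by norm_num⟩
           | exact ⟨27, by omega, by norm_num⟩
           | exact ⟨82, by omega, by norm_num⟩
           | exact ⟨49, by omega, by norm_num⟩
         rw [hv.1] at hx₀
         exact hv.2 hx₀)

end Cfsg.Agent.Lib.Helper11.M11
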