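import Cfsg.Agent.Lib.Helper11.M11A
import Cfsg.Agent.Lib.Helper11.M11C
import Cfsg.Agent.Lib.Helper11.M11D
import Cfsg.Agent.Lib.Helper11.ExcSimple

/-!
Simple groups of order 7920: the principal 11-block.
-/

set_option autoImplicit false

namespace Cfsg.Agent.Lib.Helper11.M11

open Cfsg
open Cfsg.Agent.Lib.Helper2
open Cfsg.Agent.Lib.Helper11
open Cfsg.Agent.Lib.Helper10.Ord7920

section

variable {G : Type*} [Group G] [Finite G] [IsSimpleGroup G]

/-- basic facts on degrees in a nonabelian simple group of order 7920 -/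
theorem degree_facts [Fintype (IrrCharacter G)] (hord : Nat.card G = 7920)
    (d : IrrCharacter G → ℕ) (hd : ∀ χ : IrrCharacter G, (χ : G → ℂ) 1 = (d χ : ℂ)) :
    (∀ χ, d χ ∣ 7920) ∧ (∀ χ, d χ = 1 → χ = trivialIrr G) ∧ d (trivialIrr G) = 1 ∧
      ∑ χ : IrrCharacter G, (d χ) ^ 2 = 7920 := by
  classical
  haveI : Fintype G := Fintype.ofFinite G
  have : Fact (Nat.Prime 11) := ⟨by norm_num⟩
  have R : Sylow 11 G := default
  have hna : ¬ ∀ a b : G, a * b = b * a :=
    not_comm_of_normalizer_card_lt (R : Subgroup G)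
      (by rw [card_normalizer_eleven hord R, hord]; norm_num)
  refine ⟨?_, ?_, ?_, ?_⟩
  · intro χ
    obtain ⟨d', h1, h2⟩ := IsIrrCharacter.exists_degree_dvd_card χ.2
    have : (d χ : ℂ) = (d' : ℂ) := by rw [← hd χ, h1]
    have h3 : d χ = d' := by exact_mod_cast this
    rw [h3, ← hord]
    exact h2
  · intro χ h1
    apply eq_trivialIrr_of_degree_one hna χ
    rw [hd χ, h1]
    simp
  · have h1 := hd (trivialIrr G)
    have h2 : ((trivialIrr G : IrrCharacter G) : G → ℂ) 1 = 1 := rfl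
    rw [h2] at h1
    exact_mod_cast h1.symm
  · have h1 := sum_irr_degree_sq (G := G)
    rw [hord] at h1
    have h2 : ∑ χ : IrrCharacter G, (χ : G → ℂ) 1 ^ 2
        = ((∑ χ : IrrCharacter G, (d χ) ^ 2 : ℕ) : ℂ) := by
      rw [Nat.cast_sum]
      apply Finset.sum_congr rfl
      intro χ _
      rw [hd χ]
      push_cast
      ring
    rw [h2] at h1
    exact_mod_cast h1

theorem m11_eleven [Fintype (IrrCharacter G)] (hord : Nat.card G = 7920) :
    ∃ (B : Finset (IrrCharacter G)) (d : IrrCharacter G → ℕ),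
      (∀ χ : IrrCharacter G, (χ : G → ℂ) 1 = (d χ : ℂ)) ∧
      (B.val.map d = {1, 45, 10, 10, 10, 16, 16} ∨ B.val.map d = {1, 12, 12, 10, 10, 5, 5} ∨
        B.val.map d = {1, 2, 5, 5}) ∧
      ∀ χ ∉ B, 11 ∣ d χ := by
  classical
  have : Fact (Nat.Prime 11) := ⟨by norm_num⟩
  have R : Sylow 11 G := default
  have hP := card_sylow_eleven hord R
  have hC := centralizer_eleven hord R
  have he : Nat.card (Subgroup.normalizer ((R : Subgroup G) : Set G)) = 11 * 5 := by
    rw [card_normalizer_eleven hord R]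
  obtain ⟨ε, m₀, x₀, E, Nz, m, d, hε, hEcard, hd, hEx, htrivE, hm1, hNz, hcong, hnorm, hdeg⟩ :=
    exc_prime2 11 (by norm_num) (R : Subgroup G) hP hC 5 2 he (by norm_num) (by norm_num)
  obtain ⟨hdvd, hd1, hdtriv, hsqall⟩ := degree_facts hord d hd
  have htrivNz : trivialIrr G ∈ Nz := (hNz _).2 ⟨htrivE, by rw [hm1]; norm_num⟩
  set T := Nz.erase (trivialIrr G) with hT
  have hTNz : ∀ χ ∈ T, χ ∈ Nz := fun χ hχ => Finset.mem_of_mem_erase hχ
  have hmT : ∀ χ ∈ T, m χ ≠ 0 := fun χ hχ => ((hNz χ).1 (hTNz χ hχ)).2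
  have hTE : ∀ χ ∈ T, χ ∉ E := fun χ hχ => ((hNz χ).1 (hTNz χ hχ)).1
  have hsplit1 := Finset.add_sum_erase Nz (fun χ => m χ ^ 2) htrivNz
  have hsplit2 := Finset.add_sum_erase Nz (fun χ => m χ * (d χ : ℤ)) htrivNz
  simp only [hm1, hdtriv] at hsplit1 hsplit2
  rw [← hsplit1] at hnorm
  rw [← hsplit2] at hdeg
  have hST0 : 0 ≤ ∑ χ ∈ T, m χ ^ 2 := Finset.sum_nonneg (fun _ _ => sq_nonneg _)
  have hx₀dvd : x₀ ∣ 7920 := by
    have hne : E.Nonempty := by
      rw [← Finset.card_pos, hEcard]; norm_num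
    obtain ⟨χ, hχ⟩ := hne
    rw [← hEx χ hχ]
    exact hdvd χ
  have hTempty : ∑ χ ∈ T, m χ ^ 2 = 0 → ∑ χ ∈ T, m χ * (d χ : ℤ) = 0 := by
    intro h0
    have hle := card_le_sum_sq T m hmT
    rw [h0] at hle
    have : T.card = 0 := by exact_mod_cast le_antisymm hle (by positivity)
    rw [Finset.card_eq_zero.1 this, Finset.sum_empty]
  -- the sign and the norm
  have key : ∀ (ST SD X m₀ ε : ℤ), (ε = 1 ∨ ε = -1) → 0 ≤ ST → 0 ≤ X →
      (ST = 0 → SD = 0) →
      1 ^ 2 + ST + 2 * m₀ ^ 2 - 2 * ε * m₀ = 5 →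
      1 * 1 + SD + (2 * m₀ - ε) * X = 0 →
      ∃ s : ℤ, (s = 1 ∨ s = -1) ∧ ST = 4 ∧ X = s * (1 + SD) := by
    intro ST SD X m₀ ε hε h0 hX hE h1 h2
    rcases hε with rfl | rfl
    · have h3 : m₀ ≤ 2 := by nlinarith
      have h4 : -1 ≤ m₀ := by nlinarith
      have h5 : m₀ = -1 ∨ m₀ = 0 ∨ m₀ = 1 ∨ m₀ = 2 := by omega
      rcases h5 with rfl | rfl | rfl | rfl
      · exfalso
        have h6 : ST = 0 := by linarith
        have := hE h6
        rw [this] at h2
        omega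
      · exact ⟨1, Or.inl rfl, by linarith, by linarith⟩
      · exact ⟨-1, Or.inr rfl, by linarith, by linarith⟩
      · exfalso
        have h6 : ST = 0 := by linarith
        have := hE h6
        rw [this] at h2
        omega
    · have h3 : m₀ ≤ 1 := by nlinarith
      have h4 : -2 ≤ m₀ := by nlinarith
      have h5 : m₀ = -2 ∨ m₀ = -1 ∨ m₀ = 0 ∨ m₀ = 1 := by omega
      rcases h5 with rfl | rfl | rfl | rfl
      · exfalso
        have h6 : ST = 0 := by linarith
        have := hE h6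
        rw [this] at h2
        omega
      · exact ⟨1, Or.inl rfl, by linarith, by linarith⟩
      · exact ⟨-1, Or.inr rfl, by linarith, by linarith⟩
      · exfalso
        have h6 : ST = 0 := by linarith
        have := hE h6
        rw [this] at h2
        omega
  obtain ⟨s, hs, hST, hx⟩ : ∃ s : ℤ, (s = 1 ∨ s = -1) ∧ ∑ χ ∈ T, m χ ^ 2 = 4 ∧
      (x₀ : ℤ) = s * (1 + ∑ χ ∈ T, m χ * (d χ : ℤ)) := by
    push_cast at hnorm hdeg
    exact key _ _ _ m₀ ε hε hST0 (by positivity) hTempty hnorm hdeg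
  -- the block
  have hdisj : Disjoint Nz E := by
    rw [Finset.disjoint_left]
    intro χ hχ
    exact ((hNz χ).1 hχ).1
  set B := Finset.disjUnion Nz E hdisj with hB
  have hnotB : ∀ χ ∉ B, 11 ∣ d χ := by
    intro χ hχ
    rw [hB, Finset.mem_disjUnion, not_or] at hχ
    have hm0 : m χ = 0 := by
      by_contra h
      exact hχ.1 ((hNz χ).2 ⟨hχ.2, h⟩)
    have := hcong χ hχ.2
    rw [hm0, sub_zero] at this
    exact_mod_cast this
  -- total of squares
  set R' := ∑ χ ∈ Finset.univ \ B, (d χ / 11) ^ 2 with hR'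
  have htot : 1 + ∑ χ ∈ T, (d χ) ^ 2 + 2 * x₀ ^ 2 + 121 * R' = 7920 := by
    rw [← hsqall, ← Finset.sum_sdiff (Finset.subset_univ B), hB, Finset.sum_disjUnion]
    have h1 : ∑ χ ∈ Nz, (d χ) ^ 2 = 1 + ∑ χ ∈ T, (d χ) ^ 2 := by
      rw [← Finset.add_sum_erase Nz (fun χ => (d χ) ^ 2) htrivNz, hdtriv, one_pow]
    have h2 : ∑ χ ∈ E, (d χ) ^ 2 = 2 * x₀ ^ 2 := by
      rw [Finset.sum_congr rfl (fun χ hχ => by rw [hEx χ hχ]), Finset.sum_const, hEcard]
      simp
    have h3 : ∑ χ ∈ Finset.univ \ Finset.disjUnion Nz E hdisj, (d χ) ^ 2 = 121 * R' := by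
      rw [hR', Finset.mul_sum]
      apply Finset.sum_congr rfl
      intro χ hχ
      have hχB : χ ∉ B := (Finset.mem_sdiff.1 hχ).2
      obtain ⟨k, hk⟩ := hnotB χ hχB
      rw [hk, Nat.mul_div_cancel_left k (by norm_num)]
      ring
    rw [h1, h2, h3]
    ring
  have hpat := pattern_arith T m d hmT (fun χ hχ => hcong χ (hTE χ hχ)) (fun χ _ => hdvd χ)
    (fun χ hχ h1 => (Finset.ne_of_mem_erase hχ) (hd1 χ h1)) hST x₀ hx₀dvd s hs hx R' htot
  -- the multiset of degrees on the block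
  have hBval : B.val.map d = (1 ::ₘ T.val.map d) + Multiset.replicate 2 x₀ := by
    have h1 : B.val = Nz.val + E.val := rfl
    have h2 : Nz.val = trivialIrr G ::ₘ T.val := by
      rw [← Finset.insert_val_of_notMem (Finset.notMem_erase _ _),
        Finset.insert_erase htrivNz]
    have h3 : E.val.map d = Multiset.replicate 2 x₀ := by
      rw [Multiset.map_congr rfl (fun χ hχ => hEx χ hχ), Multiset.map_const',
        Finset.card_val, hEcard]
    rw [h1, h2, Multiset.map_add, Multiset.map_cons, hdtriv, h3]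
  refine ⟨B, d, hd, ?_, hnotB⟩
  rcases hpat with ⟨hx16, hM⟩ | ⟨hx5, hM⟩ | ⟨hx5, hM⟩
  · left
    rw [hBval, hM, hx16]
    rfl
  · right; left
    rw [hBval, hM, hx5]
    rfl
  · right; right
    rw [hBval, hM, hx5]
    rfl

end

end Cfsg.Agent.Lib.Helper11.M11
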