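import Cfsg.Agent.Lib.Helper11.M11A
import Cfsg.Agent.Lib.Helper11.M11B

/-!
Simple groups of order 7920: the characters on elements of order 5
(given `n₅ = 396` and `|C(P₅)| = 5`).
-/

set_option autoImplicit false

namespace Cfsg.Agent.Lib.Helper11.M11

open Cfsg
open Cfsg.Agent.Lib.Helper2
open Cfsg.Agent.Lib.Helper11
open Cfsg.Agent.Lib.Helper10.Ord7920

section

variable {G : Type*} [Group G] [Finite G] [IsSimpleGroup G]

theorem m11_five [Fintype (IrrCharacter G)] (hord : Nat.card G = 7920)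
    (h396 : Nat.card (Sylow 5 G) = 396)
    (hC5 : ∀ Q : Sylow 5 G, Nat.card (Subgroup.centralizer ((Q : Subgroup G) : Set G)) = 5) :
    ∃ (c : IrrCharacter G → ℤ) (d : IrrCharacter G → ℕ),
      (∀ χ : IrrCharacter G, (χ : G → ℂ) 1 = (d χ : ℂ)) ∧ c (trivialIrr G) = 1 ∧
      (∀ χ : IrrCharacter G, ∀ y : G, orderOf y = 5 → (χ : G → ℂ) y = (c χ : ℂ)) ∧
      (∀ χ : IrrCharacter G, (5 : ℤ) ∣ (d χ : ℤ) - c χ) ∧
      (∑ χ : IrrCharacter G, c χ ^ 2 = 5) ∧
      (∑ χ : IrrCharacter G, c χ * (d χ : ℤ) = 0) := by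
  classical
  have : Fact (Nat.Prime 5) := ⟨by norm_num⟩
  have Q : Sylow 5 G := default
  have hQ : Nat.card (Q : Subgroup G) = 5 := by
    have := card_sylow_of hord Q (k := 1) (by norm_num) (by norm_num)
    simpa using this
  -- `Q` is commutative
  have hQcomm : ∀ a ∈ (Q : Subgroup G), ∀ b ∈ (Q : Subgroup G), a * b = b * a := by
    haveI : Fact (Nat.Prime (Nat.card (Q : Subgroup G))) := ⟨by rw [hQ]; norm_num⟩
    haveI : IsCyclic (Q : Subgroup G) := isCyclic_of_prime_card (p := Nat.card (Q : Subgroup G)) rfl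
    intro a ha b hb
    haveI := IsCyclic.isMulCommutative (α := (Q : Subgroup G))
    have h := (IsMulCommutative.is_comm (M := (Q : Subgroup G))).comm ⟨a, ha⟩ ⟨b, hb⟩
    exact congrArg Subtype.val h
  have hC : Subgroup.centralizer ((Q : Subgroup G) : Set G) = (Q : Subgroup G) := by
    symm
    apply Subgroup.eq_of_le_of_card_ge
    · intro a ha
      rw [Subgroup.mem_centralizer_iff]
      intro b hb
      exact hQcomm b hb a ha
    · rw [hC5 Q, hQ]
  have he : Nat.card (Subgroup.normalizer ((Q : Subgroup G) : Set G)) = 5 * (5 - 1) := by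
    have h1 : Nat.card (Sylow 5 G)
        = (Subgroup.normalizer ((Q : Subgroup G) : Set G)).index := Sylow.card_eq_index_normalizer Q
    have h2 := Subgroup.card_mul_index (Subgroup.normalizer ((Q : Subgroup G) : Set G))
    rw [← h1, h396, hord] at h2
    omega
  obtain ⟨c, d, hd, hc1, hcz, hdvd, hsq, hsum⟩ :=
    rational_prime 5 (by norm_num) (Q : Subgroup G) hQ hC he
  refine ⟨c, d, hd, hc1, ?_, hdvd, hsq, hsum⟩
  intro χ y hy
  -- `y` lies in a Sylow 5-subgroup, conjugate to `Q`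
  have hZp : IsPGroup 5 (Subgroup.zpowers y) := by
    apply IsPGroup.of_card (n := 1)
    rw [Nat.card_zpowers, hy, pow_one]
  obtain ⟨Q', hQ'⟩ := hZp.exists_le_sylow
  obtain ⟨g, hg⟩ := MulAction.exists_smul_eq G Q Q'
  have hyQ' : y ∈ (Q' : Subgroup G) := hQ' (Subgroup.mem_zpowers y)
  have hmem : ∀ (g : G) (P : Sylow 5 G) (x : G),
      x ∈ ((g • P : Sylow 5 G) : Subgroup G) ↔ g⁻¹ * x * g ∈ (P : Subgroup G) := by
    intro g P x
    rw [Sylow.smul_def, Sylow.pointwise_smul_def, Subgroup.mem_pointwise_smul_iff_inv_smul_mem]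
    simp [MulAut.smul_def]
  rw [← hg, hmem] at hyQ'
  have hy1 : g⁻¹ * y * g ≠ 1 := by
    intro h
    have : y = 1 := by
      have h2 : y = g * (g⁻¹ * y * g) * g⁻¹ := by group
      rw [h2, h]; group
    rw [this, orderOf_one] at hy
    omega
  have hcls : IsClassFunction G (χ : G → ℂ) :=
    IsCharacter.isClassFunction (IsIrrCharacter.isCharacter χ.2)
  have h1 := hcz χ (g⁻¹ * y * g) (by simpa using hyQ') hy1
  have h2 := hcls y g⁻¹
  rw [inv_inv] at h2
  rw [← h2, h1]

end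

end Cfsg.Agent.Lib.Helper11.M11
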