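import Cfsg.Agent.Lib.Helper11.M11E
import Cfsg.Agent.Lib.Helper11.M11F

/-!
Simple groups of order 7920: the multiset of character degrees, and the values at elements of
order 5 (given `n₅ = 396` and `|C(P₅)| = 5`).
-/

set_option autoImplicit false

namespace Cfsg.Agent.Lib.Helper11.M11

open Cfsg
open Cfsg.Agent.Lib.Helper2
open Cfsg.Agent.Lib.Helper11

/-- the value at elements of order 5 as a function of the degree -/
def c5 (n : ℕ) : ℤ := if n = 1 ∨ n = 11 ∨ n = 16 then 1 else if n = 44 then -1 else 0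

section

variable {G : Type*} [Group G] [Finite G] [IsSimpleGroup G]

theorem char_multiset [Fintype (IrrCharacter G)] (hord : Nat.card G = 7920)
    (h396 : Nat.card (Sylow 5 G) = 396)
    (hC5 : ∀ Q : Sylow 5 G, Nat.card (Subgroup.centralizer ((Q : Subgroup G) : Set G)) = 5) :
    ∃ d : IrrCharacter G → ℕ,
      (∀ χ : IrrCharacter G, (χ : G → ℂ) 1 = (d χ : ℂ)) ∧
      (∀ χ : IrrCharacter G, ∀ y : G, orderOf y = 5 → (χ : G → ℂ) y = ((c5 (d χ) : ℤ) : ℂ)) ∧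
      (Finset.univ : Finset (IrrCharacter G)).val.map d
        = {1, 10, 10, 10, 11, 16, 16, 44, 45, 55} := by
  classical
  obtain ⟨B, d, hd, hpat, hB11⟩ := m11_eleven (G := G) hord
  obtain ⟨c, d', hd', hc1, hcy, hdvd5₀, hsq, hsum₀⟩ := m11_five hord h396 hC5
  have hdd : ∀ χ, d' χ = d χ := by
    intro χ
    have h := hd χ
    rw [hd' χ] at h
    exact_mod_cast h
  have hdvd5 : ∀ χ, (5 : ℤ) ∣ (d χ : ℤ) - c χ := fun χ => by rw [← hdd χ]; exact hdvd5₀ χ
  have hsum : ∑ χ : IrrCharacter G, c χ * (d χ : ℤ) = 0 := by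
    rw [← hsum₀]
    apply Finset.sum_congr rfl
    intro χ _
    rw [hdd χ]
  obtain ⟨hdvd, hd1, hdtriv, hsqall⟩ := degree_facts hord d hd
  have hdpos : ∀ χ, 0 < d χ := fun χ => Nat.pos_of_dvd_of_pos (hdvd χ) (by norm_num)
  -- Step 1: bound
  have hc2 : ∀ χ, c χ ^ 2 ≤ 5 := by
    intro χ
    have h1 : c χ ^ 2 ≤ ∑ χ : IrrCharacter G, c χ ^ 2 :=
      Finset.single_le_sum (f := fun χ => c χ ^ 2) (fun _ _ => sq_nonneg _) (Finset.mem_univ χ)
    rwa [hsq] at h1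
  -- Step 2: no value ±2
  have hno2 : ∀ χ₀, c χ₀ ^ 2 ≠ 4 := by
    intro χ₀ h4
    have hne : χ₀ ≠ trivialIrr G := by
      intro h
      rw [h, hc1] at h4
      norm_num at h4
    have hmem : χ₀ ∈ Finset.univ.erase (trivialIrr G) := Finset.mem_erase.2 ⟨hne, Finset.mem_univ _⟩
    have e1 := Finset.add_sum_erase Finset.univ (fun χ => c χ ^ 2) (Finset.mem_univ (trivialIrr G))
    have e2 := Finset.add_sum_erase (Finset.univ.erase (trivialIrr G)) (fun χ => c χ ^ 2) hmem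
    have f1 := Finset.add_sum_erase Finset.univ (fun χ => c χ * (d χ : ℤ))
      (Finset.mem_univ (trivialIrr G))
    have f2 := Finset.add_sum_erase (Finset.univ.erase (trivialIrr G))
      (fun χ => c χ * (d χ : ℤ)) hmem
    rw [hsq, ← e2, hc1, h4] at e1
    have hrest : ∑ χ ∈ (Finset.univ.erase (trivialIrr G)).erase χ₀, c χ ^ 2 = 0 := by linarith
    have hzero : ∀ χ ∈ (Finset.univ.erase (trivialIrr G)).erase χ₀, c χ = 0 := by
      intro χ hχ
      have := (Finset.sum_eq_zero_iff_of_nonneg (fun _ _ => sq_nonneg _)).1 hrest χ hχ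
      exact pow_eq_zero_iff (n := 2) (by norm_num) |>.1 this
    have hrest2 : ∑ χ ∈ (Finset.univ.erase (trivialIrr G)).erase χ₀, c χ * (d χ : ℤ) = 0 := by
      apply Finset.sum_eq_zero
      intro χ hχ
      rw [hzero χ hχ, zero_mul]
    rw [hsum, ← f2, hrest2, hc1, hdtriv] at f1
    have h5 : c χ₀ = 2 ∨ c χ₀ = -2 := by
      have h6 : c χ₀ ≤ 2 := by nlinarith
      have h7 : -2 ≤ c χ₀ := by nlinarith
      have h8 : c χ₀ ≠ 0 := by intro h; rw [h] at h4; norm_num at h4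
      have h9 : c χ₀ ≠ 1 := by intro h; rw [h] at h4; norm_num at h4
      have h10 : c χ₀ ≠ -1 := by intro h; rw [h] at h4; norm_num at h4
      omega
    rcases h5 with h | h <;> rw [h] at f1 <;> push_cast at f1 <;> omega
  -- Step 3
  have hc01 : ∀ χ, c χ = 0 ∨ c χ = 1 ∨ c χ = -1 := by
    intro χ
    have h1 := hc2 χ
    have h2 := hno2 χ
    have h6 : c χ ≤ 2 := by nlinarith
    have h7 : -2 ≤ c χ := by nlinarith
    have h8 : c χ ≠ 2 := by intro h; rw [h] at h2; norm_num at h2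
    have h9 : c χ ≠ -2 := by intro h; rw [h] at h2; norm_num at h2
    omega
  -- Step 5: `c` from `d`
  have hcd : ∀ χ, (c χ = 0 ↔ 5 ∣ d χ) := by
    intro χ
    obtain ⟨k, hk⟩ := hdvd5 χ
    rcases hc01 χ with h | h | h <;> rw [h] at hk ⊢ <;> constructor <;> intro h' <;> omega
  -- Step 4: exactly five nonvanishing
  have hN5 : ∑ χ : IrrCharacter G, (if 5 ∣ d χ then 0 else 1 : ℕ) = 5 := by
    have h1 : ∑ χ : IrrCharacter G, c χ ^ 2
        = ((∑ χ : IrrCharacter G, (if 5 ∣ d χ then 0 else 1 : ℕ) : ℕ) : ℤ) := by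
      rw [Nat.cast_sum]
      apply Finset.sum_congr rfl
      intro χ _
      by_cases h : 5 ∣ d χ
      · rw [if_pos h, (hcd χ).2 h]; norm_num
      · rw [if_neg h]
        have h0 : c χ ≠ 0 := fun h0 => h ((hcd χ).1 h0)
        rcases hc01 χ with h' | h' | h' <;> rw [h'] at h0 ⊢ <;> simp at h0 ⊢
    rw [hsq] at h1
    exact_mod_cast h1.symm
  -- Step 6: patterns
  have hmemB : ∀ n : ℕ, n ∈ B.val.map d → ∃ χ, d χ = n := by
    intro n hn
    obtain ⟨χ, -, rfl⟩ := Multiset.mem_map.1 hn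
    exact ⟨χ, rfl⟩
  rcases hpat with hA | hBpat | hCpat
  swap
  · exfalso
    obtain ⟨χ, hχ⟩ := hmemB 12 (by rw [hBpat]; decide)
    obtain ⟨k, hk⟩ := hdvd5 χ
    rw [hχ] at hk
    rcases hc01 χ with h | h | h <;> rw [h] at hk <;> omega
  swap
  · exfalso
    obtain ⟨χ, hχ⟩ := hmemB 2 (by rw [hCpat]; decide)
    obtain ⟨k, hk⟩ := hdvd5 χ
    rw [hχ] at hk
    rcases hc01 χ with h | h | h <;> rw [h] at hk <;> omega
  -- pattern (A)
  set Z := Finset.univ.filter (fun χ : IrrCharacter G => χ ∉ B) with hZ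
  have hZ11 : ∀ χ ∈ Z, 11 ∣ d χ := fun χ hχ => hB11 χ (Finset.mem_filter.1 hχ).2
  have hsplitB : ∀ F : IrrCharacter G → ℕ,
      ∑ χ : IrrCharacter G, F χ = ∑ χ ∈ B, F χ + ∑ χ ∈ Z, F χ := by
    intro F
    rw [← Finset.sum_filter_add_sum_filter_not Finset.univ (fun χ => χ ∈ B) F]
    congr 1
    apply Finset.sum_congr _ (fun _ _ => rfl)
    ext χ
    simp
  have hsumB : ∀ F : ℕ → ℕ, ∑ χ ∈ B, F (d χ) = ((B.val.map d).map F).sum := by
    intro F
    rw [Multiset.map_map]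
    rfl
  -- squares on `Z`
  have hZsq : ∑ χ ∈ Z, (d χ) ^ 2 = 5082 := by
    have h1 := hsplitB (fun χ => (d χ) ^ 2)
    have h2 := hsumB (fun n => n ^ 2)
    rw [hA] at h2
    have h3 : (Multiset.map (fun n : ℕ => n ^ 2) {1, 45, 10, 10, 10, 16, 16}).sum = 2838 := by
      decide
    rw [h3] at h2
    omega
  -- nonvanishing on `Z`
  have hZ5 : ∑ χ ∈ Z, (if 5 ∣ d χ then 0 else 1 : ℕ) = 2 := by
    have h1 := hsplitB (fun χ => (if 5 ∣ d χ then 0 else 1 : ℕ))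
    have h2 := hsumB (fun n => (if 5 ∣ n then 0 else 1 : ℕ))
    rw [hA] at h2
    have h3 : (Multiset.map (fun n : ℕ => (if 5 ∣ n then 0 else 1 : ℕ))
        {1, 45, 10, 10, 10, 16, 16}).sum = 3 := by decide
    rw [h3] at h2
    omega
  set Z₁ := Z.filter (fun χ => ¬ 5 ∣ d χ) with hZ₁
  set Z₀ := Z.filter (fun χ => ¬ ¬ 5 ∣ d χ) with hZ₀
  have hZ₁card : Z₁.card = 2 := by
    rw [hZ₁, Finset.card_filter]
    rw [← hZ5]
    apply Finset.sum_congr rfl
    intro χ _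
    by_cases h : 5 ∣ d χ <;> simp [h]
  have hZsplit : ∀ F : IrrCharacter G → ℕ, ∑ χ ∈ Z, F χ = ∑ χ ∈ Z₁, F χ + ∑ χ ∈ Z₀, F χ := by
    intro F
    rw [hZ₁, hZ₀, Finset.sum_filter_add_sum_filter_not]
  have hZ₀55 : ∀ χ ∈ Z₀, 55 ∣ d χ := by
    intro χ hχ
    have h5 : 5 ∣ d χ := not_not.1 (Finset.mem_filter.1 hχ).2
    have h11 := hZ11 χ (Finset.mem_filter.1 hχ).1
    exact Nat.Coprime.mul_dvd_of_dvd_of_dvd (by norm_num : Nat.Coprime 5 11) h5 h11
  have hZ₁11 : ∀ χ ∈ Z₁, ∃ k : ℕ, d χ = 11 * k ∧ 1 ≤ k ∧ k ≤ 6 := by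
    intro χ hχ
    obtain ⟨k, hk⟩ := hZ11 χ (Finset.mem_filter.1 hχ).1
    refine ⟨k, hk, ?_, ?_⟩
    · have := hdpos χ
      rw [hk] at this
      omega
    · have h1 : (d χ) ^ 2 ≤ ∑ χ ∈ Z, (d χ) ^ 2 :=
        Finset.single_le_sum (f := fun χ => (d χ) ^ 2) (fun _ _ => Nat.zero_le _)
          (Finset.mem_filter.1 hχ).1
      rw [hZsq, hk] at h1
      by_contra hlt
      push Not at hlt
      have : (11 * 7) ^ 2 ≤ (11 * k) ^ 2 := Nat.pow_le_pow_left (by omega) 2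
      omega
  obtain ⟨ψ₁, ψ₂, hψne, hZ₁eq⟩ := Finset.card_eq_two.1 hZ₁card
  obtain ⟨k₁, hk₁, hk₁a, hk₁b⟩ := hZ₁11 ψ₁ (by rw [hZ₁eq]; simp)
  obtain ⟨k₂, hk₂, hk₂a, hk₂b⟩ := hZ₁11 ψ₂ (by rw [hZ₁eq]; simp)
  have hsq1 := hZsplit (fun χ => (d χ) ^ 2)
  rw [hZsq, hZ₁eq, Finset.sum_pair hψne, hk₁, hk₂] at hsq1
  -- the part divisible by 55
  have hZ₀ge : 3025 * Z₀.card ≤ ∑ χ ∈ Z₀, (d χ) ^ 2 := by
    have h1 : ∑ _χ ∈ Z₀, 3025 ≤ ∑ χ ∈ Z₀, (d χ) ^ 2 := by
      apply Finset.sum_le_sum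
      intro χ hχ
      obtain ⟨j, hj⟩ := hZ₀55 χ hχ
      have := hdpos χ
      rw [hj] at this ⊢
      have hj1 : 1 ≤ j := by omega
      nlinarith
    rw [Finset.sum_const, smul_eq_mul] at h1
    linarith
  have hZ₀card : Z₀.card = 0 ∨ Z₀.card = 1 := by omega
  have hk1sq : k₁ ^ 2 ≤ 36 := Nat.pow_le_pow_left hk₁b 2
  have hk2sq : k₂ ^ 2 ≤ 36 := Nat.pow_le_pow_left hk₂b 2
  rcases hZ₀card with h0 | h1
  · exfalso
    rw [Finset.card_eq_zero.1 h0, Finset.sum_empty] at hsq1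
    interval_cases k₁ <;> interval_cases k₂ <;> omega
  · obtain ⟨ψ₃, hZ₀eq⟩ := Finset.card_eq_one.1 h1
    obtain ⟨j, hj⟩ := hZ₀55 ψ₃ (by rw [hZ₀eq]; simp)
    have hjpos : 1 ≤ j := by
      have := hdpos ψ₃
      rw [hj] at this
      omega
    rw [hZ₀eq, Finset.sum_singleton, hj] at hsq1
    have hj1 : j = 1 := by
      by_contra hne
      have : 2 ≤ j := by omega
      have : (55 * 2) ^ 2 ≤ (55 * j) ^ 2 := Nat.pow_le_pow_left (by omega) 2
      omega
    rw [hj1] at hsq1 hj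
    have hk12 : (k₁ = 1 ∧ k₂ = 4) ∨ (k₁ = 4 ∧ k₂ = 1) := by
      interval_cases k₁ <;> interval_cases k₂ <;> omega
    -- the multiset of degrees
    have hval : (Finset.univ : Finset (IrrCharacter G)).val.map d
        = B.val.map d + (Z₁.val.map d + Z₀.val.map d) := by
      have e1 : (Finset.univ : Finset (IrrCharacter G)).val
          = B.val + Z.val := by
        have := Multiset.filter_add_not (fun χ => χ ∈ B)
          (Finset.univ : Finset (IrrCharacter G)).val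
        rw [← this]
        congr 1
        · rw [← Finset.filter_val]
          congr 1
          ext χ
          simp
      have e2 : Z.val = Z₁.val + Z₀.val := by
        have := Multiset.filter_add_not (fun χ => ¬ 5 ∣ d χ) Z.val
        rw [← this]
        rfl
      rw [e1, e2, Multiset.map_add, Multiset.map_add]
    have hfinal : (Finset.univ : Finset (IrrCharacter G)).val.map d
        = {1, 10, 10, 10, 11, 16, 16, 44, 45, 55} := by
      rw [hval, hA, hZ₁eq, hZ₀eq]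
      have e3 : ({ψ₁, ψ₂} : Finset (IrrCharacter G)).val = ψ₁ ::ₘ {ψ₂} := by
        rw [Finset.insert_val_of_notMem (by simpa using hψne)]
        rfl
      have e4 : ({ψ₃} : Finset (IrrCharacter G)).val = {ψ₃} := rfl
      rw [e3, e4, Multiset.map_cons, Multiset.map_singleton, Multiset.map_singleton, hk₁, hk₂, hj]
      rcases hk12 with ⟨ha, hb⟩ | ⟨ha, hb⟩ <;> rw [ha, hb] <;> decide
    refine ⟨d, hd, ?_, hfinal⟩
    intro χ y hy
    rw [hcy χ y hy]
    congr 1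
    have hmem : d χ ∈ (Finset.univ : Finset (IrrCharacter G)).val.map d :=
      Multiset.mem_map.2 ⟨χ, Finset.mem_univ χ, rfl⟩
    rw [hfinal] at hmem
    simp only [Multiset.insert_eq_cons, Multiset.mem_cons, Multiset.mem_singleton] at hmem
    obtain ⟨k, hk⟩ := hdvd5 χ
    unfold c5
    rcases hmem with h | h | h | h | h | h | h | h | h | h <;> rw [h] at hk ⊢ <;>
      rcases hc01 χ with h' | h' | h' <;> rw [h'] at hk ⊢ <;> first | omega | simp

end

end Cfsg.Agent.Lib.Helper11.M11
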