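import Cfsg.Agent.Lib.Helper11.M11G
import Cfsg.Agent.Lib.Helper3.M11Five
import Cfsg.Agent.Lib.Helper22.M11FiveMain

/-!
Simple groups of order 7920: the character degrees and the values at elements of order 5.
-/

set_option autoImplicit false

namespace Cfsg.Agent.Lib.Helper11.M11

open Cfsg
open Cfsg.Agent.Lib.Helper2
open Cfsg.Agent.Lib.Helper11

theorem exists_of_map_eq_cons {α β : Type*} [DecidableEq α] (s : Multiset α) (f : α → β) (b : β)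
    (t : Multiset β) (h : s.map f = b ::ₘ t) :
    ∃ (a : α) (s' : Multiset α), s = a ::ₘ s' ∧ f a = b ∧ s'.map f = t := by
  obtain ⟨a, ha, hfa, hrest⟩ := (Multiset.map_eq_cons f s t b).2 h
  exact ⟨a, s.erase a, (Multiset.cons_erase ha).symm, hfa, hrest⟩

section

variable {G : Type*} [Group G] [Finite G] [IsSimpleGroup G]

/-- The multiset of character degrees of a simple group of order 7920, and the character values at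
elements of order 5 (as a function `c5` of the degree). -/
theorem char_multiset' [Fintype (IrrCharacter G)] (hord : Nat.card G = 7920) :
    ∃ d : IrrCharacter G → ℕ,
      (∀ χ : IrrCharacter G, (χ : G → ℂ) 1 = (d χ : ℂ)) ∧
      (∀ χ : IrrCharacter G, ∀ y : G, orderOf y = 5 → (χ : G → ℂ) y = ((c5 (d χ) : ℤ) : ℂ)) ∧
      (Finset.univ : Finset (IrrCharacter G)).val.map d
        = {1, 10, 10, 10, 11, 16, 16, 44, 45, 55} :=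
  char_multiset hord (Cfsg.Agent.Lib.Helper3.M11Five.card_sylow_five hord)
    (fun Q => Cfsg.Agent.Lib.Helper22.M11Five.card_centralizer_sylow_five hord Q)

/-- The ten irreducible characters of a simple group of order 7920, with their degrees and their
values at the elements of order 5. -/
theorem char_list [Fintype (IrrCharacter G)] (hord : Nat.card G = 7920) :
    ∃ χ₁ χ₂ χ₃ χ₄ χ₅ χ₆ χ₇ χ₈ χ₉ χ₁₀ : IrrCharacter G,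
      (Finset.univ : Finset (IrrCharacter G)).val
        = χ₁ ::ₘ χ₂ ::ₘ χ₃ ::ₘ χ₄ ::ₘ χ₅ ::ₘ χ₆ ::ₘ χ₇ ::ₘ χ₈ ::ₘ χ₉ ::ₘ {χ₁₀} ∧
      χ₁ = trivialIrr G ∧
      ((χ₁ : G → ℂ) 1 = 1 ∧ (χ₂ : G → ℂ) 1 = 10 ∧ (χ₃ : G → ℂ) 1 = 10 ∧ (χ₄ : G → ℂ) 1 = 10 ∧
        (χ₅ : G → ℂ) 1 = 11 ∧ (χ₆ : G → ℂ) 1 = 16 ∧ (χ₇ : G → ℂ) 1 = 16 ∧ (χ₈ : G → ℂ) 1 = 44 ∧
        (χ₉ : G → ℂ) 1 = 45 ∧ (χ₁₀ : G → ℂ) 1 = 55) ∧
      ∀ y : G, orderOf y = 5 →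
        ((χ₁ : G → ℂ) y = 1 ∧ (χ₂ : G → ℂ) y = 0 ∧ (χ₃ : G → ℂ) y = 0 ∧ (χ₄ : G → ℂ) y = 0 ∧
          (χ₅ : G → ℂ) y = 1 ∧ (χ₆ : G → ℂ) y = 1 ∧ (χ₇ : G → ℂ) y = 1 ∧ (χ₈ : G → ℂ) y = -1 ∧
          (χ₉ : G → ℂ) y = 0 ∧ (χ₁₀ : G → ℂ) y = 0) := by
  classical
  obtain ⟨d, hd, hy, hval⟩ := char_multiset' (G := G) hord
  obtain ⟨-, hd1, -, -⟩ := degree_facts hord d hd
  have e : ({1, 10, 10, 10, 11, 16, 16, 44, 45, 55} : Multiset ℕ)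
      = 1 ::ₘ 10 ::ₘ 10 ::ₘ 10 ::ₘ 11 ::ₘ 16 ::ₘ 16 ::ₘ 44 ::ₘ 45 ::ₘ 55 ::ₘ 0 := rfl
  rw [e] at hval
  obtain ⟨χ₁, s₁, hs₁, h₁, hval⟩ := exists_of_map_eq_cons _ _ _ _ hval
  obtain ⟨χ₂, s₂, hs₂, h₂, hval⟩ := exists_of_map_eq_cons _ _ _ _ hval
  obtain ⟨χ₃, s₃, hs₃, h₃, hval⟩ := exists_of_map_eq_cons _ _ _ _ hval
  obtain ⟨χ₄, s₄, hs₄, h₄, hval⟩ := exists_of_map_eq_cons _ _ _ _ hval
  obtain ⟨χ₅, s₅, hs₅, h₅, hval⟩ := exists_of_map_eq_cons _ _ _ _ hval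
  obtain ⟨χ₆, s₆, hs₆, h₆, hval⟩ := exists_of_map_eq_cons _ _ _ _ hval
  obtain ⟨χ₇, s₇, hs₇, h₇, hval⟩ := exists_of_map_eq_cons _ _ _ _ hval
  obtain ⟨χ₈, s₈, hs₈, h₈, hval⟩ := exists_of_map_eq_cons _ _ _ _ hval
  obtain ⟨χ₉, s₉, hs₉, h₉, hval⟩ := exists_of_map_eq_cons _ _ _ _ hval
  obtain ⟨χ₁₀, s₁₀, hs₁₀, h₁₀, hval⟩ := exists_of_map_eq_cons _ _ _ _ hval
  have hs0 : s₁₀ = 0 := Multiset.map_eq_zero.1 hval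
  refine ⟨χ₁, χ₂, χ₃, χ₄, χ₅, χ₆, χ₇, χ₈, χ₉, χ₁₀, ?_, hd1 χ₁ h₁, ?_, ?_⟩
  · rw [hs₁, hs₂, hs₃, hs₄, hs₅, hs₆, hs₇, hs₈, hs₉, hs₁₀, hs0]
    rfl
  · refine ⟨?_, ?_, ?_, ?_, ?_, ?_, ?_, ?_, ?_, ?_⟩
    · rw [hd, h₁]; norm_num
    · rw [hd, h₂]; norm_num
    · rw [hd, h₃]; norm_num
    · rw [hd, h₄]; norm_num
    · rw [hd, h₅]; norm_num
    · rw [hd, h₆]; norm_num
    · rw [hd, h₇]; norm_num
    · rw [hd, h₈]; norm_num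
    · rw [hd, h₉]; norm_num
    · rw [hd, h₁₀]; norm_num
  · intro y hy5
    refine ⟨?_, ?_, ?_, ?_, ?_, ?_, ?_, ?_, ?_, ?_⟩
    · rw [hy χ₁ y hy5, h₁]; simp [c5]
    · rw [hy χ₂ y hy5, h₂]; simp [c5]
    · rw [hy χ₃ y hy5, h₃]; simp [c5]
    · rw [hy χ₄ y hy5, h₄]; simp [c5]
    · rw [hy χ₅ y hy5, h₅]; simp [c5]
    · rw [hy χ₆ y hy5, h₆]; simp [c5]
    · rw [hy χ₇ y hy5, h₇]; simp [c5]
    · rw [hy χ₈ y hy5, h₈]; simp [c5]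
    · rw [hy χ₉ y hy5, h₉]; simp [c5]
    · rw [hy χ₁₀ y hy5, h₁₀]; simp [c5]

end

end Cfsg.Agent.Lib.Helper11.M11
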