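import Mathlib
import Cfsg.Agent.Lib.Helper11.M11H
import Cfsg.Agent.Lib.Helper17.M11Invol
import Cfsg.Agent.Lib.Helper2.Expansion

/-!
Simple groups of order 7920: number of conjugacy classes, involution centralisers, elements of
order 11 are not real, elements of order 6.
-/

set_option autoImplicit false

namespace Cfsg.Agent.Lib.Helper11.M11T

open Cfsg Subgroup

variable {G : Type*} [Group G]

section general

theorem orderOf_eq_of_isConj' {g h : G} (hc : IsConj g h) : orderOf g = orderOf h := by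
  exact (Cfsg.Agent.Lib.Helper17.M11Invol.orderOf_eq_of_isConj hc).symm

theorem pow_mul_comm_aux {a s : G} (hc : Commute a s) (n : ℕ) : (a * s) ^ n = a ^ n * s ^ n :=
  hc.mul_pow n

theorem mul_pow_ten {a s : G} (ha : a ^ 9 = 1) (hs : s ^ 2 = 1) (hc : Commute a s) :
    (a * s) ^ 10 = a := by
  rw [hc.mul_pow]
  have h1 : a ^ 10 = a := by rw [pow_succ, ha, one_mul]
  have h2 : s ^ 10 = 1 := by
    rw [show 10 = 2 * 5 from rfl, pow_mul, hs, one_pow]
  rw [h1, h2, mul_one]

theorem mul_pow_nine {a s : G} (ha : a ^ 9 = 1) (hs : s ^ 2 = 1) (hc : Commute a s) :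
    (a * s) ^ 9 = s := by
  rw [hc.mul_pow]
  have h2 : s ^ 9 = s := by
    rw [show 9 = 2 * 4 + 1 from rfl, pow_succ, pow_mul, hs, one_pow, one_mul]
  rw [ha, h2, one_mul]

theorem centralizer_mul_le_left {a s : G} (ha : a ^ 9 = 1) (hs : s ^ 2 = 1) (hc : Commute a s) :
    centralizer ({a * s} : Set G) ≤ centralizer ({a} : Set G) := by
  intro g hg
  rw [mem_centralizer_singleton_iff] at hg ⊢
  have h1 : Commute g (a * s) := hg
  have h2 := h1.pow_right 10
  rw [mul_pow_ten ha hs hc] at h2
  exact h2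

theorem centralizer_mul_le_right {a s : G} (ha : a ^ 9 = 1) (hs : s ^ 2 = 1) (hc : Commute a s) :
    centralizer ({a * s} : Set G) ≤ centralizer ({s} : Set G) := by
  intro g hg
  rw [mem_centralizer_singleton_iff] at hg ⊢
  have h1 : Commute g (a * s) := hg
  have h2 := h1.pow_right 9
  rw [mul_pow_nine ha hs hc] at h2
  exact h2

theorem not_isConj_mul {a b s s' : G} (ha : a ^ 9 = 1) (hb : b ^ 9 = 1) (hs : s ^ 2 = 1)
    (hs' : s' ^ 2 = 1) (hc : Commute a s) (hc' : Commute b s') (hab : ¬ IsConj a b) :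
    ¬ IsConj (a * s) (b * s') := by
  intro h
  obtain ⟨c, hc2⟩ := isConj_iff.mp h
  apply hab
  rw [isConj_iff]
  refine ⟨c, ?_⟩
  have h3 : (c * (a * s) * c⁻¹) ^ 10 = (b * s') ^ 10 := by rw [hc2]
  rw [conj_pow, mul_pow_ten ha hs hc, mul_pow_ten hb hs' hc'] at h3
  exact h3

theorem zpowers_le_centralizer_self (g : G) : zpowers g ≤ centralizer ({g} : Set G) := by
  rw [zpowers_le]
  rw [mem_centralizer_singleton_iff]

end general

section M11

variable [Finite G] [IsSimpleGroup G]

theorem card_conjClasses (hord : Nat.card G = 7920) : Nat.card (ConjClasses G) = 10 := by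
  classical
  letI : Fintype G := Fintype.ofFinite G
  haveI : Fintype (Cfsg.IrrCharacter G) := Fintype.ofFinite _
  obtain ⟨d, -, -, hval⟩ := Cfsg.Agent.Lib.Helper11.M11.char_multiset' (G := G) hord
  rw [← Cfsg.Agent.Lib.Helper2.card_irrCharacter, Nat.card_eq_fintype_card, ← Finset.card_univ,
    ← Finset.card_val, ← Multiset.card_map d, hval]
  rfl

theorem card_centralizer_involution (hord : Nat.card G = 7920) (t : G) (ht : orderOf t = 2) :
    Nat.card (centralizer ({t} : Set G)) = 48 := by
  classical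
  haveI : Fintype (Cfsg.IrrCharacter G) := Fintype.ofFinite _
  exact Cfsg.Agent.Lib.Helper17.M11Invol.card_centralizer_involution hord
    (Cfsg.Agent.Lib.Helper17.M11Invol.data_of_list (Cfsg.Agent.Lib.Helper11.M11.char_list hord)) t ht

theorem centralizer_five (hord : Nat.card G = 7920) {y : G} (hy : orderOf y = 5) :
    centralizer ({y} : Set G) = zpowers y := by
  classical
  letI : Fintype G := Fintype.ofFinite G
  haveI : Fintype (Cfsg.IrrCharacter G) := Fintype.ofFinite _
  exact Cfsg.Agent.Lib.Helper17.M11Invol.centralizer_five hord hy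

theorem centralizer_eleven' (hord : Nat.card G = 7920) {x : G} (hx : orderOf x = 11) :
    centralizer ({x} : Set G) = zpowers x := by
  apply le_antisymm
  · intro c hc
    rw [mem_centralizer_singleton_iff] at hc
    exact Cfsg.Agent.Lib.Helper11.M11.orderOf_eq_of_commute_eleven hord hx hc
  · exact zpowers_le_centralizer_self x

/-- an element of order 11 is a Sylow 11-subgroup generator -/
theorem exists_sylow_eleven (hord : Nat.card G = 7920) {x : G} (hx : orderOf x = 11) :
    ∃ R : Sylow 11 G, (R : Subgroup G) = zpowers x := by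
  haveI : Fact (Nat.Prime 11) := ⟨by norm_num⟩
  have hcard : Nat.card (zpowers x) = 11 := by rw [Nat.card_zpowers, hx]
  have hp : IsPGroup 11 (zpowers x) := IsPGroup.of_card (n := 1) (by rw [hcard, pow_one])
  obtain ⟨Q, hQ⟩ := hp.exists_le_sylow
  have hQc : Nat.card (Q : Subgroup G) = 11 := by
    have h2 := Cfsg.H5.SmallOrd.sylow_card 11 1 720 (by norm_num) (by rw [hord]; norm_num) Q
    rwa [pow_one] at h2
  exact ⟨Q, (Subgroup.eq_of_le_of_card_ge hQ (by rw [hQc, hcard])).symm⟩

theorem not_isConj_inv_eleven (hord : Nat.card G = 7920) {x : G} (hx : orderOf x = 11) :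
    ¬ IsConj x x⁻¹ := by
  intro h
  obtain ⟨g, hg⟩ := isConj_iff.mp h
  obtain ⟨R, hR⟩ := exists_sylow_eleven hord hx
  have hN := Cfsg.Agent.Lib.Helper11.M11.card_normalizer_eleven hord R
  -- g normalises zpowers x
  have hgN : g ∈ normalizer ((R : Subgroup G) : Set G) := by
    rw [hR, mem_normalizer_iff]
    intro h'
    constructor
    · intro hh
      obtain ⟨k, rfl⟩ := mem_zpowers_iff.mp hh
      rw [← conj_zpow, hg]
      exact zpow_mem (inv_mem (mem_zpowers x)) k
    · intro hh
      -- h' = g⁻¹ (g h' g⁻¹) g, and g⁻¹ x g = x⁻¹ too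
      have hg' : g⁻¹ * x * g = x⁻¹ := by
        have : g⁻¹ * (g * x * g⁻¹) * g = g⁻¹ * x⁻¹ * g := by rw [hg]
        have h3 : g⁻¹ * (g * x * g⁻¹) * g = x := by group
        rw [h3] at this
        have h4 : (g⁻¹ * x⁻¹ * g)⁻¹ = x⁻¹ := by rw [← this]
        have h5 : (g⁻¹ * x⁻¹ * g)⁻¹ = g⁻¹ * x * g := by group
        rw [h5] at h4
        exact h4
      obtain ⟨k, hk⟩ := mem_zpowers_iff.mp hh
      have h6 : h' = g⁻¹ * (g * h' * g⁻¹) * g := by group
      rw [h6, ← hk]
      have h7 : g⁻¹ * x ^ k * g = (g⁻¹ * x * g) ^ k := by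
        have := conj_zpow (a := g⁻¹) (b := x) (i := k)
        rw [inv_inv] at this
        exact this.symm
      rw [h7, hg']
      exact zpow_mem (inv_mem (mem_zpowers x)) k
  have hg55 : g ^ 55 = 1 := by
    have h1 : (⟨g, hgN⟩ : normalizer ((R : Subgroup G) : Set G)) ^ 55 = 1 := by
      rw [← hN]
      exact pow_card_eq_one'
    have h2 := congrArg Subtype.val h1
    simpa using h2
  -- g² commutes with x
  have hgg : Commute (g * g) x := by
    have h1 : g * g * x * (g * g)⁻¹ = x := by
      calc g * g * x * (g * g)⁻¹ = g * (g * x * g⁻¹) * g⁻¹ := by group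
        _ = g * x⁻¹ * g⁻¹ := by rw [hg]
        _ = (g * x * g⁻¹)⁻¹ := by group
        _ = x := by rw [hg, inv_inv]
    have h2 : g * g * x = x * (g * g) := by
      calc g * g * x = g * g * x * (g * g)⁻¹ * (g * g) := by group
        _ = x * (g * g) := by rw [h1]
    exact h2
  have hgc : Commute g x := by
    have h1 : g = (g * g) ^ 28 := by
      have h2 : (g * g) ^ 28 = g ^ 55 * g := by
        rw [← pow_two, ← pow_mul, ← pow_succ]
      rw [h2, hg55, one_mul]
    rw [h1]
    exact hgg.pow_left 28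
  have hxx : x = x⁻¹ := by
    have h1 : g * x * g⁻¹ = x := by
      rw [hgc.eq, mul_inv_cancel_right]
    rw [h1] at hg
    exact hg
  have h2 : x ^ 2 = 1 := by
    rw [pow_two]
    nth_rewrite 2 [hxx]
    exact mul_inv_cancel x
  have h3 : orderOf x ∣ 2 := orderOf_dvd_of_pow_eq_one h2
  rw [hx] at h3
  omega

end M11

end Cfsg.Agent.Lib.Helper11.M11T
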