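import Mathlib
import Cfsg.Agent.Lib.Helper11.M11T1
import Cfsg.Agent.Lib.Helper2.Integrality
import Cfsg.Agent.Lib.Helper2.Column

/-!
Simple groups of order 7920: a real element of order 3 does not have a centraliser of order 9.
-/

set_option autoImplicit false

namespace Cfsg.Agent.Lib.Helper11.M11T

open Cfsg Subgroup
open scoped ComplexConjugate

/-- the value of a character at a real element of order 3 is an integer congruent to the degree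
modulo 3 -/
theorem three_val {G : Type*} [Group G] [Finite G] {χ : G → ℂ} (hχ : IsCharacter G χ) {n : ℕ}
    (h1 : χ 1 = n) {a : G} (ha : orderOf a = 3) (hinv : χ a⁻¹ = χ a) :
    ∃ z : ℤ, χ a = (z : ℂ) ∧ (3 : ℤ) ∣ (n : ℤ) - z := by
  classical
  obtain ⟨m, ρ, rfl⟩ := hχ
  obtain ⟨μ, hμ, hk, -⟩ := Cfsg.Agent.Lib.Helper2.exists_eigenvalues ρ a
  rw [ha] at hμ
  have e0 : ρ.character 1 = ∑ i, (μ i) ^ 0 := by
    have := hk 0
    rwa [pow_zero] at this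
  have e1 : ρ.character a = ∑ i, (μ i) ^ 1 := by
    have := hk 1
    rwa [pow_one] at this
  have e2 : ρ.character (a ^ 2) = ∑ i, (μ i) ^ 2 := hk 2
  have ha3 : a ^ 3 = 1 := by rw [← ha]; exact pow_orderOf_eq_one a
  have ha2 : a ^ 2 = a⁻¹ := by
    apply eq_inv_of_mul_eq_one_left
    rw [← pow_succ]
    exact ha3
  rw [ha2, hinv] at e2
  have hterm : ∀ i, (μ i) ^ 0 + (μ i) ^ 1 + (μ i) ^ 2 = if μ i = 1 then (3 : ℂ) else 0 := by
    intro i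
    by_cases h : μ i = 1
    · rw [if_pos h, h]; norm_num
    · rw [if_neg h]
      have h3 : (μ i - 1) * ((μ i) ^ 0 + (μ i) ^ 1 + (μ i) ^ 2) = 0 := by
        have := hμ i
        linear_combination this
      rcases mul_eq_zero.mp h3 with h4 | h4
      · exact absurd (sub_eq_zero.mp h4) h
      · exact h4
  have hsum : ρ.character 1 + ρ.character a + ρ.character a
      = 3 * ((Finset.univ.filter (fun i => μ i = 1)).card : ℂ) := by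
    have h5 : ρ.character 1 + ρ.character a + ρ.character a
        = (∑ i, (μ i) ^ 0) + (∑ i, (μ i) ^ 1) + ∑ i, (μ i) ^ 2 := by
      rw [← e0, ← e1, ← e2]
    rw [h5, ← Finset.sum_add_distrib, ← Finset.sum_add_distrib,
      Finset.sum_congr rfl (fun i _ => hterm i), Finset.sum_ite, Finset.sum_const_zero, add_zero,
      Finset.sum_const, nsmul_eq_mul]
    ring
  set m₀ := (Finset.univ.filter (fun i => μ i = 1)).card with hm₀
  rw [h1] at hsum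
  have hq : ρ.character a = (((3 * (m₀ : ℤ) - (n : ℤ) : ℤ) : ℚ) / 2 : ℚ) := by
    push_cast
    linear_combination (1 / 2 : ℂ) * hsum
  obtain ⟨z, hz⟩ := Cfsg.Agent.Lib.Helper2.exists_int_of_isIntegral_of_rat _ hq
    (Cfsg.Agent.Lib.Helper2.char_isIntegral ρ a)
  refine ⟨z, hz, ?_⟩
  rw [hz] at hsum
  have h2 : (n : ℤ) + z + z = 3 * (m₀ : ℤ) := by exact_mod_cast hsum
  exact ⟨(m₀ : ℤ) - z, by linarith⟩

theorem sq_ge_one_of_ne_zero (z : ℤ) (h : z ≠ 0) : 1 ≤ z * z := by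
  rcases (by omega : z ≤ -1 ∨ 1 ≤ z) with h | h <;> nlinarith

theorem abs_le_one_of_sq_le (z : ℤ) (hz : z * z ≤ 1) : -1 ≤ z ∧ z ≤ 1 := by
  constructor <;> nlinarith

theorem arith63 (z1 z2 z3 z4 z5 z6 z7 z8 z9 z10 : ℤ)
    (t1 : (3 : ℤ) ∣ ((1 : ℕ) : ℤ) - z1) (t2 : (3 : ℤ) ∣ ((10 : ℕ) : ℤ) - z2)
    (t3 : (3 : ℤ) ∣ ((10 : ℕ) : ℤ) - z3) (t4 : (3 : ℤ) ∣ ((10 : ℕ) : ℤ) - z4)
    (t5 : (3 : ℤ) ∣ ((11 : ℕ) : ℤ) - z5) (t6 : (3 : ℤ) ∣ ((16 : ℕ) : ℤ) - z6)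
    (t7 : (3 : ℤ) ∣ ((16 : ℕ) : ℤ) - z7) (t8 : (3 : ℤ) ∣ ((44 : ℕ) : ℤ) - z8)
    (t9 : (3 : ℤ) ∣ ((45 : ℕ) : ℤ) - z9) (t10 : (3 : ℤ) ∣ ((55 : ℕ) : ℤ) - z10)
    (q1 : z1 * z1 + z2 * z2 + z3 * z3 + z4 * z4 + z5 * z5 + z6 * z6 + z7 * z7 + z8 * z8
      + z9 * z9 + z10 * z10 = 9)
    (q2 : z1 * 1 + z2 * 10 + z3 * 10 + z4 * 10 + z5 * 11 + z6 * 16 + z7 * 16 + z8 * 44
      + z9 * 45 + z10 * 55 = 0) : False := by
  push_cast at t1 t2 t3 t4 t5 t6 t7 t8 t9 t10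
  have n1 := sq_ge_one_of_ne_zero z1 (by omega)
  have n2 := sq_ge_one_of_ne_zero z2 (by omega)
  have n3 := sq_ge_one_of_ne_zero z3 (by omega)
  have n4 := sq_ge_one_of_ne_zero z4 (by omega)
  have n5 := sq_ge_one_of_ne_zero z5 (by omega)
  have n6 := sq_ge_one_of_ne_zero z6 (by omega)
  have n7 := sq_ge_one_of_ne_zero z7 (by omega)
  have n8 := sq_ge_one_of_ne_zero z8 (by omega)
  have n10 := sq_ge_one_of_ne_zero z10 (by omega)
  have n9 : 0 ≤ z9 * z9 := mul_self_nonneg z9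
  have b9 : z9 = 0 := by
    have h : z9 * z9 ≤ 0 := by linarith
    have h2 : z9 * z9 = 0 := le_antisymm h n9
    exact mul_self_eq_zero.mp h2
  obtain ⟨l1, u1⟩ := abs_le_one_of_sq_le z1 (by linarith)
  obtain ⟨l2, u2⟩ := abs_le_one_of_sq_le z2 (by linarith)
  obtain ⟨l3, u3⟩ := abs_le_one_of_sq_le z3 (by linarith)
  obtain ⟨l4, u4⟩ := abs_le_one_of_sq_le z4 (by linarith)
  obtain ⟨l5, u5⟩ := abs_le_one_of_sq_le z5 (by linarith)
  obtain ⟨l6, u6⟩ := abs_le_one_of_sq_le z6 (by linarith)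
  obtain ⟨l7, u7⟩ := abs_le_one_of_sq_le z7 (by linarith)
  obtain ⟨l8, u8⟩ := abs_le_one_of_sq_le z8 (by linarith)
  obtain ⟨l10, u10⟩ := abs_le_one_of_sq_le z10 (by linarith)
  omega

section M11

variable {G : Type*} [Group G] [Finite G] [IsSimpleGroup G]

theorem card_centralizer_three_ne_nine (hord : Nat.card G = 7920) {a : G}
    (ha : orderOf a = 3) (hreal : IsConj a a⁻¹) :
    Nat.card (centralizer ({a} : Set G)) ≠ 9 := by
  classical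
  intro h9
  letI : Fintype G := Fintype.ofFinite G
  haveI : Fintype (Cfsg.IrrCharacter G) := Fintype.ofFinite _
  obtain ⟨χ₁, χ₂, χ₃, χ₄, χ₅, χ₆, χ₇, χ₈, χ₉, χ₁₀, hval, htriv,
    ⟨d1, d2, d3, d4, d5, d6, d7, d8, d9, d10⟩, -⟩ := Cfsg.Agent.Lib.Helper11.M11.char_list hord
  have hsum : ∀ F : Cfsg.IrrCharacter G → ℂ, ∑ χ, F χ =
      F χ₁ + F χ₂ + F χ₃ + F χ₄ + F χ₅ + F χ₆ + F χ₇ + F χ₈ + F χ₉ + F χ₁₀ := by
    intro F
    rw [Finset.sum_eq_multiset_sum, hval]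
    simp only [Multiset.map_cons, Multiset.sum_cons, Multiset.map_singleton, Multiset.sum_singleton]
    ring
  have hcl : ∀ χ : Cfsg.IrrCharacter G, (χ : G → ℂ) a⁻¹ = (χ : G → ℂ) a := fun χ =>
    ((Cfsg.Agent.Lib.Helper2.isConj_iff_forall_irrCharacter a a⁻¹).mp hreal χ).symm
  have hv : ∀ (χ : Cfsg.IrrCharacter G) (n : ℕ), (χ : G → ℂ) 1 = n →
      ∃ z : ℤ, (χ : G → ℂ) a = (z : ℂ) ∧ (3 : ℤ) ∣ (n : ℤ) - z := fun χ n hn =>
    three_val (Cfsg.Agent.Lib.Helper25.isCharacter_of_irr χ.2) hn ha (hcl χ)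
  obtain ⟨z1, e1, t1⟩ := hv χ₁ 1 (by rw [d1]; norm_num)
  obtain ⟨z2, e2, t2⟩ := hv χ₂ 10 (by rw [d2]; norm_num)
  obtain ⟨z3, e3, t3⟩ := hv χ₃ 10 (by rw [d3]; norm_num)
  obtain ⟨z4, e4, t4⟩ := hv χ₄ 10 (by rw [d4]; norm_num)
  obtain ⟨z5, e5, t5⟩ := hv χ₅ 11 (by rw [d5]; norm_num)
  obtain ⟨z6, e6, t6⟩ := hv χ₆ 16 (by rw [d6]; norm_num)
  obtain ⟨z7, e7, t7⟩ := hv χ₇ 16 (by rw [d7]; norm_num)
  obtain ⟨z8, e8, t8⟩ := hv χ₈ 44 (by rw [d8]; norm_num)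
  obtain ⟨z9, e9, t9⟩ := hv χ₉ 45 (by rw [d9]; norm_num)
  obtain ⟨z10, e10, t10⟩ := hv χ₁₀ 55 (by rw [d10]; norm_num)
  have ha1 : a ≠ 1 := by
    intro h
    rw [h, orderOf_one] at ha
    omega
  have hnc : ¬ IsConj a 1 := by
    intro h
    exact ha1 (isConj_one_left.mp h)
  have hc1 := Cfsg.Agent.Lib.Helper2.column_orthogonality a a
  rw [if_pos (IsConj.refl a), h9] at hc1
  have hc2 := Cfsg.Agent.Lib.Helper2.column_orthogonality a 1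
  rw [if_neg hnc] at hc2
  have hF1 := hsum (fun χ => (χ : G → ℂ) a * conj ((χ : G → ℂ) a))
  have hF2 := hsum (fun χ => (χ : G → ℂ) a * conj ((χ : G → ℂ) 1))
  beta_reduce at hF1 hF2
  rw [hF1, e1, e2, e3, e4, e5, e6, e7, e8, e9, e10] at hc1
  rw [hF2, e1, e2, e3, e4, e5, e6, e7, e8, e9, e10, d1, d2, d3, d4, d5, d6, d7, d8, d9, d10] at hc2
  simp only [map_intCast, map_ofNat, map_one] at hc1 hc2
  have q1 : z1 * z1 + z2 * z2 + z3 * z3 + z4 * z4 + z5 * z5 + z6 * z6 + z7 * z7 + z8 * z8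
      + z9 * z9 + z10 * z10 = 9 := by exact_mod_cast hc1
  have q2 : z1 * 1 + z2 * 10 + z3 * 10 + z4 * 10 + z5 * 11 + z6 * 16 + z7 * 16 + z8 * 44
      + z9 * 45 + z10 * 55 = 0 := by exact_mod_cast hc2
  exact arith63 z1 z2 z3 z4 z5 z6 z7 z8 z9 z10 t1 t2 t3 t4 t5 t6 t7 t8 t9 t10 q1 q2

end M11

end Cfsg.Agent.Lib.Helper11.M11T
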