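import Mathlib
import Cfsg.Agent.Lib.Helper11.M11T2
import Cfsg.Agent.Lib.Helper22.M11Three
import Cfsg.Agent.Lib.Helper9.M11Local
import Cfsg.Agent.Lib.Helper26.ClassEq
import Cfsg.Agent.Lib.Helper10.M11ThreeE

/-!
Simple groups of order 7920: the normaliser of a Sylow 3-subgroup has order 144 (class counting).
-/

set_option autoImplicit false

namespace Cfsg.Agent.Lib.Helper11.M11T

open Cfsg Subgroup

section general

variable {G : Type*} [Group G]

theorem not_isConj_of_orderOf_ne {g h : G} (hne : orderOf g ≠ orderOf h) : ¬ IsConj g h :=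
  fun hc => hne (orderOf_eq_of_isConj' hc)

theorem card_centralizer_one [Finite G] :
    Nat.card (centralizer ({1} : Set G)) = Nat.card G := by
  have h : centralizer ({1} : Set G) = ⊤ := by
    ext g
    simp [mem_centralizer_singleton_iff]
  rw [h, Subgroup.card_top]

theorem orderOf_dvd_card_centralizer [Finite G] {g s : G} (hs : Commute s g) :
    orderOf s ∣ Nat.card (centralizer ({g} : Set G)) := by
  have hmem : s ∈ centralizer ({g} : Set G) := mem_centralizer_singleton_iff.mpr hs.eq
  have h := orderOf_dvd_natCard (⟨s, hmem⟩ : centralizer ({g} : Set G))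
  rwa [Subgroup.orderOf_mk] at h

theorem orderOf_dvd_card_centralizer_self [Finite G] (g : G) :
    orderOf g ∣ Nat.card (centralizer ({g} : Set G)) :=
  orderOf_dvd_card_centralizer (Commute.refl g)

theorem exists_involution_commute [Finite G] {a : G}
    (h : 2 ∣ Nat.card (centralizer ({a} : Set G))) : ∃ s : G, orderOf s = 2 ∧ Commute a s := by
  haveI : Fact (Nat.Prime 2) := ⟨Nat.prime_two⟩
  obtain ⟨k, hk⟩ := exists_prime_orderOf_dvd_card' 2 h
  refine ⟨(k : G), ?_, ?_⟩
  · rw [← hk]
    exact (Subgroup.orderOf_coe k)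
  · have := k.2
    rw [mem_centralizer_singleton_iff] at this
    exact this.symm

theorem le_centralizer_of_mem (P : Subgroup G)
    (hC : centralizer ((P : Subgroup G) : Set G) = P) {a : G} (ha : a ∈ P) :
    P ≤ centralizer ({a} : Set G) := by
  intro x hx
  rw [mem_centralizer_singleton_iff]
  have ha' : a ∈ centralizer ((P : Subgroup G) : Set G) := by rw [hC]; exact ha
  rw [mem_centralizer_iff] at ha'
  exact ha' x hx

theorem nine_dvd_card_centralizer [Finite G] (P : Subgroup G) (hP : Nat.card P = 9)
    (hC : centralizer ((P : Subgroup G) : Set G) = P) {a : G} (ha : a ∈ P) :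
    9 ∣ Nat.card (centralizer ({a} : Set G)) := by
  rw [← hP]
  exact Subgroup.card_dvd_of_le (le_centralizer_of_mem P hC ha)

theorem pow_nine_of_mem [Finite G] (P : Subgroup G) (hP : Nat.card P = 9) {a : G} (ha : a ∈ P) :
    a ^ 9 = 1 := by
  have h : (⟨a, ha⟩ : P) ^ 9 = 1 := by
    rw [← hP]
    exact pow_card_eq_one'
  have h2 := congrArg Subtype.val h
  simpa using h2

theorem orderOf_cases_of_mem [Finite G] (P : Subgroup G) (hP : Nat.card P = 9) {a : G}
    (ha : a ∈ P) (ha1 : a ≠ 1) : orderOf a = 3 ∨ orderOf a = 9 := by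
  have h := orderOf_dvd_of_pow_eq_one (pow_nine_of_mem P hP ha)
  have h1 : orderOf a ≠ 1 := by
    intro h1
    exact ha1 (orderOf_eq_one_iff.mp h1)
  have h3 : orderOf a ∣ 3 ^ 2 := by norm_num; exact h
  obtain ⟨m, hm, hm2⟩ := (Nat.dvd_prime_pow Nat.prime_three).mp h3
  interval_cases m
  · exact absurd hm2 (by simpa using h1)
  · left; simpa using hm2
  · right; simpa using hm2

theorem arith_C4 (ca cb cg m : ℕ) (a1 : ca ∣ 36) (a2 : ca ∣ 48) (a3 : 6 ∣ ca)
    (b1 : cb ∣ 36) (b2 : cb ∣ 48) (b3 : 6 ∣ cb) (hm : m * cg = 7920)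
    (hsum : 1 + 1584 + 720 + 720 + 165 + 220 + 220 + 7920 / ca + 7920 / cb + m = 7920) :
    False := by
  have ha : ca = 6 ∨ ca = 12 := by
    have h12 : ca ∣ 12 := Nat.dvd_gcd a1 a2
    have hle : ca ≤ 12 := Nat.le_of_dvd (by norm_num) h12
    interval_cases ca <;> omega
  have hb : cb = 6 ∨ cb = 12 := by
    have h12 : cb ∣ 12 := Nat.dvd_gcd b1 b2
    have hle : cb ≤ 12 := Nat.le_of_dvd (by norm_num) h12
    interval_cases cb <;> omega
  rcases ha with rfl | rfl <;> rcases hb with rfl | rfl
  · have h : m = 1650 := by omega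
    subst h
    omega
  · have h : m = 2310 := by omega
    subst h
    omega
  · have h : m = 2310 := by omega
    subst h
    omega
  · have h : m = 2970 := by omega
    subst h
    omega

end general

section M11

variable {G : Type*} [Group G] [Finite G] [IsSimpleGroup G]

theorem exists_orderOf_five (hord : Nat.card G = 7920) : ∃ y : G, orderOf y = 5 := by
  haveI : Fact (Nat.Prime 5) := ⟨by norm_num⟩
  exact exists_prime_orderOf_dvd_card' 5 (by rw [hord]; norm_num)

theorem exists_orderOf_eleven (hord : Nat.card G = 7920) : ∃ y : G, orderOf y = 11 := by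
  haveI : Fact (Nat.Prime 11) := ⟨by norm_num⟩
  exact exists_prime_orderOf_dvd_card' 11 (by rw [hord]; norm_num)

theorem div_centralizer_one (hord : Nat.card G = 7920) :
    Nat.card G / Nat.card (centralizer ({1} : Set G)) = 1 := by
  rw [card_centralizer_one, hord]

theorem div_centralizer_five (hord : Nat.card G = 7920) {y : G} (hy : orderOf y = 5) :
    Nat.card G / Nat.card (centralizer ({y} : Set G)) = 1584 := by
  rw [centralizer_five hord hy, Nat.card_zpowers, hy, hord]

theorem div_centralizer_eleven (hord : Nat.card G = 7920) {x : G} (hx : orderOf x = 11) :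
    Nat.card G / Nat.card (centralizer ({x} : Set G)) = 720 := by
  rw [centralizer_eleven' hord hx, Nat.card_zpowers, hx, hord]

theorem div_centralizer_two (hord : Nat.card G = 7920) {t : G} (ht : orderOf t = 2) :
    Nat.card G / Nat.card (centralizer ({t} : Set G)) = 165 := by
  rw [card_centralizer_involution hord t ht, hord]

theorem kill_V4 (hord : Nat.card G = 7920) (P : Subgroup G) (hP : Nat.card P = 9)
    (hC : centralizer ((P : Subgroup G) : Set G) = P)
    {a b c d e : G} (ha : a ∈ P) (hb : b ∈ P) (hc : c ∈ P) (ha1 : a ≠ 1) (hb1 : b ≠ 1)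
    (hc1 : c ≠ 1) (hab : ¬ IsConj a b) (hac : ¬ IsConj a c) (hbc : ¬ IsConj b c)
    (hd : orderOf d = 2) (he : orderOf e = 2) (hda : Commute d a) (hec : Commute e c) :
    False := by
  obtain ⟨y, hy⟩ := exists_orderOf_five hord
  obtain ⟨x, hx⟩ := exists_orderOf_eleven hord
  have hxi : orderOf x⁻¹ = 11 := by rw [orderOf_inv, hx]
  have hxx : ¬ IsConj x x⁻¹ := not_isConj_inv_eleven hord hx
  have ho1 : orderOf (1 : G) = 1 := orderOf_one
  have hoa := orderOf_cases_of_mem P hP ha ha1
  have hob := orderOf_cases_of_mem P hP hb hb1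
  have hoc := orderOf_cases_of_mem P hP hc hc1
  have hd2 : d ^ 2 = 1 := by rw [← hd]; exact pow_orderOf_eq_one d
  have he2 : e ^ 2 = 1 := by rw [← he]; exact pow_orderOf_eq_one e
  have ha9 := pow_nine_of_mem P hP ha
  have hc9 := pow_nine_of_mem P hP hc
  have hoad : orderOf (a * d) = orderOf a * 2 := by
    have h := hda.symm.orderOf_mul_eq_mul_orderOf_of_coprime
      (by rw [hd]; rcases hoa with h | h <;> rw [h] <;> norm_num)
    rw [h, hd]
  have hoce : orderOf (c * e) = orderOf c * 2 := by
    have h := hec.symm.orderOf_mul_eq_mul_orderOf_of_coprime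
      (by rw [he]; rcases hoc with h | h <;> rw [h] <;> norm_num)
    rw [h, he]
  have h66 : ¬ IsConj (a * d) (c * e) := not_isConj_mul ha9 hc9 hd2 he2 hda.symm hec.symm hac
  have hl : List.Pairwise (fun g h => ¬ IsConj g h) [1, y, x, x⁻¹, d, a, b, c, a * d, c * e] := by
    simp only [List.pairwise_cons, List.forall_mem_cons, List.not_mem_nil, false_imp_iff,
      implies_true, and_true, List.Pairwise.nil]
    repeat' constructor
    all_goals first
      | exact hxx | exact hab | exact hac | exact hbc | exact h66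
      | exact not_isConj_of_orderOf_ne (by omega)
  have hsum := Cfsg.Agent.Lib.Helper26.ClassEq.sum_class_sizes _ hl (by rw [card_conjClasses hord]; rfl)
  simp only [List.map_cons, List.map_nil, List.sum_cons, List.sum_nil] at hsum
  rw [div_centralizer_one hord, div_centralizer_five hord hy, div_centralizer_eleven hord hx,
    div_centralizer_eleven hord hxi, div_centralizer_two hord hd] at hsum
  -- bounds
  have h9a := nine_dvd_card_centralizer P hP hC ha
  have h9b := nine_dvd_card_centralizer P hP hC hb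
  have h9c := nine_dvd_card_centralizer P hP hC hc
  have h2a : 2 ∣ Nat.card (centralizer ({a} : Set G)) := by
    have h := orderOf_dvd_card_centralizer hda
    rwa [hd] at h
  have h2c : 2 ∣ Nat.card (centralizer ({c} : Set G)) := by
    have h := orderOf_dvd_card_centralizer hec
    rwa [he] at h
  have h6ad : orderOf (a * d) ∣ Nat.card (centralizer ({a * d} : Set G)) :=
    orderOf_dvd_card_centralizer_self _
  have h6ce : orderOf (c * e) ∣ Nat.card (centralizer ({c * e} : Set G)) :=
    orderOf_dvd_card_centralizer_self _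
  have pa : 0 < Nat.card (centralizer ({a} : Set G)) := Nat.card_pos
  have pb : 0 < Nat.card (centralizer ({b} : Set G)) := Nat.card_pos
  have pc : 0 < Nat.card (centralizer ({c} : Set G)) := Nat.card_pos
  have pad : 0 < Nat.card (centralizer ({a * d} : Set G)) := Nat.card_pos
  have pce : 0 < Nat.card (centralizer ({c * e} : Set G)) := Nat.card_pos
  have ba : Nat.card G / Nat.card (centralizer ({a} : Set G)) ≤ 440 := by
    apply Nat.div_le_of_le_mul
    rw [hord]
    have : 18 ≤ Nat.card (centralizer ({a} : Set G)) := by omega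
    omega
  have bb : Nat.card G / Nat.card (centralizer ({b} : Set G)) ≤ 880 := by
    apply Nat.div_le_of_le_mul
    rw [hord]
    have : 9 ≤ Nat.card (centralizer ({b} : Set G)) := by omega
    omega
  have bc : Nat.card G / Nat.card (centralizer ({c} : Set G)) ≤ 440 := by
    apply Nat.div_le_of_le_mul
    rw [hord]
    have : 18 ≤ Nat.card (centralizer ({c} : Set G)) := by omega
    omega
  have bad : Nat.card G / Nat.card (centralizer ({a * d} : Set G)) ≤ 1320 := by
    apply Nat.div_le_of_le_mul
    rw [hord]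
    have : 6 ≤ Nat.card (centralizer ({a * d} : Set G)) := by
      have := Nat.le_of_dvd pad h6ad
      omega
    omega
  have bce : Nat.card G / Nat.card (centralizer ({c * e} : Set G)) ≤ 1320 := by
    apply Nat.div_le_of_le_mul
    rw [hord]
    have : 6 ≤ Nat.card (centralizer ({c * e} : Set G)) := by
      have := Nat.le_of_dvd pce h6ce
      omega
    omega
  omega

theorem kill_C4 (hord : Nat.card G = 7920) (P : Sylow 3 G) (hP : Nat.card (P : Subgroup G) = 9)
    (hC : centralizer ((P : Subgroup G) : Set G) = (P : Subgroup G))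
    {z a b : G} (hz2 : orderOf z = 2) (hz : ∀ x ∈ (P : Subgroup G), z * x * z⁻¹ = x⁻¹)
    (h3 : ∀ x ∈ (P : Subgroup G), x ^ 3 = 1)
    (hNC : ∀ a ∈ (P : Subgroup G), a ≠ 1 →
      normalizer ((P : Subgroup G) : Set G) ⊓ centralizer ({a} : Set G) = (P : Subgroup G))
    (ha : a ∈ (P : Subgroup G)) (hb : b ∈ (P : Subgroup G)) (ha1 : a ≠ 1) (hb1 : b ≠ 1)
    (hab : ¬ IsConj a b) : False := by
  haveI : Fact (Nat.Prime 3) := ⟨by norm_num⟩
  obtain ⟨y, hy⟩ := exists_orderOf_five hord
  obtain ⟨x, hx⟩ := exists_orderOf_eleven hord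
  have hxi : orderOf x⁻¹ = 11 := by rw [orderOf_inv, hx]
  have hxx : ¬ IsConj x x⁻¹ := not_isConj_inv_eleven hord hx
  have ho1 : orderOf (1 : G) = 1 := orderOf_one
  have hoa : orderOf a = 3 := orderOf_eq_prime (h3 a ha) ha1
  have hob : orderOf b = 3 := orderOf_eq_prime (h3 b hb) hb1
  have hra : IsConj a a⁻¹ := isConj_iff.mpr ⟨z, hz a ha⟩
  have hrb : IsConj b b⁻¹ := isConj_iff.mpr ⟨z, hz b hb⟩
  have h36a := Cfsg.Agent.Lib.Helper10.M11ThreeE.card_centralizer_three_eq_36 hord P ha ha1 (hz a ha) (hNC a ha ha1)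
    (card_centralizer_three_ne_nine hord hoa hra)
  have h36b := Cfsg.Agent.Lib.Helper10.M11ThreeE.card_centralizer_three_eq_36 hord P hb hb1 (hz b hb) (hNC b hb hb1)
    (card_centralizer_three_ne_nine hord hob hrb)
  obtain ⟨s, hs, hsa⟩ := exists_involution_commute (a := a) (by rw [h36a]; norm_num)
  obtain ⟨s', hs', hsb⟩ := exists_involution_commute (a := b) (by rw [h36b]; norm_num)
  have hs2 : s ^ 2 = 1 := by rw [← hs]; exact pow_orderOf_eq_one s
  have hs'2 : s' ^ 2 = 1 := by rw [← hs']; exact pow_orderOf_eq_one s'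
  have ha9 := pow_nine_of_mem (P : Subgroup G) hP ha
  have hb9 := pow_nine_of_mem (P : Subgroup G) hP hb
  have hoas : orderOf (a * s) = 6 := by
    have h := hsa.orderOf_mul_eq_mul_orderOf_of_coprime (by rw [hoa, hs]; norm_num)
    rw [h, hoa, hs]
  have hobs : orderOf (b * s') = 6 := by
    have h := hsb.orderOf_mul_eq_mul_orderOf_of_coprime (by rw [hob, hs']; norm_num)
    rw [h, hob, hs']
  have h66 : ¬ IsConj (a * s) (b * s') := not_isConj_mul ha9 hb9 hs2 hs'2 hsa hsb hab
  have hl : List.Pairwise (fun g h => ¬ IsConj g h) [1, y, x, x⁻¹, z, a, b, a * s, b * s'] := by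
    simp only [List.pairwise_cons, List.forall_mem_cons, List.not_mem_nil, false_imp_iff,
      implies_true, and_true, List.Pairwise.nil]
    repeat' constructor
    all_goals first
      | exact hxx | exact hab | exact h66
      | exact not_isConj_of_orderOf_ne (by omega)
  obtain ⟨g, hsum⟩ := Cfsg.Agent.Lib.Helper26.ClassEq.sum_class_sizes_succ _ hl (by rw [card_conjClasses hord]; rfl)
  simp only [List.map_cons, List.map_nil, List.sum_cons, List.sum_nil] at hsum
  rw [div_centralizer_one hord, div_centralizer_five hord hy, div_centralizer_eleven hord hx,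
    div_centralizer_eleven hord hxi, div_centralizer_two hord hz2, h36a, h36b] at hsum
  rw [hord] at hsum
  -- the centralisers of the elements of order 6
  have a1 : Nat.card (centralizer ({a * s} : Set G)) ∣ 36 := by
    rw [← h36a]
    exact Subgroup.card_dvd_of_le (centralizer_mul_le_left ha9 hs2 hsa)
  have a2 : Nat.card (centralizer ({a * s} : Set G)) ∣ 48 := by
    rw [← card_centralizer_involution hord s hs]
    exact Subgroup.card_dvd_of_le (centralizer_mul_le_right ha9 hs2 hsa)
  have a3 : 6 ∣ Nat.card (centralizer ({a * s} : Set G)) := by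
    rw [← hoas]
    exact orderOf_dvd_card_centralizer_self _
  have b1 : Nat.card (centralizer ({b * s'} : Set G)) ∣ 36 := by
    rw [← h36b]
    exact Subgroup.card_dvd_of_le (centralizer_mul_le_left hb9 hs'2 hsb)
  have b2 : Nat.card (centralizer ({b * s'} : Set G)) ∣ 48 := by
    rw [← card_centralizer_involution hord s' hs']
    exact Subgroup.card_dvd_of_le (centralizer_mul_le_right hb9 hs'2 hsb)
  have b3 : 6 ∣ Nat.card (centralizer ({b * s'} : Set G)) := by
    rw [← hobs]
    exact orderOf_dvd_card_centralizer_self _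
  have hg : Nat.card (centralizer ({g} : Set G)) ∣ 7920 := by
    rw [← hord]
    exact Subgroup.card_subgroup_dvd_card _
  have hm : 7920 / Nat.card (centralizer ({g} : Set G)) * Nat.card (centralizer ({g} : Set G))
      = 7920 := Nat.div_mul_cancel hg
  exact arith_C4 _ _ _ _ a1 a2 a3 b1 b2 b3 hm (by omega)

/-- **Sylow 3-normalisers of a simple group of order 7920 have order 144.** -/
theorem card_normalizer_three (hord : Nat.card G = 7920) (P : Sylow 3 G) :
    Nat.card (normalizer ((P : Subgroup G) : Set G)) = 144 := by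
  haveI : Fact (Nat.Prime 3) := ⟨by norm_num⟩
  rcases Cfsg.Agent.Lib.Helper22.M11Three.n3_cases hord P with h | h
  · exact h
  exfalso
  have hP : Nat.card (P : Subgroup G) = 9 := by
    have h2 := Cfsg.H5.SmallOrd.sylow_card 3 2 880 (by norm_num) (by rw [hord]; norm_num) P
    rw [h2]; norm_num
  have hC := Cfsg.Agent.Lib.Helper22.M11Three.centralizer_three_of_36 hord (card_centralizer_involution hord) P h
  rcases Cfsg.Agent.Lib.Helper9.M11Local.local_structure P hP h hC with
    ⟨z, hz2, hz, h3, hNC, a, ha, b, hb, ha1, hb1, hab⟩ |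
    ⟨a, ha, b, hb, c, hc, d, e, ha1, hb1, hc1, hab, hac, hbc, hd, he, hda, hec⟩
  · exact kill_C4 hord P hP hC hz2 hz h3 hNC ha hb ha1 hb1 hab
  · exact kill_V4 hord (P : Subgroup G) hP hC ha hb hc ha1 hb1 hc1 hab hac hbc hd he hda hec

end M11

end Cfsg.Agent.Lib.Helper11.M11T
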