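import Mathlib
import Cfsg.Prelude.Def_KGroupFacts
import Cfsg.Agent.H5.StemLift

/-!
# S2036 piece A (helper11 for helper6): canonical lifts of elements of order prime to the kernel
-/

set_option autoImplicit false

namespace Cfsg.Agent.Lib.Helper6.M22Mult

open Cfsg Cfsg.H5.StemLift
open scoped commutatorElement

universe u

namespace Helper11

/-- a central element `z` of the kernel is an `m`-th power of a (zpow) power of itself. -/
theorem exists_zpow_pow_eq {Γ G : Type u} [Group Γ] [Group G] [Finite Γ] (σ : Γ →* G)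
    (m : ℕ) (hcop : (Nat.card σ.ker).Coprime m) (z : Γ) (hz : z ∈ σ.ker) :
    ∃ b : ℤ, (z ^ b) ^ m = z := by
  have hzn : z ^ (Nat.card σ.ker) = 1 := by
    have h := pow_card_eq_one' (G := σ.ker) (x := ⟨z, hz⟩)
    have h2 := congrArg (Subtype.val) h
    simpa using h2
  have hbez := Int.gcd_eq_gcd_ab (Nat.card σ.ker : ℤ) (m : ℤ)
  have hg : Int.gcd (Nat.card σ.ker : ℤ) (m : ℤ) = 1 := by
    simpa [Int.gcd_natCast_natCast] using hcop
  rw [hg] at hbez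
  refine ⟨Int.gcdB (Nat.card σ.ker : ℤ) (m : ℤ), ?_⟩
  set a := Int.gcdA (Nat.card σ.ker : ℤ) (m : ℤ)
  set b := Int.gcdB (Nat.card σ.ker : ℤ) (m : ℤ)
  have h1 : z ^ ((Nat.card σ.ker : ℤ) * a + (m : ℤ) * b) = z := by
    rw [← hbez]; simp
  rw [zpow_add, zpow_mul, zpow_natCast, hzn, one_zpow, one_mul, mul_comm, zpow_mul, zpow_natCast]
    at h1
  exact h1

theorem core {Γ G : Type u} [Group Γ] [Group G] [Finite Γ] (σ : Γ →* G)
    (hcen : σ.ker ≤ Subgroup.center Γ) (K : Subgroup Γ) (g : G)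
    (m : ℕ) (hcop : (Nat.card σ.ker).Coprime m) (hgm : g ^ m = 1)
    (x0 : Γ) (hx0K : x0 ∈ K) (hx0 : σ x0 = g) :
    ∃ x ∈ K, σ x = g ∧ x ^ m = 1 := by
  have hz : x0 ^ m ∈ σ.ker := by
    rw [MonoidHom.mem_ker, map_pow, hx0, hgm]
  obtain ⟨b, hb⟩ := exists_zpow_pow_eq σ m hcop (x0 ^ m) hz
  have hwker : ((x0 ^ m) ^ b)⁻¹ ∈ σ.ker := inv_mem (zpow_mem hz b)
  have hwcen : ((x0 ^ m) ^ b)⁻¹ ∈ Subgroup.center Γ := hcen hwker
  refine ⟨x0 * ((x0 ^ m) ^ b)⁻¹, ?_, ?_, ?_⟩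
  · exact mul_mem hx0K (inv_mem (zpow_mem (pow_mem hx0K m) b))
  · rw [map_mul, hx0, MonoidHom.mem_ker.mp hwker, mul_one]
  · have hc : Commute x0 ((x0 ^ m) ^ b)⁻¹ :=
      (Subgroup.mem_center_iff.mp hwcen) x0
    rw [hc.mul_pow, inv_pow, hb, mul_inv_cancel]

end Helper11

/-- A1: an element `g` of the perfect subgroup `H` with `g ^ m = 1`, `m` prime to `|ker σ|`, has a lift
of the same kind inside the canonical lift `liftSub σ H = ⁅σ⁻¹ H, σ⁻¹ H⁆`. -/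
theorem exists_lift_pow_eq_one {Γ G : Type u} [Group Γ] [Group G] [Finite Γ] (σ : Γ →* G)
    (hσ : IsStemExtension σ) (H : Subgroup G) (hperf : H ≤ ⁅H, H⁆) (g : G) (hg : g ∈ H)
    (m : ℕ) (hcop : (Nat.card σ.ker).Coprime m) (hgm : g ^ m = 1) :
    ∃ x ∈ liftSub σ H, σ x = g ∧ x ^ m = 1 := by
  obtain ⟨x0, hx0K, hx0⟩ := exists_lift σ H hσ.1 hperf g hg
  exact Helper11.core σ hσ.2.1 (liftSub σ H) g m hcop hgm x0 hx0K hx0

/-- A2: the same without a subgroup (only a surjection with central kernel is needed). -/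
theorem exists_lift_pow_eq_one' {Γ G : Type u} [Group Γ] [Group G] [Finite Γ] (σ : Γ →* G)
    (hsurj : Function.Surjective σ) (hcen : σ.ker ≤ Subgroup.center Γ) (g : G)
    (m : ℕ) (hcop : (Nat.card σ.ker).Coprime m) (hgm : g ^ m = 1) :
    ∃ x : Γ, σ x = g ∧ x ^ m = 1 := by
  obtain ⟨x0, hx0⟩ := hsurj g
  obtain ⟨x, -, h1, h2⟩ := Helper11.core σ hcen ⊤ g m hcop hgm x0 (Subgroup.mem_top _) hx0
  exact ⟨x, h1, h2⟩

/-- A3: such lifts are unique. -/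
theorem lift_unique {Γ G : Type u} [Group Γ] [Group G] [Finite Γ] (σ : Γ →* G)
    (hcen : σ.ker ≤ Subgroup.center Γ) {x y : Γ} {m : ℕ}
    (hcop : (Nat.card σ.ker).Coprime m) (hx : x ^ m = 1) (hy : y ^ m = 1) (hxy : σ x = σ y) :
    x = y := by
  have hk : x⁻¹ * y ∈ σ.ker := by
    rw [MonoidHom.mem_ker, map_mul, map_inv, hxy, inv_mul_cancel]
  have hkc : x⁻¹ * y ∈ Subgroup.center Γ := hcen hk
  have hc : Commute x (x⁻¹ * y) := ((Subgroup.mem_center_iff.mp hkc) x)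
  have hym : (x * (x⁻¹ * y)) ^ m = 1 := by rw [mul_inv_cancel_left]; exact hy
  rw [hc.mul_pow, hx, one_mul] at hym
  have hkn : (x⁻¹ * y) ^ (Nat.card σ.ker) = 1 := by
    have h := pow_card_eq_one' (G := σ.ker) (x := ⟨x⁻¹ * y, hk⟩)
    have h2 := congrArg (Subtype.val) h
    simpa using h2
  have h1 : orderOf (x⁻¹ * y) ∣ Nat.gcd (Nat.card σ.ker) m :=
    Nat.dvd_gcd (orderOf_dvd_of_pow_eq_one hkn) (orderOf_dvd_of_pow_eq_one hym)
  rw [hcop.gcd_eq_one, Nat.dvd_one, orderOf_eq_one_iff] at h1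
  exact (inv_mul_eq_one.mp h1)

end Cfsg.Agent.Lib.Helper6.M22Mult
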