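import Cfsg.Agent.Lib.Helper6.M22MultCoverDefs

/-!
# S2036-[G2] (helper6's M22 multiplier front): perfectness from conjugation relators (helper11)

If every lift generator `x = γ i` (`i < n`) has `x ^ ord_i = 1` and satisfies a conjugation relator
`u x^a u⁻¹ = v x^b v⁻¹` with `a * m ≡ b * m + 1 (mod ord_i)`, then `x` dies in the abelianisation; the
remaining generators are words in the lifts; so a group generated by all of them is perfect.
-/

set_option autoImplicit false

namespace Cfsg.Agent.Lib.Helper6.M22Mult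

open Cfsg Cfsg.H5.TCk

namespace H11G2

/-- in an abelian group: `x ^ o = 1`, `x ^ a = x ^ b` and `a * m ≡ b * m + 1 (mod o)` give `x = 1` -/
theorem eq_one_of_pow {B : Type*} [CommGroup B] (x : B) (o a b m : ℕ) (ho : x ^ o = 1)
    (hab : x ^ a = x ^ b) (hm : (a * m) % o = (b * m + 1) % o) : x = 1 := by
  have hmod : ∀ k : ℕ, x ^ k = x ^ (k % o) := fun k => by
    conv_lhs => rw [← Nat.mod_add_div k o]
    rw [pow_add, pow_mul, ho, one_pow, mul_one]
  have h1 : x ^ (a * m) = x ^ (b * m + 1) := by rw [hmod (a * m), hm, ← hmod]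
  rw [pow_mul, hab, ← pow_mul, pow_succ] at h1
  exact left_eq_mul.mp h1

/-- conjugation disappears in an abelian group -/
theorem conj_cancel {B : Type*} [CommGroup B] (U X V Y : B) :
    U * X * U⁻¹ * (V * Y * V⁻¹)⁻¹ = X * Y⁻¹ := by
  rw [mul_comm U X, mul_inv_cancel_right, mul_comm V Y, mul_inv_cancel_right]

end H11G2

open H11G2 in
/-- **[G2]** perfectness from conjugation relators -/
theorem commutator_eq_top_of_conj {Γ : Type*} [Group Γ] (γ : ℕ → Γ) (n : ℕ) (ord : List ℕ)
    (cen : List (List ℕ))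
    (hgen : Subgroup.closure (Set.range fun i : Fin (n + cen.length) => γ i.val) = ⊤)
    (hord : ∀ i < n, γ i ^ ord.getD i 0 = 1)
    (hcen : ∀ j < cen.length, (∀ l ∈ cen.getD j [], l < 2 * n) ∧
      ev γ (cen.getD j [] ++ [2 * (n + j) + 1]) = 1)
    (cj : ℕ → CRel) (m : ℕ → ℕ)
    (hcj : ∀ i < n, (cj i).g = i ∧ ev γ (cj i).word = 1 ∧
      ((cj i).a * m i) % ord.getD i 0 = ((cj i).b * m i + 1) % ord.getD i 0) :
    commutator Γ = ⊤ := by
  classical
  have hker : (Abelianization.of : Γ →* Abelianization Γ).ker = commutator Γ :=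
    Abelianization.ker_of Γ
  generalize hπ : (Abelianization.of : Γ →* Abelianization Γ) = π at hker
  -- the lifts die in the abelianisation
  have hlift : ∀ i < n, π (γ i) = 1 := by
    intro i hi
    obtain ⟨hg, hw, hm⟩ := hcj i hi
    have h1 : π (ev γ (cj i).word) = 1 := by rw [hw, map_one]
    unfold CRel.word CRel.lhs CRel.rhs at h1
    rw [ev_append, ev_winv, ev_append, ev_append, ev_append, ev_append, ev_winv, ev_winv,
      ev_replicate_even, ev_replicate_even, hg] at h1
    simp only [map_mul, map_inv, map_pow] at h1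
    rw [conj_cancel] at h1
    have hab : π (γ i) ^ (cj i).a = π (γ i) ^ (cj i).b := mul_inv_eq_one.mp h1
    exact eq_one_of_pow (π (γ i)) (ord.getD i 0) _ _ (m i)
      (by rw [← map_pow, hord i hi, map_one]) hab hm
  have hliftK : ∀ i < n, γ i ∈ π.ker := fun i hi => MonoidHom.mem_ker.mpr (hlift i hi)
  -- the central generators are words in the lifts
  have hcenK : ∀ j < cen.length, γ (n + j) ∈ π.ker := by
    intro j hj
    obtain ⟨hl, hw⟩ := hcen j hj
    rw [ev_append] at hw
    have h2 : ev γ [2 * (n + j) + 1] = (γ (n + j))⁻¹ := by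
      simp only [ev, mul_one, gl_odd]
    rw [h2, mul_inv_eq_one] at hw
    rw [← hw]
    exact Cfsg.H5.StemTC.ev_mem γ π.ker n hliftK _
      (List.all_eq_true.mpr fun l hl' => decide_eq_true (hl l hl'))
  rw [← hker, eq_top_iff, ← hgen, Subgroup.closure_le]
  rintro x ⟨i, rfl⟩
  by_cases hi : i.val < n
  · exact hliftK _ hi
  · have hj : i.val - n < cen.length := by
      have := i.isLt
      omega
    have := hcenK _ hj
    rwa [Nat.add_sub_cancel' (Nat.le_of_not_lt hi)] at this

end Cfsg.Agent.Lib.Helper6.M22Mult
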