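import Mathlib
import Cfsg.Agent.Lib.Helper22.MillerA

/-!
# Marggraf's theorem, part A: flats (Jordan complements), images, restriction groups
-/

set_option autoImplicit false

namespace Cfsg.Agent.Lib.Helper11.Marg

open Equiv Equiv.Perm MulAction

variable {Ω : Type*} [Fintype Ω] [DecidableEq Ω]

/-- `D` is a flat (Jordan complement) for `G`: the pointwise stabilizer of `D` is transitive
off `D`. -/
def Flat (G : Subgroup (Perm Ω)) (D : Finset Ω) : Prop :=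
  ∀ x, x ∉ D → ∀ y, y ∉ D → ∃ g ∈ G, (∀ z ∈ D, g z = z) ∧ g x = y

theorem Flat.inter {G : Subgroup (Perm Ω)} {D₁ D₂ : Finset Ω} (h₁ : Flat G D₁) (h₂ : Flat G D₂)
    {x₀ : Ω} (hx₁ : x₀ ∉ D₁) (hx₂ : x₀ ∉ D₂) : Flat G (D₁ ∩ D₂) := by
  have key : ∀ x, x ∉ D₁ ∩ D₂ → ∃ g ∈ G, (∀ z ∈ D₁ ∩ D₂, g z = z) ∧ g x = x₀ := by
    intro x hx
    by_cases hx1 : x ∈ D₁
    · have hx2 : x ∉ D₂ := fun h => hx (Finset.mem_inter.mpr ⟨hx1, h⟩)
      obtain ⟨g, hgG, hg, hgx⟩ := h₂ x hx2 x₀ hx₂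
      exact ⟨g, hgG, fun z hz => hg z (Finset.mem_inter.mp hz).2, hgx⟩
    · obtain ⟨g, hgG, hg, hgx⟩ := h₁ x hx1 x₀ hx₁
      exact ⟨g, hgG, fun z hz => hg z (Finset.mem_inter.mp hz).1, hgx⟩
  intro x hx y hy
  obtain ⟨g, hgG, hg, hgx⟩ := key x hx
  obtain ⟨h, hhG, hh, hhy⟩ := key y hy
  refine ⟨h⁻¹ * g, G.mul_mem (G.inv_mem hhG) hgG, ?_, ?_⟩
  · intro z hz
    rw [Perm.mul_apply, hg z hz, Perm.inv_eq_iff_eq, hh z hz]
  · rw [Perm.mul_apply, hgx, Perm.inv_eq_iff_eq, hhy]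

theorem inv_app (g : Perm Ω) (y : Ω) : g⁻¹ (g y) = y := g.symm_apply_apply y

theorem app_inv (g : Perm Ω) (y : Ω) : g (g⁻¹ y) = y := g.apply_symm_apply y

/-- image of a finset under a permutation -/
def im (g : Perm Ω) (D : Finset Ω) : Finset Ω := D.map g.toEmbedding

theorem mem_im {g : Perm Ω} {D : Finset Ω} {y : Ω} : y ∈ im g D ↔ g⁻¹ y ∈ D := by
  unfold im
  rw [Finset.mem_map_equiv]
  rfl

theorem apply_mem_im {g : Perm Ω} {D : Finset Ω} {y : Ω} : g y ∈ im g D ↔ y ∈ D := by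
  rw [mem_im, inv_app]

@[simp] theorem card_im (g : Perm Ω) (D : Finset Ω) : (im g D).card = D.card := by
  unfold im
  exact Finset.card_map _

theorem im_mul (g h : Perm Ω) (D : Finset Ω) : im (g * h) D = im g (im h D) := by
  ext y
  simp only [mem_im, mul_inv_rev, Perm.mul_apply]

@[simp] theorem im_one (D : Finset Ω) : im (1 : Perm Ω) D = D := by
  ext y
  simp [mem_im]

theorem im_inter (g : Perm Ω) (D E : Finset Ω) : im g (D ∩ E) = im g D ∩ im g E := by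
  ext y
  simp only [mem_im, Finset.mem_inter]

theorem im_sdiff (g : Perm Ω) (D E : Finset Ω) : im g (D \ E) = im g D \ im g E := by
  ext y
  simp only [mem_im, Finset.mem_sdiff]

theorem im_subset {g : Perm Ω} {D E : Finset Ω} (h : D ⊆ E) : im g D ⊆ im g E := by
  intro y hy
  rw [mem_im] at hy ⊢
  exact h hy

theorem im_eq_self_of_fix {g : Perm Ω} {D : Finset Ω} (h : ∀ z ∈ D, g z = z) : im g D = D := by
  have hsub : D ⊆ im g D := by
    intro z hz
    rw [mem_im]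
    have : g⁻¹ z = z := by rw [Perm.inv_eq_iff_eq, h z hz]
    rw [this]; exact hz
  exact (Finset.eq_of_subset_of_card_le hsub (by simp)).symm

theorem stab_iff {g : Perm Ω} {S : Finset Ω} : (∀ a, g a ∈ S ↔ a ∈ S) ↔ im g S = S := by
  constructor
  · intro h
    ext y
    rw [mem_im]
    have := h (g⁻¹ y)
    rw [app_inv] at this
    exact this.symm
  · intro h a
    rw [← apply_mem_im (g := g) (D := S) (y := a), h]

theorem Flat.im {G : Subgroup (Perm Ω)} {D : Finset Ω} (h : Flat G D) {g : Perm Ω} (hg : g ∈ G) :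
    Flat G (im g D) := by
  intro x hx y hy
  have hx' : g⁻¹ x ∉ D := fun hm => hx (mem_im.mpr hm)
  have hy' : g⁻¹ y ∉ D := fun hm => hy (mem_im.mpr hm)
  obtain ⟨k, hkG, hk, hkx⟩ := h _ hx' _ hy'
  refine ⟨g * k * g⁻¹, G.mul_mem (G.mul_mem hg hkG) (G.inv_mem hg), ?_, ?_⟩
  · intro z hz
    have hz' : g⁻¹ z ∈ D := mem_im.mp hz
    rw [Perm.mul_apply, Perm.mul_apply, hk _ hz', app_inv]
  · rw [Perm.mul_apply, Perm.mul_apply, hkx, app_inv]

/-- two flats whose union is not everything (by a cardinality count) have a flat intersection -/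
theorem Flat.inter_of_card {G : Subgroup (Perm Ω)} {D₁ D₂ : Finset Ω} (h₁ : Flat G D₁)
    (h₂ : Flat G D₂) (hc : D₁.card + D₂.card < Fintype.card Ω + (D₁ ∩ D₂).card) :
    Flat G (D₁ ∩ D₂) := by
  have hu : (D₁ ∪ D₂).card < Fintype.card Ω := by
    have := Finset.card_union_add_card_inter D₁ D₂
    omega
  have : ∃ x₀, x₀ ∉ D₁ ∪ D₂ := by
    by_contra hcon
    push Not at hcon
    have : D₁ ∪ D₂ = Finset.univ := Finset.eq_univ_iff_forall.mpr hcon
    rw [this, Finset.card_univ] at hu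
    exact lt_irrefl _ hu
  obtain ⟨x₀, hx₀⟩ := this
  rw [Finset.mem_union, not_or] at hx₀
  exact h₁.inter h₂ hx₀.1 hx₀.2

/-- the group induced on an invariant finset by its setwise stabilizer -/
def restr (G : Subgroup (Perm Ω)) (S : Finset Ω) : Subgroup (Perm S) where
  carrier := {σ | ∃ g ∈ G, ∃ h : ∀ a, g a ∈ S ↔ a ∈ S, g.subtypePerm h = σ}
  mul_mem' := by
    rintro _ _ ⟨g1, hg1, h1, rfl⟩ ⟨g2, hg2, h2, rfl⟩
    exact ⟨g1 * g2, G.mul_mem hg1 hg2, _, (subtypePerm_mul g1 g2 h1 h2).symm⟩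
  one_mem' := ⟨1, G.one_mem, fun _ => Iff.rfl, rfl⟩
  inv_mem' := by
    rintro _ ⟨g, hg, h, rfl⟩
    exact ⟨g⁻¹, G.inv_mem hg, _, (inv_subtypePerm g h).symm⟩

theorem mem_restr {G : Subgroup (Perm Ω)} {S : Finset Ω} {σ : Perm S} :
    σ ∈ restr G S ↔ ∃ g ∈ G, ∃ h : ∀ a, g a ∈ S ↔ a ∈ S, g.subtypePerm h = σ := Iff.rfl

/-- a permutation supported in `S` whose restriction to `S` is a three-cycle is a three-cycle -/
theorem threeCycle_lift {S : Finset Ω} {g : Perm Ω} (h : ∀ a, g a ∈ S ↔ a ∈ S)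
    (hfix : ∀ z, z ∉ S → g z = z) (h3 : (g.subtypePerm h).IsThreeCycle) : g.IsThreeCycle := by
  have h2 : ∀ x, g x ≠ x → x ∈ S := fun x hx => by
    by_contra hxS
    exact hx (hfix x hxS)
  have e : ofSubtype (g.subtypePerm h) = g := ofSubtype_subtypePerm h h2
  rw [← e]
  unfold IsThreeCycle at h3 ⊢
  rw [cycleType_ofSubtype]
  exact h3

/-- two-transitivity of the induced group gives primitivity -/
theorem restr_prim (G : Subgroup (Perm Ω)) (S : Finset Ω)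
    (h2 : ∀ a ∈ S, ∀ b ∈ S, ∀ c ∈ S, ∀ d ∈ S, a ≠ b → c ≠ d →
      ∃ g ∈ G, im g S = S ∧ g a = c ∧ g b = d) : IsPreprimitive (restr G S) S := by
  apply isPreprimitive_of_is_two_pretransitive
  rw [is_two_pretransitive_iff]
  intro a b c d hab hcd
  obtain ⟨g, hg, hgS, hga, hgb⟩ := h2 a a.2 b b.2 c c.2 d d.2
    (fun h => hab (Subtype.ext h)) (fun h => hcd (Subtype.ext h))
  refine ⟨⟨g.subtypePerm (stab_iff.mpr hgS), ⟨g, hg, _, rfl⟩⟩, ?_, ?_⟩
  · apply Subtype.ext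
    exact hga
  · apply Subtype.ext
    exact hgb

end Cfsg.Agent.Lib.Helper11.Marg
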