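import Mathlib
import Cfsg.Agent.Lib.Helper11.MargA

/-!
# Marggraf's theorem, part B: conjugates of a large flat
-/

set_option autoImplicit false

namespace Cfsg.Agent.Lib.Helper11.Marg

open Equiv Equiv.Perm MulAction

variable {Ω : Type*} [Fintype Ω] [DecidableEq Ω]

/-- Conjugates of a flat `Δ` (with `2|Δ| ≤ n+1`) through a nonempty flat `F` are conjugate under
the pointwise stabilizer of `F`. -/
theorem conj_trans (G : Subgroup (Perm Ω)) (Δ : Finset Ω) (hΔ : Flat G Δ)
    (hcard : 2 * Δ.card ≤ Fintype.card Ω + 1) :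
    ∀ k : ℕ, ∀ F : Finset Ω, Flat G F → F.Nonempty → Δ.card ≤ F.card + k →
      ∀ g₁ ∈ G, ∀ g₂ ∈ G, F ⊆ im g₁ Δ → F ⊆ im g₂ Δ →
        ∃ v ∈ G, (∀ z ∈ F, v z = z) ∧ im v (im g₁ Δ) = im g₂ Δ := by
  intro k
  induction k with
  | zero =>
    intro F hF hFne hk g₁ hg₁ g₂ hg₂ h1 h2
    have e1 : F = im g₁ Δ := Finset.eq_of_subset_of_card_le h1 (by simp; omega)
    have e2 : F = im g₂ Δ := Finset.eq_of_subset_of_card_le h2 (by simp; omega)
    exact ⟨1, G.one_mem, fun z _ => rfl, by rw [im_one, ← e1, ← e2]⟩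
  | succ k ih =>
    intro F hF hFne hk g₁ hg₁ g₂ hg₂ h1 h2
    by_cases hFD : F.card = Δ.card
    · have e1 : F = im g₁ Δ := Finset.eq_of_subset_of_card_le h1 (by simp; omega)
      have e2 : F = im g₂ Δ := Finset.eq_of_subset_of_card_le h2 (by simp; omega)
      exact ⟨1, G.one_mem, fun z _ => rfl, by rw [im_one, ← e1, ← e2]⟩
    · have hlt : F.card < Δ.card := by
        have := Finset.card_le_card h1
        simp at this
        omega
      obtain ⟨y1, hy1D, hy1F⟩ : ∃ y, y ∈ im g₁ Δ ∧ y ∉ F := by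
        by_contra hcon
        push Not at hcon
        have : im g₁ Δ ⊆ F := fun y hy => hcon y hy
        have := Finset.card_le_card this
        simp at this
        omega
      obtain ⟨y2, hy2D, hy2F⟩ : ∃ y, y ∈ im g₂ Δ ∧ y ∉ F := by
        by_contra hcon
        push Not at hcon
        have : im g₂ Δ ⊆ F := fun y hy => hcon y hy
        have := Finset.card_le_card this
        simp at this
        omega
      obtain ⟨u, huG, hu, huy⟩ := hF y1 hy1F y2 hy2F
      have huinv : ∀ z ∈ F, u⁻¹ z = z := fun z hz => by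
        rw [Perm.inv_eq_iff_eq, hu z hz]
      -- the new flat
      have hsub : insert y2 F ⊆ im (u * g₁) Δ ∩ im g₂ Δ := by
        intro z hz
        rw [Finset.mem_insert] at hz
        rw [Finset.mem_inter]
        rcases hz with rfl | hz
        · refine ⟨?_, hy2D⟩
          rw [im_mul, mem_im]
          have : u⁻¹ z = y1 := by rw [Perm.inv_eq_iff_eq, huy]
          rw [this]; exact hy1D
        · refine ⟨?_, h2 hz⟩
          rw [im_mul, mem_im, huinv z hz]
          exact h1 hz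
      have hcins : (insert y2 F).card = F.card + 1 := Finset.card_insert_of_notMem hy2F
      have hcF'' : F.card + 1 ≤ (im (u * g₁) Δ ∩ im g₂ Δ).card := by
        rw [← hcins]; exact Finset.card_le_card hsub
      have hFpos : 0 < F.card := Finset.card_pos.mpr hFne
      have hflat : Flat G (im (u * g₁) Δ ∩ im g₂ Δ) := by
        apply Flat.inter_of_card (hΔ.im (G.mul_mem huG hg₁)) (hΔ.im hg₂)
        simp only [card_im]
        omega
      have hne'' : (im (u * g₁) Δ ∩ im g₂ Δ).Nonempty :=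
        ⟨y2, hsub (Finset.mem_insert_self _ _)⟩
      obtain ⟨v, hvG, hv, hvim⟩ := ih _ hflat hne'' (by omega) (u * g₁) (G.mul_mem huG hg₁)
        g₂ hg₂ Finset.inter_subset_left Finset.inter_subset_right
      refine ⟨v * u, G.mul_mem hvG huG, ?_, ?_⟩
      · intro z hz
        rw [Perm.mul_apply, hu z hz]
        exact hv z (hsub (Finset.mem_insert_of_mem hz))
      · rw [im_mul, ← im_mul u g₁]
        exact hvim

/-- two-point transitivity hypotheses -/
def T2 (G : Subgroup (Perm Ω)) : Prop :=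
  ∀ a b c d : Ω, a ≠ b → c ≠ d → ∃ g ∈ G, g a = c ∧ g b = d

/-- the setwise stabilizer of `Δ` is two-transitive on `Δ` -/
theorem stab_two_trans (G : Subgroup (Perm Ω)) (Δ : Finset Ω) (hΔ : Flat G Δ)
    (hcard : 2 * Δ.card ≤ Fintype.card Ω + 1)
    (hpair : ∀ a b : Ω, a ≠ b → Flat G {a, b}) (h2 : T2 G) :
    ∀ a ∈ Δ, ∀ b ∈ Δ, ∀ c ∈ Δ, ∀ d ∈ Δ, a ≠ b → c ≠ d →
      ∃ g ∈ G, im g Δ = Δ ∧ g a = c ∧ g b = d := by
  intro a ha b hb c hc d hd hab hcd
  obtain ⟨g0, hg0, hga, hgb⟩ := h2 a b c d hab hcd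
  have h1 : ({c, d} : Finset Ω) ⊆ im g0 Δ := by
    intro z hz
    rw [Finset.mem_insert, Finset.mem_singleton] at hz
    rcases hz with rfl | rfl
    · rw [← hga, apply_mem_im]; exact ha
    · rw [← hgb, apply_mem_im]; exact hb
  have h2' : ({c, d} : Finset Ω) ⊆ im 1 Δ := by
    rw [im_one]
    intro z hz
    rw [Finset.mem_insert, Finset.mem_singleton] at hz
    rcases hz with rfl | rfl
    · exact hc
    · exact hd
  obtain ⟨v, hvG, hv, hvim⟩ := conj_trans G Δ hΔ hcard Δ.card {c, d} (hpair c d hcd)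
    ⟨c, Finset.mem_insert_self _ _⟩ (by omega) g0 hg0 1 G.one_mem h1 h2'
  refine ⟨v * g0, G.mul_mem hvG hg0, ?_, ?_, ?_⟩
  · rw [im_mul, hvim, im_one]
  · rw [Perm.mul_apply, hga]
    exact hv c (Finset.mem_insert_self _ _)
  · rw [Perm.mul_apply, hgb]
    exact hv d (Finset.mem_insert_of_mem (Finset.mem_singleton_self _))

/-- a maximal flat properly inside `Δ` with at least two points -/
structure MaxSub (G : Subgroup (Perm Ω)) (Δ F : Finset Ω) : Prop where
  flat : Flat G F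
  sub : F ⊆ Δ
  ne : F ≠ Δ
  two : 2 ≤ F.card
  max : ∀ F' : Finset Ω, Flat G F' → F ⊆ F' → F' ⊆ Δ → F' = F ∨ F' = Δ

theorem exists_maxSub (G : Subgroup (Perm Ω)) (Δ : Finset Ω) (h3 : 3 ≤ Δ.card)
    (hpair : ∀ a b : Ω, a ≠ b → Flat G {a, b}) : ∃ F, MaxSub G Δ F := by
  classical
  let C : Finset (Finset Ω) := Δ.powerset.filter (fun F' => Flat G F' ∧ F' ≠ Δ ∧ 2 ≤ F'.card)
  have hCne : C.Nonempty := by
    obtain ⟨a, ha, b, hb, hab⟩ := Finset.one_lt_card.mp (by omega : 1 < Δ.card)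
    refine ⟨{a, b}, ?_⟩
    rw [Finset.mem_filter, Finset.mem_powerset]
    refine ⟨?_, hpair a b hab, ?_, ?_⟩
    · intro z hz
      rw [Finset.mem_insert, Finset.mem_singleton] at hz
      rcases hz with rfl | rfl
      · exact ha
      · exact hb
    · intro h
      have : ({a, b} : Finset Ω).card = 2 := Finset.card_pair hab
      rw [h] at this
      omega
    · rw [Finset.card_pair hab]
  obtain ⟨F, hFC, hFmax⟩ := Finset.exists_max_image C Finset.card hCne
  rw [Finset.mem_filter, Finset.mem_powerset] at hFC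
  obtain ⟨hFsub, hFflat, hFne, hF2⟩ := hFC
  refine ⟨F, hFflat, hFsub, hFne, hF2, ?_⟩
  intro F' hF'flat hFF' hF'Δ
  by_cases h : F' = Δ
  · exact Or.inr h
  · left
    have hF'C : F' ∈ C := by
      rw [Finset.mem_filter, Finset.mem_powerset]
      exact ⟨hF'Δ, hF'flat, h, le_trans hF2 (Finset.card_le_card hFF')⟩
    have := hFmax F' hF'C
    exact (Finset.eq_of_subset_of_card_le hFF' this).symm

theorem MaxSub.dichotomy {G : Subgroup (Perm Ω)} {Δ F : Finset Ω} (hM : MaxSub G Δ F)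
    (hΔ : Flat G Δ) (hcard : 2 * Δ.card ≤ Fintype.card Ω + 1) {u : Perm Ω} (hu : u ∈ G)
    (hfix : ∀ z ∈ F, u z = z) : im u Δ = Δ ∨ im u Δ ∩ Δ = F := by
  have hFsub : F ⊆ im u Δ ∩ Δ := by
    intro z hz
    rw [Finset.mem_inter]
    refine ⟨?_, hM.sub hz⟩
    rw [mem_im]
    have : u⁻¹ z = z := by rw [Perm.inv_eq_iff_eq, hfix z hz]
    rw [this]; exact hM.sub hz
  have hc := Finset.card_le_card hFsub
  have h2 := hM.two
  have hflat : Flat G (im u Δ ∩ Δ) := by
    apply Flat.inter_of_card (hΔ.im hu) hΔ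
    simp only [card_im]
    omega
  rcases hM.max _ hflat hFsub Finset.inter_subset_right with h | h
  · exact Or.inr h
  · left
    have : Δ ⊆ im u Δ := by
      intro z hz
      have : z ∈ im u Δ ∩ Δ := by rw [h]; exact hz
      exact (Finset.mem_inter.mp this).1
    exact (Finset.eq_of_subset_of_card_le this (by simp)).symm

theorem MaxSub.trans_off {G : Subgroup (Perm Ω)} {Δ F : Finset Ω} (hM : MaxSub G Δ F)
    (hΔ : Flat G Δ) (hcard : 2 * Δ.card ≤ Fintype.card Ω + 1) :
    ∀ y₁ ∈ Δ, y₁ ∉ F → ∀ y₂ ∈ Δ, y₂ ∉ F →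
      ∃ u ∈ G, im u Δ = Δ ∧ (∀ z ∈ F, u z = z) ∧ u y₁ = y₂ := by
  intro y₁ hy₁ hy₁F y₂ hy₂ hy₂F
  obtain ⟨u, huG, hu, huy⟩ := hM.flat y₁ hy₁F y₂ hy₂F
  rcases hM.dichotomy hΔ hcard huG hu with h | h
  · exact ⟨u, huG, h, hu, huy⟩
  · exfalso
    apply hy₂F
    rw [← h, Finset.mem_inter]
    refine ⟨?_, hy₂⟩
    rw [← huy, apply_mem_im]
    exact hy₁

/-- the translates of `Δ \ F` under the pointwise stabilizer of `F` partition the complement
of `F`; hence the divisibility. -/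
theorem MaxSub.dvd {G : Subgroup (Perm Ω)} {Δ F : Finset Ω} (hM : MaxSub G Δ F)
    (hΔ : Flat G Δ) (hcard : 2 * Δ.card ≤ Fintype.card Ω + 1) :
    (Δ.card - F.card) ∣ (Fintype.card Ω - F.card) := by
  classical
  let U : Finset (Perm Ω) := Finset.univ.filter (fun u => u ∈ G ∧ ∀ z ∈ F, u z = z)
  let P : Finset (Finset Ω) := U.image (fun u => im u Δ \ F)
  have hUmem : ∀ u, u ∈ U ↔ (u ∈ G ∧ ∀ z ∈ F, u z = z) := by
    intro u
    simp [U]
  -- each part has the same cardinality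
  have hFim : ∀ u ∈ U, F ⊆ im u Δ := by
    intro u hu z hz
    rw [hUmem] at hu
    rw [mem_im]
    have : u⁻¹ z = z := by rw [Perm.inv_eq_iff_eq, hu.2 z hz]
    rw [this]; exact hM.sub hz
  have hPcard : ∀ p ∈ P, p.card = Δ.card - F.card := by
    intro p hp
    obtain ⟨u, hu, rfl⟩ := Finset.mem_image.mp hp
    rw [Finset.card_sdiff_of_subset (hFim u hu), card_im]
  -- pairwise disjoint
  have hdisj : (P : Set (Finset Ω)).PairwiseDisjoint id := by
    intro p hp q hq hpq
    obtain ⟨u1, hu1, rfl⟩ := Finset.mem_image.mp hp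
    obtain ⟨u2, hu2, rfl⟩ := Finset.mem_image.mp hq
    have h1 := (hUmem u1).mp hu1
    have h2 := (hUmem u2).mp hu2
    have hfix : ∀ z ∈ F, (u2⁻¹ * u1) z = z := by
      intro z hz
      rw [Perm.mul_apply, h1.2 z hz, Perm.inv_eq_iff_eq, h2.2 z hz]
    have hmem : u2⁻¹ * u1 ∈ G := G.mul_mem (G.inv_mem h2.1) h1.1
    have hu1eq : im u1 Δ = im u2 (im (u2⁻¹ * u1) Δ) := by
      rw [← im_mul, mul_inv_cancel_left]
    rcases hM.dichotomy hΔ hcard hmem hfix with h | h
    · exfalso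
      apply hpq
      show im u1 Δ \ F = im u2 Δ \ F
      rw [hu1eq, h]
    · show Disjoint (im u1 Δ \ F) (im u2 Δ \ F)
      rw [Finset.disjoint_left]
      intro z hz1 hz2
      rw [Finset.mem_sdiff] at hz1 hz2
      apply hz1.2
      have hzi : u2⁻¹ z ∈ im (u2⁻¹ * u1) Δ ∩ Δ := by
        rw [Finset.mem_inter]
        constructor
        · have := hz1.1
          rw [hu1eq, mem_im] at this
          exact this
        · exact mem_im.mp hz2.1
      rw [h] at hzi
      have := h2.2 _ hzi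
      rw [app_inv] at this
      rw [this]; exact hzi
  -- covering
  have hcover : P.biUnion id = Fᶜ := by
    ext y
    rw [Finset.mem_biUnion, Finset.mem_compl]
    constructor
    · rintro ⟨p, hp, hy⟩
      obtain ⟨u, hu, rfl⟩ := Finset.mem_image.mp hp
      exact (Finset.mem_sdiff.mp hy).2
    · intro hyF
      obtain ⟨y0, hy0Δ, hy0F⟩ : ∃ y0, y0 ∈ Δ ∧ y0 ∉ F := by
        by_contra hcon
        push Not at hcon
        exact hM.ne (Finset.Subset.antisymm hM.sub (fun z hz => hcon z hz))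
      obtain ⟨u, huG, hu, huy⟩ := hM.flat y0 hy0F y hyF
      refine ⟨im u Δ \ F, Finset.mem_image.mpr ⟨u, (hUmem u).mpr ⟨huG, hu⟩, rfl⟩, ?_⟩
      show y ∈ im u Δ \ F
      rw [Finset.mem_sdiff]
      refine ⟨?_, hyF⟩
      rw [← huy, apply_mem_im]
      exact hy0Δ
  have hcount : (Fᶜ).card = P.card * (Δ.card - F.card) := by
    rw [← hcover, Finset.card_biUnion hdisj]
    rw [Finset.sum_congr rfl (fun p hp => by exact hPcard p hp), Finset.sum_const, smul_eq_mul]
  rw [Finset.card_compl] at hcount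
  exact Dvd.intro_left _ hcount.symm

end Cfsg.Agent.Lib.Helper11.Marg
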