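import Mathlib
import Cfsg.Agent.Lib.Helper11.MargB

/-!
# Marggraf's theorem, part C: transitivity utilities, the degenerate case, the final step
-/

set_option autoImplicit false

namespace Cfsg.Agent.Lib.Helper11.Marg

open Equiv Equiv.Perm MulAction
open Cfsg.Agent.Lib.Helper22.MillerT

variable {Ω : Type*} [Fintype Ω] [DecidableEq Ω]

theorem t2_of_three (G : Subgroup (Perm Ω)) (h3 : IsMultiplyPretransitive G Ω 3)
    (hn : 3 ≤ Fintype.card Ω) : T2 G := by
  have h2 : IsMultiplyPretransitive G Ω 2 :=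
    isMultiplyPretransitive_of_le (n := 3) (by norm_num) (by rw [Nat.card_eq_fintype_card]; exact hn)
  rw [is_two_pretransitive_iff] at h2
  intro a b c d hab hcd
  obtain ⟨g, h1, h2⟩ := h2 hab hcd
  exact ⟨g.1, g.2, h1, h2⟩

theorem flat_pair (G : Subgroup (Perm Ω)) (h3 : IsMultiplyPretransitive G Ω 3) :
    ∀ a b : Ω, a ≠ b → Flat G {a, b} := by
  intro a b hab x hx y hy
  have hTT : TT G 3 := TT_of_imp G 3 h3
  rw [Finset.mem_insert, Finset.mem_singleton, not_or] at hx hy
  have hS : ({a, b, x} : Finset Ω).card = 3 := by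
    rw [Finset.card_insert_of_notMem, Finset.card_pair (Ne.symm hx.2)]
    rw [Finset.mem_insert, Finset.mem_singleton, not_or]
    exact ⟨hab, Ne.symm hx.1⟩
  obtain ⟨σ, hσG, hσ⟩ := hTT {a, b, x} (fun z => if z = x then y else z) hS (by
    intro z1 hz1 z2 hz2 h
    simp only [Finset.coe_insert, Finset.coe_singleton, Set.mem_insert_iff,
      Set.mem_singleton_iff] at hz1 hz2
    by_cases h1 : z1 = x
    · by_cases h2 : z2 = x
      · rw [h1, h2]
      · simp only [h1, h2, if_true, if_false] at h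
        exfalso
        rcases hz2 with rfl | rfl | rfl
        · exact hy.1 h
        · exact hy.2 h
        · exact h2 rfl
    · by_cases h2 : z2 = x
      · simp only [h1, h2, if_true, if_false] at h
        exfalso
        rcases hz1 with rfl | rfl | rfl
        · exact hy.1 h.symm
        · exact hy.2 h.symm
        · exact h1 rfl
      · simpa only [h1, h2, if_false] using h)
  refine ⟨σ, hσG, ?_, ?_⟩
  · intro z hz
    rw [Finset.mem_insert, Finset.mem_singleton] at hz
    rcases hz with rfl | rfl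
    · have := hσ z (by simp)
      rw [this, if_neg (Ne.symm hx.1)]
    · have := hσ z (by simp)
      rw [this, if_neg (Ne.symm hx.2)]
  · have := hσ x (by simp)
    rw [this, if_pos rfl]

/-- The degenerate case: `Δ = F ∪ {y₀}` with both flats; then `G` is highly transitive. -/
theorem case_one (G : Subgroup (Perm Ω)) (hprim : IsPreprimitive G Ω) (Δ F : Finset Ω)
    (hΔ : Flat G Δ) (hF : Flat G F) (hsub : F ⊆ Δ) (hc : Δ.card = F.card + 1)
    (hn : Fintype.card Ω + 1 = 2 * Δ.card) (h2 : 2 ≤ F.card)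
    (hH : ∃ h ∈ G, h ≠ 1 ∧ ∀ z ∈ Δ, h z = z) : alternatingGroup Ω ≤ G := by
  classical
  -- the extra point
  obtain ⟨y0, hy0Δ, hy0F⟩ : ∃ y0, y0 ∈ Δ ∧ y0 ∉ F := by
    by_contra hcon
    push Not at hcon
    have : Δ ⊆ F := fun z hz => hcon z hz
    have := Finset.card_le_card this
    omega
  have hΔeq : ∀ z, z ∈ Δ → z ∈ F ∨ z = y0 := by
    intro z hz
    by_contra hcon
    push Not at hcon
    have hsub' : insert z (insert y0 F) ⊆ Δ := by
      intro w hw
      rw [Finset.mem_insert, Finset.mem_insert] at hw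
      rcases hw with rfl | rfl | hw
      · exact hz
      · exact hy0Δ
      · exact hsub hw
    have := Finset.card_le_card hsub'
    rw [Finset.card_insert_of_notMem, Finset.card_insert_of_notMem hy0F] at this
    · omega
    · rw [Finset.mem_insert, not_or]
      exact ⟨hcon.2, hcon.1⟩
  -- stabilizer of `F` and a further point is transitive on the rest
  have key : ∀ c p q : Ω, c ∉ F → p ∉ F → q ∉ F → p ≠ c → q ≠ c →
      ∃ w ∈ G, (∀ z ∈ F, w z = z) ∧ w c = c ∧ w p = q := by
    intro c p q hcF hpF hqF hpc hqc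
    obtain ⟨u, huG, hu, huy⟩ := hF y0 hy0F c hcF
    have huinv : ∀ z ∈ F, u⁻¹ z = z := fun z hz => by rw [Perm.inv_eq_iff_eq, hu z hz]
    have hnot : ∀ r : Ω, r ∉ F → r ≠ c → u⁻¹ r ∉ Δ := by
      intro r hrF hrc hmem
      rcases hΔeq _ hmem with h | h
      · apply hrF
        have := hu _ h
        rw [app_inv] at this
        rw [this]; exact h
      · apply hrc
        rw [← huy, ← h, app_inv]
    obtain ⟨w0, hw0G, hw0, hw0p⟩ := hΔ _ (hnot p hpF hpc) _ (hnot q hqF hqc)
    refine ⟨u * w0 * u⁻¹, G.mul_mem (G.mul_mem huG hw0G) (G.inv_mem huG), ?_, ?_, ?_⟩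
    · intro z hz
      rw [Perm.mul_apply, Perm.mul_apply, huinv z hz, hw0 z (hsub hz), hu z hz]
    · have : u⁻¹ c = y0 := by rw [Perm.inv_eq_iff_eq, huy]
      rw [Perm.mul_apply, Perm.mul_apply, this, hw0 y0 hy0Δ, huy]
    · rw [Perm.mul_apply, Perm.mul_apply, hw0p, app_inv]
  -- primitivity of the pointwise stabilizer of `F` off `F`
  have hprimF : IsPreprimitive (fixingSubgroup G (F : Set Ω))
      (SubMulAction.ofFixingSubgroup G (F : Set Ω)) := by
    apply isPreprimitive_of_is_two_pretransitive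
    rw [is_two_pretransitive_iff]
    rintro ⟨a, ha⟩ ⟨b, hb⟩ ⟨c, hc'⟩ ⟨d, hd⟩ hab hcd
    rw [SubMulAction.mem_ofFixingSubgroup_iff, Finset.mem_coe] at ha hb hc' hd
    have hab' : a ≠ b := fun h => hab (Subtype.ext h)
    have hcd' : c ≠ d := fun h => hcd (Subtype.ext h)
    obtain ⟨u1, hu1G, hu1, hu1a⟩ := hF a ha c hc'
    have hb1F : u1 b ∉ F := by
      intro hmem
      apply hb
      have h1 : u1 (u1 b) = u1 b := hu1 _ hmem
      have h2 : u1 b = b := u1.injective h1
      rw [← h2]; exact hmem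
    have hb1c : u1 b ≠ c := by
      intro h
      apply hab'
      apply u1.injective
      rw [hu1a, h]
    obtain ⟨w, hwG, hw, hwc, hwb⟩ := key c (u1 b) d hc' hb1F hd hb1c (Ne.symm hcd')
    have hmem : (⟨w * u1, G.mul_mem hwG hu1G⟩ : G) ∈ fixingSubgroup G (F : Set Ω) := by
      rw [mem_fixingSubgroup_iff]
      intro z hz
      rw [Finset.mem_coe] at hz
      show (w * u1) z = z
      rw [Perm.mul_apply, hu1 z hz, hw z hz]
    refine ⟨⟨⟨w * u1, G.mul_mem hwG hu1G⟩, hmem⟩, ?_, ?_⟩
    · apply Subtype.ext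
      show (w * u1) a = c
      rw [Perm.mul_apply, hu1a, hwc]
    · apply Subtype.ext
      show (w * u1) b = d
      rw [Perm.mul_apply, hwb]
  -- Jordan's theorem
  obtain ⟨m, hm⟩ : ∃ m, F.card = m + 1 := ⟨F.card - 1, by omega⟩
  have hsn : (F : Set Ω).ncard = m + 1 := by rw [Set.ncard_coe_finset, hm]
  have hsn' : m + 2 < Nat.card Ω := by rw [Nat.card_eq_fintype_card]; omega
  have hmp : IsMultiplyPreprimitive G Ω (m + 2) := hprim.isMultiplyPreprimitive hsn hsn' hprimF
  have hmt : IsMultiplyPretransitive G Ω (m + 2) :=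
    IsMultiplyPreprimitive.isMultiplyPretransitive G Ω (m + 2)
  obtain ⟨h, hhG, hh1, hhfix⟩ := hH
  have hsupp : h.support ⊆ Δᶜ := by
    intro z hz
    rw [Finset.mem_compl]
    intro hzΔ
    exact (Perm.mem_support.mp hz) (hhfix z hzΔ)
  have hsc : h.support.card ≤ Fintype.card Ω - Δ.card := by
    rw [← Finset.card_compl]
    exact Finset.card_le_card hsupp
  exact alt_le_of_small_support G (m + 2) (by omega) hmt (by omega) h hhG hh1 (by omega) (by omega)

end Cfsg.Agent.Lib.Helper11.Marg
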