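import Mathlib
import Cfsg.Agent.Lib.Helper11.MargC

/-!
# Marggraf's theorem, part D: the final step
If the setwise stabilizer of the flat `Δ` (`n = 2|Δ| - 1`) induces at least `Alt(Δ)` on `Δ`,
then `G` contains a three-cycle.
-/

set_option autoImplicit false

namespace Cfsg.Agent.Lib.Helper11.Marg

open Equiv Equiv.Perm MulAction

variable {Ω : Type*} [Fintype Ω] [DecidableEq Ω]

/-- elements of `G` supported inside `S` -/
def suppIn (G : Subgroup (Perm Ω)) (S : Finset Ω) : Subgroup (Perm Ω) where
  carrier := {k | k ∈ G ∧ ∀ z, z ∉ S → k z = z}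
  mul_mem' := by
    rintro a b ⟨ha, ha'⟩ ⟨hb, hb'⟩
    exact ⟨G.mul_mem ha hb, fun z hz => by rw [Perm.mul_apply, hb' z hz, ha' z hz]⟩
  one_mem' := ⟨G.one_mem, fun _ _ => rfl⟩
  inv_mem' := by
    rintro a ⟨ha, ha'⟩
    exact ⟨G.inv_mem ha, fun z hz => by rw [Perm.inv_eq_iff_eq, ha' z hz]⟩

theorem mem_suppIn {G : Subgroup (Perm Ω)} {S : Finset Ω} {k : Perm Ω} :
    k ∈ suppIn G S ↔ k ∈ G ∧ ∀ z, z ∉ S → k z = z := Iff.rfl

theorem stab_of_fix_compl {S : Finset Ω} {k : Perm Ω} (h : ∀ z, z ∉ S → k z = z) :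
    ∀ a, k a ∈ S ↔ a ∈ S := by
  intro a
  constructor
  · intro hka
    by_contra haS
    rw [h a haS] at hka
    exact haS hka
  · intro haS
    by_contra hka
    have h1 : k (k a) = k a := h _ hka
    have h2 : k a = a := k.injective h1
    rw [h2] at hka
    exact hka haS

/-- the setwise stabilizer -/
def stabF (G : Subgroup (Perm Ω)) (S : Finset Ω) : Subgroup (Perm Ω) where
  carrier := {g | g ∈ G ∧ ∀ a, g a ∈ S ↔ a ∈ S}
  mul_mem' := by
    rintro a b ⟨ha, ha'⟩ ⟨hb, hb'⟩
    exact ⟨G.mul_mem ha hb, fun z => by rw [Perm.mul_apply, ha', hb']⟩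
  one_mem' := ⟨G.one_mem, fun _ => Iff.rfl⟩
  inv_mem' := by
    rintro a ⟨ha, ha'⟩
    refine ⟨G.inv_mem ha, fun z => ?_⟩
    have := ha' (a⁻¹ z)
    rw [app_inv] at this
    exact this.symm

/-- restriction homomorphism -/
def resF (N : Subgroup (Perm Ω)) (S : Finset Ω) (h : ∀ g ∈ N, ∀ a, g a ∈ S ↔ a ∈ S) :
    N →* Perm S where
  toFun g := (g : Perm Ω).subtypePerm (h g g.2)
  map_one' := by
    ext x
    rfl
  map_mul' g₁ g₂ := by
    ext x
    rfl

theorem resF_apply (N : Subgroup (Perm Ω)) (S : Finset Ω)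
    (h : ∀ g ∈ N, ∀ a, g a ∈ S ↔ a ∈ S) (g : N) (x : S) :
    ((resF N S h g) x : Ω) = (g : Perm Ω) x := rfl

theorem final_step (G : Subgroup (Perm Ω)) (hprim : IsPreprimitive G Ω) (Δ : Finset Ω)
    (h5 : 5 ≤ Δ.card) (hn : Fintype.card Ω + 1 = 2 * Δ.card)
    (hH : ∃ h ∈ G, h ≠ 1 ∧ ∀ z ∈ Δ, h z = z)
    (hAlt : alternatingGroup Δ ≤ restr G Δ) : alternatingGroup Ω ≤ G := by
  classical
  have hcardΔ : Fintype.card Δ = Δ.card := Fintype.card_coe Δ
  by_cases hK : ∃ k ∈ G, k ≠ 1 ∧ ∀ z, z ∉ Δ → k z = z
  · -- Case 1: a nontrivial element supported in `Δ`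
    obtain ⟨k0, hk0G, hk01, hk0fix⟩ := hK
    have hnorm : ∀ σ ∈ restr G Δ, ∀ τ ∈ restr (suppIn G Δ) Δ,
        σ * τ * σ⁻¹ ∈ restr (suppIn G Δ) Δ := by
      rintro _ ⟨g, hg, hgS, rfl⟩ _ ⟨k, hk, hkS, rfl⟩
      have hmem : g * k * g⁻¹ ∈ suppIn G Δ := by
        refine ⟨G.mul_mem (G.mul_mem hg hk.1) (G.inv_mem hg), ?_⟩
        intro z hz
        have hz' : g⁻¹ z ∉ Δ := by
          intro hmem
          apply hz
          have := (hgS (g⁻¹ z)).mpr hmem
          rw [app_inv] at this
          exact this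
        rw [Perm.mul_apply, Perm.mul_apply, hk.2 _ hz', app_inv]
      refine ⟨g * k * g⁻¹, hmem, stab_of_fix_compl hmem.2, ?_⟩
      ext x
      rfl
    -- the alternating group is contained in the restriction of `suppIn`
    have hcard5 : 5 ≤ Nat.card Δ := by
      rw [Nat.card_eq_fintype_card, hcardΔ]; exact h5
    haveI : IsSimpleGroup (alternatingGroup Δ) := alternatingGroup.isSimpleGroup hcard5
    have hAM : alternatingGroup Δ ≤ restr (suppIn G Δ) Δ := by
      have hNormal : ((restr (suppIn G Δ) Δ).subgroupOf (alternatingGroup Δ)).Normal := by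
        constructor
        intro n hn a
        rw [Subgroup.mem_subgroupOf] at hn ⊢
        exact hnorm a.1 (hAlt a.2) n.1 hn
      rcases hNormal.eq_bot_or_eq_top with hbot | htop
      · exfalso
        rw [Subgroup.subgroupOf_eq_bot, Subgroup.disjoint_def] at hbot
        -- the restriction of k0
        have hk0S := stab_of_fix_compl hk0fix
        set τ0 : Perm Δ := k0.subtypePerm hk0S with hτ0
        have hτ0M : τ0 ∈ restr (suppIn G Δ) Δ := ⟨k0, ⟨hk0G, hk0fix⟩, hk0S, rfl⟩
        -- a moved point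
        obtain ⟨p0, hp0⟩ : ∃ z, k0 z ≠ z := by
          by_contra hcon
          push Not at hcon
          exact hk01 (Equiv.ext hcon)
        have hp0Δ : p0 ∈ Δ := by
          by_contra h
          exact hp0 (hk0fix p0 h)
        set p : Δ := ⟨p0, hp0Δ⟩ with hp
        set q : Δ := τ0 p with hq
        have hqp : q ≠ p := by
          intro h
          apply hp0
          have := congrArg Subtype.val h
          exact this
        obtain ⟨r, -, hr⟩ := Finset.exists_mem_notMem_of_card_lt_card
          (s := ({p, q} : Finset Δ)) (t := Finset.univ) (by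
            rw [Finset.card_univ, hcardΔ]
            have := Finset.card_le_two (a := p) (b := q)
            omega)
        obtain ⟨s, -, hs⟩ := Finset.exists_mem_notMem_of_card_lt_card
          (s := ({p, q, r} : Finset Δ)) (t := Finset.univ) (by
            rw [Finset.card_univ, hcardΔ]
            have := Finset.card_le_three (a := p) (b := q) (c := r)
            omega)
        simp only [Finset.mem_insert, Finset.mem_singleton, not_or] at hr hs
        set a : Perm Δ := swap p r * swap p s with ha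
        have haA : a ∈ alternatingGroup Δ := by
          rw [mem_alternatingGroup, ha, map_mul, sign_swap (Ne.symm hr.1),
            sign_swap (Ne.symm hs.1)]
          rfl
        have hap : a p = s := by
          rw [ha, Perm.mul_apply, swap_apply_left, swap_apply_of_ne_of_ne hs.1 hs.2.2]
        have haq : a q = q := by
          rw [ha, Perm.mul_apply, swap_apply_of_ne_of_ne hqp (Ne.symm hs.2.1),
            swap_apply_of_ne_of_ne hqp (Ne.symm hr.2)]
        have hcM : τ0 * a * τ0⁻¹ * a⁻¹ ∈ restr (suppIn G Δ) Δ := by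
          have h1 := hnorm a (hAlt haA) τ0⁻¹ (Subgroup.inv_mem _ hτ0M)
          have h2 := Subgroup.mul_mem _ hτ0M h1
          have e : τ0 * (a * τ0⁻¹ * a⁻¹) = τ0 * a * τ0⁻¹ * a⁻¹ := by group
          rw [e] at h2
          exact h2
        have hcA : τ0 * a * τ0⁻¹ * a⁻¹ ∈ alternatingGroup Δ := by
          apply Subgroup.mul_mem _ _ (Subgroup.inv_mem _ haA)
          exact (alternatingGroup.normal (α := Δ)).conj_mem a haA τ0
        have hc1 := hbot hcM hcA
        have hcomm : τ0 * a = a * τ0 := by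
          have : τ0 * a * τ0⁻¹ * a⁻¹ * (a * τ0) = a * τ0 := by rw [hc1, one_mul]
          rw [← this]
          group
        have h3 : τ0 (a p) = a (τ0 p) := by
          rw [← Perm.mul_apply, hcomm, Perm.mul_apply]
        rw [← hq, haq, hap] at h3
        -- τ0 s = q = τ0 p
        have : s = p := τ0.injective (h3.trans hq)
        exact hs.1 this
      · exact Subgroup.subgroupOf_eq_top.mp htop
    -- a three-cycle
    obtain ⟨p, -, -⟩ : ∃ p : Δ, p ∈ (Finset.univ : Finset Δ) ∧ True := by
      have : 0 < (Finset.univ : Finset Δ).card := by rw [Finset.card_univ, hcardΔ]; omega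
      obtain ⟨p, hp⟩ := Finset.card_pos.mp this
      exact ⟨p, hp, trivial⟩
    obtain ⟨r, -, hr⟩ := Finset.exists_mem_notMem_of_card_lt_card
      (s := ({p} : Finset Δ)) (t := Finset.univ) (by
        rw [Finset.card_univ, hcardΔ, Finset.card_singleton]; omega)
    obtain ⟨s, -, hs⟩ := Finset.exists_mem_notMem_of_card_lt_card
      (s := ({p, r} : Finset Δ)) (t := Finset.univ) (by
        rw [Finset.card_univ, hcardΔ]
        have := Finset.card_le_two (a := p) (b := r)
        omega)
    simp only [Finset.mem_insert, Finset.mem_singleton, not_or] at hr hs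
    have h3c : (swap p r * swap p s).IsThreeCycle :=
      isThreeCycle_swap_mul_swap_same (Ne.symm hr) (Ne.symm hs.1) (Ne.symm hs.2)
    have hmemA : swap p r * swap p s ∈ alternatingGroup Δ := h3c.mem_alternatingGroup
    obtain ⟨k, hk, hkS, hkeq⟩ := hAM hmemA
    have hk3 : k.IsThreeCycle := by
      apply threeCycle_lift hkS hk.2
      rw [hkeq]
      exact h3c
    exact alternatingGroup_le_of_isPreprimitive_of_isThreeCycle_mem hprim hk3 hk.1
  · -- Case 2: counting
    exfalso
    push Not at hK
    have hNΔ : ∀ g ∈ stabF G Δ, ∀ a, g a ∈ Δ ↔ a ∈ Δ := fun g hg => hg.2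
    have hNΓ : ∀ g ∈ stabF G Δ, ∀ a, g a ∈ Δᶜ ↔ a ∈ Δᶜ := by
      intro g hg a
      rw [Finset.mem_compl, Finset.mem_compl, hg.2 a]
    have hinj : Function.Injective (resF (stabF G Δ) Δᶜ hNΓ) := by
      rw [injective_iff_map_eq_one]
      intro g hg
      by_contra hne
      obtain ⟨z, hz, hgz⟩ := hK g.1 g.2.1 (fun h => hne (Subtype.ext h))
      apply hgz
      have := congrArg (fun σ : Perm (Δᶜ : Finset Ω) =>
        ((σ ⟨z, Finset.mem_compl.mpr hz⟩ : (Δᶜ : Finset Ω)) : Ω)) hg
      exact this
    have hcardN : Nat.card (stabF G Δ) ≤ (Δ.card - 1).factorial := by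
      have h1 := Nat.card_le_card_of_injective _ hinj
      have h2 : Nat.card (Perm (Δᶜ : Finset Ω)) = (Δ.card - 1).factorial := by
        rw [Nat.card_perm, Nat.card_eq_fintype_card, Fintype.card_coe, Finset.card_compl]
        have : Fintype.card Ω - Δ.card = Δ.card - 1 := by omega
        rw [this]
      rw [h2] at h1
      exact h1
    -- kernel and range of the restriction to Δ
    set ρ := resF (stabF G Δ) Δ hNΔ with hρ
    have hker : 2 ≤ Nat.card ρ.ker := by
      obtain ⟨h, hhG, hh1, hhfix⟩ := hH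
      have hhS : ∀ a, h a ∈ Δ ↔ a ∈ Δ := by
        intro a
        constructor
        · intro ha
          by_contra haΔ
          have h1 : h (h a) = h a := hhfix _ ha
          have h2 : h a = a := h.injective h1
          rw [h2] at ha
          exact haΔ ha
        · intro ha
          rw [hhfix a ha]; exact ha
      have hmem : (⟨h, ⟨hhG, hhS⟩⟩ : stabF G Δ) ∈ ρ.ker := by
        rw [MonoidHom.mem_ker]
        ext x
        exact hhfix x.1 x.2
      have hne : ρ.ker ≠ ⊥ := by
        intro hbot
        rw [hbot, Subgroup.mem_bot] at hmem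
        apply hh1
        exact congrArg (fun g : stabF G Δ => (g : Perm Ω)) hmem
      have := (Subgroup.one_lt_card_iff_ne_bot (H := ρ.ker)).mpr hne
      omega
    have hrange : Nat.card (alternatingGroup Δ) ≤ Nat.card ρ.range := by
      apply Subgroup.card_le_of_le
      intro σ hσ
      obtain ⟨g, hg, hgS, rfl⟩ := hAlt hσ
      exact ⟨⟨g, ⟨hg, hgS⟩⟩, rfl⟩
    have hprod : Nat.card ρ.ker * Nat.card ρ.range = Nat.card (stabF G Δ) := by
      rw [← Subgroup.index_ker, Subgroup.card_mul_index]
    haveI : Nontrivial Δ := by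
      rw [← Fintype.one_lt_card_iff_nontrivial, hcardΔ]; omega
    have hA : 2 * Nat.card (alternatingGroup Δ) = (Δ.card).factorial := by
      rw [two_mul_nat_card_alternatingGroup, Nat.card_perm, Nat.card_eq_fintype_card, hcardΔ]
    have hfac : (Δ.card - 1).factorial < (Δ.card).factorial := by
      apply Nat.factorial_lt_of_lt <;> omega
    have : (Δ.card).factorial ≤ Nat.card (stabF G Δ) := by
      rw [← hprod, ← hA]
      exact Nat.mul_le_mul hker hrange
    omega

end Cfsg.Agent.Lib.Helper11.Marg
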