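import Mathlib
import Cfsg.Agent.Lib.Helper11.MargD
import Cfsg.Agent.S3707

/-!
# Marggraf's theorem for primitive permutation groups

A primitive subgroup `G ≤ Perm Ω` having a Jordan set `Γ` with `1 < |Γ| < n/2`
contains the alternating group.
-/

set_option autoImplicit false

namespace Cfsg.Agent.Lib.Helper11.Marg

open Equiv Equiv.Perm MulAction
open Cfsg.Agent.Lib.Helper22.MillerT

universe u

theorem t3_of_three {Ω : Type*} [Fintype Ω] [DecidableEq Ω] (G : Subgroup (Perm Ω))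
    (h3 : IsMultiplyPretransitive G Ω 3) :
    ∀ a1 a2 a3 b1 b2 b3 : Ω, a1 ≠ a2 → a1 ≠ a3 → a2 ≠ a3 → b1 ≠ b2 → b1 ≠ b3 → b2 ≠ b3 →
      ∃ g ∈ G, g a1 = b1 ∧ g a2 = b2 ∧ g a3 = b3 := by
  intro a1 a2 a3 b1 b2 b3 ha12 ha13 ha23 hb12 hb13 hb23
  have hTT : TT G 3 := TT_of_imp G 3 h3
  have hS : ({a1, a2, a3} : Finset Ω).card = 3 := by
    rw [Finset.card_insert_of_notMem, Finset.card_pair ha23]
    rw [Finset.mem_insert, Finset.mem_singleton, not_or]
    exact ⟨ha12, ha13⟩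
  obtain ⟨σ, hσG, hσ⟩ := hTT {a1, a2, a3}
    (fun z => if z = a1 then b1 else if z = a2 then b2 else b3) hS (by
    intro z1 hz1 z2 hz2 h
    simp only [Finset.coe_insert, Finset.coe_singleton, Set.mem_insert_iff,
      Set.mem_singleton_iff] at hz1 hz2
    rcases hz1 with rfl | rfl | rfl <;> rcases hz2 with rfl | rfl | rfl <;>
      simp_all [Ne.symm ha12, Ne.symm ha13, Ne.symm ha23, Ne.symm hb12, Ne.symm hb13,
        Ne.symm hb23])
  refine ⟨σ, hσG, ?_, ?_, ?_⟩
  · have := hσ a1 (by simp)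
    rw [this, if_pos rfl]
  · have := hσ a2 (by simp)
    rw [this, if_neg (Ne.symm ha12), if_pos rfl]
  · have := hσ a3 (by simp)
    rw [this, if_neg (Ne.symm ha13), if_neg (Ne.symm ha23)]

theorem stab_compl_singleton {Ω : Type*} [Fintype Ω] [DecidableEq Ω] {g : Perm Ω} {α : Ω}
    (hg : g α = α) : ∀ a, g a ∈ ({α}ᶜ : Finset Ω) ↔ a ∈ ({α}ᶜ : Finset Ω) := by
  intro a
  simp only [Finset.mem_compl, Finset.mem_singleton]
  constructor
  · intro h1 h2; apply h1; rw [h2, hg]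
  · intro h1 h2; apply h1; apply g.injective; rw [h2, hg]

theorem marggraf_aux : ∀ (n : ℕ) (Ω : Type u) [Fintype Ω] [DecidableEq Ω]
    (G : Subgroup (Perm Ω)), Fintype.card Ω = n → IsPreprimitive G Ω →
    ∀ Γ : Finset Ω, 1 < Γ.card → 2 * Γ.card < n →
    (∀ x ∈ Γ, ∀ y ∈ Γ, ∃ g ∈ G, (∀ z, z ∉ Γ → g z = z) ∧ g x = y) →
    alternatingGroup Ω ≤ G := by
  intro n
  induction n using Nat.strong_induction_on with
  | _ n ih =>
  intro Ω _ _ G hn hprim Γ hΓ1 hΓ2 hJ
  have hΔcard : (Γᶜ).card = n - Γ.card := by rw [Finset.card_compl, hn]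
  have hΔflat : Flat G Γᶜ := by
    intro x hx y hy
    rw [Finset.mem_compl, not_not] at hx hy
    obtain ⟨g, hg, hfix, hgx⟩ := hJ x hx y hy
    exact ⟨g, hg, fun z hz => hfix z (Finset.mem_compl.mp hz), hgx⟩
  have h3 : IsMultiplyPretransitive G Ω 3 := by
    apply Cfsg.Agent.S3707.result hprim (Γ : Set Ω)
    · rw [Set.ncard_coe_finset]; exact hΓ1
    · rw [Set.ncard_coe_finset, Nat.card_eq_fintype_card, hn]; omega
    · intro x hx y hy
      obtain ⟨g, hg, hfix, hgx⟩ := hJ x (Finset.mem_coe.mp hx) y (Finset.mem_coe.mp hy)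
      exact ⟨⟨g, hg⟩, fun z hz => hfix z (fun h => hz (Finset.mem_coe.mpr h)), hgx⟩
  have hn3 : 3 ≤ Fintype.card Ω := by omega
  have hT2 := t2_of_three G h3 hn3
  have hpair := flat_pair G h3
  obtain ⟨h, hhG, hh1, hhfix⟩ : ∃ h ∈ G, h ≠ 1 ∧ ∀ z ∈ Γᶜ, h z = z := by
    obtain ⟨x, hx, y, hy, hxy⟩ := Finset.one_lt_card.mp hΓ1
    obtain ⟨g, hg, hfix, hgx⟩ := hJ x hx y hy
    refine ⟨g, hg, ?_, fun z hz => hfix z (Finset.mem_compl.mp hz)⟩
    intro h1
    rw [h1] at hgx
    exact hxy hgx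
  have hsupp : h.support.card ≤ Γ.card := by
    apply Finset.card_le_card
    intro z hz
    by_contra hzΓ
    exact (Perm.mem_support.mp hz) (hhfix z (Finset.mem_compl.mpr hzΓ))
  by_cases hm3 : Γ.card ≤ 3
  · exact alt_le_of_small_support G 3 (by norm_num) h3 hn3 h hhG hh1 (by omega) (by omega)
  push Not at hm3
  by_cases hbig : 2 * Γ.card + 1 < n
  · -- pass to a point stabilizer
    obtain ⟨α, hα⟩ : ∃ α, α ∈ Γᶜ := by
      apply Finset.card_pos.mp
      rw [hΔcard]; omega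
    rw [Finset.mem_compl] at hα
    have hScard : Fintype.card ({α}ᶜ : Finset Ω) = n - 1 := by
      rw [Fintype.card_coe, Finset.card_compl, Finset.card_singleton, hn]
    have hT3 := t3_of_three G h3
    have hprim1 : IsPreprimitive (restr G {α}ᶜ) ({α}ᶜ : Finset Ω) := by
      apply restr_prim
      intro a ha b hb c hc d hd hab hcd
      simp only [Finset.mem_compl, Finset.mem_singleton] at ha hb hc hd
      obtain ⟨g, hg, hgα, hga, hgb⟩ := hT3 α a b α c d (Ne.symm ha) (Ne.symm hb) hab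
        (Ne.symm hc) (Ne.symm hd) hcd
      exact ⟨g, hg, stab_iff.mp (stab_compl_singleton hgα), hga, hgb⟩
    have hΓ1card : (Γ.subtype (· ∈ ({α}ᶜ : Finset Ω))).card = Γ.card := by
      rw [Finset.card_subtype]
      congr 1
      apply Finset.filter_true_of_mem
      intro z hz
      simp only [Finset.mem_compl, Finset.mem_singleton]
      rintro rfl
      exact hα hz
    have hJ1 : ∀ x ∈ Γ.subtype (· ∈ ({α}ᶜ : Finset Ω)), ∀ y ∈ Γ.subtype (· ∈ ({α}ᶜ : Finset Ω)),
        ∃ σ ∈ restr G {α}ᶜ, (∀ z, z ∉ Γ.subtype (· ∈ ({α}ᶜ : Finset Ω)) → σ z = z) ∧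
          σ x = y := by
      intro x hx y hy
      rw [Finset.mem_subtype] at hx hy
      obtain ⟨g, hg, hfix, hgx⟩ := hJ x hx y hy
      have hgS := stab_compl_singleton (hfix α hα)
      refine ⟨g.subtypePerm hgS, ⟨g, hg, hgS, rfl⟩, ?_, ?_⟩
      · intro z hz
        rw [Finset.mem_subtype] at hz
        apply Subtype.ext
        exact hfix z hz
      · apply Subtype.ext
        exact hgx
    have hAlt1 := ih (n - 1) (by omega) ({α}ᶜ : Finset Ω) (restr G {α}ᶜ) hScard hprim1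
      (Γ.subtype (· ∈ ({α}ᶜ : Finset Ω))) (by omega) (by omega) hJ1
    -- a three-cycle
    have hcS : (Finset.univ : Finset ({α}ᶜ : Finset Ω)).card = n - 1 := by
      rw [Finset.card_univ, hScard]
    obtain ⟨p, -⟩ : ∃ p : ({α}ᶜ : Finset Ω), p ∈ (Finset.univ : Finset ({α}ᶜ : Finset Ω)) := by
      apply Finset.card_pos.mp
      rw [hcS]; omega
    obtain ⟨r, -, hr⟩ := Finset.exists_mem_notMem_of_card_lt_card
      (s := ({p} : Finset ({α}ᶜ : Finset Ω))) (t := Finset.univ) (by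
        rw [hcS, Finset.card_singleton]; omega)
    obtain ⟨s, -, hs⟩ := Finset.exists_mem_notMem_of_card_lt_card
      (s := ({p, r} : Finset ({α}ᶜ : Finset Ω))) (t := Finset.univ) (by
        rw [hcS]
        have := Finset.card_le_two (a := p) (b := r)
        omega)
    simp only [Finset.mem_insert, Finset.mem_singleton, not_or] at hr hs
    have h3c : (swap p r * swap p s).IsThreeCycle :=
      isThreeCycle_swap_mul_swap_same (Ne.symm hr) (Ne.symm hs.1) (Ne.symm hs.2)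
    obtain ⟨g, hg, hgS, hgeq⟩ := hAlt1 h3c.mem_alternatingGroup
    have hgfix : ∀ z, z ∉ ({α}ᶜ : Finset Ω) → g z = z := by
      intro z hz
      have hgz : g z ∉ ({α}ᶜ : Finset Ω) := fun hmem => hz ((hgS z).mp hmem)
      simp only [Finset.mem_compl, Finset.mem_singleton, not_not] at hz hgz
      rw [hgz, hz]
    have hg3 : g.IsThreeCycle := by
      apply threeCycle_lift hgS hgfix
      rw [hgeq]
      exact h3c
    exact alternatingGroup_le_of_isPreprimitive_of_isThreeCycle_mem hprim hg3 hg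
  · -- the critical case n = 2m+1
    have hcard : 2 * (Γᶜ).card ≤ Fintype.card Ω + 1 := by rw [hΔcard, hn]; omega
    obtain ⟨F, hM⟩ := exists_maxSub G Γᶜ (by rw [hΔcard]; omega) hpair
    have hdvd := hM.dvd hΔflat hcard
    have hFle : F.card < (Γᶜ).card := Finset.card_lt_card (hM.sub.ssubset_of_ne hM.ne)
    have hF2 := hM.two
    by_cases hx1 : (Γᶜ).card = F.card + 1
    · exact case_one G hprim Γᶜ F hΔflat hM.flat hM.sub hx1 (by rw [hΔcard, hn]; omega) hF2
        ⟨h, hhG, hh1, hhfix⟩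
    · have h2x : 2 * ((Γᶜ).card - F.card) ≤ Γ.card := by
        obtain ⟨q, hq⟩ := hdvd
        have e : Fintype.card Ω - F.card = Γ.card + ((Γᶜ).card - F.card) := by omega
        rw [e] at hq
        have hxm : (Γᶜ).card - F.card < Γ.card := by omega
        have hq3 : 3 ≤ q := by
          by_contra hlt
          push Not at hlt
          interval_cases q <;> omega
        nlinarith
      have hprimΔ : IsPreprimitive (restr G Γᶜ) (Γᶜ : Finset Ω) :=
        restr_prim G Γᶜ (stab_two_trans G Γᶜ hΔflat hcard hpair hT2)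
      have hΓ'card : ((Γᶜ \ F).subtype (· ∈ (Γᶜ : Finset Ω))).card = (Γᶜ).card - F.card := by
        rw [Finset.card_subtype,
          Finset.filter_true_of_mem (fun z hz => (Finset.mem_sdiff.mp hz).1),
          Finset.card_sdiff_of_subset hM.sub]
      have hJ' : ∀ a ∈ (Γᶜ \ F).subtype (· ∈ (Γᶜ : Finset Ω)),
          ∀ b ∈ (Γᶜ \ F).subtype (· ∈ (Γᶜ : Finset Ω)),
          ∃ σ ∈ restr G Γᶜ, (∀ z, z ∉ (Γᶜ \ F).subtype (· ∈ (Γᶜ : Finset Ω)) → σ z = z) ∧
            σ a = b := by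
        intro a ha b hb
        rw [Finset.mem_subtype, Finset.mem_sdiff] at ha hb
        obtain ⟨u, huG, huΔ, hufix, huab⟩ :=
          hM.trans_off hΔflat hcard a ha.1 ha.2 b hb.1 hb.2
        refine ⟨u.subtypePerm (stab_iff.mpr huΔ), ⟨u, huG, _, rfl⟩, ?_, ?_⟩
        · intro z hz
          rw [Finset.mem_subtype, Finset.mem_sdiff, not_and, not_not] at hz
          apply Subtype.ext
          exact hufix z (hz z.2)
        · apply Subtype.ext
          exact huab
      have hAltΔ := ih (Γᶜ).card (by omega) (Γᶜ : Finset Ω) (restr G Γᶜ) (Fintype.card_coe _)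
        hprimΔ ((Γᶜ \ F).subtype (· ∈ (Γᶜ : Finset Ω))) (by omega) (by omega) hJ'
      exact final_step G hprim Γᶜ (by omega) (by omega) ⟨h, hhG, hh1, hhfix⟩ hAltΔ

/-- **Marggraf's theorem** (primitive case). -/
theorem marggraf_perm {Ω : Type u} [Fintype Ω] [DecidableEq Ω] (G : Subgroup (Perm Ω))
    (hprim : IsPreprimitive G Ω) (Γ : Finset Ω) (h1 : 1 < Γ.card)
    (h2 : 2 * Γ.card < Fintype.card Ω)
    (hJ : ∀ x ∈ Γ, ∀ y ∈ Γ, ∃ g ∈ G, (∀ z, z ∉ Γ → g z = z) ∧ g x = y) :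
    alternatingGroup Ω ≤ G :=
  marggraf_aux (Fintype.card Ω) Ω G rfl hprim Γ h1 h2 hJ

end Cfsg.Agent.Lib.Helper11.Marg
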