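import Mathlib
import Cfsg.Agent.Lib.Helper11.MargA

/-!
# Marggraf's theorem, part F: block systems of an imprimitive transitive group
-/

set_option autoImplicit false

namespace Cfsg.Agent.Lib.Helper11.Marg

open Equiv Equiv.Perm MulAction
open scoped Pointwise

/-- existence of an even permutation carrying one finset onto another of the same size -/
theorem exists_even_perm_image {α : Type*} [Fintype α] [DecidableEq α] (A C : Finset α)
    (h : A.card = C.card) (h2 : 2 ≤ A.card) :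
    ∃ σ : Perm α, Perm.sign σ = 1 ∧ ∀ a, σ a ∈ C ↔ a ∈ A := by
  classical
  have e : {x // x ∈ A} ≃ {x // x ∈ C} := Fintype.equivOfCardEq (by simp [h])
  have h0 : ∀ a, e.extendSubtype a ∈ C ↔ a ∈ A := fun a =>
    ⟨fun hc => by_contra fun ha => e.extendSubtype_not_mem a ha hc,
      fun ha => e.extendSubtype_mem a ha⟩
  by_cases hs : Perm.sign e.extendSubtype = 1
  · exact ⟨e.extendSubtype, hs, h0⟩
  · obtain ⟨a1, ha1, a2, ha2, h12⟩ := Finset.one_lt_card.mp (by omega : 1 < A.card)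
    refine ⟨e.extendSubtype * swap a1 a2, ?_, ?_⟩
    · rw [map_mul, sign_swap h12]
      rcases Int.units_eq_one_or (Perm.sign e.extendSubtype) with h | h
      · exact absurd h hs
      · rw [h]; rfl
    · intro a
      rw [Perm.mul_apply, h0]
      by_cases c1 : a = a1
      · subst c1
        rw [swap_apply_left]
        exact ⟨fun _ => ha1, fun _ => ha2⟩
      · by_cases c2 : a = a2
        · subst c2
          rw [swap_apply_right]
          exact ⟨fun _ => ha2, fun _ => ha1⟩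
        · rw [swap_apply_of_ne_of_ne c1 c2]

variable {Ω : Type*} [Fintype Ω] [DecidableEq Ω]

/-- a nontrivial system of imprimitivity -/
structure BlockSys (G : Subgroup (Perm Ω)) (𝔅 : Finset (Finset Ω)) (b : ℕ) : Prop where
  card : ∀ B ∈ 𝔅, B.card = b
  two : 2 ≤ b
  disj : ∀ B ∈ 𝔅, ∀ C ∈ 𝔅, B = C ∨ Disjoint B C
  cover : ∀ x : Ω, ∃ B ∈ 𝔅, x ∈ B
  inv : ∀ g ∈ G, ∀ B ∈ 𝔅, im g B ∈ 𝔅
  proper : ∃ B ∈ 𝔅, ∃ y : Ω, y ∉ B

theorem exists_blockSys (G : Subgroup (Perm Ω)) (htrans : ∀ a b : Ω, ∃ g ∈ G, g a = b)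
    (hnp : ¬ IsPreprimitive G Ω) : ∃ 𝔅 b, BlockSys G 𝔅 b := by
  classical
  haveI : IsPretransitive G Ω := ⟨fun a b => by
    obtain ⟨g, hg, h⟩ := htrans a b
    exact ⟨⟨g, hg⟩, h⟩⟩
  obtain ⟨B, hB, hBnt⟩ : ∃ B : Set Ω, IsBlock G B ∧ ¬ IsTrivialBlock B := by
    by_contra hcon
    push Not at hcon
    exact hnp ⟨fun {B} hB => hcon B hB⟩
  rw [isBlock_iff_smul_eq_or_disjoint] at hB
  unfold IsTrivialBlock at hBnt
  rw [not_or] at hBnt
  obtain ⟨hBns, hBnu⟩ := hBnt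
  have hmem : ∀ (g : Perm Ω) (hg : g ∈ G) (x : Ω),
      x ∈ im g B.toFinset ↔ x ∈ (⟨g, hg⟩ : G) • B := by
    intro g hg x
    rw [mem_im, Set.mem_toFinset, Set.mem_smul_set_iff_inv_smul_mem]
    rfl
  have hBfin : ∀ g ∈ G, im g B.toFinset = B.toFinset ∨ Disjoint (im g B.toFinset) B.toFinset := by
    intro g hg
    rcases hB ⟨g, hg⟩ with h | h
    · left
      ext x
      rw [hmem g hg, h, Set.mem_toFinset]
    · right
      rw [Finset.disjoint_left]
      intro x hx1 hx2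
      rw [hmem g hg] at hx1
      rw [Set.mem_toFinset] at hx2
      exact Set.disjoint_left.mp h hx1 hx2
  obtain ⟨x0, hx0, y0, hy0, hxy0⟩ : ∃ x ∈ B, ∃ y ∈ B, x ≠ y := by
    rw [Set.not_subsingleton_iff] at hBns
    exact hBns
  refine ⟨(Finset.univ.filter (· ∈ G)).image (fun g => im g B.toFinset), B.toFinset.card, ?_⟩
  have hmem𝔅 : ∀ C, C ∈ (Finset.univ.filter (· ∈ G)).image (fun g => im g B.toFinset) ↔
      ∃ g ∈ G, im g B.toFinset = C := by
    intro C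
    simp only [Finset.mem_image, Finset.mem_filter, Finset.mem_univ, true_and]
  constructor
  · intro C hC
    obtain ⟨g, -, rfl⟩ := (hmem𝔅 C).mp hC
    exact card_im g _
  · apply Finset.one_lt_card.mpr
    exact ⟨x0, Set.mem_toFinset.mpr hx0, y0, Set.mem_toFinset.mpr hy0, hxy0⟩
  · intro C1 hC1 C2 hC2
    obtain ⟨g1, hg1, rfl⟩ := (hmem𝔅 C1).mp hC1
    obtain ⟨g2, hg2, rfl⟩ := (hmem𝔅 C2).mp hC2
    have e : im g1 B.toFinset = im g2 (im (g2⁻¹ * g1) B.toFinset) := by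
      rw [← im_mul, mul_inv_cancel_left]
    rcases hBfin (g2⁻¹ * g1) (G.mul_mem (G.inv_mem hg2) hg1) with h | h
    · left
      rw [e, h]
    · right
      rw [Finset.disjoint_left] at h ⊢
      intro x hx1 hx2
      apply h (a := g2⁻¹ x)
      · rw [e, mem_im] at hx1
        exact hx1
      · exact mem_im.mp hx2
  · intro x
    obtain ⟨g, hg, hgx⟩ := htrans x0 x
    refine ⟨im g B.toFinset, (hmem𝔅 _).mpr ⟨g, hg, rfl⟩, ?_⟩
    rw [← hgx, apply_mem_im]
    exact Set.mem_toFinset.mpr hx0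
  · intro g hg C hC
    obtain ⟨g1, hg1, rfl⟩ := (hmem𝔅 C).mp hC
    exact (hmem𝔅 _).mpr ⟨g * g1, G.mul_mem hg hg1, im_mul g g1 _⟩
  · obtain ⟨y, hy⟩ : ∃ y, y ∉ B := by
      by_contra hcon
      push Not at hcon
      exact hBnu (Set.eq_univ_of_forall hcon)
    refine ⟨B.toFinset, (hmem𝔅 _).mpr ⟨1, G.one_mem, im_one _⟩, y, ?_⟩
    rw [Set.mem_toFinset]
    exact hy

section BlockSys

variable {G : Subgroup (Perm Ω)} {𝔅 : Finset (Finset Ω)} {b : ℕ}

theorem BlockSys.eq_of_mem (hBS : BlockSys G 𝔅 b) {B C : Finset Ω} (hB : B ∈ 𝔅) (hC : C ∈ 𝔅)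
    {x : Ω} (hxB : x ∈ B) (hxC : x ∈ C) : B = C := by
  rcases hBS.disj B hB C hC with h | h
  · exact h
  · exact absurd hxC (Finset.disjoint_left.mp h hxB)

theorem BlockSys.im_eq (hBS : BlockSys G 𝔅 b) {g : Perm Ω} (hg : g ∈ G) {B C : Finset Ω}
    (hB : B ∈ 𝔅) (hC : C ∈ 𝔅) {x : Ω} (hx : x ∈ B) (hgx : g x ∈ C) : im g B = C :=
  hBS.eq_of_mem (hBS.inv g hg B hB) hC (apply_mem_im.mpr hx) hgx

theorem BlockSys.nonempty (hBS : BlockSys G 𝔅 b) {B : Finset Ω} (hB : B ∈ 𝔅) : B.Nonempty := by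
  apply Finset.card_pos.mp
  rw [hBS.card B hB]
  have := hBS.two
  omega

/-- a set that is a union of blocks has cardinality `b` times the number of its blocks -/
theorem BlockSys.card_union (hBS : BlockSys G 𝔅 b) (S : Finset Ω)
    (hS : ∀ B ∈ 𝔅, B ⊆ S ∨ Disjoint B S) :
    S.card = b * (Finset.univ.filter (fun B : 𝔅 => B.1 ⊆ S)).card := by
  classical
  have hU : S = (Finset.univ.filter (fun B : 𝔅 => B.1 ⊆ S)).biUnion (fun B => B.1) := by
    ext x
    rw [Finset.mem_biUnion]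
    constructor
    · intro hx
      obtain ⟨B, hB, hxB⟩ := hBS.cover x
      refine ⟨⟨B, hB⟩, ?_, hxB⟩
      rw [Finset.mem_filter]
      refine ⟨Finset.mem_univ _, ?_⟩
      rcases hS B hB with h | h
      · exact h
      · exact absurd hx (Finset.disjoint_left.mp h hxB)
    · rintro ⟨B, hB, hxB⟩
      rw [Finset.mem_filter] at hB
      exact hB.2 hxB
  have hdisj : ((Finset.univ.filter (fun B : 𝔅 => B.1 ⊆ S) : Finset 𝔅) : Set 𝔅).PairwiseDisjoint
      (fun B => B.1) := by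
    intro B _ C _ hBC
    rcases hBS.disj B.1 B.2 C.1 C.2 with h | h
    · exact absurd (Subtype.ext h) hBC
    · exact h
  conv_lhs => rw [hU]
  rw [Finset.card_biUnion hdisj, Finset.sum_congr rfl (fun B _ => hBS.card B.1 B.2),
    Finset.sum_const, smul_eq_mul, mul_comm]

end BlockSys

/-- the permutation of the blocks induced by a permutation preserving the block system -/
def blockPerm (𝔅 : Finset (Finset Ω)) (g : Perm Ω) (h1 : ∀ B ∈ 𝔅, im g B ∈ 𝔅)
    (h2 : ∀ B ∈ 𝔅, im g⁻¹ B ∈ 𝔅) : Perm 𝔅 where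
  toFun B := ⟨im g B.1, h1 _ B.2⟩
  invFun B := ⟨im g⁻¹ B.1, h2 _ B.2⟩
  left_inv B := by
    apply Subtype.ext
    show im g⁻¹ (im g B.1) = B.1
    rw [← im_mul, inv_mul_cancel, im_one]
  right_inv B := by
    apply Subtype.ext
    show im g (im g⁻¹ B.1) = B.1
    rw [← im_mul, mul_inv_cancel, im_one]

/-- the action homomorphism on blocks -/
def blockHom (G : Subgroup (Perm Ω)) (𝔅 : Finset (Finset Ω))
    (hinv : ∀ g ∈ G, ∀ B ∈ 𝔅, im g B ∈ 𝔅) : G →* Perm 𝔅 where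
  toFun g := blockPerm 𝔅 g.1 (hinv g.1 g.2) (hinv g.1⁻¹ (G.inv_mem g.2))
  map_one' := by
    apply Equiv.ext
    intro B
    apply Subtype.ext
    show im (1 : Perm Ω) B.1 = B.1
    exact im_one _
  map_mul' g₁ g₂ := by
    apply Equiv.ext
    intro B
    apply Subtype.ext
    show im (g₁.1 * g₂.1) B.1 = im g₁.1 (im g₂.1 B.1)
    exact im_mul _ _ _

theorem blockHom_apply (G : Subgroup (Perm Ω)) (𝔅 : Finset (Finset Ω))
    (hinv : ∀ g ∈ G, ∀ B ∈ 𝔅, im g B ∈ 𝔅) (g : G) (B : 𝔅) :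
    ((blockHom G 𝔅 hinv g) B : Finset Ω) = im g.1 B.1 := rfl

end Cfsg.Agent.Lib.Helper11.Marg
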