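import Mathlib
import Cfsg.Agent.Lib.Helper11.MargE
import Cfsg.Agent.Lib.Helper11.MargF

/-!
# Marggraf's theorem for quasiprimitive permutation groups
-/

set_option autoImplicit false

namespace Cfsg.Agent.Lib.Helper11.Marg

open Equiv Equiv.Perm MulAction

universe u

/-- quasiprimitivity for subgroups of `Perm Ω`: nontrivial normal subgroups are transitive -/
def QP {Ω : Type*} (G : Subgroup (Perm Ω)) : Prop :=
  ∀ N : Subgroup (Perm Ω), N ≤ G → (∀ g ∈ G, ∀ x ∈ N, g * x * g⁻¹ ∈ N) → N ≠ ⊥ →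
    ∀ a b : Ω, ∃ x ∈ N, x a = b

section

variable {Ω : Type*} [Fintype Ω] [DecidableEq Ω]

/-- the kernel of the action on blocks -/
def blockKer (G : Subgroup (Perm Ω)) (𝔅 : Finset (Finset Ω)) : Subgroup (Perm Ω) where
  carrier := {g | g ∈ G ∧ ∀ B ∈ 𝔅, im g B = B}
  mul_mem' := by
    rintro a b ⟨ha, ha'⟩ ⟨hb, hb'⟩
    exact ⟨G.mul_mem ha hb, fun B hB => by rw [im_mul, hb' B hB, ha' B hB]⟩
  one_mem' := ⟨G.one_mem, fun B _ => im_one B⟩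
  inv_mem' := by
    rintro a ⟨ha, ha'⟩
    refine ⟨G.inv_mem ha, fun B hB => ?_⟩
    conv_lhs => rw [← ha' B hB]
    rw [← im_mul, inv_mul_cancel, im_one]

theorem blockKer_eq_bot {G : Subgroup (Perm Ω)} {𝔅 : Finset (Finset Ω)} {b : ℕ}
    (hBS : BlockSys G 𝔅 b) (hQP : QP G) : blockKer G 𝔅 = ⊥ := by
  by_contra hne
  have hle : blockKer G 𝔅 ≤ G := fun g hg => hg.1
  have hnorm : ∀ g ∈ G, ∀ x ∈ blockKer G 𝔅, g * x * g⁻¹ ∈ blockKer G 𝔅 := by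
    intro g hg x hx
    refine ⟨G.mul_mem (G.mul_mem hg hx.1) (G.inv_mem hg), fun B hB => ?_⟩
    rw [im_mul, im_mul, hx.2 _ (hBS.inv g⁻¹ (G.inv_mem hg) B hB), ← im_mul, mul_inv_cancel,
      im_one]
  obtain ⟨B, hB, y, hy⟩ := hBS.proper
  obtain ⟨x0, hx0⟩ := hBS.nonempty hB
  obtain ⟨k, hk, hkx⟩ := hQP _ hle hnorm hne x0 y
  apply hy
  rw [← hkx, ← hk.2 B hB, apply_mem_im]
  exact hx0

end

theorem qp_aux : ∀ (n : ℕ) (Ω : Type u) [Fintype Ω] [DecidableEq Ω] (G : Subgroup (Perm Ω)),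
    Fintype.card Ω = n → QP G → ∀ Γ : Finset Ω, 1 < Γ.card → 2 * Γ.card < n →
    (∀ x ∈ Γ, ∀ y ∈ Γ, ∃ g ∈ G, (∀ z, z ∉ Γ → g z = z) ∧ g x = y) →
    alternatingGroup Ω ≤ G := by
  intro n
  induction n using Nat.strong_induction_on with
  | _ n ih =>
  intro Ω _ _ G hn hQP Γ hΓ1 hΓ2 hJ
  by_cases hprim : IsPreprimitive G Ω
  · exact marggraf_perm G hprim Γ hΓ1 (by rw [hn]; exact hΓ2) hJ
  exfalso
  obtain ⟨h0, hh0G, hh01, hh0fix⟩ : ∃ h ∈ G, h ≠ 1 ∧ ∀ z, z ∉ Γ → h z = z := by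
    obtain ⟨x, hx, y, hy, hxy⟩ := Finset.one_lt_card.mp hΓ1
    obtain ⟨g, hg, hfix, hgx⟩ := hJ x hx y hy
    refine ⟨g, hg, ?_, hfix⟩
    intro h1
    rw [h1] at hgx
    exact hxy hgx
  have hGne : G ≠ ⊥ := fun hb => hh01 (by
    rw [hb] at hh0G
    exact Subgroup.mem_bot.mp hh0G)
  have htrans : ∀ a b : Ω, ∃ g ∈ G, g a = b :=
    hQP G le_rfl (fun g hg x hx => G.mul_mem (G.mul_mem hg hx) (G.inv_mem hg)) hGne
  obtain ⟨𝔅, b, hBS⟩ := exists_blockSys G htrans hprim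
  have hker := blockKer_eq_bot hBS hQP
  have hfaith : ∀ g ∈ G, (∀ B ∈ 𝔅, im g B = B) → g = 1 := fun g hg h => by
    have : g ∈ blockKer G 𝔅 := ⟨hg, h⟩
    rw [hker] at this
    exact Subgroup.mem_bot.mp this
  -- blocks lie inside Γ or outside Γ
  have hBΓ : ∀ B ∈ 𝔅, B ⊆ Γ ∨ Disjoint B Γ := by
    intro B hB
    by_contra hcon
    rw [not_or] at hcon
    obtain ⟨hns, hnd⟩ := hcon
    obtain ⟨δ, hδB, hδΓ⟩ : ∃ δ ∈ B, δ ∉ Γ := by
      by_contra h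
      push Not at h
      exact hns h
    obtain ⟨γ, hγB, hγΓ⟩ : ∃ γ ∈ B, γ ∈ Γ := by
      rw [Finset.not_disjoint_iff] at hnd
      exact hnd
    have hfixB : ∀ h ∈ G, (∀ z, z ∉ Γ → h z = z) → im h B = B := fun h hh hfix =>
      hBS.im_eq hh hB hB hδB (by rw [hfix δ hδΓ]; exact hδB)
    have hΓB : Γ ⊆ B := by
      intro y hy
      obtain ⟨h, hh, hfix, hγy⟩ := hJ γ hγΓ y hy
      have := (apply_mem_im (g := h)).mpr hγB
      rw [hfixB h hh hfix, hγy] at this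
      exact this
    apply hh01
    apply hfaith h0 hh0G
    intro C hC
    by_cases hCB : C = B
    · rw [hCB]
      exact hfixB h0 hh0G hh0fix
    · apply im_eq_self_of_fix
      intro z hz
      apply hh0fix
      intro hzΓ
      exact hCB (hBS.eq_of_mem hC hB hz (hΓB hzΓ))
  -- the blocks inside Γ
  have hmemℛ : ∀ B : 𝔅, B ∈ Finset.univ.filter (fun B : 𝔅 => B.1 ⊆ Γ) ↔ B.1 ⊆ Γ := by
    intro B
    simp
  generalize hℛ : Finset.univ.filter (fun B : 𝔅 => B.1 ⊆ Γ) = ℛ at hmemℛ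
  have hnotℛ : ∀ B : 𝔅, B ∉ ℛ → Disjoint B.1 Γ := fun B hB =>
    (hBΓ B.1 B.2).resolve_left (fun h => hB ((hmemℛ B).mpr h))
  have hb2 := hBS.two
  have hmcard : Γ.card = b * ℛ.card := by
    rw [← hℛ]
    exact hBS.card_union Γ hBΓ
  have hncard : n = b * Fintype.card 𝔅 := by
    have := hBS.card_union Finset.univ (fun B _ => Or.inl (Finset.subset_univ B))
    rw [Finset.card_univ, hn] at this
    rw [this, Finset.filter_true_of_mem (fun B _ => Finset.subset_univ B.1), Finset.card_univ]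
  have h2rk : 2 * ℛ.card < Fintype.card 𝔅 := by
    have : b * (2 * ℛ.card) < b * Fintype.card 𝔅 := by
      rw [← hncard]
      calc b * (2 * ℛ.card) = 2 * (b * ℛ.card) := by ring
        _ = 2 * Γ.card := by rw [hmcard]
        _ < n := hΓ2
    exact Nat.lt_of_mul_lt_mul_left this
  have hk : Fintype.card 𝔅 < n := by
    have hkpos : 0 < Fintype.card 𝔅 := by omega
    rw [hncard]
    nlinarith
  -- the action on blocks
  have hφ : ∀ (g : Perm Ω) (hg : g ∈ G) (B : 𝔅),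
      ((blockHom G 𝔅 hBS.inv ⟨g, hg⟩ B : 𝔅) : Finset Ω) = im g B.1 := fun g hg B => rfl
  have hHfix : ∀ h (hh : h ∈ G), (∀ z, z ∉ Γ → h z = z) → ∀ C : 𝔅, C ∉ ℛ →
      blockHom G 𝔅 hBS.inv ⟨h, hh⟩ C = C := by
    intro h hh hfix C hC
    apply Subtype.ext
    rw [hφ]
    apply im_eq_self_of_fix
    intro z hz
    apply hfix
    exact fun hzΓ => Finset.disjoint_left.mp (hnotℛ C hC) hz hzΓ
  have hr2 : 1 < ℛ.card := by
    by_contra hle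
    push Not at hle
    apply hh01
    apply hfaith h0 hh0G
    intro C hC
    by_cases hCℛ : (⟨C, hC⟩ : 𝔅) ∈ ℛ
    · have hCΓ : C ⊆ Γ := (hmemℛ ⟨C, hC⟩).mp hCℛ
      have him : im h0 C ∈ 𝔅 := hBS.inv h0 hh0G C hC
      have himΓ : im h0 C ⊆ Γ := by
        intro z hz
        rw [mem_im] at hz
        have := (stab_of_fix_compl hh0fix (h0⁻¹ z)).mpr (hCΓ hz)
        rwa [app_inv] at this
      have h1 : (⟨im h0 C, him⟩ : 𝔅) ∈ ℛ := (hmemℛ _).mpr himΓ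
      have := Finset.card_le_one.mp hle _ h1 _ hCℛ
      exact congrArg Subtype.val this
    · have := hHfix h0 hh0G hh0fix ⟨C, hC⟩ hCℛ
      exact congrArg Subtype.val this
  -- quasiprimitivity of the induced group
  have hQP' : QP (blockHom G 𝔅 hBS.inv).range := by
    intro N' hN'le hN'norm hN'ne a c
    have hNmem : ∀ g, g ∈ (N'.comap (blockHom G 𝔅 hBS.inv)).map G.subtype ↔
        ∃ hg : g ∈ G, blockHom G 𝔅 hBS.inv ⟨g, hg⟩ ∈ N' := by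
      intro g
      constructor
      · rintro ⟨x, hx, rfl⟩
        exact ⟨x.2, hx⟩
      · rintro ⟨hg, h⟩
        exact ⟨⟨g, hg⟩, h, rfl⟩
    have hNle : (N'.comap (blockHom G 𝔅 hBS.inv)).map G.subtype ≤ G :=
      fun g hg => ((hNmem g).mp hg).1
    have hNnorm : ∀ g ∈ G, ∀ x ∈ (N'.comap (blockHom G 𝔅 hBS.inv)).map G.subtype,
        g * x * g⁻¹ ∈ (N'.comap (blockHom G 𝔅 hBS.inv)).map G.subtype := by
      intro g hg x hx
      obtain ⟨hxG, hxN⟩ := (hNmem x).mp hx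
      refine (hNmem _).mpr ⟨G.mul_mem (G.mul_mem hg hxG) (G.inv_mem hg), ?_⟩
      have : blockHom G 𝔅 hBS.inv ⟨g * x * g⁻¹, G.mul_mem (G.mul_mem hg hxG) (G.inv_mem hg)⟩ =
          blockHom G 𝔅 hBS.inv ⟨g, hg⟩ * blockHom G 𝔅 hBS.inv ⟨x, hxG⟩ *
            (blockHom G 𝔅 hBS.inv ⟨g, hg⟩)⁻¹ := by
        rw [← map_inv, ← map_mul, ← map_mul]
        rfl
      rw [this]
      exact hN'norm _ ⟨⟨g, hg⟩, rfl⟩ _ hxN
    have hNne : (N'.comap (blockHom G 𝔅 hBS.inv)).map G.subtype ≠ ⊥ := by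
      intro hbot
      apply hN'ne
      rw [eq_bot_iff]
      intro σ hσ
      obtain ⟨g, rfl⟩ := hN'le hσ
      have : g.1 ∈ (N'.comap (blockHom G 𝔅 hBS.inv)).map G.subtype := (hNmem _).mpr ⟨g.2, hσ⟩
      rw [hbot, Subgroup.mem_bot] at this
      have hg1 : g = 1 := Subtype.ext this
      rw [hg1, map_one]
      exact Subgroup.one_mem _
    obtain ⟨xa, hxa⟩ := hBS.nonempty a.2
    obtain ⟨xc, hxc⟩ := hBS.nonempty c.2
    obtain ⟨g, hgN, hgx⟩ := hQP _ hNle hNnorm hNne xa xc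
    obtain ⟨hgG, hgN'⟩ := (hNmem g).mp hgN
    refine ⟨blockHom G 𝔅 hBS.inv ⟨g, hgG⟩, hgN', ?_⟩
    apply Subtype.ext
    rw [hφ]
    exact hBS.im_eq hgG a.2 c.2 hxa (by rw [hgx]; exact hxc)
  have hJ' : ∀ B1 ∈ ℛ, ∀ B2 ∈ ℛ, ∃ σ ∈ (blockHom G 𝔅 hBS.inv).range,
      (∀ C, C ∉ ℛ → σ C = C) ∧ σ B1 = B2 := by
    intro B1 hB1 B2 hB2
    obtain ⟨x1, hx1⟩ := hBS.nonempty B1.2
    obtain ⟨x2, hx2⟩ := hBS.nonempty B2.2
    obtain ⟨h, hh, hfix, hhx⟩ := hJ x1 ((hmemℛ B1).mp hB1 hx1) x2 ((hmemℛ B2).mp hB2 hx2)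
    refine ⟨blockHom G 𝔅 hBS.inv ⟨h, hh⟩, ⟨_, rfl⟩, hHfix h hh hfix, ?_⟩
    apply Subtype.ext
    rw [hφ]
    exact hBS.im_eq hh B1.2 B2.2 hx1 (by rw [hhx]; exact hx2)
  have hAlt := ih (Fintype.card 𝔅) hk 𝔅 (blockHom G 𝔅 hBS.inv).range rfl hQP' ℛ hr2 h2rk hJ'
  -- the contradiction
  obtain ⟨B1, hB1⟩ : ∃ B1, B1 ∈ ℛ := Finset.card_pos.mp (by omega)
  obtain ⟨ω1, hω1, ω1', hω1', hne⟩ := Finset.one_lt_card.mp
    (by rw [hBS.card B1.1 B1.2]; omega : 1 < B1.1.card)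
  have hB1Γ := (hmemℛ B1).mp hB1
  obtain ⟨u, hu, hufix, huω⟩ := hJ ω1 (hB1Γ hω1) ω1' (hB1Γ hω1')
  have huB1 : blockHom G 𝔅 hBS.inv ⟨u, hu⟩ B1 = B1 := by
    apply Subtype.ext
    rw [hφ]
    exact hBS.im_eq hu B1.2 B1.2 hω1 (by rw [huω]; exact hω1')
  have hcompl : ℛ.card - 1 ≤ (ℛᶜ).card := by
    rw [Finset.card_compl]; omega
  obtain ⟨𝒞, h𝒞sub, h𝒞card⟩ := Finset.exists_subset_card_eq hcompl
  have hB1𝒞 : B1 ∉ 𝒞 := fun h => by
    have := h𝒞sub h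
    rw [Finset.mem_compl] at this
    exact this hB1
  obtain ⟨σ, hσsign, hσ⟩ := exists_even_perm_image ℛ (insert B1 𝒞)
    (by rw [Finset.card_insert_of_notMem hB1𝒞, h𝒞card]; omega) (by omega)
  obtain ⟨g', hg'⟩ : ∃ g' : G, blockHom G 𝔅 hBS.inv g' = σ :=
    hAlt (mem_alternatingGroup.mpr hσsign)
  obtain ⟨C0, hC0⟩ : ∃ C0, C0 ∈ 𝒞 := Finset.card_pos.mp (by omega)
  have hC0ℛ : C0 ∉ ℛ := Finset.mem_compl.mp (h𝒞sub hC0)
  obtain ⟨c, hc⟩ := hBS.nonempty C0.2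
  have hcΓ : c ∉ Γ := fun h => Finset.disjoint_left.mp (hnotℛ C0 hC0ℛ) hc h
  have hpre : ∀ (D : 𝔅) (d : Ω), D ∈ insert B1 𝒞 → d ∈ D.1 → (g'.1)⁻¹ d ∈ Γ := by
    intro D d hD hd
    have h1 : σ⁻¹ D ∈ ℛ := (hσ (σ⁻¹ D)).mp (by rw [app_inv]; exact hD)
    have h2 : ((σ⁻¹ D : 𝔅) : Finset Ω) = im (g'.1)⁻¹ D.1 := by
      rw [← hg', ← map_inv]
      rfl
    have h3 := (hmemℛ _).mp h1
    apply h3
    rw [h2]
    exact apply_mem_im.mpr hd
  have hpc := hpre C0 c (Finset.mem_insert_of_mem hC0) hc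
  have hpω := hpre B1 ω1 (Finset.mem_insert_self _ _) hω1
  obtain ⟨h, hh, hfix, hhc⟩ := hJ _ hpc _ hpω
  have hmem' : g'.1 * h * (g'.1)⁻¹ ∈ G := G.mul_mem (G.mul_mem g'.2 hh) (G.inv_mem g'.2)
  have hker1 : ∀ x : G, blockHom G 𝔅 hBS.inv x = 1 → x = 1 := fun x hx =>
    Subtype.ext (hfaith x.1 x.2 (fun B hB => by
      have := congrArg (fun τ : Perm 𝔅 => ((τ ⟨B, hB⟩ : 𝔅) : Finset Ω)) hx
      exact this))
  have hinj : Function.Injective (blockHom G 𝔅 hBS.inv) :=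
    (injective_iff_map_eq_one _).mpr hker1
  have hdisj : Perm.Disjoint (blockHom G 𝔅 hBS.inv ⟨u, hu⟩)
      (blockHom G 𝔅 hBS.inv ⟨g'.1 * h * (g'.1)⁻¹, hmem'⟩) := by
    intro C
    by_cases hC : C ∈ ℛ ∧ C ≠ B1
    · right
      have e : blockHom G 𝔅 hBS.inv ⟨g'.1 * h * (g'.1)⁻¹, hmem'⟩ =
          σ * blockHom G 𝔅 hBS.inv ⟨h, hh⟩ * σ⁻¹ := by
        rw [← hg', ← map_inv, ← map_mul, ← map_mul]
        rfl
      rw [e, Perm.mul_apply, Perm.mul_apply]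
      have hnot : σ⁻¹ C ∉ ℛ := by
        intro hmem
        have := (hσ (σ⁻¹ C)).mpr hmem
        rw [app_inv, Finset.mem_insert] at this
        rcases this with h1 | h1
        · exact hC.2 h1
        · exact (Finset.mem_compl.mp (h𝒞sub h1)) hC.1
      rw [hHfix h hh hfix _ hnot, app_inv]
    · left
      rw [not_and_or, not_not] at hC
      rcases hC with hC | hC
      · exact hHfix u hu hufix C hC
      · rw [hC]
        exact huB1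
  have hcomm : u * (g'.1 * h * (g'.1)⁻¹) = (g'.1 * h * (g'.1)⁻¹) * u := by
    have hc1 := hdisj.commute
    have : blockHom G 𝔅 hBS.inv (⟨u, hu⟩ * ⟨_, hmem'⟩) =
        blockHom G 𝔅 hBS.inv (⟨_, hmem'⟩ * ⟨u, hu⟩) := by
      rw [map_mul, map_mul]
      exact hc1.eq
    have := hinj this
    exact congrArg Subtype.val this
  have h'c : (g'.1 * h * (g'.1)⁻¹) c = ω1 := by
    rw [Perm.mul_apply, Perm.mul_apply, hhc, app_inv]
  have huc : u c = c := hufix c hcΓ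
  have hfin : u ω1 = ω1 := by
    conv_lhs => rw [← h'c]
    rw [← Perm.mul_apply, hcomm, Perm.mul_apply, huc, h'c]
  exact hne (hfin.symm.trans huω)

/-- **Marggraf's theorem** for quasiprimitive groups. -/
theorem marggraf_qp {Ω : Type u} [Fintype Ω] [DecidableEq Ω] (G : Subgroup (Perm Ω))
    (hQP : QP G) (Γ : Finset Ω) (h1 : 1 < Γ.card) (h2 : 2 * Γ.card < Fintype.card Ω)
    (hJ : ∀ x ∈ Γ, ∀ y ∈ Γ, ∃ g ∈ G, (∀ z, z ∉ Γ → g z = z) ∧ g x = y) :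
    alternatingGroup Ω ≤ G :=
  qp_aux (Fintype.card Ω) Ω G rfl hQP Γ h1 h2 hJ

end Cfsg.Agent.Lib.Helper11.Marg
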