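import Mathlib

/-!
Orbit sums: for an invariant function `t` on a finite `L`-set `X`,
`∑_b |Stab b| / |L| * t b = ∑_{orbits} t`, in particular it is an integer when `t` is
integer-valued.
-/

set_option autoImplicit false

namespace Cfsg.Agent.Lib.Helper11

section OrbitSum
open Classical

variable {L X : Type*} [Group L] [Fintype L] [Fintype X] [MulAction L X]

theorem card_stabilizer_div_card (b : X) :
    (Nat.card (MulAction.stabilizer L b) : ℂ) / (Nat.card L : ℂ)
      = ((Nat.card (MulAction.orbit L b) : ℂ))⁻¹ := by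
  have h : Nat.card (MulAction.orbit L b) * Nat.card (MulAction.stabilizer L b) = Nat.card L := by
    rw [← Nat.card_prod]
    exact Nat.card_congr (MulAction.orbitProdStabilizerEquivGroup L b)
  have hL : (Nat.card L : ℂ) ≠ 0 := by exact_mod_cast Nat.card_pos.ne'
  have ho : (Nat.card (MulAction.orbit L b) : ℂ) ≠ 0 := by
    have : Nonempty (MulAction.orbit L b) := ⟨⟨b, MulAction.mem_orbit_self b⟩⟩
    exact_mod_cast Nat.card_pos.ne'
  have hs : (Nat.card (MulAction.stabilizer L b) : ℂ) ≠ 0 := by
    exact_mod_cast Nat.card_pos.ne'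
  rw [← h]
  push_cast
  field_simp

theorem sum_stabilizer_div_card (t : X → ℂ) (hinv : ∀ (x : L) (b : X), t (x • b) = t b) :
    ∑ b : X, (Nat.card (MulAction.stabilizer L b) : ℂ) / (Nat.card L : ℂ) * t b
      = ∑ ω : MulAction.orbitRel.Quotient L X, t ω.out := by
  rw [← Finset.sum_fiberwise (s := Finset.univ)
    (g := fun b : X => (Quotient.mk'' b : MulAction.orbitRel.Quotient L X))]
  apply Finset.sum_congr rfl
  intro ω _
  have hfib : ∀ b : X, (Quotient.mk'' b : MulAction.orbitRel.Quotient L X) = ω ↔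
      b ∈ MulAction.orbit L ω.out := by
    intro b
    rw [← MulAction.orbitRel.Quotient.mem_orbit,
      MulAction.orbitRel.Quotient.orbit_eq_orbit_out ω Quotient.out_eq']
  have hterm : ∀ b ∈ Finset.univ.filter
      (fun b : X => (Quotient.mk'' b : MulAction.orbitRel.Quotient L X) = ω),
      (Nat.card (MulAction.stabilizer L b) : ℂ) / (Nat.card L : ℂ) * t b
        = ((Nat.card (MulAction.orbit L ω.out) : ℂ))⁻¹ * t ω.out := by
    intro b hb
    have hb' := (hfib b).1 (Finset.mem_filter.1 hb).2
    obtain ⟨x, hx⟩ := hb'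
    have hx' : x • ω.out = b := hx
    rw [card_stabilizer_div_card, ← hx', hinv, MulAction.orbit_smul]
  rw [Finset.sum_congr rfl hterm, Finset.sum_const, nsmul_eq_mul]
  have hcard : (Finset.univ.filter
      (fun b : X => (Quotient.mk'' b : MulAction.orbitRel.Quotient L X) = ω)).card
      = Nat.card (MulAction.orbit L ω.out) := by
    rw [Nat.card_eq_fintype_card, ← Set.toFinset_card]
    congr 1
    ext b
    simp only [Finset.mem_filter, Finset.mem_univ, true_and, Set.mem_toFinset]
    exact hfib b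
  rw [hcard]
  have ho : (Nat.card (MulAction.orbit L ω.out) : ℂ) ≠ 0 := by
    have : Nonempty (MulAction.orbit L ω.out) := ⟨⟨ω.out, MulAction.mem_orbit_self _⟩⟩
    exact_mod_cast Nat.card_pos.ne'
  field_simp

theorem sum_stabilizer_div_card_int (t : X → ℂ) (hinv : ∀ (x : L) (b : X), t (x • b) = t b)
    (hint : ∀ b : X, ∃ z : ℤ, t b = (z : ℂ)) :
    ∃ z : ℤ, ∑ b : X, (Nat.card (MulAction.stabilizer L b) : ℂ) / (Nat.card L : ℂ) * t b
      = (z : ℂ) := by
  rw [sum_stabilizer_div_card t hinv]
  choose z hz using hint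
  refine ⟨∑ ω : MulAction.orbitRel.Quotient L X, z ω.out, ?_⟩
  push_cast
  exact Finset.sum_congr rfl (fun ω _ => hz _)

end OrbitSum

end Cfsg.Agent.Lib.Helper11
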