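import Mathlib
import Cfsg.Agent.Lib.Helper22.PElt
import Cfsg.Agent.Lib.Helper22.Jordan

/-!
# S4321-[B2] (helper11, for helper24): Lemma D

If every `p'`-element of the finite group `L` centralizes some Sylow `p`-subgroup, then
`L = P · C_L(P)` for every Sylow `p`-subgroup `P`.  (Every element lies in a conjugate of the subgroup
`P · C_L(P)`; Jordan.)
-/

set_option autoImplicit false

namespace Cfsg.Agent.Lib.Helper24.PSing

open Subgroup

namespace Helper11

/-- the subgroup `P · C_L(P)` -/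
def mulCent {L : Type*} [Group L] (P : Subgroup L) : Subgroup L where
  carrier := {l | ∃ u ∈ P, ∃ c : L, (∀ q ∈ P, Commute q c) ∧ l = u * c}
  one_mem' := ⟨1, P.one_mem, 1, fun q _ => Commute.one_right q, (mul_one 1).symm⟩
  mul_mem' := by
    rintro _ _ ⟨u, hu, c, hc, rfl⟩ ⟨u', hu', c', hc', rfl⟩
    refine ⟨u * u', P.mul_mem hu hu', c * c', fun q hq => (hc q hq).mul_right (hc' q hq), ?_⟩
    have h := (hc u' hu').eq
    calc u * c * (u' * c') = u * (c * u') * c' := by group
      _ = u * (u' * c) * c' := by rw [h]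
      _ = u * u' * (c * c') := by group
  inv_mem' := by
    rintro _ ⟨u, hu, c, hc, rfl⟩
    refine ⟨u⁻¹, P.inv_mem hu, c⁻¹, fun q hq => (hc q hq).inv_right, ?_⟩
    have h := (hc u hu).eq
    rw [mul_inv_rev]
    have h2 : c⁻¹ * u⁻¹ = u⁻¹ * c⁻¹ := by
      rw [← mul_inv_rev, ← mul_inv_rev, h]
    exact h2

end Helper11

open Helper11 in
/-- [B2] Lemma D (pure group theory): if every `p'`-element centralizes some Sylow `p`-subgroup
then `L = P · C_L(P)` -/
theorem lemmaD {L : Type*} [Group L] [Finite L] (p : ℕ) [Fact p.Prime] (P : Sylow p L)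
    (h : ∀ k : L, (orderOf k).Coprime p → ∃ Q : Sylow p L, ∀ q ∈ (Q : Subgroup L), Commute q k) :
    ∀ l : L, ∃ u ∈ (P : Subgroup L), ∃ c : L, (∀ q ∈ (P : Subgroup L), Commute q c) ∧ l = u * c := by
  suffices hN : mulCent (P : Subgroup L) = ⊤ by
    intro l
    have hl : l ∈ mulCent (P : Subgroup L) := by rw [hN]; exact Subgroup.mem_top l
    exact hl
  by_contra hN
  obtain ⟨g, hg⟩ := Cfsg.Agent.Lib.Helper22.exists_forall_conj_not_mem (mulCent (P : Subgroup L)) hN
  obtain ⟨t, k, ht, hk, hgtk, ⟨e, hte⟩, hkp⟩ := Cfsg.Agent.Lib.Helper22.exists_p_decomp p g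
  have htk : Commute t k := by
    obtain ⟨i, rfl⟩ := ht
    obtain ⟨j, rfl⟩ := hk
    exact (Commute.refl g).zpow_zpow i j
  obtain ⟨Q, hQ⟩ := h k hkp
  have hQC : (Q : Subgroup L) ≤ centralizer ({k} : Set L) := by
    intro q hq
    rw [mem_centralizer_singleton_iff]
    exact (hQ q hq).eq
  have hidx : ¬ p ∣ (centralizer ({k} : Set L)).index := fun hd =>
    Q.not_dvd_index (dvd_trans hd (index_dvd_of_le hQC))
  have htC : t ∈ centralizer ({k} : Set L) := by
    rw [mem_centralizer_singleton_iff]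
    exact htk.eq
  obtain ⟨Q', hQ'C, htQ'⟩ :=
    Cfsg.Agent.Lib.Helper22.exists_sylow_le_mem_of_not_dvd_index (centralizer ({k} : Set L)) hidx t htC
      e hte
  obtain ⟨x, hx⟩ := MulAction.exists_smul_eq L P Q'
  have hmem : ∀ y : L, y ∈ (Q' : Subgroup L) ↔ x⁻¹ * y * x ∈ (P : Subgroup L) := by
    intro y
    rw [← hx, Sylow.coe_subgroup_smul, mem_smul_pointwise_iff_exists]
    constructor
    · rintro ⟨s, hs, rfl⟩
      have e1 : x⁻¹ * (MulAut.conj x • s) * x = s := by
        rw [MulAut.smul_def, MulAut.conj_apply]; group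
      rwa [e1]
    · intro hy
      refine ⟨x⁻¹ * y * x, hy, ?_⟩
      rw [MulAut.smul_def, MulAut.conj_apply]; group
  apply hg x
  refine ⟨x⁻¹ * t * x, (hmem t).mp htQ', x⁻¹ * k * x, ?_, ?_⟩
  · intro q hq
    have hq' : x * q * x⁻¹ ∈ (Q' : Subgroup L) := by
      rw [hmem]
      have e1 : x⁻¹ * (x * q * x⁻¹) * x = q := by group
      rwa [e1]
    have hc := hQ'C hq'
    rw [mem_centralizer_singleton_iff] at hc
    have hc' : x * q * x⁻¹ * k = k * (x * q * x⁻¹) := hc
    show q * (x⁻¹ * k * x) = x⁻¹ * k * x * q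
    calc q * (x⁻¹ * k * x) = x⁻¹ * (x * q * x⁻¹ * k) * x := by group
      _ = x⁻¹ * (k * (x * q * x⁻¹)) * x := by rw [hc']
      _ = x⁻¹ * k * x * q := by group
  · rw [hgtk]; group

end Cfsg.Agent.Lib.Helper24.PSing
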