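import Mathlib

/-!
# S4321-[B8] (helper11, for helper24): a finite `p`-group is not covered by a proper subgroup and the
conjugates of a proper subgroup
-/

set_option autoImplicit false

namespace Cfsg.Agent.Lib.Helper24.PSing

namespace Helper11

/-- a group is not the union of two proper subgroups -/
theorem not_cover_two {P : Type*} [Group P] (M M' : Subgroup P) (hM : M ≠ ⊤) (hM' : M' ≠ ⊤)
    (hcov : ∀ y : P, y ∈ M' ∨ y ∈ M) : False := by
  obtain ⟨a, ha⟩ : ∃ a, a ∉ M := by
    by_contra hcon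
    push Not at hcon
    exact hM (eq_top_iff.mpr fun x _ => hcon x)
  obtain ⟨b, hb⟩ : ∃ b, b ∉ M' := by
    by_contra hcon
    push Not at hcon
    exact hM' (eq_top_iff.mpr fun x _ => hcon x)
  have haM' : a ∈ M' := (hcov a).resolve_right ha
  have hbM : b ∈ M := (hcov b).resolve_left hb
  rcases hcov (a * b) with h | h
  · apply hb
    have := M'.mul_mem (M'.inv_mem haM') h
    rwa [inv_mul_cancel_left] at this
  · apply ha
    have := M.mul_mem h (M.inv_mem hbM)
    rwa [mul_inv_cancel_right] at this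

/-- a proper subgroup of a finite `p`-group lies in a proper normal subgroup -/
theorem exists_normal_ge {P : Type*} [Group P] [Finite P] (p : ℕ) [Fact p.Prime]
    (hP : IsPGroup p P) (C : Subgroup P) (hC : C ≠ ⊤) :
    ∃ M : Subgroup P, M.Normal ∧ M ≠ ⊤ ∧ C ≤ M := by
  haveI : Group.IsNilpotent P := hP.isNilpotent
  obtain ⟨M, hM, hCM⟩ := (eq_top_or_exists_le_coatom C).resolve_left hC
  exact ⟨M, Subgroup.NormalizerCondition.normal_of_coatom M Group.normalizerCondition_of_isNilpotent hM, hM.1, hCM⟩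

end Helper11

open Helper11 in
/-- [B8] a finite `p`-group is not covered by a proper subgroup and the conjugates of a proper
subgroup -/
theorem pgroup_cover {P : Type*} [Group P] [Finite P] (p : ℕ) [Fact p.Prime] (hP : IsPGroup p P)
    (B C₀ : Subgroup P) (hB : B ≠ ⊤) (hcov : ∀ y : P, y ∈ B ∨ ∃ u : P, u⁻¹ * y * u ∈ C₀) :
    C₀ = ⊤ := by
  by_contra hC
  obtain ⟨M, hMn, hM, hCM⟩ := exists_normal_ge p hP C₀ hC
  obtain ⟨M', -, hM', hBM'⟩ := exists_normal_ge p hP B hB
  refine not_cover_two M M' hM hM' fun y => ?_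
  rcases hcov y with h | ⟨u, hu⟩
  · exact Or.inl (hBM' h)
  · right
    have h1 : u⁻¹ * y * u ∈ M := hCM hu
    have h2 := hMn.conj_mem _ h1 u
    have e : u * (u⁻¹ * y * u) * u⁻¹ = y := by group
    rwa [e] at h2

end Cfsg.Agent.Lib.Helper24.PSing
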