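import Mathlib
import Cfsg.Prelude.Def_Characters
import Cfsg.Agent.Lib.Helper21.GL23Defs
import Cfsg.Agent.H5.SmallOrdBasic
import Cfsg.Agent.S0215

/-!
S0197, package E: group theory in a group `G` with an involution `t` whose centraliser is `GL(2,3)`.
-/

set_option autoImplicit false

namespace Cfsg.Agent.Lib.Helper11.S0197E

open Cfsg.Agent.Lib.Helper21.GL23

/-- the concrete facts about `GL(2,3)` (package B) that package E uses -/
structure BFacts : Prop where
  card_cls : ∀ c : Fin 8, Nat.card {M : Gam // cls M = c} = csize c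
  exists_conj_of_cls_eq : ∀ M N : Gam, cls M = cls N → ∃ X : Gam, X * M * X⁻¹ = N
  eq_of_sixteen_dvd_centralizer : ∀ M : Gam,
    16 ∣ Nat.card (Subgroup.centralizer ({M} : Set Gam)) → M = 1 ∨ M = -1
  inD_iff : ∀ M : Gam, inD (cls M) ↔ (-1 : Gam) ∈ Subgroup.zpowers M
  orderOf_eq_two_iff : ∀ M : Gam, orderOf M = 2 ↔ (M = -1 ∨ cls M = 2)
  cls_eq_one_iff : ∀ M : Gam, cls M = 1 ↔ M = -1
  no_inverting : ∀ z a : Gam, cls z = 6 → a * a = 1 → (a * z) * (a * z) = 1 → False
  card_Gam : Nat.card Gam = 48

section E

variable (hB : BFacts) {G : Type*} [Group G] [Finite G] (t : G) (ht : orderOf t = 2)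
  (e : Subgroup.centralizer ({t} : Set G) ≃* Gam)

/-- `t` as an element of its centraliser -/
def tH : Subgroup.centralizer ({t} : Set G) := ⟨t, by simp [Subgroup.mem_centralizer_iff]⟩

omit [Finite G] in
theorem tH_comm (y : Subgroup.centralizer ({t} : Set G)) : tH t * y = y * tH t := by
  apply Subtype.ext
  have := y.2
  rw [Subgroup.mem_centralizer_singleton_iff] at this
  exact this.symm

include ht in
omit [Finite G] in
theorem tH_ne_one : tH t ≠ 1 := by
  intro h
  have h2 : t = 1 := congrArg Subtype.val h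
  rw [h2, orderOf_one] at ht
  omega

include hB ht in
omit [Finite G] in
theorem e_tH : e (tH t) = -1 := by
  have hcen : Subgroup.centralizer ({e (tH t)} : Set Gam) = ⊤ := by
    rw [eq_top_iff]
    intro M _
    rw [Subgroup.mem_centralizer_singleton_iff]
    obtain ⟨y, rfl⟩ := e.surjective M
    rw [← map_mul, ← map_mul, tH_comm]
  have h16 : 16 ∣ Nat.card (Subgroup.centralizer ({e (tH t)} : Set Gam)) := by
    rw [hcen, Subgroup.card_top, hB.card_Gam]
    norm_num
  rcases hB.eq_of_sixteen_dvd_centralizer _ h16 with h | h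
  · exfalso
    apply tH_ne_one t ht
    apply e.injective
    rw [h, map_one]
  · exact h

include hB ht in
omit [Finite G] in
theorem e_t : e ⟨t, by simp [Subgroup.mem_centralizer_iff]⟩ = -1 := e_tH hB t ht e

include hB e in
theorem card_H : Nat.card (Subgroup.centralizer ({t} : Set G)) = 48 := by
  rw [Nat.card_congr e.toEquiv, hB.card_Gam]

include hB ht e in
/-- a Sylow 2-subgroup of `G` containing `t` and contained in `C(t)` -/
theorem exists_sylow : ∃ T : Sylow 2 G, t ∈ (T : Subgroup G) ∧
    (T : Subgroup G) ≤ Subgroup.centralizer ({t} : Set G) := by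
  classical
  haveI : Fact (Nat.Prime 2) := ⟨Nat.prime_two⟩
  set H := Subgroup.centralizer ({t} : Set G) with hH
  have hcardH : Nat.card H = 48 := card_H hB t e
  -- a Sylow 2-subgroup of H containing t
  have hz2 : IsPGroup 2 (Subgroup.zpowers (tH t)) := by
    apply IsPGroup.of_card (n := 1)
    rw [Nat.card_zpowers, pow_one]
    have : orderOf (tH t) = orderOf t := Subgroup.orderOf_mk t _
    rw [this, ht]
  obtain ⟨S, hS⟩ := hz2.exists_le_sylow
  have hScard : Nat.card (S : Subgroup H) = 16 := by
    have h2 := Cfsg.H5.SmallOrd.sylow_card 2 4 3 (by norm_num) (by rw [hcardH]; norm_num) S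
    rw [h2]; norm_num
  have htS : tH t ∈ (S : Subgroup H) := hS (Subgroup.mem_zpowers _)
  -- its image in G and a Sylow 2-subgroup of G above it
  have hS' : IsPGroup 2 ((S : Subgroup H).map H.subtype) := S.isPGroup'.map _
  obtain ⟨T, hT⟩ := hS'.exists_le_sylow
  have htT : t ∈ (T : Subgroup G) := hT ⟨tH t, htS, rfl⟩
  refine ⟨T, htT, ?_⟩
  -- a non-trivial central element of T
  haveI : Nontrivial (T : Subgroup G) := ⟨⟨⟨t, htT⟩, 1, by
    intro h
    have h2 : t = 1 := congrArg Subtype.val h
    rw [h2, orderOf_one] at ht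
    omega⟩⟩
  haveI := T.isPGroup'.center_nontrivial
  obtain ⟨z, hz⟩ := exists_ne (1 : Subgroup.center (T : Subgroup G))
  have hzc : ∀ y : (T : Subgroup G), (z : T) * y = y * (z : T) := by
    intro y
    have := z.2
    rw [Subgroup.mem_center_iff] at this
    exact (this y).symm
  have hzG : ∀ y ∈ (T : Subgroup G), ((z : T) : G) * y = y * ((z : T) : G) := by
    intro y hy
    have := congrArg Subtype.val (hzc ⟨y, hy⟩)
    simpa using this
  have hz1 : ((z : T) : G) ≠ 1 := by
    intro h
    apply hz
    apply Subtype.ext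
    apply Subtype.ext
    simpa using h
  have hzH : ((z : T) : G) ∈ H := by
    rw [hH, Subgroup.mem_centralizer_singleton_iff]
    exact hzG t htT
  set zH : H := ⟨((z : T) : G), hzH⟩ with hzHdef
  -- S centralises zH
  have hSle : (S : Subgroup H) ≤ Subgroup.centralizer ({zH} : Set H) := by
    intro s hs
    rw [Subgroup.mem_centralizer_singleton_iff]
    apply Subtype.ext
    have hsT : (s : G) ∈ (T : Subgroup G) := hT ⟨s, hs, rfl⟩
    exact (hzG (s : G) hsT).symm
  have h16 : 16 ∣ Nat.card (Subgroup.centralizer ({e zH} : Set Gam)) := by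
    have hle : (S : Subgroup H).map e.toMonoidHom ≤ Subgroup.centralizer ({e zH} : Set Gam) := by
      rintro _ ⟨s, hs, rfl⟩
      have h1 := hSle hs
      rw [Subgroup.mem_centralizer_singleton_iff] at h1 ⊢
      show e s * e zH = e zH * e s
      rw [← map_mul, ← map_mul, h1]
    have hc : Nat.card ((S : Subgroup H).map e.toMonoidHom) = 16 := by
      rw [Subgroup.card_map_of_injective (f := e.toMonoidHom) e.injective, hScard]
    rw [← hc]
    exact Subgroup.card_dvd_of_le hle
  have hzt : ((z : T) : G) = t := by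
    rcases hB.eq_of_sixteen_dvd_centralizer _ h16 with h | h
    · exfalso
      apply hz1
      have h2 : zH = 1 := e.injective (by rw [h, map_one])
      exact congrArg Subtype.val h2
    · have h2 : zH = tH t := e.injective (by rw [h, e_tH hB t ht e])
      exact congrArg Subtype.val h2
  intro y hy
  rw [Subgroup.mem_centralizer_singleton_iff]
  have := hzG y hy
  rw [hzt] at this
  exact this.symm

include hB ht e in
theorem two_part : 16 ∣ Nat.card G ∧ ¬ 32 ∣ Nat.card G := by
  haveI : Fact (Nat.Prime 2) := ⟨Nat.prime_two⟩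
  constructor
  · have h1 : Nat.card (Subgroup.centralizer ({t} : Set G)) ∣ Nat.card G :=
      Subgroup.card_subgroup_dvd_card _
    rw [card_H hB t e] at h1
    exact Dvd.dvd.trans (by norm_num) h1
  · intro h32
    obtain ⟨T, -, hTH⟩ := exists_sylow hB t ht e
    have h1 : 2 ^ 5 ∣ Nat.card (T : Subgroup G) :=
      T.pow_dvd_card_of_pow_dvd_card (by norm_num; exact h32)
    have h2 : Nat.card (T : Subgroup G) ∣ 48 := by
      rw [← card_H hB t e]
      exact Subgroup.card_dvd_of_le hTH
    have h3 : 2 ^ 5 ∣ 48 := h1.trans h2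
    norm_num at h3

omit [Finite G] in
theorem sq_eq_one_of_isConj {t p : G} (ht : orderOf t = 2) (hp : IsConj t p) : p * p = 1 := by
  obtain ⟨c, rfl⟩ := isConj_iff.mp hp
  have h2 : t * t = 1 := by
    have := pow_orderOf_eq_one t
    rwa [ht, pow_two] at this
  calc c * t * c⁻¹ * (c * t * c⁻¹) = c * (t * t) * c⁻¹ := by group
    _ = 1 := by rw [h2]; group

omit [Finite G] in
theorem orderOf_of_isConj {t p : G} (hp : IsConj t p) : orderOf p = orderOf t := by
  obtain ⟨c, rfl⟩ := isConj_iff.mp hp
  have h := (MulAut.conj c).orderOf_eq t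
  simpa [MulAut.conj_apply] using h

/-- a cyclic group has at most one involution -/
theorem zpow_eq_of_sq_eq_one {b : G} {k m : ℤ} (hk : b ^ k * b ^ k = 1) (hk1 : b ^ k ≠ 1)
    (hm : b ^ m * b ^ m = 1) (hm1 : b ^ m ≠ 1) : b ^ k = b ^ m := by
  classical
  by_contra hne
  haveI : Fintype (Subgroup.zpowers b) := Fintype.ofFinite _
  have hle := IsCyclic.card_pow_eq_one_le (α := Subgroup.zpowers b) (n := 2) (by norm_num)
  set u : Subgroup.zpowers b := ⟨b ^ k, Subgroup.zpow_mem_zpowers b k⟩ with hu
  set v : Subgroup.zpowers b := ⟨b ^ m, Subgroup.zpow_mem_zpowers b m⟩ with hv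
  have hsub : ({1, u, v} : Finset (Subgroup.zpowers b)) ⊆
      Finset.univ.filter (fun a : Subgroup.zpowers b => a ^ 2 = 1) := by
    intro y hy
    simp only [Finset.mem_insert, Finset.mem_singleton] at hy
    rw [Finset.mem_filter]
    refine ⟨Finset.mem_univ _, ?_⟩
    rcases hy with rfl | rfl | rfl
    · exact one_pow 2
    · apply Subtype.ext
      rw [pow_two]
      exact hk
    · apply Subtype.ext
      rw [pow_two]
      exact hm
  have hcard : ({1, u, v} : Finset (Subgroup.zpowers b)).card = 3 := by
    rw [Finset.card_insert_of_notMem, Finset.card_insert_of_notMem, Finset.card_singleton]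
    · intro h
      rw [Finset.mem_singleton] at h
      exact hne (congrArg Subtype.val h)
    · intro h
      simp only [Finset.mem_insert, Finset.mem_singleton] at h
      rcases h with h | h
      · exact hk1 (congrArg Subtype.val h).symm
      · exact hm1 (congrArg Subtype.val h).symm
  have := Finset.card_le_card hsub
  omega

include hB ht in
omit [Finite G] in
/-- elements of the TI-set have `t` as a power -/
theorem exists_zpow_eq (c : Subgroup.centralizer ({t} : Set G)) (hc : inD (cls (e c))) :
    ∃ k : ℤ, (c : G) ^ k = t := by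
  rw [hB.inD_iff] at hc
  obtain ⟨k, hk⟩ := Subgroup.mem_zpowers_iff.mp hc
  refine ⟨k, ?_⟩
  have h2 : e (c ^ k) = e (tH t) := by rw [map_zpow, hk, e_tH hB t ht e]
  have h3 := e.injective h2
  have h4 := congrArg Subtype.val h3
  simpa [tH] using h4

include hB ht in
theorem ti_property (a : Subgroup.centralizer ({t} : Set G)) (ha : inD (cls (e a))) (x : G)
    (b : Subgroup.centralizer ({t} : Set G)) (hb : inD (cls (e b)))
    (hx : x⁻¹ * (a : G) * x = (b : G)) : x ∈ Subgroup.centralizer ({t} : Set G) := by
  obtain ⟨k, hk⟩ := exists_zpow_eq hB t ht e a ha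
  obtain ⟨m, hm⟩ := exists_zpow_eq hB t ht e b hb
  have ht2 : t * t = 1 := by
    have := pow_orderOf_eq_one t
    rwa [ht, pow_two] at this
  have ht1 : t ≠ 1 := by
    intro h
    rw [h, orderOf_one] at ht
    omega
  have h2 : x⁻¹ * t * x = (b : G) ^ k := by
    have h5 : x⁻¹ * (a : G) ^ k * x = (x⁻¹ * (a : G) * x) ^ k := by
      have := conj_zpow (a := x⁻¹) (b := (a : G)) (i := k)
      rw [inv_inv] at this
      exact this.symm
    have h6 : x⁻¹ * t * x = x⁻¹ * (a : G) ^ k * x := by rw [hk]
    rw [h6, h5, hx]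
  have h3 : (b : G) ^ k = (b : G) ^ m := by
    apply zpow_eq_of_sq_eq_one
    · rw [← h2]
      calc x⁻¹ * t * x * (x⁻¹ * t * x) = x⁻¹ * (t * t) * x := by group
        _ = 1 := by rw [ht2]; group
    · rw [← h2]
      intro h
      apply ht1
      calc t = x * (x⁻¹ * t * x) * x⁻¹ := by group
        _ = 1 := by rw [h]; group
    · rw [hm]; exact ht2
    · rw [hm]; exact ht1
  rw [hm] at h3
  rw [h3] at h2
  rw [Subgroup.mem_centralizer_singleton_iff]
  calc x * t = x * (x⁻¹ * t * x) := by rw [h2]
    _ = t * x := by group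

include hB ht e in
theorem exists_conj_in_centralizer [IsSimpleGroup G] :
    ∃ g : G, g * t * g⁻¹ ∈ Subgroup.centralizer ({t} : Set G) ∧ g * t * g⁻¹ ≠ t := by
  obtain ⟨T, htT, hTH⟩ := exists_sylow hB t ht e
  by_contra hcon
  push Not at hcon
  have hiso : ∀ g : G, g * t * g⁻¹ ∈ (T : Subgroup G) → g * t * g⁻¹ = t :=
    fun g hg => hcon g (hTH hg)
  obtain ⟨N, hN, hodd, hcomm⟩ := Cfsg.Agent.S0215.result T t ht htT hiso
  have h48 : 48 ∣ Nat.card G := by
    rw [← card_H hB t e]
    exact Subgroup.card_subgroup_dvd_card _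
  rcases hN.eq_bot_or_eq_top with h0 | h0
  · -- t is central
    have hcen : ∀ g : G, t * g = g * t := by
      intro g
      have h1 := hcomm g
      rw [h0, Subgroup.mem_bot] at h1
      calc t * g = (t * g * t⁻¹ * g⁻¹) * (g * t) := by group
        _ = g * t := by rw [h1, one_mul]
    have hnorm : (Subgroup.zpowers t).Normal := by
      constructor
      intro n hn g
      obtain ⟨k, rfl⟩ := Subgroup.mem_zpowers_iff.mp hn
      have : g * t ^ k * g⁻¹ = t ^ k := by
        have h1 : Commute t g := hcen g
        have h2 : Commute (t ^ k) g := h1.zpow_left k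
        calc g * t ^ k * g⁻¹ = t ^ k * g * g⁻¹ := by rw [h2.eq]
          _ = t ^ k := by group
      rw [this]
      exact Subgroup.zpow_mem_zpowers t k
    rcases hnorm.eq_bot_or_eq_top with h1 | h1
    · have : t ∈ (⊥ : Subgroup G) := by rw [← h1]; exact Subgroup.mem_zpowers t
      rw [Subgroup.mem_bot] at this
      rw [this, orderOf_one] at ht
      omega
    · have h2 : Nat.card (Subgroup.zpowers t) = Nat.card G := by
        rw [h1, Subgroup.card_top]
      rw [Nat.card_zpowers, ht] at h2
      rw [← h2] at h48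
      omega
  · rw [h0, Subgroup.card_top] at hodd
    have : ¬ 2 ∣ Nat.card G := Nat.odd_iff.mp hodd |> fun h => by omega
    exact this (Dvd.dvd.trans (by norm_num) h48)

include hB ht in
theorem isConj_of_cls_two [IsSimpleGroup G] (h : Subgroup.centralizer ({t} : Set G))
    (hh : cls (e h) = 2) : IsConj t (h : G) := by
  obtain ⟨g, hgH, hgt⟩ := exists_conj_in_centralizer hB t ht e
  set t' : Subgroup.centralizer ({t} : Set G) := ⟨g * t * g⁻¹, hgH⟩ with ht'
  have ho : orderOf t' = 2 := by
    rw [Subgroup.orderOf_mk]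
    have h := (MulAut.conj g).orderOf_eq t
    rw [MulAut.conj_apply] at h
    rw [h, ht]
  have ho2 : orderOf (e t') = 2 := by rw [e.orderOf_eq, ho]
  have hcls : cls (e t') = 2 := by
    rcases (hB.orderOf_eq_two_iff _).mp ho2 with h1 | h1
    · exfalso
      apply hgt
      have h2 : t' = tH t := e.injective (by rw [h1, e_tH hB t ht e])
      exact congrArg Subtype.val h2
    · exact h1
  obtain ⟨X, hX⟩ := hB.exists_conj_of_cls_eq (e t') (e h) (by rw [hcls, hh])
  obtain ⟨y, rfl⟩ := e.surjective X
  have h3 : y * t' * y⁻¹ = h := e.injective (by rw [map_mul, map_mul, map_inv, hX])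
  have h4 := congrArg Subtype.val h3
  simp only [Subgroup.coe_mul, Subgroup.coe_inv, ht'] at h4
  rw [isConj_iff]
  refine ⟨(y : G) * g, ?_⟩
  rw [← h4]
  group

include hB ht e in
theorem pairs_t [IsSimpleGroup G] :
    Nat.card {p : G × G // IsConj t p.1 ∧ IsConj t p.2 ∧ p.1 * p.2 = t} = 12 := by
  have ht2 : t * t = 1 := by
    have := pow_orderOf_eq_one t
    rwa [ht, pow_two] at this
  have ht1 : t ≠ 1 := by
    intro h
    rw [h, orderOf_one] at ht
    omega
  -- elements of class 2 and their negatives
  have hneg : ∀ M : Gam, cls M = 2 → cls (M * -1) = 2 := by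
    intro M hM
    have hoM : orderOf M = 2 := (hB.orderOf_eq_two_iff M).mpr (Or.inr hM)
    have hM2 : M * M = 1 := by
      have := pow_orderOf_eq_one M
      rwa [hoM, pow_two] at this
    have hM1 : M ≠ 1 := by
      intro h
      rw [h, orderOf_one] at hoM
      omega
    have hMm : M ≠ -1 := by
      intro h
      have h2 := (hB.cls_eq_one_iff M).mpr h
      rw [hM] at h2
      exact absurd h2 (by decide)
    have ho : orderOf (M * -1) = 2 := by
      apply orderOf_eq_prime
      · rw [pow_two]
        calc M * -1 * (M * -1) = M * M := by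
              rw [mul_neg, mul_one, neg_mul_neg]
          _ = 1 := hM2
      · intro h
        apply hMm
        rw [mul_neg, mul_one] at h
        exact neg_eq_iff_eq_neg.mp h |>.trans (by rfl) |> fun h' => by rw [h']
    rcases (hB.orderOf_eq_two_iff _).mp ho with h1 | h1
    · exfalso
      apply hM1
      rw [mul_neg, mul_one] at h1
      exact neg_injective h1
    · exact h1
  have hcard : Nat.card {M : Gam // cls M = 2} = 12 := by
    rw [hB.card_cls]
    rfl
  rw [← hcard]
  symm
  let f : {M : Gam // cls M = 2} → {p : G × G // IsConj t p.1 ∧ IsConj t p.2 ∧ p.1 * p.2 = t} :=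
    fun M => ⟨(((e.symm M.1 : Subgroup.centralizer ({t} : Set G)) : G),
        ((e.symm M.1 : Subgroup.centralizer ({t} : Set G)) : G) * t), by
      have hM := M.2
      have hoM : orderOf M.1 = 2 := (hB.orderOf_eq_two_iff M.1).mpr (Or.inr hM)
      have hs : (e.symm M.1) * (e.symm M.1) = 1 := by
        apply e.injective
        rw [map_mul, e.apply_symm_apply, map_one]
        have := pow_orderOf_eq_one M.1
        rwa [hoM, pow_two] at this
      have hsG : ((e.symm M.1 : Subgroup.centralizer ({t} : Set G)) : G) *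
          ((e.symm M.1 : Subgroup.centralizer ({t} : Set G)) : G) = 1 := by
        have := congrArg Subtype.val hs
        simpa using this
      refine ⟨?_, ?_, ?_⟩
      · exact isConj_of_cls_two hB t ht e (e.symm M.1) (by rw [e.apply_symm_apply]; exact hM)
      · have h1 := isConj_of_cls_two hB t ht e (e.symm M.1 * tH t)
          (by rw [map_mul, e.apply_symm_apply, e_tH hB t ht e]; exact hneg M.1 hM)
        simpa [tH] using h1
      · show ((e.symm M.1 : Subgroup.centralizer ({t} : Set G)) : G) *
          (((e.symm M.1 : Subgroup.centralizer ({t} : Set G)) : G) * t) = t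
        rw [← mul_assoc, hsG, one_mul]⟩
  apply Nat.card_congr
  apply Equiv.ofBijective f
  constructor
  · intro M N hMN
    have h1 := congrArg (fun p => p.1.1) hMN
    simp only [f] at h1
    apply Subtype.ext
    have h2 : e.symm M.1 = e.symm N.1 := Subtype.ext h1
    exact e.symm.injective h2
  · rintro ⟨⟨p1, p2⟩, hp1, hp2, hprod⟩
    simp only at hp1 hp2 hprod
    have h11 : p1 * p1 = 1 := sq_eq_one_of_isConj ht hp1
    have h22 : p2 * p2 = 1 := sq_eq_one_of_isConj ht hp2
    have hp2eq : p2 = p1 * t := by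
      calc p2 = p1 * p1 * p2 := by rw [h11, one_mul]
        _ = p1 * (p1 * p2) := by group
        _ = p1 * t := by rw [hprod]
    have hcomm : p1 * t = t * p1 := by
      -- t p1 = p1 p2 p1 = p2⁻¹... use (p1 p2)^2 = 1
      have h3 : p1 * p2 * (p1 * p2) = 1 := by rw [hprod]; exact ht2
      have h4 : p1 * p2 * p1 = p2 := by
        calc p1 * p2 * p1 = p1 * p2 * p1 * (p2 * p2) := by rw [h22, mul_one]
          _ = (p1 * p2 * (p1 * p2)) * p2 := by group
          _ = p2 := by rw [h3, one_mul]
      calc p1 * t = p2 := hp2eq.symm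
        _ = p1 * p2 * p1 := h4.symm
        _ = t * p1 := by rw [hprod]
    have hp1H : p1 ∈ Subgroup.centralizer ({t} : Set G) := by
      rw [Subgroup.mem_centralizer_singleton_iff]
      exact hcomm
    set q : Subgroup.centralizer ({t} : Set G) := ⟨p1, hp1H⟩ with hq
    have hoq : orderOf (e q) = 2 := by
      rw [e.orderOf_eq, Subgroup.orderOf_mk, orderOf_of_isConj hp1, ht]
    have hcls : cls (e q) = 2 := by
      rcases (hB.orderOf_eq_two_iff _).mp hoq with h1 | h1
      · exfalso
        have h2 : q = tH t := e.injective (by rw [h1, e_tH hB t ht e])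
        have h3 : p1 = t := congrArg Subtype.val h2
        rw [h3, ht2] at hp2eq
        have h5 := orderOf_of_isConj hp2
        rw [hp2eq, orderOf_one, ht] at h5
        omega
      · exact h1
    refine ⟨⟨e q, hcls⟩, ?_⟩
    apply Subtype.ext
    simp only [f, e.symm_apply_apply]
    rw [hp2eq]

include hB ht in
theorem pairs_g (w : Subgroup.centralizer ({t} : Set G)) (hw : cls (e w) = 6) :
    Nat.card {p : G × G // IsConj t p.1 ∧ IsConj t p.2 ∧ p.1 * p.2 = (w : G)} = 0 := by
  have ht2 : t * t = 1 := by
    have := pow_orderOf_eq_one t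
    rwa [ht, pow_two] at this
  haveI : IsEmpty {p : G × G // IsConj t p.1 ∧ IsConj t p.2 ∧ p.1 * p.2 = (w : G)} := by
    constructor
    rintro ⟨⟨p1, p2⟩, hp1, hp2, hprod⟩
    simp only at hp1 hp2 hprod
    have h11 : p1 * p1 = 1 := sq_eq_one_of_isConj ht hp1
    have h22 : p2 * p2 = 1 := sq_eq_one_of_isConj ht hp2
    have hp1i : p1⁻¹ = p1 := inv_eq_of_mul_eq_one_left h11
    have hp2i : p2⁻¹ = p2 := inv_eq_of_mul_eq_one_left h22
    -- p1 inverts w
    have hinv : p1 * (w : G) * p1⁻¹ = (w : G)⁻¹ := by
      rw [← hprod, mul_inv_rev, hp1i, hp2i]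
      calc p1 * (p1 * p2) * p1 = (p1 * p1) * p2 * p1 := by group
        _ = p2 * p1 := by rw [h11, one_mul]
    obtain ⟨k, hk⟩ := exists_zpow_eq hB t ht e w (by rw [hw]; right; right; right; left; rfl)
    have hpt : p1 * t * p1⁻¹ = t := by
      rw [← hk, ← conj_zpow, hinv, inv_zpow, hk]
      exact inv_eq_of_mul_eq_one_left ht2
    have hp1H : p1 ∈ Subgroup.centralizer ({t} : Set G) := by
      rw [Subgroup.mem_centralizer_singleton_iff]
      calc p1 * t = p1 * t * p1⁻¹ * p1 := by group
        _ = t * p1 := by rw [hpt]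
    set q : Subgroup.centralizer ({t} : Set G) := ⟨p1, hp1H⟩ with hq
    have ha : e q * e q = 1 := by
      rw [← map_mul]
      have : q * q = 1 := Subtype.ext h11
      rw [this, map_one]
    have hb : (e q * e w) * (e q * e w) = 1 := by
      rw [← map_mul, ← map_mul]
      have : (q * w) * (q * w) = 1 := by
        apply Subtype.ext
        show p1 * (w : G) * (p1 * (w : G)) = 1
        have h5 : p1 * (w : G) = p2 := by
          rw [← hprod]
          calc p1 * (p1 * p2) = (p1 * p1) * p2 := by group
            _ = p2 := by rw [h11, one_mul]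
        rw [h5, h22]
      rw [this, map_one]
    exact hB.no_inverting (e w) (e q) hw ha hb
  exact Nat.card_of_isEmpty

end E

end Cfsg.Agent.Lib.Helper11.S0197E
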