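import Mathlib
import Cfsg.Agent.Lib.Helper11.S0197E
import Cfsg.Agent.Lib.Helper19.S0197BB

/-!
# S0197, package E: hypothesis-free versions

`Cfsg.Agent.Lib.Helper11.S0197E` proves package E from the structure `BFacts`; helper19's
`S0197BB` supplies all of its fields, so here are the skeleton statements without `hB`.
-/

set_option autoImplicit false

namespace Cfsg.Agent.Lib.Helper11.S0197E2

open Cfsg.Agent.Lib.Helper21.GL23
open Cfsg.Agent.Lib.Helper11.S0197E

/-- all the facts of package B1 -/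
theorem bFacts : BFacts where
  card_cls := Cfsg.Agent.Lib.Helper19.S0197B.card_cls
  exists_conj_of_cls_eq := Cfsg.Agent.Lib.Helper19.S0197B.exists_conj_of_cls_eq
  eq_of_sixteen_dvd_centralizer := Cfsg.Agent.Lib.Helper19.S0197B.eq_of_sixteen_dvd_centralizer
  inD_iff := Cfsg.Agent.Lib.Helper19.S0197B.inD_iff
  orderOf_eq_two_iff := Cfsg.Agent.Lib.Helper19.S0197B.orderOf_eq_two_iff
  cls_eq_one_iff := Cfsg.Agent.Lib.Helper19.S0197B.cls_eq_one_iff
  no_inverting := Cfsg.Agent.Lib.Helper19.S0197B.no_inverting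
  card_Gam := Cfsg.Agent.Lib.Helper19.S0197B.card_Gam

section E

variable {G : Type*} [Group G] [Finite G] (t : G) (ht : orderOf t = 2)
  (e : Subgroup.centralizer ({t} : Set G) ≃* Gam)

include ht in
theorem e_t : e ⟨t, by simp [Subgroup.mem_centralizer_iff]⟩ = -1 :=
  S0197E.e_t bFacts t ht e

include ht e in
theorem two_part : 16 ∣ Nat.card G ∧ ¬ 32 ∣ Nat.card G :=
  S0197E.two_part bFacts t ht e

include ht in
theorem ti_property (a : Subgroup.centralizer ({t} : Set G)) (ha : inD (cls (e a))) (x : G)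
    (b : Subgroup.centralizer ({t} : Set G)) (hb : inD (cls (e b)))
    (hx : x⁻¹ * (a : G) * x = (b : G)) : x ∈ Subgroup.centralizer ({t} : Set G) :=
  S0197E.ti_property bFacts t ht e a ha x b hb hx

include ht in
theorem isConj_of_cls_two [IsSimpleGroup G] (h : Subgroup.centralizer ({t} : Set G))
    (hh : cls (e h) = 2) : IsConj t (h : G) :=
  S0197E.isConj_of_cls_two bFacts t ht e h hh

include ht e in
theorem pairs_t [IsSimpleGroup G] :
    Nat.card {p : G × G // IsConj t p.1 ∧ IsConj t p.2 ∧ p.1 * p.2 = t} = 12 :=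
  S0197E.pairs_t bFacts t ht e

include ht in
theorem pairs_g (w : Subgroup.centralizer ({t} : Set G)) (hw : cls (e w) = 6) :
    Nat.card {p : G × G // IsConj t p.1 ∧ IsConj t p.2 ∧ p.1 * p.2 = (w : G)} = 0 :=
  S0197E.pairs_g bFacts t ht e w hw

include e in
theorem card_H : Nat.card (Subgroup.centralizer ({t} : Set G)) = 48 :=
  S0197E.card_H bFacts t e

end E

end Cfsg.Agent.Lib.Helper11.S0197E2
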