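import Cfsg.Agent.Lib.Helper8.S1572Defs

/-!
# S1572-[B] (helper8's front): the stabiliser of the standard cross is transitive on each shape class (helper11)

Copy of helper4's `conj_S1`, `conj_S2`, `conj_S3` (`Lib/Helper4/CoTrans32.lean`) and `conj_of_sign`
(`Lib/Helper4/CoSign.lean`) with the conjugacy relation restricted to a subgroup `H` whose carrier is `Nstd`:
the moves used (sign changes on code words, coordinate permutations of `M24`) stabilise the standard cross.
-/

set_option autoImplicit false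
set_option linter.style.haveILetI false
set_option linter.unusedVariables false
set_option linter.unusedSectionVars false

namespace Cfsg.Agent.Lib.Helper8.S1572

open Cfsg Cfsg.Agent.Lib.Helper4 Cfsg.Agent.Helper4.CO Cfsg.Agent.Helper4.LC
open Cfsg.Agent.Lib.Helper28 Cfsg.Agent.S0398
open scoped Pointwise

namespace H11B

/-- conjugacy under a subgroup of the automorphism group -/
def ConjH (H : Subgroup ↥Co0) (x y : leechLattice) : Prop := ∃ g ∈ H, g • x = y

theorem ConjH.symm {H : Subgroup ↥Co0} {x y : leechLattice} (h : ConjH H x y) : ConjH H y x := by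
  obtain ⟨g, hg, rfl⟩ := h
  exact ⟨g⁻¹, H.inv_mem hg, inv_smul_smul g x⟩

theorem ConjH.trans {H : Subgroup ↥Co0} {x y z : leechLattice} (h : ConjH H x y)
    (h' : ConjH H y z) : ConjH H x z := by
  obtain ⟨g, hg, rfl⟩ := h
  obtain ⟨g', hg', rfl⟩ := h'
  exact ⟨g' * g, H.mul_mem hg' hg, mul_smul g' g x⟩

/-- sign changes on code words stabilise the standard cross -/
theorem sign_mem_Nstd (c : Finset GolayPt)
    (hc : c ∈ supports (golayCode : Set (GolayPt → ZMod 2))) :
    (⟨signPerm c hc, signPerm_mem c hc⟩ : ↥Co0) ∈ Nstd := by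
  intro v hv
  obtain ⟨i, s, hs, hvs⟩ := hv
  show signFun c (v : GolayPt → ℤ) ∈ stdCross
  rw [hvs]
  by_cases hi : i ∈ c
  · refine ⟨i, -s, by rcases hs with h | h <;> rw [h] <;> norm_num, ?_⟩
    funext k
    unfold signFun
    by_cases hk : k = i
    · subst hk
      rw [if_pos hi, Pi.single_eq_same, Pi.single_eq_same]
    · rw [Pi.single_eq_of_ne hk, Pi.single_eq_of_ne hk]
      split_ifs <;> simp
  · refine ⟨i, s, hs, ?_⟩
    funext k
    unfold signFun
    by_cases hk : k = i
    · subst hk
      rw [if_neg hi]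
    · rw [Pi.single_eq_of_ne hk]
      split_ifs <;> simp

/-- coordinate permutations stabilise the standard cross -/
theorem perm_mem_Nstd (σ : Equiv.Perm GolayPt) (hσ : σ ∈ M24) :
    (⟨permPerm σ hσ, permPerm_mem σ hσ⟩ : ↥Co0) ∈ Nstd := by
  intro v hv
  obtain ⟨i, s, hs, hvs⟩ := hv
  show permFun σ (v : GolayPt → ℤ) ∈ stdCross
  rw [hvs]
  refine ⟨σ.symm i, s, hs, ?_⟩
  funext k
  unfold permFun
  by_cases hk : σ k = i
  · have hk' : k = σ.symm i := by rw [← hk]; simp
    rw [hk, hk', Pi.single_eq_same, Pi.single_eq_same]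
  · have hk' : k ≠ σ.symm i := by
      intro h
      apply hk
      rw [h]
      simp
    rw [Pi.single_eq_of_ne hk, Pi.single_eq_of_ne hk']

theorem conjH_sign (H : Subgroup ↥Co0) (hH : (H : Set ↥Co0) = Nstd) (c : Finset GolayPt)
    (hc : c ∈ supports (golayCode : Set (GolayPt → ZMod 2)))
    (x y : leechLattice) (h : (y : GolayPt → ℤ) = signFun c x) : ConjH H x y := by
  refine ⟨⟨signPerm c hc, signPerm_mem c hc⟩, ?_, Subtype.ext h.symm⟩
  have : (⟨signPerm c hc, signPerm_mem c hc⟩ : ↥Co0) ∈ (H : Set ↥Co0) := by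
    rw [hH]; exact sign_mem_Nstd c hc
  exact this

theorem conjH_perm (H : Subgroup ↥Co0) (hH : (H : Set ↥Co0) = Nstd) (σ : Equiv.Perm GolayPt)
    (hσ : σ ∈ M24) (x y : leechLattice) (h : (y : GolayPt → ℤ) = permFun σ x) : ConjH H x y := by
  refine ⟨⟨permPerm σ hσ, permPerm_mem σ hσ⟩, ?_, Subtype.ext h.symm⟩
  have : (⟨permPerm σ hσ, permPerm_mem σ hσ⟩ : ↥Co0) ∈ (H : Set ↥Co0) := by
    rw [hH]; exact perm_mem_Nstd σ hσ
  exact this

/-- sign normalisation -/
theorem conjH_of_sign (H : Subgroup ↥Co0) (hH : (H : Set ↥Co0) = Nstd) {x y : leechLattice}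
    (habs : ∀ i, (y : GolayPt → ℤ) i = (x : GolayPt → ℤ) i ∨ (y : GolayPt → ℤ) i = -(x : GolayPt → ℤ) i)
    (hd : ∀ d ∈ supports (golayCode : Set (GolayPt → ZMod 2)),
      (∀ i ∈ d, (x : GolayPt → ℤ) i ≠ 0) →
      Even ((Finset.univ.filter fun i => (y : GolayPt → ℤ) i ≠ (x : GolayPt → ℤ) i) ∩ d).card) :
    ConjH H x y := by
  classical
  have hES : (Finset.univ.filter fun i => (y : GolayPt → ℤ) i ≠ (x : GolayPt → ℤ) i) ⊆
      Finset.univ.filter fun i => (x : GolayPt → ℤ) i ≠ 0 := by
    intro i hi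
    simp only [Finset.mem_filter, Finset.mem_univ, true_and] at hi ⊢
    intro h0
    rcases habs i with h | h
    · exact hi h
    · rw [h0, neg_zero] at h; exact hi (by rw [h, h0])
  obtain ⟨c, hc, hcE⟩ := exists_code_inter _ _ hES (fun d hd' hdS => hd d hd' (fun i hi => by
    have := hdS hi
    simpa using this))
  apply conjH_sign H hH c hc
  funext i
  unfold signFun
  by_cases hic : i ∈ c
  · rw [if_pos hic]
    by_cases h0 : (x : GolayPt → ℤ) i = 0
    · rcases habs i with h | h
      · rw [h, h0, neg_zero]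
      · exact h
    · have : i ∈ c ∩ Finset.univ.filter fun i => (x : GolayPt → ℤ) i ≠ 0 := by
        simp [hic, h0]
      rw [hcE] at this
      simp only [Finset.mem_filter, Finset.mem_univ, true_and] at this
      rcases habs i with h | h
      · exact absurd h this
      · exact h
  · rw [if_neg hic]
    by_contra hne
    have : i ∈ c ∩ Finset.univ.filter fun i => (x : GolayPt → ℤ) i ≠ 0 := by
      rw [hcE]; simp [hne]
    exact hic (Finset.mem_inter.mp this).1

theorem conjH_S1 (H : Subgroup ↥Co0) (hH : (H : Set ↥Co0) = Nstd) (x : leechLattice) (h : IsS1 x) :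
    ConjH H x (mkL v0L v0L_in) := by
  obtain ⟨i, j, hij, hi, hj, h0⟩ := h
  have hyΛ : E i + E j ∈ leechLattice := by
    obtain ⟨⟨h4, h8, _⟩, _⟩ := E_facts i j hij
    exact mem_of_four h4 h8
  have step1 : ConjH H x ⟨E i + E j, hyΛ⟩ := by
    apply conjH_of_sign H hH
    · intro k
      show (E i + E j) k = _ ∨ (E i + E j) k = _
      rw [E_add_apply]
      by_cases hk1 : k = i
      · subst hk1
        rw [if_pos rfl, if_neg hij]
        rcases hi with h | h <;> rw [h] <;> simp
      · by_cases hk2 : k = j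
        · subst hk2
          rw [if_neg hk1, if_pos rfl]
          rcases hj with h | h <;> rw [h] <;> simp
        · rw [if_neg hk1, if_neg hk2, h0 k hk1 hk2]; simp
    · intro d hd hne
      have hsub : d ⊆ {i, j} := by
        intro k hk
        by_contra hkn
        simp only [Finset.mem_insert, Finset.mem_singleton, not_or] at hkn
        exact hne k hk (h0 k hkn.1 hkn.2)
      have hcard : d.card ≤ 2 := (Finset.card_le_card hsub).trans Finset.card_le_two
      have hd0 : d = ∅ := by
        rcases supports_card hd with h | h | h | h | h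
        · exact Finset.card_eq_zero.mp h
        all_goals omega
      rw [hd0, Finset.inter_empty]; exact ⟨0, rfl⟩
  refine ConjH.trans step1 ?_
  obtain ⟨σ, hσ, h1, h2⟩ := M24_two_trans (a := some 0) (b := some 5) (by decide) hij
  apply conjH_perm H hH σ hσ
  rw [mkL_coe, v0L_eq]
  funext k
  show (E (some 0) + E (some 5)) k = (E i + E j) (σ k)
  rw [E_add_apply, E_add_apply, ← h1, ← h2]
  simp only [σ.injective.eq_iff]

theorem conjH_S2 (H : Subgroup ↥Co0) (hH : (H : Set ↥Co0) = Nstd) (x : leechLattice) (h : IsS2 x) :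
    ConjH H x (mkL w0L w0L_in) := by
  classical
  obtain ⟨O, hO, hon, hoff⟩ := h
  obtain ⟨hOc, hO8⟩ := octad_bind_mem hO
  have step1 : ConjH H x ⟨twoVec (Cfsg.Agent.Lib.Helper28.bind O), twoVec_mem hOc⟩ := by
    apply conjH_of_sign H hH
    · intro k
      show twoVec _ k = _ ∨ twoVec _ k = _
      rw [twoVec_bind_apply]
      by_cases hk : k ∈ O
      · rw [if_pos hk]
        rcases hon k hk with h | h <;> rw [h] <;> simp
      · rw [if_neg hk, hoff k hk]; simp
    · intro d hd hne
      have hsub : d ⊆ O := by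
        intro k hk
        by_contra hkn
        exact hne k hk (hoff k hkn)
      have hcard : d.card ≤ 8 := hO8 ▸ Finset.card_le_card hsub
      rcases supports_card hd with h | h | h | h | h
      · rw [Finset.card_eq_zero.mp h, Finset.inter_empty]; exact ⟨0, rfl⟩
      · have hdO : d = O := Finset.eq_of_subset_of_card_le hsub (by omega)
        have hE : (Finset.univ.filter fun i =>
            twoVec (Cfsg.Agent.Lib.Helper28.bind O) i ≠ (x : GolayPt → ℤ) i) ∩ d =
            Finset.univ.filter fun i => (x : GolayPt → ℤ) i = -2 := by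
          ext k
          simp only [Finset.mem_inter, Finset.mem_filter, Finset.mem_univ, true_and, hdO,
            twoVec_bind_apply]
          constructor
          · rintro ⟨hne', hk⟩
            rw [if_pos hk] at hne'
            rcases hon k hk with h | h
            · exact absurd h.symm hne'
            · exact h
          · intro hk
            have hkO : k ∈ O := by
              by_contra hkn
              rw [hoff k hkn] at hk
              norm_num at hk
            exact ⟨by rw [if_pos hkO, hk]; norm_num, hkO⟩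
        rw [hE]
        apply even_card_of_diff (twoVec_mem hOc) x.2
        intro k
        rw [twoVec_bind_apply]
        simp only [Finset.mem_filter, Finset.mem_univ, true_and]
        by_cases hk : k ∈ O
        · rw [if_pos hk]
          rcases hon k hk with h | h
          · rw [h, if_neg (by norm_num)]; norm_num
          · rw [h, if_pos rfl]; norm_num
        · rw [if_neg hk, hoff k hk, if_neg (by norm_num)]; norm_num
      all_goals omega
  refine ConjH.trans step1 ?_
  obtain ⟨g, hg, hgO⟩ := M24_octad_transitive hO baseOctad_mem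
  apply conjH_perm H hH g⁻¹ (M24.inv_mem hg)
  rw [mkL_coe, w0L_eq]
  funext k
  show twoVec _ k = twoVec _ (g⁻¹ k)
  rw [twoVec_bind_apply, twoVec_bind_apply, ← hgO]
  have : k ∈ g • O ↔ g⁻¹ k ∈ O := by
    rw [← Finset.inv_smul_mem_iff]
    rfl
  by_cases hk : g⁻¹ k ∈ O
  · rw [if_pos hk, if_pos (this.mpr hk)]
  · rw [if_neg hk, if_neg (fun h => hk (this.mp h))]

theorem conjH_S3 (H : Subgroup ↥Co0) (hH : (H : Set ↥Co0) = Nstd) (x : leechLattice) (h : IsS3 x) :
    ConjH H x (mkL oddGen oddGen_in) := by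
  obtain ⟨k, hk, hoff⟩ := h
  have hx := x.2
  rw [mem_leech_iff] at hx
  have hc : wd (x : GolayPt → ℤ) 1 ∈ golayCode := by
    rcases hx with ⟨he, _, _⟩ | ⟨_, _, h⟩
    · exfalso
      have := he k
      rcases hk with h | h <;> rw [h] at this <;> norm_num at this
    · exact h
  have hsup := mem_supports_of_mem hc
  have hyΛ : signFun (support₂ (wd (x : GolayPt → ℤ) 1)) x ∈ leechLattice :=
    Cfsg.Agent.S0433.result _ hsup x x.2
  have hy : signFun (support₂ (wd (x : GolayPt → ℤ) 1)) x = rVec k := by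
    funext i
    have hmem : i ∈ support₂ (wd (x : GolayPt → ℤ) 1) ↔ (x : GolayPt → ℤ) i % 4 = 1 := by
      rw [mem_support₂_iff]
      unfold wd Int.ModEq
      by_cases h : (x : GolayPt → ℤ) i % 4 = 1
      · simp [h]
      · simp [h]
    unfold signFun rVec
    by_cases hik : i = k
    · subst hik
      rw [if_pos rfl]
      rcases hk with h | h
      · have hn : i ∉ support₂ (wd (x : GolayPt → ℤ) 1) := by rw [hmem, h]; norm_num
        rw [if_neg hn, h]
      · have hn : i ∈ support₂ (wd (x : GolayPt → ℤ) 1) := by rw [hmem, h]; norm_num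
        rw [if_pos hn, h]; norm_num
    · rw [if_neg hik]
      rcases hoff i hik with h | h
      · have hn : i ∈ support₂ (wd (x : GolayPt → ℤ) 1) := by rw [hmem, h]; norm_num
        rw [if_pos hn, h]
      · have hn : i ∉ support₂ (wd (x : GolayPt → ℤ) 1) := by rw [hmem, h]; norm_num
        rw [if_neg hn, h]
  have step1 : ConjH H x ⟨rVec k, hy ▸ hyΛ⟩ := conjH_sign H hH _ hsup x _ hy.symm
  refine ConjH.trans step1 ?_
  obtain ⟨σ, hσ, h1⟩ := exists_M24_map k none
  apply conjH_perm H hH σ hσ
  rw [mkL_coe, oddGen_eq_rVec]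
  funext i
  show rVec none i = rVec k (σ i)
  unfold rVec
  rw [← h1]
  simp only [σ.injective.eq_iff]

end H11B

open H11B

/-- [B1] -/
theorem trans_S1 (H : Subgroup ↥Co0) (hH : (H : Set ↥Co0) = Nstd) (x y : ↥leechLattice)
    (hx : x ∈ S1set) (hy : y ∈ S1set) : ∃ g ∈ H, g • x = y :=
  ConjH.trans (conjH_S1 H hH x hx) (ConjH.symm (conjH_S1 H hH y hy))

theorem trans_S2 (H : Subgroup ↥Co0) (hH : (H : Set ↥Co0) = Nstd) (x y : ↥leechLattice)
    (hx : x ∈ S2set) (hy : y ∈ S2set) : ∃ g ∈ H, g • x = y :=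
  ConjH.trans (conjH_S2 H hH x hx) (ConjH.symm (conjH_S2 H hH y hy))

theorem trans_S3 (H : Subgroup ↥Co0) (hH : (H : Set ↥Co0) = Nstd) (x y : ↥leechLattice)
    (hx : x ∈ S3set) (hy : y ∈ S3set) : ∃ g ∈ H, g • x = y :=
  ConjH.trans (conjH_S3 H hH x hx) (ConjH.symm (conjH_S3 H hH y hy))

/-- [B2] -/
theorem S1set_smul (g : ↥Co0) (hg : g ∈ Nstd) (x : ↥leechLattice) (hx : x ∈ S1set) :
    g • x ∈ S1set := by
  obtain ⟨σ, hσ, w, hw, hgv⟩ := stab_monomial g hg
  obtain ⟨i, j, hij, hi, hj, h0⟩ := hx
  show IsS1 ((g • x : ↥leechLattice) : GolayPt → ℤ)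
  have hgx : ((g • x : ↥leechLattice) : GolayPt → ℤ) = signedPerm σ (support₂ w) (x : GolayPt → ℤ) :=
    hgv x
  rw [hgx]
  have hval : ∀ k, signedPerm σ (support₂ w) (x : GolayPt → ℤ) (σ k) = (x : GolayPt → ℤ) k ∨
      signedPerm σ (support₂ w) (x : GolayPt → ℤ) (σ k) = -(x : GolayPt → ℤ) k := by
    intro k
    unfold signedPerm
    rw [Equiv.symm_apply_apply]
    split_ifs
    · exact Or.inr rfl
    · exact Or.inl rfl
  refine ⟨σ i, σ j, fun h => hij (σ.injective h), ?_, ?_, ?_⟩
  · rcases hval i with h | h <;> rcases hi with h' | h' <;> rw [h, h'] <;> norm_num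
  · rcases hval j with h | h <;> rcases hj with h' | h' <;> rw [h, h'] <;> norm_num
  · intro k hki hkj
    obtain ⟨k', rfl⟩ := σ.surjective k
    have h1 : k' ≠ i := fun h => hki (by rw [h])
    have h2 : k' ≠ j := fun h => hkj (by rw [h])
    rcases hval k' with h | h <;> rw [h, h0 k' h1 h2] <;> norm_num

end Cfsg.Agent.Lib.Helper8.S1572
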