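import Mathlib
import Cfsg.Prelude.Def_Characters
import Cfsg.Agent.Lib.Helper11.S3282Defs
import Cfsg.Agent.Lib.Helper11.GenChar
import Cfsg.Agent.Lib.Helper2.Induction
import Cfsg.Agent.Lib.Helper2.Regular
import Cfsg.Agent.Lib.Helper25.Linear

/-!
S3282: basic lemmas on the functional `evalF`, on `Del`, and on signed irreducibles.
-/

set_option autoImplicit false

namespace Cfsg.Agent.Lib.Helper11.S3282

open Cfsg Cfsg.Agent.Lib.Helper2 Cfsg.Agent.Lib.Helper11
open scoped ComplexConjugate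

universe u

variable {G : Type u} [Group G] [Fintype G]

section evalF
variable [Fintype (Cfsg.IrrCharacter G)] (F : (G → ℂ) → ℂ)

theorem evalF_add (θ₁ θ₂ : G → ℂ) : evalF F (θ₁ + θ₂) = evalF F θ₁ + evalF F θ₂ := by
  unfold evalF
  rw [← Finset.sum_add_distrib]
  apply Finset.sum_congr rfl
  intro χ _
  rw [classInner_add_left, add_mul]

theorem evalF_neg (θ : G → ℂ) : evalF F (-θ) = - evalF F θ := by
  unfold evalF
  rw [← Finset.sum_neg_distrib]
  apply Finset.sum_congr rfl
  intro χ _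
  rw [classInner_neg_left, neg_mul]

theorem evalF_sub (θ₁ θ₂ : G → ℂ) : evalF F (θ₁ - θ₂) = evalF F θ₁ - evalF F θ₂ := by
  rw [sub_eq_add_neg, evalF_add, evalF_neg, ← sub_eq_add_neg]

theorem evalF_irr {χ : G → ℂ} (hχ : Cfsg.IsIrrCharacter G χ) : evalF F χ = F χ := by
  classical
  unfold evalF
  rw [Finset.sum_eq_single (⟨χ, hχ⟩ : Cfsg.IrrCharacter G)]
  · have := classInner_irrCharacter_self (⟨χ, hχ⟩ : Cfsg.IrrCharacter G)
    simp only at this
    rw [this, one_mul]
  · intro ψ _ hψ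
    have := classInner_irrCharacter_ne (χ := (⟨χ, hχ⟩ : Cfsg.IrrCharacter G)) (ψ := ψ)
      (fun h => hψ h.symm)
    simp only at this
    rw [this, zero_mul]
  · intro h
    exact absurd (Finset.mem_univ _) h

theorem evalF_signed {θ : G → ℂ} (hθ : IsSignedIrr θ) (hF : ∀ f, F (-f) = - F f) :
    evalF F θ = F θ := by
  rcases hθ with h | h
  · exact evalF_irr F h
  · have h1 := evalF_irr F h
    rw [evalF_neg, hF] at h1
    exact neg_injective h1

theorem evalF_one : evalF F (fun _ => (1 : ℂ)) = F (fun _ => 1) :=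
  evalF_irr F (Cfsg.Agent.Lib.Helper25.isIrrCharacter_one)

end evalF

/-- The value at `1` of a signed irreducible character is a non-zero integer. -/
theorem signedIrr_apply_one_int {θ : G → ℂ} (hθ : IsSignedIrr θ) :
    ∃ z : ℤ, z ≠ 0 ∧ θ 1 = (z : ℂ) := by
  have h0 := hθ.apply_one_ne_zero
  rcases hθ with h | h
  · obtain ⟨n, hn⟩ := Cfsg.Agent.Lib.Helper2.IsCharacter.apply_one (IsIrrCharacter.isCharacter h)
    refine ⟨n, ?_, by rw [hn]; simp⟩
    intro hz
    apply h0
    rw [hn]
    exact_mod_cast hz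
  · obtain ⟨n, hn⟩ := Cfsg.Agent.Lib.Helper2.IsCharacter.apply_one (IsIrrCharacter.isCharacter h)
    have hn' : θ 1 = -(n : ℂ) := by
      rw [← hn]; simp
    refine ⟨-(n : ℤ), ?_, by rw [hn']; simp⟩
    intro hz
    apply h0
    rw [hn']
    have : (n : ℤ) = 0 := by omega
    have h2 : (n : ℂ) = 0 := by exact_mod_cast this
    rw [h2, neg_zero]

theorem signedIrr_isGenChar {θ : G → ℂ} (hθ : IsSignedIrr θ) :
    Cfsg.IsGeneralizedCharacter G θ := by
  rcases hθ with h | h
  · exact ⟨θ, 0, IsIrrCharacter.isCharacter h, isCharacter_zero, by simp⟩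
  · exact ⟨0, -θ, isCharacter_zero, IsIrrCharacter.isCharacter h, by simp⟩

theorem signedIrr_isClassFunction {θ : G → ℂ} (hθ : IsSignedIrr θ) :
    Cfsg.IsClassFunction G θ :=
  IsGeneralizedCharacter.isClassFunction (signedIrr_isGenChar hθ)

section Del
variable (K : Subgroup G)

theorem Del_isClassFunction (μ : K → ℂ) : Cfsg.IsClassFunction G (Del K μ) :=
  Cfsg.Agent.Lib.Helper11.indFun_isClassFunction K _

theorem Del_isGenChar {μ : K → ℂ} (hμ : Cfsg.IsCharacter K μ) :
    Cfsg.IsGeneralizedCharacter G (Del K μ) := by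
  refine ⟨Cfsg.indFun K (fun _ => 1), Cfsg.indFun K μ,
    indFun_isCharacter K _ (IsIrrCharacter.isCharacter Cfsg.Agent.Lib.Helper25.isIrrCharacter_one),
    indFun_isCharacter K _ hμ, ?_⟩
  funext g
  unfold Del
  rw [Pi.sub_apply, indFun_apply, indFun_apply, indFun_apply, ← mul_sub, ← Finset.sum_sub_distrib]
  congr 1
  apply Finset.sum_congr rfl
  intro x _
  by_cases hm : x⁻¹ * g * x ∈ K
  · rw [extendByZero_of_mem K _ hm, extendByZero_of_mem K _ hm, extendByZero_of_mem K _ hm]
  · rw [extendByZero_of_not_mem K _ hm, extendByZero_of_not_mem K _ hm,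
      extendByZero_of_not_mem K _ hm, sub_zero]

theorem Del_one : Del K (fun _ => (1 : ℂ)) = 0 := by
  funext g
  unfold Del
  rw [indFun_apply]
  simp only [sub_self, Pi.zero_apply]
  have : Cfsg.extendByZero K (fun _ : K => (0 : ℂ)) = 0 := by
    funext x
    by_cases hm : x ∈ K
    · rw [extendByZero_of_mem K _ hm]; rfl
    · rw [extendByZero_of_not_mem K _ hm]; rfl
  rw [this]
  simp

end Del

end Cfsg.Agent.Lib.Helper11.S3282
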