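import Mathlib

set_option autoImplicit false

/-!
# Arithmetic core for the cyclic TI table lemma (Peterfalvi 3.2)

Seven points `O a1 a2 b1 b2 c1 c2`; lines `O a1 a2`, `O b1 b2`, `O c1 c2`, `a1 b1 c1`.
`G0 .. G3` are the (normalised) coefficient functions of the four vectors of a second row.
-/

namespace Cfsg.Agent.Lib.Helper11.TriCore

theorem int_step1 (a1 b1 c1 O a2 b2 c2 : ℤ)
    (_va1 : a1 = 0 ∨ a1 = 1 ∨ a1 = -1) (_vb1 : b1 = 0 ∨ b1 = 1 ∨ b1 = -1)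
    (_vc1 : c1 = 0 ∨ c1 = 1 ∨ c1 = -1)
    (_vO : O = 0 ∨ O = 1 ∨ O = -1) (_va2 : a2 = 0 ∨ a2 = 1 ∨ a2 = -1)
    (_vb2 : b2 = 0 ∨ b2 = 1 ∨ b2 = -1) (_vc2 : c2 = 0 ∨ c2 = 1 ∨ c2 = -1)
    (_E30 : O + a1 + a2 = 0) (_E31 : O + b1 + b2 = 0) (_E32 : O + c1 + c2 = 0)
    (_E33 : a1 + b1 + c1 = 1)
    (_U3a : a1 = 0 ∨ b1 = 0) (_U3b : a1 = 0 ∨ c1 = 0)
    (_f3 : a1 = 0 ∨ O = 0 ∨ b2 = 0 ∨ c2 = 0) (_hW3 : a1 ≠ 0) :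
    a1 = 1 ∧ b1 = 0 ∧ c1 = 0 ∧ O = 0 ∧ a2 = -1 ∧ b2 = 0 ∧ c2 = 0 := by
  omega

theorem int_step2 (a1 b1 c1 O a2 b2 c2 : ℤ)
    (_va1 : a1 = 0 ∨ a1 = 1 ∨ a1 = -1) (_vb1 : b1 = 0 ∨ b1 = 1 ∨ b1 = -1)
    (_vc1 : c1 = 0 ∨ c1 = 1 ∨ c1 = -1)
    (_vO : O = 0 ∨ O = 1 ∨ O = -1)
    (_vb2 : b2 = 0 ∨ b2 = 1 ∨ b2 = -1) (_vc2 : c2 = 0 ∨ c2 = 1 ∨ c2 = -1)
    (_E00 : O + a1 + a2 = 1) (_E01 : O + b1 + b2 = 0) (_E02 : O + c1 + c2 = 0)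
    (_E03 : a1 + b1 + c1 = 0)
    (_U0a : O = 0 ∨ a1 = 0) (_ha2 : a2 = 0)
    (_f0 : O = 0 ∨ b1 = 0 ∨ c1 = 0 ∨ b2 = 0) (_f0' : O = 0 ∨ b1 = 0 ∨ c1 = 0 ∨ c2 = 0)
    (_hW0 : b1 ≠ 0) :
    a1 = 1 ∧ O = 0 ∧ b1 = -1 ∧ b2 = 1 ∧ c1 = 0 ∧ c2 = 0 := by
  omega

theorem int_step3 (a1 b1 c1 O a2 b2 c2 : ℤ)
    (_vc1 : c1 = 0 ∨ c1 = 1 ∨ c1 = -1)
    (_vO : O = 0 ∨ O = 1 ∨ O = -1)
    (_vb2 : b2 = 0 ∨ b2 = 1 ∨ b2 = -1) (_vc2 : c2 = 0 ∨ c2 = 1 ∨ c2 = -1)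
    (_E10 : O + a1 + a2 = 0) (_E11 : O + b1 + b2 = 1) (_E12 : O + c1 + c2 = 0)
    (_E13 : a1 + b1 + c1 = 0)
    (_U1b : O = 0 ∨ b2 = 0) (_hb1 : b1 = 0)
    (_ga1 : a1 = 0 ∨ a1 = 1) (_ga2 : a2 = 0 ∨ a2 = -1)
    (_f1 : b2 = 0 ∨ a1 = 0 ∨ a2 = 0 ∨ c1 = 0) :
    (a1 = 0 ∧ b2 = 0) ∨ (a1 = 0 ∧ b2 = 1 ∧ O = 0) := by
  omega

theorem int_step4 (a1 b1 c1 O a2 b2 c2 : ℤ)
    (_vc1 : c1 = 0 ∨ c1 = 1 ∨ c1 = -1)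
    (_vO : O = 0 ∨ O = 1 ∨ O = -1) (_vc2 : c2 = 0 ∨ c2 = 1 ∨ c2 = -1)
    (_E20 : O + a1 + a2 = 0) (_E21 : O + b1 + b2 = 0) (_E22 : O + c1 + c2 = 1)
    (_E23 : a1 + b1 + c1 = 0)
    (_U2a : O = 0 ∨ c1 = 0) (_U2b : O = 0 ∨ c2 = 0) (_U2c : c1 = 0 ∨ c2 = 0)
    (_ga1 : a1 = 0 ∨ a1 = 1) (_ga2 : a2 = 0 ∨ a2 = -1)
    (_gb1 : b1 = 0 ∨ b1 = -1) (_gb2 : b2 = 0 ∨ b2 = 1)
    (_f2 : c2 = 0 ∨ a1 = 0 ∨ a2 = 0 ∨ b1 = 0) :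
    (b1 ≠ 0 ∧ b2 ≠ 0) ∨ (a1 = 0 ∧ b1 = 0 ∧ b2 = 0) := by
  omega

variable {ι : Type*}

/-- a function with values in `{-1,0,1}`, at most three of them nonzero -/
structure Small (G : ι → ℤ) : Prop where
  val : ∀ x, G x = 0 ∨ G x = 1 ∨ G x = -1
  four : ∀ p q r s, p ≠ q → p ≠ r → p ≠ s → q ≠ r → q ≠ s → r ≠ s →
    G p = 0 ∨ G q = 0 ∨ G r = 0 ∨ G s = 0

/-- two vectors of the same row: exactly one common point, with equal values -/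
structure Adj (G H : ι → ℤ) : Prop where
  agree : ∀ p, G p ≠ 0 → H p ≠ 0 → G p = H p
  uniq : ∀ p q, G p ≠ 0 → H p ≠ 0 → G q ≠ 0 → H q ≠ 0 → p = q
  ex : ∃ p, G p ≠ 0 ∧ H p ≠ 0

theorem Adj.symm {G H : ι → ℤ} (h : Adj G H) : Adj H G where
  agree := fun p hp hq => (h.agree p hq hp).symm
  uniq := fun p q h1 h2 h3 h4 => h.uniq p q h2 h1 h4 h3
  ex := by
    obtain ⟨p, h1, h2⟩ := h.ex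
    exact ⟨p, h2, h1⟩

theorem agree_or {G H : ι → ℤ} (h : Adj G H) (p : ι) (v : ℤ) (hv : H p = v) (hv0 : v ≠ 0) :
    G p = 0 ∨ G p = v := by
  by_cases hne : G p = 0
  · exact Or.inl hne
  · right
    rw [h.agree p hne (by rw [hv]; exact hv0), hv]

theorem core_b2 (O a1 a2 b1 b2 c1 c2 : ι)
    (hOa1 : O ≠ a1) (hOb1 : O ≠ b1) (hOb2 : O ≠ b2) (hOc1 : O ≠ c1) (hOc2 : O ≠ c2)
    (ha1a2 : a1 ≠ a2) (ha1b1 : a1 ≠ b1) (ha1b2 : a1 ≠ b2) (ha1c1 : a1 ≠ c1) (ha1c2 : a1 ≠ c2)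
    (ha2b1 : a2 ≠ b1) (ha2b2 : a2 ≠ b2) (ha2c1 : a2 ≠ c1) (ha2c2 : a2 ≠ c2)
    (hb1b2 : b1 ≠ b2) (hb1c1 : b1 ≠ c1) (hb1c2 : b1 ≠ c2)
    (hb2c1 : b2 ≠ c1) (hb2c2 : b2 ≠ c2) (hc1c2 : c1 ≠ c2)
    (G0 G1 G2 G3 : ι → ℤ)
    (S0 : Small G0) (S1 : Small G1) (S2 : Small G2) (S3 : Small G3)
    (A01 : Adj G0 G1) (A02 : Adj G0 G2) (A03 : Adj G0 G3) (A13 : Adj G1 G3) (A23 : Adj G2 G3)
    (E00 : G0 O + G0 a1 + G0 a2 = 1) (E01 : G0 O + G0 b1 + G0 b2 = 0)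
    (E02 : G0 O + G0 c1 + G0 c2 = 0) (E03 : G0 a1 + G0 b1 + G0 c1 = 0)
    (E10 : G1 O + G1 a1 + G1 a2 = 0) (E11 : G1 O + G1 b1 + G1 b2 = 1)
    (E12 : G1 O + G1 c1 + G1 c2 = 0) (E13 : G1 a1 + G1 b1 + G1 c1 = 0)
    (E20 : G2 O + G2 a1 + G2 a2 = 0) (E21 : G2 O + G2 b1 + G2 b2 = 0)
    (E22 : G2 O + G2 c1 + G2 c2 = 1) (E23 : G2 a1 + G2 b1 + G2 c1 = 0)
    (E30 : G3 O + G3 a1 + G3 a2 = 0) (E31 : G3 O + G3 b1 + G3 b2 = 0)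
    (E32 : G3 O + G3 c1 + G3 c2 = 0) (E33 : G3 a1 + G3 b1 + G3 c1 = 1)
    (U0 : (G0 O = 0 ∨ G0 a1 = 0) ∧ (G0 O = 0 ∨ G0 a2 = 0) ∧ (G0 a1 = 0 ∨ G0 a2 = 0))
    (U1 : (G1 O = 0 ∨ G1 b1 = 0) ∧ (G1 O = 0 ∨ G1 b2 = 0) ∧ (G1 b1 = 0 ∨ G1 b2 = 0))
    (U2 : (G2 O = 0 ∨ G2 c1 = 0) ∧ (G2 O = 0 ∨ G2 c2 = 0) ∧ (G2 c1 = 0 ∨ G2 c2 = 0))
    (U3 : (G3 a1 = 0 ∨ G3 b1 = 0) ∧ (G3 a1 = 0 ∨ G3 c1 = 0) ∧ (G3 b1 = 0 ∨ G3 c1 = 0))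
    (hW3 : G3 a1 ≠ 0) (hW0 : G0 b1 ≠ 0) : False := by
  -- Step 1: G3 = a1 - a2
  obtain ⟨h3a1, h3b1, h3c1, h3O, h3a2, h3b2, h3c2⟩ :=
    int_step1 (G3 a1) (G3 b1) (G3 c1) (G3 O) (G3 a2) (G3 b2) (G3 c2)
      (S3.val _) (S3.val _) (S3.val _) (S3.val _) (S3.val _) (S3.val _) (S3.val _)
      E30 E31 E32 E33 U3.1 U3.2.1
      (S3.four a1 O b2 c2 hOa1.symm ha1b2 ha1c2 hOb2 hOc2 hb2c2) hW3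
  -- Step 2: G0 = a1 - b1 + b2
  have g0a2 : G0 a2 = 0 := by
    rcases agree_or A03 a2 (-1) h3a2 (by norm_num) with h | h
    · exact h
    · exfalso
      have := U0.2.1
      have := U0.2.2
      have := S0.val O
      have := S0.val a1
      omega
  obtain ⟨h0a1, h0O, h0b1, h0b2, h0c1, h0c2⟩ :=
    int_step2 (G0 a1) (G0 b1) (G0 c1) (G0 O) (G0 a2) (G0 b2) (G0 c2)
      (S0.val _) (S0.val _) (S0.val _) (S0.val _) (S0.val _) (S0.val _)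
      E00 E01 E02 E03 U0.1 g0a2
      (S0.four O b1 c1 b2 hOb1 hOc1 hOb2 hb1c1 hb1b2 hb2c1.symm)
      (S0.four O b1 c1 c2 hOb1 hOc1 hOc2 hb1c1 hb1c2 hc1c2) hW0
  have supp0 : ∀ p, G0 p ≠ 0 → p = a1 ∨ p = b1 ∨ p = b2 := by
    intro p hp
    by_contra hcon
    push Not at hcon
    obtain ⟨n1, n2, n3⟩ := hcon
    have := S0.four a1 b1 b2 p ha1b1 ha1b2 (Ne.symm n1) hb1b2 (Ne.symm n2) (Ne.symm n3)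
    omega
  -- Step 3: G1
  have g1b1 : G1 b1 = 0 := by
    rcases agree_or A01.symm b1 (-1) h0b1 (by norm_num) with h | h
    · exact h
    · exfalso
      have := U1.1
      have := U1.2.2
      have := S1.val O
      have := S1.val b2
      omega
  have h1 := int_step3 (G1 a1) (G1 b1) (G1 c1) (G1 O) (G1 a2) (G1 b2) (G1 c2)
      (S1.val _) (S1.val _) (S1.val _) (S1.val _) E10 E11 E12 E13 U1.2.1 g1b1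
      (agree_or A13 a1 1 h3a1 (by norm_num)) (agree_or A13 a2 (-1) h3a2 (by norm_num))
      (S1.four b2 a1 a2 c1 ha1b2.symm ha2b2.symm hb2c1 ha1a2 ha1c1 ha2c1)
  have hG1 : G1 a1 = 0 ∧ G1 b2 = 1 := by
    rcases h1 with ⟨h1a, h1b⟩ | ⟨h1a, h1b, _⟩
    · exfalso
      obtain ⟨p, hp0, hp1⟩ := A01.ex
      rcases supp0 p hp0 with rfl | rfl | rfl
      · exact hp1 h1a
      · exact hp1 g1b1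
      · exact hp1 h1b
    · exact ⟨h1a, h1b⟩
  -- Step 4: G2
  have h2 := int_step4 (G2 a1) (G2 b1) (G2 c1) (G2 O) (G2 a2) (G2 b2) (G2 c2)
      (S2.val _) (S2.val _) (S2.val _) E20 E21 E22 E23 U2.1 U2.2.1 U2.2.2
      (agree_or A23 a1 1 h3a1 (by norm_num)) (agree_or A23 a2 (-1) h3a2 (by norm_num))
      (agree_or A02.symm b1 (-1) h0b1 (by norm_num)) (agree_or A02.symm b2 1 h0b2 (by norm_num))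
      (S2.four c2 a1 a2 b1 ha1c2.symm ha2c2.symm hb1c2.symm ha1a2 ha1b1 ha2b1)
  rcases h2 with ⟨hb1', hb2'⟩ | ⟨h2a1, h2b1, h2b2⟩
  · exact hb1b2 (A02.uniq b1 b2 (by rw [h0b1]; norm_num) hb1' (by rw [h0b2]; norm_num) hb2')
  · obtain ⟨p, hp0, hp2⟩ := A02.ex
    rcases supp0 p hp0 with rfl | rfl | rfl
    · exact hp2 h2a1
    · exact hp2 h2b1
    · exact hp2 h2b2

end Cfsg.Agent.Lib.Helper11.TriCore
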