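import Mathlib
import Cfsg.Agent.Lib.Helper11.TriCore

set_option autoImplicit false

/-!
# The configuration "three concurrent lines and a transversal" is impossible

`ConfB` packages the arithmetic data in a form symmetric under permutations of the three
concurrent lines; `ConfB.false` derives a contradiction.
-/

namespace Cfsg.Agent.Lib.Helper11.TriCore

variable {ι : Type*}

structure ConfB (O : ι) (P Q : Fin 3 → ι) (G : Fin 3 → ι → ℤ) (H : ι → ℤ) : Prop where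
  OP : ∀ s, O ≠ P s
  OQ : ∀ s, O ≠ Q s
  PP : ∀ s t, s ≠ t → P s ≠ P t
  QQ : ∀ s t, s ≠ t → Q s ≠ Q t
  PQ : ∀ s t, P s ≠ Q t
  smallG : ∀ s, Small (G s)
  smallH : Small H
  adjG : ∀ s t, s ≠ t → Adj (G s) (G t)
  adjH : ∀ s, Adj (G s) H
  E : ∀ s t, G s O + G s (P t) + G s (Q t) = if s = t then 1 else 0
  ET : ∀ s, G s (P 0) + G s (P 1) + G s (P 2) = 0
  EH : ∀ t, H O + H (P t) + H (Q t) = 0
  EHT : H (P 0) + H (P 1) + H (P 2) = 1
  U : ∀ s, (G s O = 0 ∨ G s (P s) = 0) ∧ (G s O = 0 ∨ G s (Q s) = 0) ∧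
    (G s (P s) = 0 ∨ G s (Q s) = 0)
  UH : ∀ s t, s ≠ t → H (P s) = 0 ∨ H (P t) = 0

theorem sum_three_perm (σ : Equiv.Perm (Fin 3)) (f : Fin 3 → ℤ) :
    f (σ 0) + f (σ 1) + f (σ 2) = f 0 + f 1 + f 2 := by
  have := Equiv.sum_comp σ f
  simpa [Fin.sum_univ_three] using this

theorem ConfB.perm {O : ι} {P Q : Fin 3 → ι} {G : Fin 3 → ι → ℤ} {H : ι → ℤ}
    (h : ConfB O P Q G H) (σ : Equiv.Perm (Fin 3)) :
    ConfB O (fun s => P (σ s)) (fun s => Q (σ s)) (fun s => G (σ s)) H where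
  OP := fun s => h.OP _
  OQ := fun s => h.OQ _
  PP := fun s t hst => h.PP _ _ (fun e => hst (σ.injective e))
  QQ := fun s t hst => h.QQ _ _ (fun e => hst (σ.injective e))
  PQ := fun s t => h.PQ _ _
  smallG := fun s => h.smallG _
  smallH := h.smallH
  adjG := fun s t hst => h.adjG _ _ (fun e => hst (σ.injective e))
  adjH := fun s => h.adjH _
  E := by
    intro s t
    rw [h.E (σ s) (σ t)]
    by_cases hst : s = t
    · rw [if_pos hst, if_pos (by rw [hst])]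
    · rw [if_neg hst, if_neg (fun e => hst (σ.injective e))]
  ET := by
    intro s
    have := sum_three_perm σ (fun t => G (σ s) (P t))
    rw [this]
    exact h.ET _
  EH := fun t => h.EH _
  EHT := by
    have := sum_three_perm σ (fun t => H (P t))
    rw [this]
    exact h.EHT
  U := fun s => h.U _
  UH := fun s t hst => h.UH _ _ (fun e => hst (σ.injective e))

theorem ConfB.false_aux {O : ι} {P Q : Fin 3 → ι} {G : Fin 3 → ι → ℤ} {H : ι → ℤ}
    (h : ConfB O P Q G H) (h3 : H (P 0) ≠ 0) (h0 : G 0 (P 1) ≠ 0) : False :=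
  core_b2 O (P 0) (Q 0) (P 1) (Q 1) (P 2) (Q 2)
    (h.OP 0) (h.OP 1) (h.OQ 1) (h.OP 2) (h.OQ 2)
    (h.PQ 0 0) (h.PP 0 1 (by decide)) (h.PQ 0 1) (h.PP 0 2 (by decide)) (h.PQ 0 2)
    (h.PQ 1 0).symm (h.QQ 0 1 (by decide)) (h.PQ 2 0).symm (h.QQ 0 2 (by decide))
    (h.PQ 1 1) (h.PP 1 2 (by decide)) (h.PQ 1 2)
    (h.PQ 2 1).symm (h.QQ 1 2 (by decide)) (h.PQ 2 2)
    (G 0) (G 1) (G 2) H
    (h.smallG 0) (h.smallG 1) (h.smallG 2) h.smallH
    (h.adjG 0 1 (by decide)) (h.adjG 0 2 (by decide)) (h.adjH 0) (h.adjH 1) (h.adjH 2)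
    (by have := h.E 0 0; simpa using this) (by have := h.E 0 1; simpa using this)
    (by have := h.E 0 2; simpa using this) (h.ET 0)
    (by have := h.E 1 0; simpa using this) (by have := h.E 1 1; simpa using this)
    (by have := h.E 1 2; simpa using this) (h.ET 1)
    (by have := h.E 2 0; simpa using this) (by have := h.E 2 1; simpa using this)
    (by have := h.E 2 2; simpa using this) (h.ET 2)
    (h.EH 0) (h.EH 1) (h.EH 2) h.EHT
    (h.U 0) (h.U 1) (h.U 2)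
    ⟨h.UH 0 1 (by decide), h.UH 0 2 (by decide), h.UH 1 2 (by decide)⟩ h3 h0

theorem int_step2' (a1 b1 c1 O a2 b2 c2 : ℤ)
    (_va1 : a1 = 0 ∨ a1 = 1 ∨ a1 = -1) (_vb1 : b1 = 0 ∨ b1 = 1 ∨ b1 = -1)
    (_vc1 : c1 = 0 ∨ c1 = 1 ∨ c1 = -1)
    (_vO : O = 0 ∨ O = 1 ∨ O = -1)
    (_vb2 : b2 = 0 ∨ b2 = 1 ∨ b2 = -1) (_vc2 : c2 = 0 ∨ c2 = 1 ∨ c2 = -1)
    (_E00 : O + a1 + a2 = 1) (_E01 : O + b1 + b2 = 0) (_E02 : O + c1 + c2 = 0)
    (_E03 : a1 + b1 + c1 = 0)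
    (_U0a : O = 0 ∨ a1 = 0) (_ha2 : a2 = 0) :
    (b1 ≠ 0 ∨ c1 ≠ 0) ∨ (O = 1 ∧ a1 = 0 ∧ b1 = 0 ∧ c1 = 0 ∧ b2 = -1 ∧ c2 = -1) := by
  omega

theorem ConfB.false_aux1 {O : ι} {P Q : Fin 3 → ι} {G : Fin 3 → ι → ℤ} {H : ι → ℤ}
    (h : ConfB O P Q G H) (h3 : H (P 0) ≠ 0) : False := by
  obtain ⟨h3a1, h3b1, h3c1, h3O, h3a2, h3b2, h3c2⟩ :=
    int_step1 (H (P 0)) (H (P 1)) (H (P 2)) (H O) (H (Q 0)) (H (Q 1)) (H (Q 2))
      (h.smallH.val _) (h.smallH.val _) (h.smallH.val _) (h.smallH.val _) (h.smallH.val _)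
      (h.smallH.val _) (h.smallH.val _)
      (h.EH 0) (h.EH 1) (h.EH 2) h.EHT (h.UH 0 1 (by decide)) (h.UH 0 2 (by decide))
      (h.smallH.four (P 0) O (Q 1) (Q 2) (h.OP 0).symm (h.PQ 0 1) (h.PQ 0 2) (h.OQ 1) (h.OQ 2)
        (h.QQ 1 2 (by decide))) h3
  have E00 : G 0 O + G 0 (P 0) + G 0 (Q 0) = 1 := by have := h.E 0 0; simpa using this
  have E01 : G 0 O + G 0 (P 1) + G 0 (Q 1) = 0 := by have := h.E 0 1; simpa using this
  have E02 : G 0 O + G 0 (P 2) + G 0 (Q 2) = 0 := by have := h.E 0 2; simpa using this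
  have g0a2 : G 0 (Q 0) = 0 := by
    rcases agree_or (h.adjH 0) (Q 0) (-1) h3a2 (by norm_num) with h' | h'
    · exact h'
    · exfalso
      have := (h.U 0).2.1
      have := (h.U 0).2.2
      have := (h.smallG 0).val O
      have := (h.smallG 0).val (P 0)
      omega
  have key := int_step2' (G 0 (P 0)) (G 0 (P 1)) (G 0 (P 2)) (G 0 O) (G 0 (Q 0)) (G 0 (Q 1))
    (G 0 (Q 2)) ((h.smallG 0).val _) ((h.smallG 0).val _) ((h.smallG 0).val _)
    ((h.smallG 0).val _) ((h.smallG 0).val _) ((h.smallG 0).val _) E00 E01 E02 (h.ET 0)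
    (h.U 0).1 g0a2
  rcases key with (hb | hc) | ⟨kO, ka1, kb1, kc1, kb2, kc2⟩
  · exact h.false_aux h3 hb
  · -- swap the roles of lines 1 and 2
    have h' := h.perm (Equiv.swap 1 2)
    have e0 : (Equiv.swap (1 : Fin 3) 2) 0 = 0 := by decide
    have e1 : (Equiv.swap (1 : Fin 3) 2) 1 = 2 := by decide
    refine h'.false_aux ?_ ?_
    · simp only [e0]
      exact h3
    · simp only [e0, e1]
      exact hc
  · -- G 0 = O - Q 1 - Q 2 has no common point with H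
    obtain ⟨p, hp0, hpH⟩ := (h.adjH 0).ex
    have hp : p = O ∨ p = Q 1 ∨ p = Q 2 := by
      by_contra hcon
      push Not at hcon
      obtain ⟨n1, n2, n3⟩ := hcon
      have := (h.smallG 0).four O (Q 1) (Q 2) p (h.OQ 1) (h.OQ 2) (Ne.symm n1)
        (h.QQ 1 2 (by decide)) (Ne.symm n2) (Ne.symm n3)
      omega
    rcases hp with rfl | rfl | rfl
    · exact hpH h3O
    · exact hpH h3b2
    · exact hpH h3c2

theorem ConfB.false {O : ι} {P Q : Fin 3 → ι} {G : Fin 3 → ι → ℤ} {H : ι → ℤ}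
    (h : ConfB O P Q G H) : False := by
  have hex : H (P 0) ≠ 0 ∨ H (P 1) ≠ 0 ∨ H (P 2) ≠ 0 := by
    have := h.EHT
    by_contra hcon
    push Not at hcon
    obtain ⟨e0, e1, e2⟩ := hcon
    rw [e0, e1, e2] at this
    norm_num at this
  rcases hex with h0 | h1 | h2
  · exact h.false_aux1 h0
  · have h' := h.perm (Equiv.swap 0 1)
    refine h'.false_aux1 ?_
    have e0 : (Equiv.swap (0 : Fin 3) 1) 0 = 1 := by decide
    simp only [e0]
    exact h1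
  · have h' := h.perm (Equiv.swap 0 2)
    refine h'.false_aux1 ?_
    have e0 : (Equiv.swap (0 : Fin 3) 2) 0 = 2 := by decide
    simp only [e0]
    exact h2

end Cfsg.Agent.Lib.Helper11.TriCore
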