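import Mathlib
import Cfsg.Agent.Lib.Helper11.TriCore

set_option autoImplicit false

/-!
# Integer vectors of norm 3 on a finite index type

`ip` is the standard inner product, `Tri v` says `v` has norm 3 (three coefficients `±1`),
`wdeg d v` is a weighted coefficient sum ("degree").  Main result: `adj_of_ip_one`
(two norm-3 vectors of equal degree with inner product 1 share exactly one point, with
equal coefficient).
-/

namespace Cfsg.Agent.Lib.Helper11.TriVec

open Finset Cfsg.Agent.Lib.Helper11.TriCore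

variable {ι : Type*} [Fintype ι] [DecidableEq ι]

/-- standard inner product of integer vectors -/
def ip (u v : ι → ℤ) : ℤ := ∑ x, u x * v x

/-- weighted coefficient sum -/
def wdeg (d u : ι → ℤ) : ℤ := ∑ x, d x * u x

/-- norm 3 -/
def Tri (v : ι → ℤ) : Prop := ∑ x, v x ^ 2 = 3

theorem ip_comm (u v : ι → ℤ) : ip u v = ip v u := by
  unfold ip
  exact Finset.sum_congr rfl (fun x _ => mul_comm _ _)

theorem Tri.val {v : ι → ℤ} (h : Tri v) (x : ι) : v x = 0 ∨ v x = 1 ∨ v x = -1 := by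
  have h1 : v x ^ 2 ≤ ∑ y, v y ^ 2 :=
    Finset.single_le_sum (f := fun y => v y ^ 2) (fun y _ => sq_nonneg _) (Finset.mem_univ x)
  rw [h] at h1
  have h2 : -1 ≤ v x ∧ v x ≤ 1 := by constructor <;> nlinarith
  omega

theorem Tri.sq_eq {v : ι → ℤ} (h : Tri v) (x : ι) : v x ^ 2 = if v x ≠ 0 then 1 else 0 := by
  rcases h.val x with h0 | h0 | h0 <;> rw [h0] <;> norm_num

theorem Tri.four {v : ι → ℤ} (h : Tri v) (p q r s : ι) (hpq : p ≠ q) (hpr : p ≠ r) (hps : p ≠ s)
    (hqr : q ≠ r) (hqs : q ≠ s) (hrs : r ≠ s) : v p = 0 ∨ v q = 0 ∨ v r = 0 ∨ v s = 0 := by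
  by_contra hcon
  push Not at hcon
  obtain ⟨h1, h2, h3, h4⟩ := hcon
  have hsub : ∑ y ∈ ({p, q, r, s} : Finset ι), v y ^ 2 ≤ ∑ y, v y ^ 2 :=
    Finset.sum_le_sum_of_subset_of_nonneg (Finset.subset_univ _) (fun _ _ _ => sq_nonneg _)
  rw [h, Finset.sum_insert (by simp [hpq, hpr, hps]), Finset.sum_insert (by simp [hqr, hqs]),
    Finset.sum_insert (by simp [hrs]), Finset.sum_singleton, h.sq_eq p, h.sq_eq q, h.sq_eq r,
    h.sq_eq s, if_pos h1, if_pos h2, if_pos h3, if_pos h4] at hsub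
  omega

theorem Tri.small {v : ι → ℤ} (h : Tri v) : Small v := ⟨h.val, h.four⟩

theorem Tri.exists_support {v : ι → ℤ} (h : Tri v) :
    ∃ a b c, a ≠ b ∧ a ≠ c ∧ b ≠ c ∧ v a ≠ 0 ∧ v b ≠ 0 ∧ v c ≠ 0 ∧
      ∀ x, x ≠ a → x ≠ b → x ≠ c → v x = 0 := by
  have hcard : (Finset.univ.filter (fun x => v x ≠ 0)).card = 3 := by
    have h1 : ∑ x, v x ^ 2 = ∑ x, (if v x ≠ 0 then (1 : ℤ) else 0) :=
      Finset.sum_congr rfl (fun x _ => h.sq_eq x)
    rw [Finset.sum_boole] at h1
    have h2 : ((Finset.univ.filter (fun x => v x ≠ 0)).card : ℤ) = 3 := by rw [← h1]; exact h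
    exact_mod_cast h2
  obtain ⟨a, b, c, hab, hac, hbc, hS⟩ := Finset.card_eq_three.1 hcard
  have hmem : ∀ x, v x ≠ 0 ↔ x = a ∨ x = b ∨ x = c := by
    intro x
    have : x ∈ Finset.univ.filter (fun x => v x ≠ 0) ↔ x ∈ ({a, b, c} : Finset ι) := by rw [hS]
    simpa using this
  refine ⟨a, b, c, hab, hac, hbc, (hmem a).2 (Or.inl rfl), (hmem b).2 (Or.inr (Or.inl rfl)),
    (hmem c).2 (Or.inr (Or.inr rfl)), ?_⟩
  intro x h1 h2 h3
  by_contra hx
  rcases (hmem x).1 hx with e | e | e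
  · exact h1 e
  · exact h2 e
  · exact h3 e

theorem sum_eq_of_support {f : ι → ℤ} {a b c : ι} (hab : a ≠ b) (hac : a ≠ c) (hbc : b ≠ c)
    (hf : ∀ x, x ≠ a → x ≠ b → x ≠ c → f x = 0) : ∑ x, f x = f a + f b + f c := by
  have h1 : ∑ x ∈ ({a, b, c} : Finset ι), f x = ∑ x, f x := by
    apply Finset.sum_subset (Finset.subset_univ _)
    intro x _ hx
    simp only [Finset.mem_insert, Finset.mem_singleton, not_or] at hx
    exact hf x hx.1 hx.2.1 hx.2.2
  rw [← h1, Finset.sum_insert (by simp [hab, hac]), Finset.sum_insert (by simp [hbc]),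
    Finset.sum_singleton]
  ring

theorem ip_eq_of_support {u v : ι → ℤ} {a b c : ι} (hab : a ≠ b) (hac : a ≠ c) (hbc : b ≠ c)
    (hu : ∀ x, x ≠ a → x ≠ b → x ≠ c → u x = 0) :
    ip u v = u a * v a + u b * v b + u c * v c := by
  unfold ip
  exact sum_eq_of_support hab hac hbc (fun x h1 h2 h3 => by rw [hu x h1 h2 h3, zero_mul])

theorem wdeg_eq_of_support {d u : ι → ℤ} {a b c : ι} (hab : a ≠ b) (hac : a ≠ c) (hbc : b ≠ c)
    (hu : ∀ x, x ≠ a → x ≠ b → x ≠ c → u x = 0) :
    wdeg d u = d a * u a + d b * u b + d c * u c := by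
  unfold wdeg
  exact sum_eq_of_support hab hac hbc (fun x h1 h2 h3 => by rw [hu x h1 h2 h3, mul_zero])

/-- integer core of `adj_of_ip_one` -/
theorem int_common (ua ub uc va vb vc : ℤ)
    (hua : ua = 1 ∨ ua = -1) (hub : ub = 1 ∨ ub = -1) (huc : uc = 1 ∨ uc = -1)
    (hva : va = 0 ∨ va = 1 ∨ va = -1) (hvb : vb = 0 ∨ vb = 1 ∨ vb = -1)
    (hvc : vc = 0 ∨ vc = 1 ∨ vc = -1)
    (h : ua * va + ub * vb + uc * vc = 1) :
    (va = ua ∧ vb = 0 ∧ vc = 0) ∨ (va = 0 ∧ vb = ub ∧ vc = 0) ∨ (va = 0 ∧ vb = 0 ∧ vc = uc) ∨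
    (va = -ua ∧ vb = ub ∧ vc = uc) ∨ (va = ua ∧ vb = -ub ∧ vc = uc) ∨
    (va = ua ∧ vb = ub ∧ vc = -uc) := by
  rcases hua with rfl | rfl <;> rcases hub with rfl | rfl <;> rcases huc with rfl | rfl <;>
    rcases hva with rfl | rfl | rfl <;> rcases hvb with rfl | rfl | rfl <;>
    rcases hvc with rfl | rfl | rfl <;> omega

theorem adj_of_ip_one (d : ι → ℤ) (hd : ∀ x, d x ≠ 0) {u v : ι → ℤ} (hu : Tri u) (hv : Tri v)
    (hdeg : wdeg d u = wdeg d v) (h : ip u v = 1) : Adj u v := by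
  obtain ⟨a, b, c, hab, hac, hbc, ha, hb, hc, hsupp⟩ := hu.exists_support
  rw [ip_eq_of_support hab hac hbc hsupp] at h
  have hua : u a = 1 ∨ u a = -1 := by have := hu.val a; omega
  have hub : u b = 1 ∨ u b = -1 := by have := hu.val b; omega
  have huc : u c = 1 ∨ u c = -1 := by have := hu.val c; omega
  have key := int_common (u a) (u b) (u c) (v a) (v b) (v c) hua hub huc (hv.val a) (hv.val b)
    (hv.val c) h
  -- the three bad cases contradict the degree condition
  have bad : ∀ (p q r : ι), p ≠ q → p ≠ r → q ≠ r → (∀ x, x ≠ p → x ≠ q → x ≠ r → u x = 0) →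
      u p ≠ 0 → u q ≠ 0 → u r ≠ 0 → v p = -u p → v q = u q → v r = u r → False := by
    intro p q r hpq hpr hqr hs hp hq hr e1 e2 e3
    have hvs : ∀ x, x ≠ p → x ≠ q → x ≠ r → v x = 0 := by
      intro x h1 h2 h3
      have := hv.four p q r x hpq hpr (Ne.symm h1) hqr (Ne.symm h2) (Ne.symm h3)
      rw [e1, e2, e3] at this
      rcases this with t | t | t | t
      · exact absurd (neg_eq_zero.1 t) hp
      · exact absurd t hq
      · exact absurd t hr
      · exact t
    rw [wdeg_eq_of_support hpq hpr hqr hs, wdeg_eq_of_support hpq hpr hqr hvs, e1, e2, e3] at hdeg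
    have h2 : d p * u p = 0 := by linarith
    rcases mul_eq_zero.1 h2 with t | t
    · exact hd p t
    · exact hp t
  have supp_of : ∀ x, u x ≠ 0 → x = a ∨ x = b ∨ x = c := by
    intro x hx
    by_contra hcon
    push Not at hcon
    exact hx (hsupp x hcon.1 hcon.2.1 hcon.2.2)
  rcases key with ⟨e1, e2, e3⟩ | ⟨e1, e2, e3⟩ | ⟨e1, e2, e3⟩ | ⟨e1, e2, e3⟩ | ⟨e1, e2, e3⟩ |
    ⟨e1, e2, e3⟩
  · refine ⟨?_, ?_, ⟨a, ha, by rw [e1]; exact ha⟩⟩
    · intro p hp hq
      rcases supp_of p hp with rfl | rfl | rfl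
      · exact e1.symm
      · exact absurd e2 hq
      · exact absurd e3 hq
    · intro p q hp hp' hq hq'
      have h1 : p = a := by
        rcases supp_of p hp with rfl | rfl | rfl
        · rfl
        · exact absurd e2 hp'
        · exact absurd e3 hp'
      have h2 : q = a := by
        rcases supp_of q hq with rfl | rfl | rfl
        · rfl
        · exact absurd e2 hq'
        · exact absurd e3 hq'
      rw [h1, h2]
  · refine ⟨?_, ?_, ⟨b, hb, by rw [e2]; exact hb⟩⟩
    · intro p hp hq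
      rcases supp_of p hp with rfl | rfl | rfl
      · exact absurd e1 hq
      · exact e2.symm
      · exact absurd e3 hq
    · intro p q hp hp' hq hq'
      have h1 : p = b := by
        rcases supp_of p hp with rfl | rfl | rfl
        · exact absurd e1 hp'
        · rfl
        · exact absurd e3 hp'
      have h2 : q = b := by
        rcases supp_of q hq with rfl | rfl | rfl
        · exact absurd e1 hq'
        · rfl
        · exact absurd e3 hq'
      rw [h1, h2]
  · refine ⟨?_, ?_, ⟨c, hc, by rw [e3]; exact hc⟩⟩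
    · intro p hp hq
      rcases supp_of p hp with rfl | rfl | rfl
      · exact absurd e1 hq
      · exact absurd e2 hq
      · exact e3.symm
    · intro p q hp hp' hq hq'
      have h1 : p = c := by
        rcases supp_of p hp with rfl | rfl | rfl
        · exact absurd e1 hp'
        · exact absurd e2 hp'
        · rfl
      have h2 : q = c := by
        rcases supp_of q hq with rfl | rfl | rfl
        · exact absurd e1 hq'
        · exact absurd e2 hq'
        · rfl
      rw [h1, h2]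
  · exact (bad a b c hab hac hbc hsupp ha hb hc e1 e2 e3).elim
  · exact (bad b a c hab.symm hbc hac (fun x h1 h2 h3 => hsupp x h2 h1 h3) hb ha hc e2 e1 e3).elim
  · exact (bad c a b hac.symm hbc.symm hab (fun x h1 h2 h3 => hsupp x h2 h3 h1) hc ha hb e3 e1
      e2).elim

/-- orthogonal norm-3 vectors with a common point have a second common point -/
theorem exists_second_common {u v : ι → ℤ} (hu : Tri u) (hv : Tri v) (h : ip u v = 0) {p : ι}
    (hp : u p ≠ 0) (hp' : v p ≠ 0) : ∃ q, q ≠ p ∧ u q ≠ 0 ∧ v q ≠ 0 := by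
  obtain ⟨a, b, c, hab, hac, hbc, ha, hb, hc, hsupp⟩ := hu.exists_support
  rw [ip_eq_of_support hab hac hbc hsupp] at h
  have hua : u a = 1 ∨ u a = -1 := by have := hu.val a; omega
  have hub : u b = 1 ∨ u b = -1 := by have := hu.val b; omega
  have huc : u c = 1 ∨ u c = -1 := by have := hu.val c; omega
  have hva := hv.val a
  have hvb := hv.val b
  have hvc := hv.val c
  have hpabc : p = a ∨ p = b ∨ p = c := by
    by_contra hcon
    push Not at hcon
    exact hp (hsupp p hcon.1 hcon.2.1 hcon.2.2)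
  have key : (v a ≠ 0 ∧ v b ≠ 0) ∨ (v a ≠ 0 ∧ v c ≠ 0) ∨ (v b ≠ 0 ∧ v c ≠ 0) ∨
      (v a = 0 ∧ v b = 0 ∧ v c = 0) := by
    rcases hua with e1 | e1 <;> rcases hub with e2 | e2 <;> rcases huc with e3 | e3 <;>
      rw [e1, e2, e3] at h <;> omega
  rcases key with ⟨k1, k2⟩ | ⟨k1, k2⟩ | ⟨k1, k2⟩ | ⟨k1, k2, k3⟩
  · rcases hpabc with rfl | rfl | rfl
    · exact ⟨b, hab.symm, hb, k2⟩
    · exact ⟨a, hab, ha, k1⟩
    · exact ⟨a, hac, ha, k1⟩
  · rcases hpabc with rfl | rfl | rfl
    · exact ⟨c, hac.symm, hc, k2⟩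
    · exact ⟨a, hab, ha, k1⟩
    · exact ⟨a, hac, ha, k1⟩
  · rcases hpabc with rfl | rfl | rfl
    · exact ⟨b, hab.symm, hb, k1⟩
    · exact ⟨c, hbc.symm, hc, k2⟩
    · exact ⟨b, hbc, hb, k1⟩
  · rcases hpabc with rfl | rfl | rfl
    · exact absurd k1 hp'
    · exact absurd k2 hp'
    · exact absurd k3 hp'

end Cfsg.Agent.Lib.Helper11.TriVec
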