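import Mathlib
import Cfsg.Agent.Lib.Helper11.TriVec
import Cfsg.Agent.Lib.Helper11.TriConf

set_option autoImplicit false

/-!
# Two rows of a cyclic-TI table: every row with at least four columns has a common point
-/

namespace Cfsg.Agent.Lib.Helper11

open Finset TriCore TriVec

section flip

variable {ι : Type*}

theorem TriCore.Small.flip {σ v : ι → ℤ} (hσ : ∀ y, σ y = 1 ∨ σ y = -1) (h : Small v) :
    Small (fun y => σ y * v y) where
  val := by
    intro x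
    rcases hσ x with e | e <;> rcases h.val x with e' | e' | e' <;> simp [e, e']
  four := by
    intro p q r s h1 h2 h3 h4 h5 h6
    have key : ∀ y, v y = 0 → σ y * v y = 0 := fun y hy => by rw [hy, mul_zero]
    rcases h.four p q r s h1 h2 h3 h4 h5 h6 with e | e | e | e
    · exact Or.inl (key _ e)
    · exact Or.inr (Or.inl (key _ e))
    · exact Or.inr (Or.inr (Or.inl (key _ e)))
    · exact Or.inr (Or.inr (Or.inr (key _ e)))

theorem flip_ne_zero {σ v : ι → ℤ} (hσ : ∀ y, σ y = 1 ∨ σ y = -1) (y : ι) :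
    σ y * v y ≠ 0 ↔ v y ≠ 0 := by
  rcases hσ y with e | e <;> simp [e]

theorem TriCore.Adj.flip {σ u v : ι → ℤ} (hσ : ∀ y, σ y = 1 ∨ σ y = -1) (h : Adj u v) :
    Adj (fun y => σ y * u y) (fun y => σ y * v y) where
  agree := by
    intro p hp hq
    show σ p * u p = σ p * v p
    rw [h.agree p ((flip_ne_zero hσ p).1 hp) ((flip_ne_zero hσ p).1 hq)]
  uniq := by
    intro p q h1 h2 h3 h4
    exact h.uniq p q ((flip_ne_zero hσ p).1 h1) ((flip_ne_zero hσ p).1 h2)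
      ((flip_ne_zero hσ q).1 h3) ((flip_ne_zero hσ q).1 h4)
  ex := by
    obtain ⟨p, h1, h2⟩ := h.ex
    exact ⟨p, (flip_ne_zero hσ p).2 h1, (flip_ne_zero hσ p).2 h2⟩

end flip

namespace TriVec

variable {ι : Type*} [Fintype ι] [DecidableEq ι]

theorem Tri.third {v : ι → ℤ} (h : Tri v) {p q : ι} (hpq : p ≠ q) (hp : v p ≠ 0) (hq : v q ≠ 0) :
    ∃ r, r ≠ p ∧ r ≠ q ∧ v r ≠ 0 ∧ ∀ y, y ≠ p → y ≠ q → y ≠ r → v y = 0 := by
  obtain ⟨a, b, c, hab, hac, hbc, ha, hb, hc, hs⟩ := h.exists_support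
  have hp' : p = a ∨ p = b ∨ p = c := by
    by_contra hcon
    push Not at hcon
    exact hp (hs p hcon.1 hcon.2.1 hcon.2.2)
  have hq' : q = a ∨ q = b ∨ q = c := by
    by_contra hcon
    push Not at hcon
    exact hq (hs q hcon.1 hcon.2.1 hcon.2.2)
  rcases hp' with rfl | rfl | rfl <;> rcases hq' with rfl | rfl | rfl
  · exact absurd rfl hpq
  · exact ⟨c, hac.symm, hbc.symm, hc, fun y h1 h2 h3 => hs y h1 h2 h3⟩
  · exact ⟨b, hab.symm, hbc, hb, fun y h1 h2 h3 => hs y h1 h3 h2⟩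
  · exact ⟨c, hbc.symm, hac.symm, hc, fun y h1 h2 h3 => hs y h2 h1 h3⟩
  · exact absurd rfl hpq
  · exact ⟨a, hab, hac, ha, fun y h1 h2 h3 => hs y h3 h1 h2⟩
  · exact ⟨b, hbc, hab.symm, hb, fun y h1 h2 h3 => hs y h2 h3 h1⟩
  · exact ⟨a, hac, hab, ha, fun y h1 h2 h3 => hs y h3 h2 h1⟩
  · exact absurd rfl hpq

/-- the support of a norm-3 vector, given three distinct points of it -/
theorem Tri.eq_zero_of_ne {v : ι → ℤ} (h : Tri v) {p q r : ι} (hpq : p ≠ q) (hpr : p ≠ r)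
    (hqr : q ≠ r) (hp : v p ≠ 0) (hq : v q ≠ 0) (hr : v r ≠ 0) (y : ι) (h1 : y ≠ p) (h2 : y ≠ q)
    (h3 : y ≠ r) : v y = 0 := by
  rcases h.four p q r y hpq hpr (Ne.symm h1) hqr (Ne.symm h2) (Ne.symm h3) with e | e | e | e
  · exact absurd e hp
  · exact absurd e hq
  · exact absurd e hr
  · exact e

theorem Tri.ne_zero_val {v : ι → ℤ} (h : Tri v) {p : ι} (hp : v p ≠ 0) : v p = 1 ∨ v p = -1 := by
  have := h.val p
  omega

/-- two rows of a table, over a column index type `J` -/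
structure Row2 {J : Type*} (u w : J → ι → ℤ) : Prop where
  tri_u : ∀ j, Tri (u j)
  tri_w : ∀ j, Tri (w j)
  adj_u : ∀ j k, j ≠ k → Adj (u j) (u k)
  adj_w : ∀ j k, j ≠ k → Adj (w j) (w k)
  adj_uw : ∀ j, Adj (u j) (w j)
  ip_self : ∀ j, ip (u j) (w j) = 1
  ip_off : ∀ j k, j ≠ k → ip (u j) (w k) = 0

theorem Row2.comp {J J' : Type*} {u w : J → ι → ℤ} (h : Row2 u w) (e : J' → J)
    (he : Function.Injective e) : Row2 (fun j => u (e j)) (fun j => w (e j)) where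
  tri_u := fun j => h.tri_u _
  tri_w := fun j => h.tri_w _
  adj_u := fun j k hjk => h.adj_u _ _ (fun e' => hjk (he e'))
  adj_w := fun j k hjk => h.adj_w _ _ (fun e' => hjk (he e'))
  adj_uw := fun j => h.adj_uw _
  ip_self := fun j => h.ip_self _
  ip_off := fun j k hjk => h.ip_off _ _ (fun e' => hjk (he e'))

theorem partner_aux {L M1 M2 M3 : ι → ℤ} (hL : Tri L) (A1 : Adj L M1) (A2 : Adj L M2)
    (A3 : Adj L M3) (h12 : ∀ x, L x = 0 ∨ M1 x = 0 ∨ M2 x = 0)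
    (h13 : ∀ x, L x = 0 ∨ M1 x = 0 ∨ M3 x = 0) (h23 : ∀ x, L x = 0 ∨ M2 x = 0 ∨ M3 x = 0)
    (x : ι) (hx : L x ≠ 0) : M1 x ≠ 0 ∨ M2 x ≠ 0 ∨ M3 x ≠ 0 := by
  obtain ⟨p1, hp1, hp1'⟩ := A1.ex
  obtain ⟨p2, hp2, hp2'⟩ := A2.ex
  obtain ⟨p3, hp3, hp3'⟩ := A3.ex
  have n12 : p1 ≠ p2 := by
    intro e
    rw [← e] at hp2'
    rcases h12 p1 with t | t | t
    · exact hp1 t
    · exact hp1' t
    · exact hp2' t
  have n13 : p1 ≠ p3 := by
    intro e
    rw [← e] at hp3'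
    rcases h13 p1 with t | t | t
    · exact hp1 t
    · exact hp1' t
    · exact hp3' t
  have n23 : p2 ≠ p3 := by
    intro e
    rw [← e] at hp3'
    rcases h23 p2 with t | t | t
    · exact hp2 t
    · exact hp2' t
    · exact hp3' t
  by_cases e1 : x = p1
  · rw [e1]; exact Or.inl hp1'
  by_cases e2 : x = p2
  · rw [e2]; exact Or.inr (Or.inl hp2')
  by_cases e3 : x = p3
  · rw [e3]; exact Or.inr (Or.inr hp3')
  exact absurd (hL.eq_zero_of_ne n12 n13 n23 hp1 hp2 hp3 x e1 e2 e3) hx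

theorem int_even (a b c e : ℤ) (va : a = 0 ∨ a = 1 ∨ a = -1) (vb : b = 0 ∨ b = 1 ∨ b = -1)
    (vc : c = 0 ∨ c = 1 ∨ c = -1) (ve : e = 0 ∨ e = 1 ∨ e = -1)
    (t1 : a = 0 ∨ b = 0 ∨ c = 0) (t2 : a = 0 ∨ b = 0 ∨ e = 0) (t3 : a = 0 ∨ c = 0 ∨ e = 0)
    (t4 : b = 0 ∨ c = 0 ∨ e = 0)
    (pa : a = 0 ∨ b ≠ 0 ∨ c ≠ 0 ∨ e ≠ 0) (pb : b = 0 ∨ a ≠ 0 ∨ c ≠ 0 ∨ e ≠ 0)
    (pc : c = 0 ∨ a ≠ 0 ∨ b ≠ 0 ∨ e ≠ 0) (pe : e = 0 ∨ a ≠ 0 ∨ b ≠ 0 ∨ c ≠ 0)
    (gab : a = 0 ∨ b = 0 ∨ a = b) (gac : a = 0 ∨ c = 0 ∨ a = c) (gae : a = 0 ∨ e = 0 ∨ a = e)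
    (gbc : b = 0 ∨ c = 0 ∨ b = c) (gbe : b = 0 ∨ e = 0 ∨ b = e) (gce : c = 0 ∨ e = 0 ∨ c = e) :
    ∃ m : ℤ, a + b + c + e = 2 * m := by
  suffices h : (2 : ℤ) ∣ a + b + c + e from h
  rcases va with rfl | rfl | rfl <;> rcases vb with rfl | rfl | rfl <;>
    rcases vc with rfl | rfl | rfl <;> rcases ve with rfl | rfl | rfl <;>
    first
      | decide
      | (exfalso; simp at *)

theorem agree_or' {u v : ι → ℤ} (h : Adj u v) (x : ι) : u x = 0 ∨ v x = 0 ∨ u x = v x := by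
  by_cases h1 : u x = 0
  · exact Or.inl h1
  by_cases h2 : v x = 0
  · exact Or.inr (Or.inl h2)
  exact Or.inr (Or.inr (h.agree x h1 h2))

theorem pasch_false {U W : Fin 4 → ι → ℤ} (hR : Row2 U W)
    (h3 : ∀ x (j k l : Fin 4), j ≠ k → j ≠ l → k ≠ l → U j x = 0 ∨ U k x = 0 ∨ U l x = 0) :
    False := by
  have A := hR.adj_u
  have p0 : ∀ x, U 0 x ≠ 0 → U 1 x ≠ 0 ∨ U 2 x ≠ 0 ∨ U 3 x ≠ 0 := fun x hx =>
    partner_aux (hR.tri_u 0) (A 0 1 (by decide)) (A 0 2 (by decide)) (A 0 3 (by decide))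
      (fun y => h3 y 0 1 2 (by decide) (by decide) (by decide))
      (fun y => h3 y 0 1 3 (by decide) (by decide) (by decide))
      (fun y => h3 y 0 2 3 (by decide) (by decide) (by decide)) x hx
  have p1 : ∀ x, U 1 x ≠ 0 → U 0 x ≠ 0 ∨ U 2 x ≠ 0 ∨ U 3 x ≠ 0 := fun x hx =>
    partner_aux (hR.tri_u 1) (A 1 0 (by decide)) (A 1 2 (by decide)) (A 1 3 (by decide))
      (fun y => h3 y 1 0 2 (by decide) (by decide) (by decide))
      (fun y => h3 y 1 0 3 (by decide) (by decide) (by decide))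
      (fun y => h3 y 1 2 3 (by decide) (by decide) (by decide)) x hx
  have p2 : ∀ x, U 2 x ≠ 0 → U 0 x ≠ 0 ∨ U 1 x ≠ 0 ∨ U 3 x ≠ 0 := fun x hx =>
    partner_aux (hR.tri_u 2) (A 2 0 (by decide)) (A 2 1 (by decide)) (A 2 3 (by decide))
      (fun y => h3 y 2 0 1 (by decide) (by decide) (by decide))
      (fun y => h3 y 2 0 3 (by decide) (by decide) (by decide))
      (fun y => h3 y 2 1 3 (by decide) (by decide) (by decide)) x hx
  have p3 : ∀ x, U 3 x ≠ 0 → U 0 x ≠ 0 ∨ U 1 x ≠ 0 ∨ U 2 x ≠ 0 := fun x hx =>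
    partner_aux (hR.tri_u 3) (A 3 0 (by decide)) (A 3 1 (by decide)) (A 3 2 (by decide))
      (fun y => h3 y 3 0 1 (by decide) (by decide) (by decide))
      (fun y => h3 y 3 0 2 (by decide) (by decide) (by decide))
      (fun y => h3 y 3 1 2 (by decide) (by decide) (by decide)) x hx
  have heven : ∀ x, ∃ m : ℤ, U 0 x + U 1 x + U 2 x + U 3 x = 2 * m := by
    intro x
    refine int_even _ _ _ _ ((hR.tri_u 0).val x) ((hR.tri_u 1).val x) ((hR.tri_u 2).val x)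
      ((hR.tri_u 3).val x)
      (h3 x 0 1 2 (by decide) (by decide) (by decide))
      (h3 x 0 1 3 (by decide) (by decide) (by decide))
      (h3 x 0 2 3 (by decide) (by decide) (by decide))
      (h3 x 1 2 3 (by decide) (by decide) (by decide))
      ?_ ?_ ?_ ?_
      (agree_or' (A 0 1 (by decide)) x) (agree_or' (A 0 2 (by decide)) x)
      (agree_or' (A 0 3 (by decide)) x) (agree_or' (A 1 2 (by decide)) x)
      (agree_or' (A 1 3 (by decide)) x) (agree_or' (A 2 3 (by decide)) x)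
    · by_cases h : U 0 x = 0
      · exact Or.inl h
      · exact Or.inr (p0 x h)
    · by_cases h : U 1 x = 0
      · exact Or.inl h
      · exact Or.inr (p1 x h)
    · by_cases h : U 2 x = 0
      · exact Or.inl h
      · exact Or.inr (p2 x h)
    · by_cases h : U 3 x = 0
      · exact Or.inl h
      · exact Or.inr (p3 x h)
  choose m hm using heven
  have hsum : ip (U 0) (W 0) + ip (U 1) (W 0) + ip (U 2) (W 0) + ip (U 3) (W 0) =
      2 * ∑ x, m x * W 0 x := by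
    unfold ip
    rw [← Finset.sum_add_distrib, ← Finset.sum_add_distrib, ← Finset.sum_add_distrib,
      Finset.mul_sum]
    apply Finset.sum_congr rfl
    intro x _
    have := hm x
    calc U 0 x * W 0 x + U 1 x * W 0 x + U 2 x * W 0 x + U 3 x * W 0 x
        = (U 0 x + U 1 x + U 2 x + U 3 x) * W 0 x := by ring
      _ = 2 * (m x * W 0 x) := by rw [this]; ring
  rw [hR.ip_self 0, hR.ip_off 1 0 (by decide), hR.ip_off 2 0 (by decide),
    hR.ip_off 3 0 (by decide)] at hsum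
  omega

/-- a common sign function for a family of pairwise adjacent norm-3 vectors -/
theorem Row2.exists_sign {J : Type*} {u w : J → ι → ℤ} (hR : Row2 u w) :
    ∃ σ : ι → ℤ, (∀ y, σ y = 1 ∨ σ y = -1) ∧ ∀ j y, u j y ≠ 0 → σ y = u j y := by
  classical
  refine ⟨fun y => if h : ∃ j, u j y ≠ 0 then u h.choose y else 1, ?_, ?_⟩
  · intro y
    by_cases h : ∃ j, u j y ≠ 0
    · simp only [dif_pos h]
      exact (hR.tri_u _).ne_zero_val h.choose_spec
    · simp only [dif_neg h, true_or]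
  · intro j y hj
    have h : ∃ j, u j y ≠ 0 := ⟨j, hj⟩
    simp only [dif_pos h]
    by_cases e : h.choose = j
    · rw [e]
    · exact (hR.adj_u _ _ e).agree y h.choose_spec hj

theorem conf_false {J : Type*} {u w : J → ι → ℤ} (hR : Row2 u w) (f : Fin 3 → J)
    (hf : Function.Injective f) (t : J) (x : ι) (hx : ∀ s, u (f s) x ≠ 0) (ht : u t x = 0) :
    False := by
  have hft : ∀ s, f s ≠ t := fun s e => hx s (by rw [e]; exact ht)
  have hP : ∀ s, ∃ p, u (f s) p ≠ 0 ∧ u t p ≠ 0 := fun s => (hR.adj_u _ _ (hft s)).ex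
  choose P hP1 hP2 using hP
  have hOP : ∀ s, x ≠ P s := fun s e => hP2 s (by rw [← e]; exact ht)
  have hQ : ∀ s, ∃ r, r ≠ x ∧ r ≠ P s ∧ u (f s) r ≠ 0 ∧
      ∀ y, y ≠ x → y ≠ P s → y ≠ r → u (f s) y = 0 :=
    fun s => (hR.tri_u (f s)).third (hOP s) (hx s) (hP1 s)
  choose Q hQx hQP hQ1 hQs using hQ
  have huniq : ∀ s s', s ≠ s' → ∀ y, u (f s) y ≠ 0 → u (f s') y ≠ 0 → y = x :=
    fun s s' hss y h1 h2 =>
      (hR.adj_u _ _ (fun e => hss (hf e))).uniq y x h1 h2 (hx s) (hx s')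
  have hPP : ∀ s s', s ≠ s' → P s ≠ P s' := by
    intro s s' hss e
    exact hOP s (huniq s s' hss (P s) (hP1 s) (by rw [e]; exact hP1 s')).symm
  have hQQ : ∀ s s', s ≠ s' → Q s ≠ Q s' := by
    intro s s' hss e
    exact hQx s (huniq s s' hss (Q s) (hQ1 s) (by rw [e]; exact hQ1 s'))
  have hPQ : ∀ s s', P s ≠ Q s' := by
    intro s s' e
    by_cases hss : s = s'
    · subst hss; exact hQP s e.symm
    · exact hOP s (huniq s s' hss (P s) (hP1 s) (by rw [e]; exact hQ1 s')).symm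
  have hTs : ∀ y, y ≠ P 0 → y ≠ P 1 → y ≠ P 2 → u t y = 0 := fun y h0 h1 h2 =>
    (hR.tri_u t).eq_zero_of_ne (hPP 0 1 (by decide)) (hPP 0 2 (by decide)) (hPP 1 2 (by decide))
      (hP2 0) (hP2 1) (hP2 2) y h0 h1 h2
  obtain ⟨σ, hσ, hσu⟩ := hR.exists_sign
  have ipL : ∀ (s : Fin 3) (v : ι → ℤ), ip (u (f s)) v =
      σ x * v x + σ (P s) * v (P s) + σ (Q s) * v (Q s) := by
    intro s v
    rw [ip_eq_of_support (hOP s) (hQx s).symm (hQP s).symm (hQs s), hσu _ _ (hx s),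
      hσu _ _ (hP1 s), hσu _ _ (hQ1 s)]
  have ipT : ∀ (v : ι → ℤ), ip (u t) v =
      σ (P 0) * v (P 0) + σ (P 1) * v (P 1) + σ (P 2) * v (P 2) := by
    intro v
    rw [ip_eq_of_support (hPP 0 1 (by decide)) (hPP 0 2 (by decide)) (hPP 1 2 (by decide)) hTs,
      hσu _ _ (hP2 0), hσu _ _ (hP2 1), hσu _ _ (hP2 2)]
  refine ConfB.false (O := x) (P := P) (Q := Q) (G := fun s y => σ y * w (f s) y)
    (H := fun y => σ y * w t y) ⟨hOP, fun s => (hQx s).symm, hPP, hQQ, hPQ,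
      fun s => ((hR.tri_w (f s)).small).flip hσ, ((hR.tri_w t).small).flip hσ,
      fun s s' hss => (hR.adj_w _ _ (fun e => hss (hf e))).flip hσ,
      fun s => (hR.adj_w _ _ (hft s)).flip hσ, ?_, ?_, ?_, ?_, ?_, ?_⟩
  · intro s s'
    show σ x * w (f s) x + σ (P s') * w (f s) (P s') + σ (Q s') * w (f s) (Q s') = _
    rw [← ipL s' (w (f s))]
    by_cases hss : s = s'
    · rw [if_pos hss, hss]; exact hR.ip_self _
    · rw [if_neg hss]; exact hR.ip_off _ _ (fun e => hss (hf e).symm)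
  · intro s
    show σ (P 0) * w (f s) (P 0) + σ (P 1) * w (f s) (P 1) + σ (P 2) * w (f s) (P 2) = 0
    rw [← ipT (w (f s))]
    exact hR.ip_off _ _ (hft s).symm
  · intro s
    show σ x * w t x + σ (P s) * w t (P s) + σ (Q s) * w t (Q s) = 0
    rw [← ipL s (w t)]
    exact hR.ip_off _ _ (hft s)
  · show σ (P 0) * w t (P 0) + σ (P 1) * w t (P 1) + σ (P 2) * w t (P 2) = 1
    rw [← ipT (w t)]
    exact hR.ip_self t
  · intro s
    have A := hR.adj_uw (f s)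
    refine ⟨?_, ?_, ?_⟩
    · by_contra h
      push Not at h
      exact hOP s (A.uniq x (P s) (hx s) ((flip_ne_zero hσ x).1 h.1) (hP1 s)
        ((flip_ne_zero hσ (P s)).1 h.2))
    · by_contra h
      push Not at h
      exact hQx s (A.uniq x (Q s) (hx s) ((flip_ne_zero hσ x).1 h.1) (hQ1 s)
        ((flip_ne_zero hσ (Q s)).1 h.2)).symm
    · by_contra h
      push Not at h
      exact hQP s (A.uniq (P s) (Q s) (hP1 s) ((flip_ne_zero hσ (P s)).1 h.1) (hQ1 s)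
        ((flip_ne_zero hσ (Q s)).1 h.2)).symm
  · intro s s' hss
    by_contra h
    push Not at h
    exact hPP s s' hss ((hR.adj_uw t).uniq (P s) (P s') (hP2 s) ((flip_ne_zero hσ (P s)).1 h.1)
      (hP2 s') ((flip_ne_zero hσ (P s')).1 h.2))

theorem inj3 {J : Type*} {a b c : J} (hab : a ≠ b) (hac : a ≠ c) (hbc : b ≠ c) :
    Function.Injective ![a, b, c] := by
  intro s t h
  fin_cases s <;> fin_cases t <;> simp_all

/-- if three lines of a row pass through a point, all lines of that row do -/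
theorem Row2.three_concurrent {J : Type*} {u w : J → ι → ℤ} (hR : Row2 u w) {a b c : J}
    (hab : a ≠ b) (hac : a ≠ c) (hbc : b ≠ c) (x : ι) (ha : u a x ≠ 0) (hb : u b x ≠ 0)
    (hc : u c x ≠ 0) (t : J) : u t x ≠ 0 := by
  intro ht
  refine conf_false hR ![a, b, c] (inj3 hab hac hbc) t x ?_ ht
  intro s
  fin_cases s
  · exact ha
  · exact hb
  · exact hc

/-- a row with at least four columns (and a second row) has a common point -/
theorem Row2.exists_kernel {J : Type*} [Fintype J] {u w : J → ι → ℤ} (hR : Row2 u w)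
    (hJ : 4 ≤ Fintype.card J) : ∃ x, ∀ j, u j x ≠ 0 := by
  by_contra hcon
  push Not at hcon
  obtain ⟨e⟩ : Nonempty (Fin 4 ↪ J) :=
    Function.Embedding.nonempty_of_card_le (by simpa using hJ)
  apply pasch_false (hR.comp e e.injective)
  intro x j k l hjk hjl hkl
  by_contra h
  push Not at h
  obtain ⟨t, ht⟩ := hcon x
  exact hR.three_concurrent (e.injective.ne hjk) (e.injective.ne hjl) (e.injective.ne hkl) x
    h.1 h.2.1 h.2.2 t ht

end TriVec

end Cfsg.Agent.Lib.Helper11
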