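import Mathlib
import Cfsg.Agent.Lib.Helper11.TriBlock

set_option autoImplicit false

/-!
# The table lemma behind Peterfalvi (3.2)

A table `c i j` of norm-3 integer vectors, with `⟨c i j, c i' j'⟩ = [i = i'] + [j = j']` off the
diagonal, is of the shape `c i j = ± x i ± y j ± z i j` as soon as both index sets have size `2` or
at least `4`, and one of them has size at least `4`.
-/

namespace Cfsg.Agent.Lib.Helper11.TriVec

open Finset TriCore

variable {ι : Type*} [Fintype ι] [DecidableEq ι]

/-- the hypotheses on a table of norm-3 vectors -/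
structure TableHyp {I J : Type*} (c : I → J → ι → ℤ) : Prop where
  tri : ∀ i j, Tri (c i j)
  adj_row : ∀ i j j', j ≠ j' → Adj (c i j) (c i j')
  adj_col : ∀ i i' j, i ≠ i' → Adj (c i j) (c i' j)
  ip_row : ∀ i j j', j ≠ j' → ip (c i j) (c i j') = 1
  ip_col : ∀ i i' j, i ≠ i' → ip (c i j) (c i' j) = 1
  ip_off : ∀ i i' j j', i ≠ i' → j ≠ j' → ip (c i j) (c i' j') = 0

/-- the shape of the solution -/
structure TableSol {I J : Type*} (c : I → J → ι → ℤ) (x : I → ι) (y : J → ι) (z : I → J → ι) :
    Prop where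
  hx : ∀ i j, c i j (x i) ≠ 0
  hy : ∀ i j, c i j (y j) ≠ 0
  hz : ∀ i j, c i j (z i j) ≠ 0
  x_inj : Function.Injective x
  y_inj : Function.Injective y
  xy : ∀ i j, x i ≠ y j
  xz : ∀ i' i j, x i' ≠ z i j
  yz : ∀ j' i j, y j' ≠ z i j
  z_inj : ∀ i j i' j', z i j = z i' j' → i = i' ∧ j = j'
  sx : ∀ i j j', c i j (x i) = c i j' (x i)
  sy : ∀ i i' j, c i j (y j) = c i' j (y j)

section

variable {I J : Type*} {c : I → J → ι → ℤ}

/-- a table from its Gram matrix and a degree condition -/
theorem TableHyp.of_gram (d : ι → ℤ) (hd : ∀ t, d t ≠ 0) (htri : ∀ i j, Tri (c i j))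
    (hdeg : ∀ i j i' j', wdeg d (c i j) = wdeg d (c i' j'))
    (ip_row : ∀ i j j', j ≠ j' → ip (c i j) (c i j') = 1)
    (ip_col : ∀ i i' j, i ≠ i' → ip (c i j) (c i' j) = 1)
    (ip_off : ∀ i i' j j', i ≠ i' → j ≠ j' → ip (c i j) (c i' j') = 0) : TableHyp c where
  tri := htri
  adj_row := fun i j j' hj => adj_of_ip_one d hd (htri i j) (htri i j') (hdeg _ _ _ _)
    (ip_row i j j' hj)
  adj_col := fun i i' j hi => adj_of_ip_one d hd (htri i j) (htri i' j) (hdeg _ _ _ _)
    (ip_col i i' j hi)
  ip_row := ip_row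
  ip_col := ip_col
  ip_off := ip_off

theorem TableHyp.transpose (h : TableHyp c) : TableHyp (fun j i => c i j) where
  tri := fun j i => h.tri i j
  adj_row := fun j i i' hi => h.adj_col i i' j hi
  adj_col := fun j j' i hj => h.adj_row i j j' hj
  ip_row := fun j i i' hi => h.ip_col i i' j hi
  ip_col := fun j j' i hj => h.ip_row i j j' hj
  ip_off := fun j j' i i' hj hi => h.ip_off i i' j j' hi hj

theorem TableHyp.row2 (h : TableHyp c) (i i' : I) (hi : i ≠ i') : Row2 (c i) (c i') where
  tri_u := fun j => h.tri i j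
  tri_w := fun j => h.tri i' j
  adj_u := fun j k hjk => h.adj_row i j k hjk
  adj_w := fun j k hjk => h.adj_row i' j k hjk
  adj_uw := fun j => h.adj_col i i' j hi
  ip_self := fun j => h.ip_col i i' j hi
  ip_off := fun j k hjk => h.ip_off i i' j k hi hjk

theorem TableSol.transpose {x : J → ι} {y : I → ι} {z : J → I → ι}
    (h : TableSol (fun j i => c i j) x y z) : TableSol c y x (fun i j => z j i) where
  hx := fun i j => h.hy j i
  hy := fun i j => h.hx j i
  hz := fun i j => h.hz j i
  x_inj := h.y_inj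
  y_inj := h.x_inj
  xy := fun i j => (h.xy j i).symm
  xz := fun i' i j => h.yz i' j i
  yz := fun j' i j => h.xz j' j i
  z_inj := fun i j i' j' e => (h.z_inj j i j' i' e).symm
  sx := fun i j j' => h.sy j j' i
  sy := fun i i' j => h.sx j i i'

end

section

variable {I J : Type*} [Fintype I] [Fintype J] [DecidableEq I] [DecidableEq J]
  {c : I → J → ι → ℤ}

theorem TableHyp.exists_sol_aux (h : TableHyp c)
    (hI : Fintype.card I = 2 ∨ 4 ≤ Fintype.card I) (hJ : 4 ≤ Fintype.card J) :
    ∃ x y z, TableSol c x y z := by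
  have hI2 : 1 < Fintype.card I := by omega
  have hJ2 : 1 < Fintype.card J := by omega
  have exI : ∀ i : I, ∃ i', i' ≠ i := Fintype.exists_ne_of_one_lt_card hI2
  have exJ : ∀ j : J, ∃ j', j' ≠ j := Fintype.exists_ne_of_one_lt_card hJ2
  -- step 1: kernels of the rows
  have h1 : ∀ i, ∃ x, ∀ j, c i j x ≠ 0 := by
    intro i
    obtain ⟨i', hi'⟩ := exI i
    exact (h.row2 i i' hi'.symm).exists_kernel hJ
  choose x hx using h1
  -- step 2: kernels of the columns
  have h2 : ∀ j, ∃ y, ∀ i, c i j y ≠ 0 := by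
    intro j
    rcases hI with hI | hI
    · obtain ⟨i₀, i₁, hne, huniv⟩ := Finset.card_eq_two.1 (by rw [Finset.card_univ]; exact hI : (Finset.univ : Finset I).card = 2)
      obtain ⟨y, hy0, hy1⟩ := (h.adj_col i₀ i₁ j hne).ex
      refine ⟨y, fun i => ?_⟩
      have : i ∈ ({i₀, i₁} : Finset I) := by rw [← huniv]; exact Finset.mem_univ i
      rcases Finset.mem_insert.1 this with e | e
      · rw [e]; exact hy0
      · rw [Finset.mem_singleton.1 e]; exact hy1
    · obtain ⟨j', hj'⟩ := exJ j
      exact (h.transpose.row2 j j' hj'.symm).exists_kernel hI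
  choose y hy using h2
  -- step 3: the kernel of a row does not meet the other rows
  have h3 : ∀ i i' j, i ≠ i' → c i' j (x i) = 0 := by
    intro i i' j hii
    by_contra hne
    have hcard : 2 < (Finset.univ.erase j).card := by
      rw [Finset.card_erase_of_mem (Finset.mem_univ j), Finset.card_univ]; omega
    obtain ⟨j1, j2, j3, m1, m2, m3, n12, n13, n23⟩ := Finset.two_lt_card_iff.1 hcard
    have hj1 : j1 ≠ j := (Finset.mem_erase.1 m1).1
    have hj2 : j2 ≠ j := (Finset.mem_erase.1 m2).1
    have hj3 : j3 ≠ j := (Finset.mem_erase.1 m3).1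
    have key : ∀ k, k ≠ j → ∃ q, q ≠ x i ∧ c i k q ≠ 0 ∧ c i' j q ≠ 0 := by
      intro k hk
      exact exists_second_common (h.tri i k) (h.tri i' j) (h.ip_off i i' k j hii hk) (hx i k) hne
    obtain ⟨q1, a1, b1, c1⟩ := key j1 hj1
    obtain ⟨q2, a2, b2, c2⟩ := key j2 hj2
    obtain ⟨q3, a3, b3, c3⟩ := key j3 hj3
    have d12 : q1 ≠ q2 := by
      intro e
      exact a1 ((h.adj_row i j1 j2 n12).uniq q1 (x i) b1 (by rw [e]; exact b2) (hx i j1) (hx i j2))
    have d13 : q1 ≠ q3 := by
      intro e
      exact a1 ((h.adj_row i j1 j3 n13).uniq q1 (x i) b1 (by rw [e]; exact b3) (hx i j1) (hx i j3))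
    have d23 : q2 ≠ q3 := by
      intro e
      exact a2 ((h.adj_row i j2 j3 n23).uniq q2 (x i) b2 (by rw [e]; exact b3) (hx i j2) (hx i j3))
    rcases (h.tri i' j).four (x i) q1 q2 q3 a1.symm a2.symm a3.symm d12 d13 d23 with e | e | e | e
    · exact hne e
    · exact c1 e
    · exact c2 e
    · exact c3 e
  -- step 4
  have hxy : ∀ i j, x i ≠ y j := by
    intro i j e
    obtain ⟨i', hi'⟩ := exI i
    have := h3 i i' j hi'.symm
    rw [e] at this
    exact hy j i' this
  have hxinj : Function.Injective x := by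
    intro i i' e
    by_contra hne
    obtain ⟨j, _⟩ := exJ (Classical.choice (Fintype.card_pos_iff.1 (by omega : 0 < Fintype.card J)))
    have := h3 i i' j hne
    rw [e] at this
    exact hx i' j this
  -- step 5
  have h5 : ∀ i j j', j ≠ j' → c i j' (y j) = 0 := by
    intro i j j' hjj
    by_contra hne
    exact hxy i j ((h.adj_row i j j' hjj).uniq (y j) (x i) (hy j i) hne (hx i j) (hx i j')).symm
  have hyinj : Function.Injective y := by
    intro j j' e
    by_contra hne
    obtain ⟨i, _⟩ := exI (Classical.choice (Fintype.card_pos_iff.1 (by omega : 0 < Fintype.card I)))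
    have := h5 i j j' hne
    rw [e] at this
    exact hy j' i this
  -- step 6: the third points
  have h6 : ∀ i j, ∃ r, r ≠ x i ∧ r ≠ y j ∧ c i j r ≠ 0 ∧
      ∀ t, t ≠ x i → t ≠ y j → t ≠ r → c i j t = 0 :=
    fun i j => (h.tri i j).third (hxy i j) (hx i j) (hy j i)
  choose z hzx hzy hz hsupp using h6
  refine ⟨x, y, z, hx, fun i j => hy j i, hz, hxinj, hyinj, hxy, ?_, ?_, ?_, ?_, ?_⟩
  · intro i' i j e
    by_cases hii : i' = i
    · rw [hii] at e; exact hzx i j e.symm
    · have := h3 i' i j hii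
      rw [e] at this
      exact hz i j this
  · intro j' i j e
    by_cases hjj : j' = j
    · rw [hjj] at e; exact hzy i j e.symm
    · have := h5 i j' j hjj
      rw [e] at this
      exact hz i j this
  · intro i j i' j' e
    by_cases hii : i = i'
    · refine ⟨hii, ?_⟩
      by_contra hjj
      subst hii
      refine hzx i j ((h.adj_row i j j' hjj).uniq (z i j) (x i) (hz i j) ?_ (hx i j) (hx i j'))
      rw [e]; exact hz i j'
    · exfalso
      by_cases hjj : j = j'
      · subst hjj
        refine hzy i j ((h.adj_col i i' j hii).uniq (z i j) (y j) (hz i j) ?_ (hy j i) (hy j i'))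
        rw [e]; exact hz i' j
      · obtain ⟨q, hq, hq1, hq2⟩ := exists_second_common (h.tri i j) (h.tri i' j')
          (h.ip_off i i' j j' hii hjj) (hz i j) (by rw [e]; exact hz i' j')
        by_cases e1 : q = x i
        · rw [e1] at hq2; exact hq2 (h3 i i' j' hii)
        by_cases e2 : q = y j
        · rw [e2] at hq2; exact hq2 (h5 i' j j' hjj)
        exact hq1 (hsupp i j q e1 e2 hq)
  · intro i j j'
    by_cases hjj : j = j'
    · rw [hjj]
    · exact (h.adj_row i j j' hjj).agree (x i) (hx i j) (hx i j')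
  · intro i i' j
    by_cases hii : i = i'
    · rw [hii]
    · exact (h.adj_col i i' j hii).agree (y j) (hy j i) (hy j i')

/-- **The table lemma.** -/
theorem TableHyp.exists_sol (h : TableHyp c)
    (hI : Fintype.card I = 2 ∨ 4 ≤ Fintype.card I) (hJ : Fintype.card J = 2 ∨ 4 ≤ Fintype.card J)
    (hIJ : 4 ≤ Fintype.card I ∨ 4 ≤ Fintype.card J) : ∃ x y z, TableSol c x y z := by
  by_cases hJ4 : 4 ≤ Fintype.card J
  · exact h.exists_sol_aux hI hJ4
  · have hI4 : 4 ≤ Fintype.card I := by omega
    obtain ⟨x, y, z, hsol⟩ := h.transpose.exists_sol_aux hJ hI4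
    exact ⟨y, x, fun i j => z j i, hsol.transpose⟩

end

section

variable {I J : Type*} {c : I → J → ι → ℤ} {x : I → ι} {y : J → ι} {z : I → J → ι}

/-- the explicit shape of the vectors of a solved table -/
theorem TableSol.apply_eq (h : TableSol c x y z) (hc : ∀ i j, Tri (c i j)) (i : I) (j : J)
    (t : ι) :
    c i j t = (if t = x i then c i j (x i) else 0) + (if t = y j then c i j (y j) else 0) +
      (if t = z i j then c i j (z i j) else 0) := by
  by_cases e1 : t = x i
  · rw [if_pos e1, if_neg (fun e => h.xy i j (e1.symm.trans e)),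
      if_neg (fun e => h.xz i i j (e1.symm.trans e)), e1]
    ring
  by_cases e2 : t = y j
  · rw [if_neg e1, if_pos e2, if_neg (fun e => h.yz j i j (e2.symm.trans e)), e2]
    ring
  by_cases e3 : t = z i j
  · rw [if_neg e1, if_neg e2, if_pos e3, e3]
    ring
  · rw [if_neg e1, if_neg e2, if_neg e3]
    have := (hc i j).eq_zero_of_ne (h.xy i j) (h.xz i i j) (h.yz j i j) (h.hx i j) (h.hy i j)
      (h.hz i j) t e1 e2 e3
    rw [this]
    ring

end

end Cfsg.Agent.Lib.Helper11.TriVec
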