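import Mathlib
import Cfsg.Agent.Lib.Helper11.TriTable
import Cfsg.Agent.Lib.Helper11.GenChar
import Cfsg.Agent.Lib.Helper2.Linear

set_option autoImplicit false

/-!
# From a Gram matrix of generalized characters to a signed table of irreducible characters

The character-theoretic reading of the table lemma: generalized characters `β i j` with
`⟨β i j, 1⟩ = 1`, `β i j 1 = 0` and `⟨β i j, β i' j'⟩ = (1 + [i = i'])(1 + [j = j'])` are of the
form `1 - X i - Y j + Z i j` for signed irreducible characters.
-/

namespace Cfsg.Agent.Lib.Helper11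

open Cfsg Cfsg.Agent.Lib.Helper2 TriVec TriCore
open scoped ComplexConjugate

variable {G : Type*} [Group G] [Fintype G]

/-- the principal character as an element of `IrrCharacter G` -/
noncomputable def trivIrr (G : Type*) [Group G] : IrrCharacter G :=
  ⟨fun _ => 1, by simpa using isIrrCharacter_of_monoidHom (1 : G →* ℂˣ)⟩

theorem trivIrr_coe : ((trivIrr G : IrrCharacter G) : G → ℂ) = fun _ => 1 := rfl

/-- inner product of generalized characters in terms of integer expansions -/
theorem classInner_eq_sum_int [Fintype (IrrCharacter G)] {ξ η : G → ℂ}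
    (n m : IrrCharacter G → ℤ)
    (hn : ξ = ∑ μ : IrrCharacter G, (n μ : ℂ) • (μ : G → ℂ))
    (hm : ∀ μ : IrrCharacter G, classInner η (μ : G → ℂ) = (m μ : ℂ)) :
    classInner ξ η = ((∑ μ : IrrCharacter G, n μ * m μ : ℤ) : ℂ) := by
  have e1 : classInner ξ η = classInner (∑ μ : IrrCharacter G, (n μ : ℂ) • (μ : G → ℂ)) η :=
    congrArg (fun f => classInner f η) hn
  rw [e1, classInner_sum_left]
  push_cast
  apply Finset.sum_congr rfl
  intro μ _
  rw [classInner_smul_left, ← classInner_conj_symm, hm μ]
  simp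

/-- the integer table attached to a family of generalized characters -/
theorem exists_int_table {I J : Type*} (β : I → J → G → ℂ)
    (hgen : ∀ i j, IsGeneralizedCharacter G (β i j))
    (h1 : ∀ i j, classInner (β i j) (fun _ => 1) = 1)
    (hdeg : ∀ i j, β i j 1 = 0) [Fintype (IrrCharacter G)] [DecidableEq (IrrCharacter G)]
    [DecidableEq I] [DecidableEq J]
    (hgram : ∀ i j i' j', classInner (β i j) (β i' j') =
      1 + (if i = i' then 1 else 0) + (if j = j' then 1 else 0)
        + (if i = i' then 1 else 0) * (if j = j' then 1 else 0)) :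
    ∃ (c : I → J → IrrCharacter G → ℤ) (d : IrrCharacter G → ℤ),
      (∀ μ, d μ ≠ 0) ∧ (∀ i j, c i j (trivIrr G) = 0) ∧
      (∀ i j, β i j = (fun _ => 1) + ∑ μ : IrrCharacter G, (c i j μ : ℂ) • (μ : G → ℂ)) ∧
      (∀ i j, wdeg d (c i j) = -1) ∧
      (∀ i j i' j', ip (c i j) (c i' j') = (if i = i' then 1 else 0) + (if j = j' then 1 else 0)
        + (if i = i' then 1 else 0) * (if j = j' then 1 else 0)) := by
  choose n hn hexp _ using fun i j => IsGeneralizedCharacter.exists_int_expansion (hgen i j)
  have hn1 : ∀ i j, n i j (trivIrr G) = 1 := by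
    intro i j
    have := hn i j (trivIrr G)
    rw [trivIrr_coe, h1 i j] at this
    exact_mod_cast this.symm
  have hg : ∀ i j i' j', ∑ μ, n i j μ * n i' j' μ = 1 + (if i = i' then 1 else 0)
      + (if j = j' then 1 else 0) + (if i = i' then 1 else 0) * (if j = j' then 1 else 0) := by
    intro i j i' j'
    have := classInner_eq_sum_int (n i j) (n i' j') (hexp i j) (hn i' j')
    rw [hgram] at this
    by_cases hi : i = i'
    · by_cases hj : j = j'
      · simp only [if_pos hi, if_pos hj] at this ⊢; exact_mod_cast this.symm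
      · simp only [if_pos hi, if_neg hj] at this ⊢; exact_mod_cast this.symm
    · by_cases hj : j = j'
      · simp only [if_neg hi, if_pos hj] at this ⊢; exact_mod_cast this.symm
      · simp only [if_neg hi, if_neg hj] at this ⊢; exact_mod_cast this.symm
  choose d hdpos hd1 using fun μ : IrrCharacter G => IsIrrCharacter.apply_one μ.2
  have hdtriv : d (trivIrr G) = 1 := by
    have : (1 : ℂ) = (d (trivIrr G) : ℂ) := hd1 (trivIrr G)
    exact_mod_cast this.symm
  have hsumdeg : ∀ i j, ∑ μ, (d μ : ℤ) * n i j μ = 0 := by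
    intro i j
    have := congrFun (hexp i j) 1
    rw [hdeg i j, Finset.sum_apply] at this
    simp only [Pi.smul_apply, smul_eq_mul, hd1] at this
    have h' : ((∑ μ, (d μ : ℤ) * n i j μ : ℤ) : ℂ) = 0 := by
      rw [this]
      push_cast
      apply Finset.sum_congr rfl
      intro μ _
      ring
    exact_mod_cast h'
  refine ⟨fun i j μ => n i j μ - (if μ = trivIrr G then 1 else 0), fun μ => (d μ : ℤ), ?_, ?_, ?_, ?_,
    ?_⟩
  · intro μ
    have := hdpos μ
    show (d μ : ℤ) ≠ 0
    omega
  · intro i j
    show n i j (trivIrr G) - (if trivIrr G = trivIrr G then 1 else 0) = 0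
    rw [if_pos rfl, hn1]; ring
  · intro i j
    have e : ∀ μ : IrrCharacter G, (((n i j μ - (if μ = trivIrr G then 1 else 0) : ℤ)) : ℂ) •
        (μ : G → ℂ) = (n i j μ : ℂ) • (μ : G → ℂ) -
          (if μ = trivIrr G then (μ : G → ℂ) else 0) := by
      intro μ
      by_cases hμ : μ = trivIrr G
      · rw [if_pos hμ, if_pos hμ]; push_cast; rw [sub_smul, one_smul]
      · rw [if_neg hμ, if_neg hμ]; push_cast; rw [sub_zero, sub_zero]
    simp_rw [e]
    rw [Finset.sum_sub_distrib, Finset.sum_ite_eq', if_pos (Finset.mem_univ _), ← hexp i j,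
      trivIrr_coe]
    ring
  · intro i j
    unfold wdeg
    have e : ∀ μ : IrrCharacter G, (d μ : ℤ) * (n i j μ - (if μ = trivIrr G then 1 else 0)) =
        (d μ : ℤ) * n i j μ - (if μ = trivIrr G then (d μ : ℤ) else 0) := by
      intro μ
      by_cases hμ : μ = trivIrr G
      · rw [if_pos hμ, if_pos hμ]; ring
      · rw [if_neg hμ, if_neg hμ]; ring
    simp_rw [e]
    rw [Finset.sum_sub_distrib, Finset.sum_ite_eq', if_pos (Finset.mem_univ _), hsumdeg, hdtriv]
    norm_num
  · intro i j i' j'
    unfold ip
    have e : ∀ μ : IrrCharacter G, (n i j μ - (if μ = trivIrr G then 1 else 0)) *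
        (n i' j' μ - (if μ = trivIrr G then 1 else 0)) = n i j μ * n i' j' μ -
          (if μ = trivIrr G then n i j μ else 0) - (if μ = trivIrr G then n i' j' μ else 0) +
          (if μ = trivIrr G then 1 else 0) := by
      intro μ
      by_cases hμ : μ = trivIrr G
      · simp only [if_pos hμ]; ring
      · simp only [if_neg hμ]; ring
    simp_rw [e]
    rw [Finset.sum_add_distrib, Finset.sum_sub_distrib, Finset.sum_sub_distrib,
      Finset.sum_ite_eq', Finset.sum_ite_eq', Finset.sum_ite_eq', if_pos (Finset.mem_univ _),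
      if_pos (Finset.mem_univ _), if_pos (Finset.mem_univ _), hn1, hn1, hg]
    ring

/-- **Character form of the table lemma.** -/
theorem exists_signed_table {I J : Type*} [Fintype I] [Fintype J] [DecidableEq I] [DecidableEq J]
    (β : I → J → G → ℂ) (hgen : ∀ i j, IsGeneralizedCharacter G (β i j))
    (h1 : ∀ i j, classInner (β i j) (fun _ => 1) = 1)
    (hdeg : ∀ i j, β i j 1 = 0)
    (hgram : ∀ i j i' j', classInner (β i j) (β i' j') =
      1 + (if i = i' then 1 else 0) + (if j = j' then 1 else 0)
        + (if i = i' then 1 else 0) * (if j = j' then 1 else 0))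
    (hI : Fintype.card I = 2 ∨ 4 ≤ Fintype.card I) (hJ : Fintype.card J = 2 ∨ 4 ≤ Fintype.card J)
    (hIJ : 4 ≤ Fintype.card I ∨ 4 ≤ Fintype.card J) :
    ∃ (m : Option I × Option J → IrrCharacter G) (ε : Option I × Option J → ℤ),
      Function.Injective m ∧ (∀ k, ε k = 1 ∨ ε k = -1) ∧
      ((m (none, none) : G → ℂ) = fun _ => 1) ∧ ε (none, none) = 1 ∧
      ∀ i j, β i j = (fun _ => 1)
          - (ε (some i, none) : ℂ) • (m (some i, none) : G → ℂ)
          - (ε (none, some j) : ℂ) • (m (none, some j) : G → ℂ)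
          + (ε (some i, some j) : ℂ) • (m (some i, some j) : G → ℂ) := by
  classical
  have : Fintype (IrrCharacter G) := Fintype.ofFinite _
  obtain ⟨c, d, hd, hc0, hexp, hwd, hip⟩ := exists_int_table β hgen h1 hdeg hgram
  have htri : ∀ i j, Tri (c i j) := by
    intro i j
    unfold Tri
    have := hip i j i j
    unfold ip at this
    rw [← show (∑ x, c i j x * c i j x) = ∑ x, c i j x ^ 2 from
      Finset.sum_congr rfl (fun x _ => (sq _).symm), this]
    norm_num
  have hT : TableHyp c := TableHyp.of_gram d hd htri (fun i j i' j' => by rw [hwd, hwd])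
    (fun i j j' hj => by rw [hip, if_pos rfl, if_neg hj]; norm_num)
    (fun i i' j hi => by rw [hip, if_neg hi, if_pos rfl]; norm_num)
    (fun i i' j j' hi hj => by rw [hip, if_neg hi, if_neg hj]; norm_num)
  obtain ⟨x, y, z, hsol⟩ := hT.exists_sol hI hJ hIJ
  have hIne : Nonempty I := Fintype.card_pos_iff.1 (by omega)
  have hJne : Nonempty J := Fintype.card_pos_iff.1 (by omega)
  obtain ⟨i₀⟩ := hIne
  obtain ⟨j₀⟩ := hJne
  have tx : ∀ i, trivIrr G ≠ x i := fun i e => hsol.hx i j₀ (by rw [← e]; exact hc0 i j₀)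
  have ty : ∀ j, trivIrr G ≠ y j := fun j e => hsol.hy i₀ j (by rw [← e]; exact hc0 i₀ j)
  have tz : ∀ i j, trivIrr G ≠ z i j := fun i j e => hsol.hz i j (by rw [← e]; exact hc0 i j)
  refine ⟨fun k => match k with
      | (none, none) => trivIrr G
      | (some i, none) => x i
      | (none, some j) => y j
      | (some i, some j) => z i j,
    fun k => match k with
      | (none, none) => 1
      | (some i, none) => - c i j₀ (x i)
      | (none, some j) => - c i₀ j (y j)
      | (some i, some j) => c i j (z i j), ?_, ?_, rfl, rfl, ?_⟩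
  · intro k k' e
    rcases k with ⟨_ | i, _ | j⟩ <;> rcases k' with ⟨_ | i', _ | j'⟩ <;> dsimp only at e
    · rfl
    · exact absurd e (ty j')
    · exact absurd e (tx i')
    · exact absurd e (tz i' j')
    · exact absurd e.symm (ty j)
    · rw [hsol.y_inj e]
    · exact absurd e.symm (hsol.xy i' j)
    · exact absurd e (hsol.yz j i' j')
    · exact absurd e.symm (tx i)
    · exact absurd e (hsol.xy i j')
    · rw [hsol.x_inj e]
    · exact absurd e (hsol.xz i i' j')
    · exact absurd e.symm (tz i j)
    · exact absurd e.symm (hsol.yz j' i j)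
    · exact absurd e.symm (hsol.xz i' i j)
    · obtain ⟨e1, e2⟩ := hsol.z_inj i j i' j' e
      rw [e1, e2]
  · intro k
    rcases k with ⟨_ | i, _ | j⟩ <;> dsimp only
    · exact Or.inl rfl
    · have := (htri i₀ j).ne_zero_val (hsol.hy i₀ j)
      omega
    · have := (htri i j₀).ne_zero_val (hsol.hx i j₀)
      omega
    · exact (htri i j).ne_zero_val (hsol.hz i j)
  · intro i j
    have hsum : ∑ μ : IrrCharacter G, (c i j μ : ℂ) • (μ : G → ℂ) =
        (c i j (x i) : ℂ) • (x i : G → ℂ) + (c i j (y j) : ℂ) • (y j : G → ℂ) +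
          (c i j (z i j) : ℂ) • (z i j : G → ℂ) := by
      have e : ∀ μ : IrrCharacter G, (c i j μ : ℂ) • (μ : G → ℂ) =
          (if μ = x i then (c i j (x i) : ℂ) • (μ : G → ℂ) else 0) +
          (if μ = y j then (c i j (y j) : ℂ) • (μ : G → ℂ) else 0) +
          (if μ = z i j then (c i j (z i j) : ℂ) • (μ : G → ℂ) else 0) := by
        intro μ
        rw [hsol.apply_eq htri i j μ]
        push_cast
        rw [add_smul, add_smul, ite_smul, ite_smul, ite_smul, zero_smul]
      rw [Finset.sum_congr rfl (fun μ _ => e μ)]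
      rw [Finset.sum_add_distrib, Finset.sum_add_distrib, Finset.sum_ite_eq', Finset.sum_ite_eq',
        Finset.sum_ite_eq', if_pos (Finset.mem_univ _), if_pos (Finset.mem_univ _),
        if_pos (Finset.mem_univ _)]
    rw [hexp i j, hsum]
    dsimp only
    push_cast
    rw [neg_smul, neg_smul, sub_neg_eq_add, sub_neg_eq_add, hsol.sx i j₀ j, hsol.sy i₀ i j]
    ring

end Cfsg.Agent.Lib.Helper11
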