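import Mathlib
import Cfsg.Prelude.Def_Characters
import Cfsg.Prelude.Def_LocalEven
import Cfsg.Prelude.Def_PLocal
import Cfsg.Agent.Lib.Helper11.S3282Defs
import Cfsg.Agent.Lib.Helper10.S3282K2d
import Cfsg.Agent.Lib.Helper12.S3282G1a
import Cfsg.Agent.Lib.Helper14.S3282G2b
import Cfsg.Agent.Lib.Helper15.S3282A3
import Cfsg.Agent.Lib.Helper16.S3282CT9D
import Cfsg.Agent.Lib.Helper16.S3282S5Final
import Cfsg.Agent.Lib.Helper17.S3282G3
import Cfsg.Agent.Lib.Helper18.S3282G4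
import Cfsg.Agent.Lib.Helper20.S3282A1
import Cfsg.Agent.Lib.Helper20.S3282B2b
import Cfsg.Agent.Lib.Helper20.S3282B2c
import Cfsg.Agent.Lib.Helper21.S3282CT8
import Cfsg.Agent.Lib.Helper22.S3282K2a
import Cfsg.Agent.Lib.Helper23.S3282K2bc
import Cfsg.Agent.Lib.Helper24.S3282B2a
import Cfsg.Agent.Lib.Helper24.S3282CT45
import Cfsg.Agent.Lib.Helper24.S3282CT7
import Cfsg.Agent.Lib.Helper24.S3282G1c
import Cfsg.Agent.Lib.Helper29.S3282CT23
import Cfsg.Agent.Lib.Helper29.S3282G2a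
import Cfsg.Agent.Lib.Helper6.S3282CT9AExact
import Cfsg.Agent.Lib.Helper8.S3282A2
import Cfsg.Agent.Lib.Helper8.S3282G1b
import Cfsg.Agent.Lib.Helper29.S3282B1
import Cfsg.Agent.Lib.Helper6.S3282QD
import Cfsg.Agent.Lib.Helper19.S3282CT9BC

/-!
BRIDGE for S3282 (all farm-out pieces restated with their exact skeleton signatures) (Brauer–Suzuki–Wall, abstract form).  Architect: helper11.
Each `FO.<piece>` below is a farm-out piece with its EXACT signature.  Put your proof in a NEW file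
`Cfsg/Agent/Lib/<You>/S3282<Piece>.lean`, namespace `Cfsg.Agent.Lib.<You>.S3282<Piece>`, same
theorem name and same signature (import `Cfsg.Agent.Lib.Helper11.S3282Defs`, and open
`Cfsg.Agent.Lib.Helper11 Cfsg.Agent.Lib.Helper11.S3282`).  You may import any landed piece of
another helper.  Notation: `H = C(t) = Subgroup.centralizer {t}`, `k = Nat.card K`,
`conjSet K = {y ≠ 1 | ∃ x, x y x⁻¹ ∈ K}` (from `Lib/Helper11/CoverSum`).
-/

set_option autoImplicit false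

namespace Cfsg.Agent.Lib.Helper11.S3282.FO

open Cfsg Cfsg.Agent.Lib.Helper11 Cfsg.Agent.Lib.Helper11.S3282
open scoped ComplexConjugate

universe u

variable {G : Type u} [Group G] {t s : G} {K : Subgroup G}

/-! ## G1: structure of `H = C(t)` (pure group theory) -/

section G1
variable [Finite G]

/-- `K` has index 2 in `H = K ⊔ ⟨s⟩` (`s ∉ K`, `s² = 1`, `s` normalizes `K`). -/
theorem G1_card_H (h : Hyp t s K) :
    Nat.card (Subgroup.centralizer ({t} : Set G)) = 2 * Nat.card K :=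
  Cfsg.Agent.Lib.Helper12.S3282G1a.G1_card_H h

theorem G1_mem_H (h : Hyp t s K) {x : G} (hx : x ∈ Subgroup.centralizer ({t} : Set G)) :
    x ∈ K ∨ ∃ y ∈ K, x = y * s :=
  Cfsg.Agent.Lib.Helper12.S3282G1a.G1_mem_H h hx

/-- `(ys)² = y (s y s⁻¹) s² = 1`, and `ys ≠ 1`. -/
theorem G1_invol_of_not_mem (h : Hyp t s K) {x : G}
    (hx : x ∈ Subgroup.centralizer ({t} : Set G)) (hxK : x ∉ K) : orderOf x = 2 :=
  Cfsg.Agent.Lib.Helper12.S3282G1a.G1_invol_of_not_mem h hx hxK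

/-- every element of `H ∖ K` inverts `K`. -/
theorem G1_inverts (h : Hyp t s K) {x y : G}
    (hx : x ∈ Subgroup.centralizer ({t} : Set G)) (hxK : x ∉ K) (hy : y ∈ K) :
    x * y * x⁻¹ = y⁻¹ :=
  Cfsg.Agent.Lib.Helper12.S3282G1a.G1_inverts h hx hxK hy

/-- an involution `x ∈ K` is inverted and centralized by `s`, so lies in `K ⊓ C(s) = ⟨t⟩`. -/
theorem G1_invol_K (h : Hyp t s K) {x : G} (hx : x ∈ K) (hx2 : orderOf x = 2) : x = t :=
  Cfsg.Agent.Lib.Helper12.S3282G1a.G1_invol_K h hx hx2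

/-- fusion of `K#` is controlled by `H`: `g a g⁻¹ ∈ K ⊓ K^g`. -/
theorem G1_fusion (h : Hyp t s K) {a g : G} (ha : a ∈ K) (ha1 : a ≠ 1) (hg : g * a * g⁻¹ ∈ K) :
    g ∈ Subgroup.centralizer ({t} : Set G) :=
  Cfsg.Agent.Lib.Helper12.S3282G1a.G1_fusion h ha ha1 hg

theorem G1_cent_le (h : Hyp t s K) {x : G} (hx : x ∈ K) (hx1 : x ≠ 1) :
    Subgroup.centralizer ({x} : Set G) ≤ Subgroup.centralizer ({t} : Set G) :=
  Cfsg.Agent.Lib.Helper12.S3282G1a.G1_cent_le h hx hx1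

theorem G1_normalizer (h : Hyp t s K) {X : Subgroup G} (hX : X ≤ K) (hX1 : X ≠ ⊥) :
    Subgroup.normalizer (X : Set G) = Subgroup.centralizer ({t} : Set G) :=
  Cfsg.Agent.Lib.Helper12.S3282G1a.G1_normalizer h hX hX1

theorem G1_even (h : Hyp t s K) : 2 ∣ Nat.card K :=
  Cfsg.Agent.Lib.Helper12.S3282G1a.G1_even h

/-- the hypotheses are invariant under conjugation. -/
theorem G1_conj (h : Hyp t s K) (g : G) :
    Hyp (g * t * g⁻¹) (g * s * g⁻¹) (K.map (MulAut.conj g).toMonoidHom) :=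
  Cfsg.Agent.Lib.Helper8.S3282G1b.G1_conj h g

theorem G1_conjSet_conj (g : G) :
    conjSet (K.map (MulAut.conj g).toMonoidHom) = conjSet K :=
  Cfsg.Agent.Lib.Helper17.S3282G3.conjSet_map_conj K g

/-- every involution is conjugate to `t ∈ K`. -/
theorem G1_invol_mem (h : Hyp t s K) {z : G} (hz : orderOf z = 2) : z ∈ conjSet K :=
  Cfsg.Agent.Lib.Helper14.S3282G2b.invol_mem_conjSet h hz

/-- `KG ∪ {1}` is closed under commuting: if `y ∈ K^g#` then `C(y) ≤ H^g`, whose elements are in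
`K^g` or involutions. -/
theorem G1_commute (h : Hyp t s K) {x y : G} (hy : y ∈ conjSet K) (hxy : x * y = y * x)
    (hx1 : x ≠ 1) : x ∈ conjSet K :=
  Cfsg.Agent.Lib.Helper14.S3282G2b.commute_conjSet h hy hxy hx1

/-- one class of involutions with centralizer of order `2k`. -/
theorem G1_card_invol (h : Hyp t s K) :
    2 * Nat.card K * Nat.card {u : G // orderOf u = 2} = Nat.card G :=
  Cfsg.Agent.Lib.Helper24.S3282G1c.G1_card_invol h

/-- `|K^G#| = |G : H| (k - 1)`: the map `(g, y) ↦ g y g⁻¹`, `G × K# → K^G#`, has fibres of size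
`|H| = 2k` (by `G1_fusion`).  [Or via `indFun_cutIndicator` of `Lib/Helper11/CoverSum`.] -/
theorem G1_card_KG (h : Hyp t s K) :
    Nat.card (conjSet K) * (2 * Nat.card K) = Nat.card G * (Nat.card K - 1) :=
  Cfsg.Agent.Lib.Helper24.S3282G1c.G1_card_KG h

end G1

/-! ## G2: strongly real elements outside `K^G` -/

section G2
variable [Finite G]

/-- for `y ∈ K#` the pairs of involutions `(u, v)` with `u v = y` are the `(u, u y)`, `u ∈ H ∖ K`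
(`u` inverts or centralizes `y`, so `u ∈ N(⟨y⟩) = H`; `u ∈ K` forces `u = t`, `v = t y`, an
involution of `K` only if `y = 1`...; careful with `y = t`: `u ∈ H ∖ K`, `v = u t`). -/
theorem G2_beta_K (h : Hyp t s K) {y : G} (hy : y ∈ K) (hy1 : y ≠ 1) : beta y = Nat.card K :=
  Cfsg.Agent.Lib.Helper29.S3282G2a.G2_beta_K h hy hy1

/-- `x = u v` gives `u x u⁻¹ = x⁻¹`. -/
theorem G2_beta_pos (h : Hyp t s K) {x : G} (hx1 : x ≠ 1) (hxK : x ∉ conjSet K)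
    (hβ : 0 < beta x) : x ∈ RO K :=
  Cfsg.Agent.Lib.Helper14.S3282G2b.G2_beta_pos h hx1 hxK hβ

theorem G2_beta_NR (h : Hyp t s K) {x : G} (hx : x ∈ NR K) : beta x = 0 :=
  Cfsg.Agent.Lib.Helper14.S3282G2b.G2_beta_NR h hx

/-- `C(x)` has odd order for `x ∈ RO K` (an involution of `C(x)` would put `x` in `K^G`). -/
theorem G2_odd (h : Hyp t s K) {x : G} (hx : x ∈ RO K) :
    Odd (Nat.card (Subgroup.centralizer ({x} : Set G))) :=
  Cfsg.Agent.Lib.Helper14.S3282G2b.G2_odd h hx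

/-- `u` normalizes `C(x)` and `C(x) ⊓ C(u) = 1` (`G1_commute`), so `u` inverts `C(x)`
(`Lib/Helper9/TwoCon3.inverts_of_fpf` or `Lib/Helper9/BSW2.inverts_of_fixedPointFree`). -/
theorem G2_inverts (h : Hyp t s K) {x u : G} (hx : x ∈ RO K) (hu : orderOf u = 2)
    (hux : u * x * u⁻¹ = x⁻¹) :
    ∀ y ∈ Subgroup.centralizer ({x} : Set G), u * y * u⁻¹ = y⁻¹ :=
  Cfsg.Agent.Lib.Helper14.S3282G2b.G2_inverts h hx hu hux

theorem G2_comm (h : Hyp t s K) {x : G} (hx : x ∈ RO K) :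
    ∀ y ∈ Subgroup.centralizer ({x} : Set G), ∀ z ∈ Subgroup.centralizer ({x} : Set G),
      y * z = z * y :=
  Cfsg.Agent.Lib.Helper14.S3282G2b.G2_comm h hx

/-- for `y ∈ C(x)#`: `y ∈ RO K` and `C(y) = C(x)`. -/
theorem G2_cent (h : Hyp t s K) {x y : G} (hx : x ∈ RO K)
    (hy : y ∈ Subgroup.centralizer ({x} : Set G)) (hy1 : y ≠ 1) :
    y ∈ RO K ∧ Subgroup.centralizer ({y} : Set G) = Subgroup.centralizer ({x} : Set G) :=
  Cfsg.Agent.Lib.Helper14.S3282G2b.G2_cent h hx hy hy1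

/-- the involutions inverting `x ∈ RO K` are exactly the coset `C(x) u`; and
`(u, v) ↦ u` is a bijection from pairs with `u v = x` onto them. -/
theorem G2_beta_RO (h : Hyp t s K) {x : G} (hx : x ∈ RO K) :
    beta x = Nat.card (Subgroup.centralizer ({x} : Set G)) :=
  Cfsg.Agent.Lib.Helper14.S3282G2b.G2_beta_RO h hx

end G2

/-! ## G3, G4: the odd tori (used in case B only; pure group theory) -/

section G34
variable [Finite G]

/-- Let `F = C(x)`, `x ∈ RO K`, inverted by the involution `u`.  Involutions of `N(F)` act freely on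
`F`, hence invert `F`, hence lie in `F u`; `F` is transitive on `F u` (squaring is bijective on `F`),
so `N(F) = F R`, `R = N(F) ⊓ C(u)`; conjugating, `u = t`: `R ≤ H`, the elements of `R ∖ K` would be
involutions `f t` of `N(F)` commuting with `t`, so `f = 1`: `R ≤ K`.  `R` acts freely on `F#`, so
`|R|` divides `gcd(k, |F| - 1) = gcd(k, k - 2) = 2`. -/
theorem G3_torus (h : Hyp t s K)
    (hRO : ∀ x ∈ RO K, Nat.card (Subgroup.centralizer ({x} : Set G)) = Nat.card K - 1)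
    {x u : G} (hx : x ∈ RO K) (hu : orderOf u = 2) (hux : u * x * u⁻¹ = x⁻¹) :
    Subgroup.normalizer ((Subgroup.centralizer ({x} : Set G) : Subgroup G) : Set G)
      = Subgroup.centralizer ({x} : Set G) ⊔ Subgroup.zpowers u :=
  Cfsg.Agent.Lib.Helper17.S3282G3.torus_of_facts
    (fun _ _ _ h' => ⟨fun hx hxK => G1_invol_of_not_mem h' hx hxK,
      fun hy hxy hx1 => G1_commute h' hy hxy hx1, fun hz => G1_invol_mem h' hz,
      fun hx => G2_odd h' hx, fun hx hu hux => G2_inverts h' hx hu hux, fun hx => G2_comm h' hx,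
      fun hx hy hy1 => G2_cent h' hx hy hy1⟩) (fun g => G1_conj h g) h hRO hx hu hux

/-- A subgroup `D` of (odd) order `k - 1` all of whose non-identity elements are in `RO K` is a
torus: `D_F = D ⊓ C(d)` (`d ∈ D#`) are TI and self-normalizing in `D` (`G3_torus`, `G2_cent`, `|D|`
odd); two non-conjugate ones would give `|D| - 1 ≥ 2|D| - |D:D₀| - |D:D₁| ≥ |D|`. -/
theorem G4_torus (h : Hyp t s K)
    (hRO : ∀ x ∈ RO K, Nat.card (Subgroup.centralizer ({x} : Set G)) = Nat.card K - 1)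
    (D : Subgroup G) (hD : Nat.card D = Nat.card K - 1) (hDRO : ∀ d ∈ D, d ≠ 1 → d ∈ RO K)
    {d : G} (hd : d ∈ D) (hd1 : d ≠ 1) : D = Subgroup.centralizer ({d} : Set G) :=
  Cfsg.Agent.Lib.Helper18.S3282G4.G4_torus_of (fun hx => G2_odd h hx)
    (fun hx hy hy1 => G2_cent h hx hy hy1) (fun hx hu hux => G3_torus h hRO hx hu hux) hRO D hD
    hDRO hd hd1

end G34

/-! ## A1, A2: normalizer of a self-centralizing Hall subgroup -/

section A12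
variable [Finite G]

/-- `Q` is TI; `Q` acts on its conjugates by conjugation fixing only `Q` (else `|Q|² ∣ |G|`) with
regular other orbits (coprimality); `N(Q)/Q` acts freely on `Q#`. -/
theorem A1_normalizer {Q : Subgroup G} (hQ1 : Q ≠ ⊥)
    (hC : ∀ y ∈ Q, y ≠ 1 → Subgroup.centralizer ({y} : Set G) = Q)
    (hcop : (Nat.card Q).Coprime (Nat.card G / Nat.card Q)) :
    ∃ e j : ℕ, Nat.card (Subgroup.normalizer (Q : Set G)) = Nat.card Q * e ∧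
      e ∣ Nat.card Q - 1 ∧
      Nat.card G = Nat.card (Subgroup.normalizer (Q : Set G)) * (1 + j * Nat.card Q) :=
  Cfsg.Agent.Lib.Helper20.S3282A1.A1_normalizer hQ1 hC hcop

theorem A2_arith_A {k e j : ℕ} (hk : 2 ≤ k) (he : e ∣ 2 * k)
    (h : k * (2 * k + 1) * (2 * k + 2) = (2 * k + 1) * e * (1 + j * (2 * k + 1))) : e = k :=
  Cfsg.Agent.Lib.Helper8.S3282A2.A2_arith_A hk he h

theorem A2_arith_B {k e j : ℕ} (hk : 2 ≤ k) (he : e ∣ 2 * k - 2)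
    (h : k * (2 * k - 1) * (2 * k - 2) = (2 * k - 1) * e * (1 + j * (2 * k - 1))) :
    e = k - 1 :=
  Cfsg.Agent.Lib.Helper8.S3282A2.A2_arith_B hk he h

end A12

/-! ## A3: case A (`|G| = k(2k+1)(2k+2)`) -/

section A3
variable [Finite G]

/-- `Q := C(x)` (`G2_cent`, `A1`, `A2_arith_A`: `|N(Q)| = (2k+1)k`); `D` a complement of `Q` in
`N(Q)` (Schur–Zassenhaus), of even order `k`; an involution `z ∈ D` inverts `Q`, is the unique
involution of `D` and central in `D`; `D ≤ C(z) = H^g`; `D ≠ K^g` would put an involution of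
`H^g ∖ K^g` in `D`.  Finally conjugate by `g⁻¹`. -/
theorem A3_caseA (h : Hyp t s K) (hk : 4 ≤ Nat.card K)
    (hG : Nat.card G = Nat.card K * (2 * Nat.card K + 1) * (2 * Nat.card K + 2))
    {x : G} (hx : x ∈ RO K)
    (hcx : Nat.card (Subgroup.centralizer ({x} : Set G)) = 2 * Nat.card K + 1) :
    ∃ Q : Subgroup G, Nat.card Q = 2 * Nat.card K + 1 ∧
      (∀ y ∈ Q, y ≠ 1 → Subgroup.centralizer ({y} : Set G) = Q) ∧ Q ⊓ K = ⊥ ∧
      Subgroup.normalizer (Q : Set G) = Q ⊔ K := by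
  have hcent : ∀ y ∈ Subgroup.centralizer ({x} : Set G), y ≠ 1 →
      Subgroup.centralizer ({y} : Set G) = Subgroup.centralizer ({x} : Set G) :=
    fun y hy hy1 => (G2_cent h hx hy hy1).2
  have hQ1 : Subgroup.centralizer ({x} : Set G) ≠ ⊥ := by
    intro hc
    have h1 : x ∈ Subgroup.centralizer ({x} : Set G) := Subgroup.mem_centralizer_singleton_iff.2 rfl
    rw [hc, Subgroup.mem_bot] at h1
    exact hx.1 h1
  have hcop : (Nat.card (Subgroup.centralizer ({x} : Set G))).Coprime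
      (Nat.card G / Nat.card (Subgroup.centralizer ({x} : Set G))) := by
    rw [hcx, hG]
    have e : Nat.card K * (2 * Nat.card K + 1) * (2 * Nat.card K + 2)
        = (2 * Nat.card K + 1) * (Nat.card K * (2 * Nat.card K + 2)) := by ring
    rw [e, Nat.mul_div_cancel_left _ (by omega)]
    apply Nat.Coprime.mul_right
    · have h1 : Nat.Coprime (2 * Nat.card K + 1) (Nat.card K) := by
        have := Nat.coprime_mul_left_add_left 1 (Nat.card K) 2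
        simpa [Nat.coprime_one_left_iff] using this
      exact h1
    · have h2 : Nat.Coprime (2 * Nat.card K + 1) (2 * Nat.card K + 2) := by
        have : 2 * Nat.card K + 2 = (2 * Nat.card K + 1) + 1 := by ring
        rw [this]
        simp
      exact h2
  exact Cfsg.Agent.Lib.Helper15.S3282A3.A3_caseA_aux h hk hG hcx (G1_even h)
    (fun w hw hwK => G1_invol_of_not_mem h hw hwK) hcent (A1_normalizer hQ1 hcent hcop)

end A3

/-! ## B: case B (`|G| = k(2k-1)(2k-2)`, `X` irreducible of degree `2k-1`) -/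

section B
variable [Fintype G]

/-- `X x = |C(x)|/(k-1)` is a positive rational algebraic integer on `RO K`, `0` on `NR K`;
`∑ X = 0` and `∑ |X|² = |G|` over `G = {1} ⊔ K^G# ⊔ RO ⊔ NR` (`G1_card_KG`) give
`∑_{RO} w = ∑_{RO} w²` (`w = X x ≥ 1`), so `w = 1`. -/
theorem B1_count (h : Hyp t s K) (hk : 4 ≤ Nat.card K)
    (hG : Nat.card G = Nat.card K * (2 * Nat.card K - 1) * (2 * Nat.card K - 2))
    (X : G → ℂ) (hX : Cfsg.IsIrrCharacter G X) (hX1 : X 1 = 2 * (Nat.card K : ℂ) - 1)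
    (hXK : ∀ y ∈ conjSet K, X y = -1)
    (hXβ : ∀ x : G, x ≠ 1 → x ∉ conjSet K → ((Nat.card K : ℂ) - 1) * X x = (beta x : ℂ)) :
    (∀ x ∈ RO K, Nat.card (Subgroup.centralizer ({x} : Set G)) = Nat.card K - 1) ∧
    Nat.card (NR K) = (2 * Nat.card K - 1) ^ 2 - 1 ∧ (∀ x ∈ NR K, X x = 0) :=
  Cfsg.Agent.Lib.Helper29.S3282B1.B1_count h hk hG X hX hX1 hXK hXβ

/-- `C(x)# ⊆ NR K` for `x ∈ NR K` (`G1_commute`, `G2_cent`), so `X` vanishes on `C(x)#` and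
`|C(x)|` divides `X 1` (`Lib/Helper2/Linear.card_dvd_degree_of_vanish`). -/
theorem B2_cent (h : Hyp t s K) (X : G → ℂ) (hX : Cfsg.IsIrrCharacter G X)
    (hX1 : X 1 = 2 * (Nat.card K : ℂ) - 1) (hX0 : ∀ x ∈ NR K, X x = 0) {x : G} (hx : x ∈ NR K) :
    (∀ y ∈ Subgroup.centralizer ({x} : Set G), y ≠ 1 → y ∈ NR K) ∧
    Nat.card (Subgroup.centralizer ({x} : Set G)) ∣ 2 * Nat.card K - 1 :=
  Cfsg.Agent.Lib.Helper24.S3282B2a.B2_cent_aux (fun hy hxy hx1 => G1_commute h hy hxy hx1)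
    (fun hx hy hy1 => G2_cent h hx hy hy1) X hX hX1 hX0 hx

/-- `x` and `x⁻¹` are not conjugate (`g x g⁻¹ = x⁻¹`, `|C(x)|` odd: a power of `g` is an involution
inverting `x`); both classes lie in `NR K` and have at least `|G|/q = (q²-1)/2` elements. -/
theorem B2_classes (h : Hyp t s K) (hk : 4 ≤ Nat.card K)
    (hG : Nat.card G = Nat.card K * (2 * Nat.card K - 1) * (2 * Nat.card K - 2))
    (hNR : Nat.card (NR K) = (2 * Nat.card K - 1) ^ 2 - 1)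
    (hdvd : ∀ x ∈ NR K, Nat.card (Subgroup.centralizer ({x} : Set G)) ∣ 2 * Nat.card K - 1)
    {x : G} (hx : x ∈ NR K) :
    Nat.card (Subgroup.centralizer ({x} : Set G)) = 2 * Nat.card K - 1 ∧
      ∀ y ∈ NR K, IsConj x y ∨ IsConj x⁻¹ y :=
  Cfsg.Agent.Lib.Helper20.S3282B2b.B2_classes h hk hG hNR hdvd hx

/-- all elements of `NR K` have the same prime order `r` (a power of `x` of prime order is in
`C(x)# ⊆ NR K`, hence conjugate to `x^{±1}`), and `C(x)` is a Sylow `r`-subgroup. -/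
theorem B2_sylow (h : Hyp t s K) (hk : 4 ≤ Nat.card K)
    (hG : Nat.card G = Nat.card K * (2 * Nat.card K - 1) * (2 * Nat.card K - 2))
    (hcent : ∀ x ∈ NR K, ∀ y ∈ Subgroup.centralizer ({x} : Set G), y ≠ 1 → y ∈ NR K)
    (hcl : ∀ x ∈ NR K, Nat.card (Subgroup.centralizer ({x} : Set G)) = 2 * Nat.card K - 1 ∧
      ∀ y ∈ NR K, IsConj x y ∨ IsConj x⁻¹ y)
    {x : G} (hx : x ∈ NR K) :
    ∃ (r : ℕ) (_ : Fact r.Prime) (P : Sylow r G), r ≠ 2 ∧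
      (P : Subgroup G) = Subgroup.centralizer ({x} : Set G) ∧
      ∀ y : G, (∃ n : ℕ, orderOf y = r ^ n) → y ≠ 1 → y ∈ NR K :=
  Cfsg.Agent.Lib.Helper20.S3282B2c.B2_sylow h hk hG hcent hcl hx

end B

section QD
variable [Finite G]

/-- `Lib`: `Cfsg.H5.QdR.exists_isGDat_of_involves'` gives a `p`-subgroup `U`, `f` additive onto
`(ZMod p)²` on `U` and, for `M = -1`, `n` normalizing `U` with `f (n u n⁻¹) = - f u`; `n` has even
order and `n ^ (orderOf n / 2)` is an involution normalizing `U ≠ ⊥`. -/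
theorem QD1_free (p : ℕ) [Fact p.Prime] (hp2 : p ≠ 2)
    (hno : ∀ τ : G, orderOf τ = 2 → ∀ U : Subgroup G, IsPGroup p U → U ≠ ⊥ →
      (∀ u ∈ U, τ * u * τ⁻¹ ∈ U) → False) :
    ¬ Cfsg.Involves ↥(Cfsg.qd p) G :=
  Cfsg.Agent.Lib.Helper6.S3282QD.QD1_free p hp2 hno

/-- `Cfsg.H5.QdF.controls_strong_fusion_qdFree_Z hp2 0 (dvd_zero p) hfree P A hA g hAg` with
`W = Cfsg.H5.ZJ.Z 0 P` (abelian, `≠ ⊥`): fix `z ∈ W#`; every `y ∈ P#` is `g z^{±1} g⁻¹`, hence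
`x z^{±1} x⁻¹` with `x ∈ N(W)`: `y ∈ W`. -/
theorem QD2_comm (p : ℕ) [Fact p.Prime] (hp2 : p ≠ 2) (hfree : ¬ Cfsg.Involves ↥(Cfsg.qd p) G)
    (P : Sylow p G)
    (hcl : ∀ y ∈ (P : Subgroup G), ∀ z ∈ (P : Subgroup G), y ≠ 1 → z ≠ 1 →
      IsConj y z ∨ IsConj y⁻¹ z) :
    ∀ y ∈ (P : Subgroup G), ∀ z ∈ (P : Subgroup G), y * z = z * y :=
  Cfsg.Agent.Lib.Helper6.S3282QD.QD2_comm p hp2 hfree P hcl

end QD

/-! ## K2: the case `k = 2` (via the landed `Cfsg.Agent.S3277.result`) -/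

section K2
variable [Finite G]

/-- `C(t) = {1, t, s, ts}` is a Sylow 2-subgroup.  A normal 2-complement `N` is impossible
(`t, s, ts` are conjugate but distinct modulo `N`).  A normal subgroup of order 2 is impossible
(central involution, but ≥ 3 involutions, all conjugate).  A normal elementary abelian `E` of order 4
contains all involutions, so `E = C(t)`, `C(E) = E`, `G/E ≤ Aut E ≅ S₃` of odd order: `|G| = 12`.
Otherwise `S3277`. -/
theorem K2_split (h : Hyp t s K) (hk : Nat.card K = 2) :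
    Nat.card G = 12 ∨ Nonempty (G ≃* ↥(alternatingGroup (Fin 5))) :=
  Cfsg.Agent.Lib.Helper22.S3282K2a.K2_split h hk

/-- `|G| = 12`: `Q` a Sylow 3-subgroup, not normal (else `Q × C(t)` abelian...): `N(Q) = Q = C(x)`,
`D = ⊥`. -/
theorem K2_twelve (h : Hyp t s K) (hk : Nat.card K = 2) (hG : Nat.card G = 12) :
    ∃ Q : Subgroup G, Nat.card Q = 3 ∧
      (∀ x ∈ Q, x ≠ 1 → Subgroup.centralizer ({x} : Set G) = Q) ∧
      Subgroup.normalizer (Q : Set G) = Q :=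
  Cfsg.Agent.Lib.Helper23.S3282K2bc.K2_twelve h hk hG

/-- `G ≅ A₅` (simple, order 60): `Q` a Sylow 5-subgroup, `|N(Q)| = 10`, `C(x) = Q`
(no element of order 5 commutes with an involution), `z ∈ N(Q)` an involution. -/
theorem K2_sixty (h : Hyp t s K) (hk : Nat.card K = 2)
    (hG : Nonempty (G ≃* ↥(alternatingGroup (Fin 5)))) :
    ∃ (Q : Subgroup G) (z : G), Nat.card G = 60 ∧ Nat.card Q = 5 ∧ orderOf z = 2 ∧
      (∀ x ∈ Q, x ≠ 1 → Subgroup.centralizer ({x} : Set G) = Q) ∧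
      Subgroup.normalizer (Q : Set G) = Q ⊔ Subgroup.zpowers z :=
  Cfsg.Agent.Lib.Helper23.S3282K2bc.K2_sixty h hk hG

/-- assemble `K2_split`, `K2_twelve` (`D = ⊥`), `K2_sixty` (`D = ⟨z⟩`, `N(D) = C(z)` of order 4,
elementary abelian, by `G1_conj`/`G1_card_H`/`G1_invol_of_not_mem`: `u ∈ C(z) ∖ ⟨z⟩`). -/
theorem K2_final (h : Hyp t s K) (hk : Nat.card K = 2) : Concl G :=
  Cfsg.Agent.Lib.Helper10.S3282K2d.K2_final_aux h hk (K2_split h hk) (K2_twelve h hk)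
    (K2_sixty h hk) (fun g => G1_conj h g)

end K2

/-! ## CT: character theory -/

section CT
variable [Fintype G] [Fintype K]

/-- direct computation: `indFun K α y = k⁻¹ ∑_x α°(x⁻¹ y x)`; for `y ∈ K#` only `x ∈ H` contribute
(`G1_fusion`), `x ∈ K` gives `α y`, `x ∈ H ∖ K` gives `α y⁻¹`; `μ y⁻¹ = conj (μ y)`
(`Lib/Helper25/CharBasic.char_inv`).  For `y = 1` both sides are `0`. -/
theorem CT2_apply_mem (h : Hyp t s K) {μ : K → ℂ} (hμ : Cfsg.IsIrrCharacter K μ) (y : K) :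
    Del K μ (y : G) = 2 - μ y - conj (μ y) :=
  Cfsg.Agent.Lib.Helper29.S3282CT23.CT2_apply_mem h hμ y

/-- `Lib/Helper11/CoverSum.indFun_eq_zero_of_not_mem_conjSet`. -/
theorem CT2_apply_not_mem (μ : K → ℂ) {x : G} (hx1 : x ≠ 1) (hx : x ∉ conjSet K) :
    Del K μ x = 0 :=
  Cfsg.Agent.Lib.Helper29.S3282CT23.CT2_apply_not_mem μ hx1 hx

open Classical in
/-- `classInner_indFun_left` (Frobenius) + `CT2_apply_mem` + orthogonality in `K`. -/
theorem CT3_gram (h : Hyp t s K) {μ ν : K → ℂ} (hμ : Cfsg.IsIrrCharacter K μ)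
    (hν : Cfsg.IsIrrCharacter K ν) (hμ1 : μ ≠ fun _ => 1) (hν1 : ν ≠ fun _ => 1) :
    Cfsg.classInner (Del K μ) (Del K ν)
      = 2 + (if μ = ν then 1 else 0) + (if μ = cj ν then 1 else 0) :=
  Cfsg.Agent.Lib.Helper29.S3282CT23.CT3_gram h hμ hν hμ1 hν1

theorem CT3_one (h : Hyp t s K) {μ : K → ℂ} (hμ : Cfsg.IsIrrCharacter K μ)
    (hμ1 : μ ≠ fun _ => 1) : Cfsg.classInner (Del K μ) (fun _ => 1) = 1 :=
  Cfsg.Agent.Lib.Helper29.S3282CT23.CT3_one h hμ hμ1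

/-- `χ|_K = ∑_μ ⟨χ|_K, μ⟩ μ`, `⟨Del μ, χ⟩ = conj (⟨χ|_K, 1⟩ - ⟨χ|_K, μ⟩)`, `∑_μ μ y = 0`. -/
theorem CT4_apply (hK : ∀ x ∈ K, ∀ y ∈ K, x * y = y * x) [Fintype (Cfsg.IrrCharacter K)]
    {χ : G → ℂ} (hχ : Cfsg.IsClassFunction G χ) (y : K) (hy1 : y ≠ 1) :
    χ (y : G) = - ∑ μ : Cfsg.IrrCharacter K,
      conj (Cfsg.classInner (Del K (μ : K → ℂ)) χ) * (μ : K → ℂ) y :=
  Cfsg.Agent.Lib.Helper24.S3282CT45.CT4_apply hK hχ y hy1

/-- characters of the abelian group `K` -/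
theorem CT5_mul (hK : ∀ x ∈ K, ∀ y ∈ K, x * y = y * x) {μ : K → ℂ}
    (hμ : Cfsg.IsIrrCharacter K μ) : μ 1 = 1 ∧ ∀ x y : K, μ (x * y) = μ x * μ y :=
  Cfsg.Agent.Lib.Helper24.S3282CT45.CT5_mul hK hμ

theorem CT5_sum (hK : ∀ x ∈ K, ∀ y ∈ K, x * y = y * x) [Fintype (Cfsg.IrrCharacter K)]
    {y : K} (hy : y ≠ 1) : ∑ μ : Cfsg.IrrCharacter K, (μ : K → ℂ) y = 0 :=
  Cfsg.Agent.Lib.Helper24.S3282CT45.CT5_sum hK hy

theorem CT5_card (hK : ∀ x ∈ K, ∀ y ∈ K, x * y = y * x) [Fintype (Cfsg.IrrCharacter K)] :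
    Fintype.card (Cfsg.IrrCharacter K) = Nat.card K :=
  Cfsg.Agent.Lib.Helper24.S3282CT45.CT5_card hK

/-- `#{μ real} = ∑_μ ⟨μ, cj μ⟩ = k⁻¹ ∑_y ∑_μ μ y * conj (μ y⁻¹) = #{y : y² = 1} = 2`. -/
theorem CT5_real (h : Hyp t s K) [Fintype (Cfsg.IrrCharacter K)] :
    ∃ σ : K → ℂ, Cfsg.IsIrrCharacter K σ ∧ σ ≠ (fun _ => 1) ∧ cj σ = σ ∧
      ∀ μ : K → ℂ, Cfsg.IsIrrCharacter K μ → cj μ = μ → μ = (fun _ => 1) ∨ μ = σ :=
  Cfsg.Agent.Lib.Helper24.S3282CT45.CT5_real h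

/-- class-algebra constants: `Lib/Helper7/PairCountIrr.card_centralizer_sq_mul_card_pairs t x`
(`IsConj t p ↔ orderOf p = 2`, `|C(t)| = 2k`, `χ t` real). -/
theorem CT7_beta (h : Hyp t s K) [Fintype (Cfsg.IrrCharacter G)] (x : G) :
    4 * (Nat.card K : ℂ) ^ 2 * (beta x : ℂ) = (Nat.card G : ℂ) *
      ∑ χ : Cfsg.IrrCharacter G, (χ : G → ℂ) t ^ 2 / (χ : G → ℂ) 1 * (χ : G → ℂ) x :=
  Cfsg.Agent.Lib.Helper24.S3282CT7.CT7_beta h x

/-- `⟨Del μ, χ⟩ = k⁻¹ ∑_{y ∈ K} (1 - μ y) conj (χ y)`; swap sums, `CT7_beta` with `beta y = k`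
(`G2_beta_K`) for `y ≠ 1`; `∑_{y ≠ 1} (1 - μ y) = k`. -/
theorem CT7_soft (h : Hyp t s K) [Fintype (Cfsg.IrrCharacter G)] {μ : K → ℂ}
    (hμ : Cfsg.IsIrrCharacter K μ) (hμ1 : μ ≠ fun _ => 1) :
    evalF (fun χ => χ t ^ 2 / χ 1) (Del K μ) = 4 * (Nat.card K : ℂ) ^ 3 / (Nat.card G : ℂ) :=
  Cfsg.Agent.Lib.Helper24.S3282CT7.CT7_soft h hμ hμ1

open Classical in
/-- THE COMBINATORIAL LEMMA.  Expand `D μ - 1 = e_μ` in irreducibles (integer vectors, `e_μ ⊥ 1`,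
`⟨e_μ, e_ν⟩ = 1 + [μ = ν] + [μ = bar ν]`).  `e_σ = a + b + c` (norm 3, signed irreducibles); every
non-real `e_μ` (norm 2) contains exactly one of `a, b, c` ("type") and one further `m_μ`; same type:
share it; different types: `m_μ = m_ν`, and then a third pair must be of the third type with the
same `m`: at most 3 pairs.  All of one type `a`: `X = a`.  Else `X = m` is in all non-real `e_μ`:
two pairs (second alternative), three pairs (`e_σ = -L₁ - L₂ - L₃`, excluded by `hdeg`: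
`3 (1 + X 1) = 1`). -/
theorem CT8_sunflower {M : Type*} [Fintype M] (bar : M → M) (hbar : ∀ μ, bar (bar μ) = μ)
    (σ : M) (hσ : bar σ = σ) (hσu : ∀ μ, bar μ = μ → μ = σ) (μ₀ : M) (hμ₀ : bar μ₀ ≠ μ₀)
    (D : M → G → ℂ) (hD : ∀ μ, Cfsg.IsGeneralizedCharacter G (D μ))
    (hDbar : ∀ μ, D (bar μ) = D μ)
    (hone : ∀ μ, Cfsg.classInner (D μ) (fun _ => 1) = 1)
    (hdeg : ∀ μ, D μ 1 = 0)
    (hgram : ∀ μ ν, Cfsg.classInner (D μ) (D ν)
      = 2 + (if μ = ν then 1 else 0) + (if μ = bar ν then 1 else 0)) :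
    (∃ X : G → ℂ, IsSignedIrr X ∧ Cfsg.classInner X (fun _ => 1) = 0 ∧
      ∀ μ, Cfsg.classInner (D μ) X = 1) ∨
    (∃ (μ₁ μ₂ : M) (X L₁ L₂ B : G → ℂ), bar μ₁ ≠ μ₁ ∧ bar μ₂ ≠ μ₂ ∧ μ₂ ≠ μ₁ ∧ μ₂ ≠ bar μ₁ ∧
      (∀ μ, μ = μ₁ ∨ μ = bar μ₁ ∨ μ = μ₂ ∨ μ = bar μ₂ ∨ μ = σ) ∧
      IsSignedIrr X ∧ IsSignedIrr L₁ ∧ IsSignedIrr L₂ ∧ IsSignedIrr B ∧
      D μ₁ = (fun _ => 1) + X - L₁ ∧ D μ₂ = (fun _ => 1) + X - L₂ ∧
      D σ = (fun _ => 1) - L₁ - L₂ + B ∧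
      Cfsg.classInner X (fun _ => 1) = 0 ∧ Cfsg.classInner L₁ (fun _ => 1) = 0 ∧
      Cfsg.classInner L₂ (fun _ => 1) = 0 ∧ Cfsg.classInner B (fun _ => 1) = 0 ∧
      Cfsg.classInner X L₁ = 0 ∧ Cfsg.classInner X L₂ = 0 ∧ Cfsg.classInner X B = 0 ∧
      Cfsg.classInner L₁ L₂ = 0 ∧ Cfsg.classInner L₁ B = 0 ∧ Cfsg.classInner L₂ B = 0) :=
  Cfsg.Agent.Lib.Helper21.S3282CT8.CT8_sunflower bar hbar σ hσ hσu μ₀ hμ₀ D hD hDbar hone hdeg hgram

/-- the second alternative of `CT8_sunflower` is impossible (`k = 6`): by `CT4_apply`,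
`L₁ t = 2 μ₁ t + σ t`, `L₂ t = 2 μ₂ t + σ t`; `∑_μ μ t = 0` forces `σ t = -1`, `μ₂ t = - μ₁ t`;
`L₁ 1 = L₂ 1 = 1 + X 1`; `CT7_soft` for `μ₁` and `μ₂` (`evalF` is additive and
`evalF F θ = F θ` for signed irreducibles, `F` odd) gives `(L₁ t)² = (L₂ t)²`: `9 = 1`. -/
theorem S5_false (h : Hyp t s K) [Fintype (Cfsg.IrrCharacter G)] [Fintype (Cfsg.IrrCharacter K)]
    (μ₁ μ₂ σ : K → ℂ) (hμ₁ : Cfsg.IsIrrCharacter K μ₁) (hμ₂ : Cfsg.IsIrrCharacter K μ₂)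
    (hσ : Cfsg.IsIrrCharacter K σ) (h1 : cj μ₁ ≠ μ₁) (h2 : cj μ₂ ≠ μ₂) (hσr : cj σ = σ)
    (hσ1 : σ ≠ fun _ => 1) (h21 : μ₂ ≠ μ₁) (h21' : μ₂ ≠ cj μ₁)
    (hall : ∀ μ : K → ℂ, Cfsg.IsIrrCharacter K μ →
      μ = (fun _ => 1) ∨ μ = μ₁ ∨ μ = cj μ₁ ∨ μ = μ₂ ∨ μ = cj μ₂ ∨ μ = σ)
    (X L₁ L₂ B : G → ℂ) (hX : IsSignedIrr X) (hL₁ : IsSignedIrr L₁) (hL₂ : IsSignedIrr L₂)
    (hB : IsSignedIrr B)
    (hD1 : Del K μ₁ = (fun _ => 1) + X - L₁) (hD2 : Del K μ₂ = (fun _ => 1) + X - L₂)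
    (hDσ : Del K σ = (fun _ => 1) - L₁ - L₂ + B)
    (o1 : Cfsg.classInner X (fun _ => 1) = 0) (o2 : Cfsg.classInner L₁ (fun _ => 1) = 0)
    (o3 : Cfsg.classInner L₂ (fun _ => 1) = 0) (o4 : Cfsg.classInner B (fun _ => 1) = 0)
    (o5 : Cfsg.classInner X L₁ = 0) (o6 : Cfsg.classInner X L₂ = 0)
    (o7 : Cfsg.classInner X B = 0) (o8 : Cfsg.classInner L₁ L₂ = 0)
    (o9 : Cfsg.classInner L₁ B = 0) (o10 : Cfsg.classInner L₂ B = 0) : False :=
  Cfsg.Agent.Lib.Helper16.S3282S5Final.S5_false h μ₁ μ₂ σ hμ₁ hμ₂ hσ h1 h2 hσr hσ1 h21 h21' hall X L₁ L₂ B hX hL₁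
    hL₂ hB hD1 hD2 hDσ o1 o2 o3 o4 o5 o6 o7 o8 o9 o10

/-- from the common constituent `X` to the full generic decomposition: `Lam μ := 1 + X - Del μ` has
norm 1 for non-real `μ`; `1 + X - Del σ` has norm 2, so is `Y + Z` (`Lib/Helper11/GenChar`);
`Y, Z ⊥ 1, X, Lam μ`; values on `K#` by `CT4_apply` (`X y = -∑_{μ ≠ 1} μ y = 1`,
`Y y = - conj ⟨Del σ, Y⟩ σ y = σ y`) and `CT2_apply_mem`. -/
theorem CT9A_gen (h : Hyp t s K) [Fintype (Cfsg.IrrCharacter K)] (X : G → ℂ) (hX : IsSignedIrr X)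
    (hX1 : Cfsg.classInner X (fun _ => 1) = 0)
    (hDX : ∀ μ : K → ℂ, Cfsg.IsIrrCharacter K μ → μ ≠ (fun _ => 1) →
      Cfsg.classInner (Del K μ) X = 1) :
    ∃ (σ : K → ℂ) (Y Z : G → ℂ) (Lam : (K → ℂ) → G → ℂ), Gen K σ X Y Z Lam :=
  Cfsg.Agent.Lib.Helper6.S3282CT9A.CT9A_gen h X hX hX1 hDX

/-- `CT7_soft` for a non-real `μ` (exists as `k ≥ 4`) and for `σ`; `evalF` additive, equal to `F`
on signed irreducibles (`F χ = χ t ^ 2 / χ 1` is odd); `X t = 1`, `Lam μ t = 2 μ t = ±2`,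
`Y t = Z t = σ t = ±1`; `Del μ 1 = 0` gives `Lam μ 1 = 1 + X 1 = Y 1 + Z 1`.  So
`1 + 1/X' - 4/(1+X') = S₀ = 1 + 1/X' - 1/a - 1/b`, `a + b = 1 + X'`: `a = b`. -/
theorem CT9B_order (h : Hyp t s K) (hk : 4 ≤ Nat.card K) [Fintype (Cfsg.IrrCharacter G)]
    [Fintype (Cfsg.IrrCharacter K)] {σ : K → ℂ} {X Y Z : G → ℂ} {Lam : (K → ℂ) → G → ℂ}
    (gen : Gen K σ X Y Z Lam) :
    (X 1 - 1) ^ 2 * (Nat.card G : ℂ) = 4 * (Nat.card K : ℂ) ^ 3 * X 1 * (X 1 + 1) ∧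
      Y 1 = (1 + X 1) / 2 ∧ Z 1 = (1 + X 1) / 2 :=
  Cfsg.Agent.Lib.Helper19.S3282CT9BC.CT9B_order h hk gen

/-- `X 1 ∈ ℤ`; `X` or `-X` is a character whose restriction to `H` has the integer multiplicity
`(X 1 + 2k - 1)/(2k)` of `1_H` (`X = 1` on `H#`): `X 1 = 1 + 2 k c`, `c ≠ 0`;
`c² n = (1 + 2kc)(1 + kc)` with `n = |G|/2k`, so `c² = 1`. -/
theorem CT9C_degree (h : Hyp t s K) (hk : 4 ≤ Nat.card K) {σ : K → ℂ} {X Y Z : G → ℂ}
    {Lam : (K → ℂ) → G → ℂ} (gen : Gen K σ X Y Z Lam)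
    (hord : (X 1 - 1) ^ 2 * (Nat.card G : ℂ) = 4 * (Nat.card K : ℂ) ^ 3 * X 1 * (X 1 + 1)) :
    X 1 = 1 + 2 * (Nat.card K : ℂ) ∨ X 1 = 1 - 2 * (Nat.card K : ℂ) :=
  Cfsg.Agent.Lib.Helper19.S3282CT9BC.CT9C_degree h hk gen hord

/-- `CT7_beta`; write one factor `χ t = -∑_μ ⟨Del μ, χ⟩ μ t` (`CT4_apply`, integers), swap sums:
`∑_χ … = -∑_μ μ t * evalF G_x (Del μ)`, `G_x χ = χ t * χ x / χ 1` (odd);
`Del μ x = 0` gives `Lam μ x = 1 + X x = Y x + Z x`; `∑_{μ ≠ 1} μ t = -1`, `(μ t)² = 1`, `k - 2`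
non-real `μ`. -/
theorem CT9D_beta (h : Hyp t s K) (hk : 4 ≤ Nat.card K) [Fintype (Cfsg.IrrCharacter G)]
    [Fintype (Cfsg.IrrCharacter K)] {σ : K → ℂ} {X Y Z : G → ℂ} {Lam : (K → ℂ) → G → ℂ}
    (gen : Gen K σ X Y Z Lam) (hY1 : Y 1 = (1 + X 1) / 2) (hZ1 : Z 1 = (1 + X 1) / 2)
    {x : G} (hx1 : x ≠ 1) (hxK : x ∉ conjSet K) :
    4 * (Nat.card K : ℂ) ^ 2 * (beta x : ℂ) = (Nat.card G : ℂ) *
      (1 + X x / X 1 + (2 * (Nat.card K : ℂ) - 2) * (1 + X x) / (1 + X 1)) :=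
  Cfsg.Agent.Lib.Helper16.S3282CT9D.CT9D_beta h hk gen hY1 hZ1 hx1 hxK

end CT

end Cfsg.Agent.Lib.Helper11.S3282.FO
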