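import Mathlib
import Cfsg.Prelude.Def_Characters
import Cfsg.Agent.Lib.Helper11.S3282Bridge
import Cfsg.Agent.Lib.Helper11.S3282Eval
import Cfsg.Agent.Lib.Helper2.PSection
import Cfsg.Agent.Lib.Helper2.Integrality
import Cfsg.Agent.Lib.Helper2.NormalInduction

/-!
S3282: from the generic decomposition to the two cases `|G| = k(2k±1)(2k±2)`.
-/

set_option autoImplicit false

namespace Cfsg.Agent.Lib.Helper11.S3282

open Cfsg Cfsg.Agent.Lib.Helper2 Cfsg.Agent.Lib.Helper11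
open FO
open scoped ComplexConjugate

universe u

variable {G : Type u} [Group G] [Fintype G] {t s : G} {K : Subgroup G} [Fintype K]
  {σ : K → ℂ} {X Y Z : G → ℂ} {Lam : (K → ℂ) → G → ℂ}

theorem signedIrr_isIntegral {θ : G → ℂ} (hθ : IsSignedIrr θ) (g : G) : IsIntegral ℤ (θ g) := by
  rcases hθ with h | h
  · exact PSection.isCharacter_isIntegral (IsIrrCharacter.isCharacter h) g
  · have := PSection.isCharacter_isIntegral (IsIrrCharacter.isCharacter h) g
    rw [Pi.neg_apply] at this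
    have h2 := this.neg
    rwa [neg_neg] at h2

theorem gen_X_conjSet (gen : Gen K σ X Y Z Lam) {x : G} (hx : x ∈ conjSet K) : X x = 1 := by
  obtain ⟨hx1, g, hg⟩ := hx
  have hcf := signedIrr_isClassFunction gen.hX
  rw [← hcf x g]
  have hne : (⟨g * x * g⁻¹, hg⟩ : K) ≠ 1 := by
    intro h1
    apply hx1
    have h2 : g * x * g⁻¹ = 1 := congrArg Subtype.val h1
    have : x = g⁻¹ * (g * x * g⁻¹) * g := by group
    rw [this, h2]; group
  exact gen.hXK ⟨_, hg⟩ hne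

theorem sum_normSq_eq (hX : IsSignedIrr X) :
    ∑ g : G, Complex.normSq (X g) = (Nat.card G : ℝ) := by
  have h1 := hX.inner_self
  rw [classInner_def] at h1
  have hN : (Nat.card G : ℂ) ≠ 0 := card_ne_zero_complex
  have h2 : ∑ g : G, X g * conj (X g) = (Nat.card G : ℂ) := by
    field_simp at h1
    exact h1
  have h3 : ((∑ g : G, Complex.normSq (X g) : ℝ) : ℂ) = ((Nat.card G : ℝ) : ℂ) := by
    push_cast
    rw [← h2]
    apply Finset.sum_congr rfl
    intro g _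
    rw [Complex.mul_conj]
  exact_mod_cast h3

theorem alg_A (kk a b N : ℂ) (h0 : kk ≠ 0) (hq0 : 2 * kk + 1 ≠ 0) (hq1 : 2 * kk + 2 ≠ 0)
    (hN : N = kk * (2 * kk + 1) * (2 * kk + 2))
    (h1 : 4 * kk ^ 2 * b = N * (1 + a / (1 + 2 * kk) + (2 * kk - 2) * (1 + a) / (1 + (1 + 2 * kk)))) :
    b = 2 * kk + 1 + kk * a := by
  have e1 : (1 + 2 * kk) = 2 * kk + 1 := by ring
  have e2 : 1 + (1 + 2 * kk) = 2 * kk + 2 := by ring
  rw [e2, e1, hN] at h1
  have hu : a / (2 * kk + 1) * (2 * kk + 1) = a := div_mul_cancel₀ a hq0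
  have hw : (2 * kk - 2) * (1 + a) / (2 * kk + 2) * (2 * kk + 2) = (2 * kk - 2) * (1 + a) :=
    div_mul_cancel₀ _ hq1
  have h2 : (4 * kk ^ 2) * b = (4 * kk ^ 2) * (2 * kk + 1 + kk * a) := by
    linear_combination h1 + kk * (2 * kk + 2) * hu + kk * (2 * kk + 1) * hw
  exact mul_left_cancel₀ (mul_ne_zero (by norm_num) (pow_ne_zero 2 h0)) h2

theorem alg_B (kk a b N : ℂ) (h0 : kk ≠ 0) (hq0 : 2 * kk - 1 ≠ 0) (hq1 : 2 * kk - 2 ≠ 0)
    (hN : N = kk * (2 * kk - 1) * (2 * kk - 2))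
    (h1 : 4 * kk ^ 2 * b = N * (1 + a / (1 - 2 * kk) + (2 * kk - 2) * (1 + a) / (1 + (1 - 2 * kk)))) :
    (kk - 1) * -a = b := by
  have e1 : (1 - 2 * kk) = -(2 * kk - 1) := by ring
  have e2 : 1 + (1 - 2 * kk) = -(2 * kk - 2) := by ring
  rw [e2, e1, hN] at h1
  have hu : a / -(2 * kk - 1) * -(2 * kk - 1) = a := div_mul_cancel₀ a (neg_ne_zero.2 hq0)
  have hw : (2 * kk - 2) * (1 + a) / -(2 * kk - 2) * -(2 * kk - 2) = (2 * kk - 2) * (1 + a) :=
    div_mul_cancel₀ _ (neg_ne_zero.2 hq1)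
  have h2 : (4 * kk ^ 2) * b = (4 * kk ^ 2) * ((kk - 1) * -a) := by
    linear_combination h1 - kk * (2 * kk - 2) * hu - kk * (2 * kk - 1) * hw
  exact (mul_left_cancel₀ (mul_ne_zero (by norm_num) (pow_ne_zero 2 h0)) h2).symm

/-- case `c = 1`. -/
theorem CT10A (h : Hyp t s K) (hk : 4 ≤ Nat.card K) [Fintype (Cfsg.IrrCharacter G)]
    [Fintype (Cfsg.IrrCharacter K)] (gen : Gen K σ X Y Z Lam)
    (hord : (X 1 - 1) ^ 2 * (Nat.card G : ℂ) = 4 * (Nat.card K : ℂ) ^ 3 * X 1 * (X 1 + 1))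
    (hY1 : Y 1 = (1 + X 1) / 2) (hZ1 : Z 1 = (1 + X 1) / 2)
    (hX1 : X 1 = 1 + 2 * (Nat.card K : ℂ)) :
    Nat.card G = Nat.card K * (2 * Nat.card K + 1) * (2 * Nat.card K + 2) ∧
      ∃ x ∈ RO K, Nat.card (Subgroup.centralizer ({x} : Set G)) = 2 * Nat.card K + 1 := by
  classical
  have hk0 : (Nat.card K : ℂ) ≠ 0 := by
    have : Nat.card K ≠ 0 := by omega
    exact_mod_cast this
  have hq0 : 2 * (Nat.card K : ℂ) + 1 ≠ 0 := by
    have : 2 * Nat.card K + 1 ≠ 0 := by omega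
    exact_mod_cast this
  have hq1 : 2 * (Nat.card K : ℂ) + 2 ≠ 0 := by
    have : 2 * Nat.card K + 2 ≠ 0 := by omega
    exact_mod_cast this
  have hN : (Nat.card G : ℂ)
      = (Nat.card K : ℂ) * (2 * (Nat.card K : ℂ) + 1) * (2 * (Nat.card K : ℂ) + 2) := by
    rw [hX1] at hord
    have h4 : (4 * (Nat.card K : ℂ) ^ 2) * (Nat.card G : ℂ) = (4 * (Nat.card K : ℂ) ^ 2) *
        ((Nat.card K : ℂ) * (2 * (Nat.card K : ℂ) + 1) * (2 * (Nat.card K : ℂ) + 2)) := by
      linear_combination hord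
    exact mul_left_cancel₀ (mul_ne_zero (by norm_num) (pow_ne_zero 2 hk0)) h4
  have hNn : Nat.card G = Nat.card K * (2 * Nat.card K + 1) * (2 * Nat.card K + 2) := by
    exact_mod_cast hN
  refine ⟨hNn, ?_⟩
  -- the formula for `beta`
  have hβ : ∀ x : G, x ≠ 1 → x ∉ conjSet K →
      (beta x : ℂ) = 2 * (Nat.card K : ℂ) + 1 + (Nat.card K : ℂ) * X x := by
    intro x hx1 hxK
    have h1 := CT9D_beta h hk gen hY1 hZ1 hx1 hxK
    rw [hX1] at h1
    exact alg_A _ _ _ _ hk0 hq0 hq1 hN h1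
  -- some `x` outside `K^G ∪ {1}` has `|X x| < 1`
  have hex : ∃ x : G, x ≠ 1 ∧ x ∉ conjSet K ∧ Complex.normSq (X x) < 1 := by
    by_contra hcon
    push Not at hcon
    have hall : ∀ x : G, x ≠ 1 → 1 ≤ Complex.normSq (X x) := by
      intro x hx1
      by_cases hxK : x ∈ conjSet K
      · rw [gen_X_conjSet gen hxK]; simp
      · exact hcon x hx1 hxK
    have hsum := sum_normSq_eq gen.hX
    have h1 : Complex.normSq (X 1) = (2 * (Nat.card K : ℝ) + 1) ^ 2 := by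
      rw [hX1]
      have : (1 + 2 * (Nat.card K : ℂ)) = ((2 * (Nat.card K : ℝ) + 1 : ℝ) : ℂ) := by
        push_cast; ring
      rw [this, Complex.normSq_ofReal]; ring
    have h2 : ∑ g : G, Complex.normSq (X g)
        = Complex.normSq (X 1) + ∑ g ∈ Finset.univ.erase (1 : G), Complex.normSq (X g) := by
      exact (Finset.add_sum_erase Finset.univ (fun g => Complex.normSq (X g))
        (Finset.mem_univ 1)).symm
    have h3 : ((Finset.univ.erase (1 : G)).card : ℝ) ≤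
        ∑ g ∈ Finset.univ.erase (1 : G), Complex.normSq (X g) := by
      have := Finset.card_nsmul_le_sum (Finset.univ.erase (1 : G))
        (fun g => Complex.normSq (X g)) 1 (fun g hg => hall g (Finset.ne_of_mem_erase hg))
      simpa using this
    have h4 : ((Finset.univ.erase (1 : G)).card : ℝ) = (Nat.card G : ℝ) - 1 := by
      rw [Finset.card_erase_of_mem (Finset.mem_univ _), Finset.card_univ,
        Nat.card_eq_fintype_card]
      have : 1 ≤ Fintype.card G := Fintype.card_pos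
      push_cast [Nat.cast_sub this]
      ring
    have hkpos : (0 : ℝ) < (Nat.card K : ℝ) := by
      have : 0 < Nat.card K := by omega
      exact_mod_cast this
    nlinarith
  obtain ⟨x, hx1, hxK, hxlt⟩ := hex
  -- `X x` is a rational algebraic integer of absolute value `< 1`
  have hβx := hβ x hx1 hxK
  have hrat : X x = (((beta x : ℚ) - (2 * (Nat.card K : ℚ) + 1)) / (Nat.card K : ℚ) : ℚ) := by
    push_cast
    field_simp
    rw [hβx]; ring
  obtain ⟨z, hz⟩ := Cfsg.Agent.Lib.Helper2.exists_int_of_isIntegral_of_rat _ hrat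
    (signedIrr_isIntegral gen.hX x)
  have hz0 : z = 0 := by
    rw [hz] at hxlt
    have : Complex.normSq ((z : ℂ)) = ((z : ℝ)) ^ 2 := by
      have : ((z : ℂ)) = (((z : ℝ)) : ℂ) := by push_cast; rfl
      rw [this, Complex.normSq_ofReal]; ring
    rw [this] at hxlt
    have h5 : (z : ℝ) ^ 2 < 1 := hxlt
    have h6 : z ^ 2 < 1 := by exact_mod_cast h5
    nlinarith
  rw [hz, hz0] at hβx
  have hβn : beta x = 2 * Nat.card K + 1 := by
    have : (beta x : ℂ) = ((2 * Nat.card K + 1 : ℕ) : ℂ) := by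
      rw [hβx]; push_cast; ring
    exact_mod_cast this
  have hxRO : x ∈ RO K := G2_beta_pos h hx1 hxK (by omega)
  exact ⟨x, hxRO, by rw [← G2_beta_RO h hxRO, hβn]⟩

/-- case `c = -1`. -/
theorem CT10B (h : Hyp t s K) (hk : 4 ≤ Nat.card K) [Fintype (Cfsg.IrrCharacter G)]
    [Fintype (Cfsg.IrrCharacter K)] (gen : Gen K σ X Y Z Lam)
    (hord : (X 1 - 1) ^ 2 * (Nat.card G : ℂ) = 4 * (Nat.card K : ℂ) ^ 3 * X 1 * (X 1 + 1))
    (hY1 : Y 1 = (1 + X 1) / 2) (hZ1 : Z 1 = (1 + X 1) / 2)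
    (hX1 : X 1 = 1 - 2 * (Nat.card K : ℂ)) :
    Nat.card G = Nat.card K * (2 * Nat.card K - 1) * (2 * Nat.card K - 2) ∧
      ∃ X' : G → ℂ, Cfsg.IsIrrCharacter G X' ∧ X' 1 = 2 * (Nat.card K : ℂ) - 1 ∧
        (∀ y ∈ conjSet K, X' y = -1) ∧
        ∀ x : G, x ≠ 1 → x ∉ conjSet K → ((Nat.card K : ℂ) - 1) * X' x = (beta x : ℂ) := by
  have hk0 : (Nat.card K : ℂ) ≠ 0 := by
    have : Nat.card K ≠ 0 := by omega
    exact_mod_cast this
  have hc1 : ((2 * Nat.card K - 1 : ℕ) : ℂ) = 2 * (Nat.card K : ℂ) - 1 := by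
    have : 1 ≤ 2 * Nat.card K := by omega
    push_cast [Nat.cast_sub this]; ring
  have hc2 : ((2 * Nat.card K - 2 : ℕ) : ℂ) = 2 * (Nat.card K : ℂ) - 2 := by
    have : 2 ≤ 2 * Nat.card K := by omega
    push_cast [Nat.cast_sub this]; ring
  have hq0 : 2 * (Nat.card K : ℂ) - 1 ≠ 0 := by
    rw [← hc1]
    have : 2 * Nat.card K - 1 ≠ 0 := by omega
    exact_mod_cast this
  have hq1 : 2 * (Nat.card K : ℂ) - 2 ≠ 0 := by
    rw [← hc2]
    have : 2 * Nat.card K - 2 ≠ 0 := by omega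
    exact_mod_cast this
  have hN : (Nat.card G : ℂ)
      = (Nat.card K : ℂ) * (2 * (Nat.card K : ℂ) - 1) * (2 * (Nat.card K : ℂ) - 2) := by
    rw [hX1] at hord
    have h4 : (4 * (Nat.card K : ℂ) ^ 2) * (Nat.card G : ℂ) = (4 * (Nat.card K : ℂ) ^ 2) *
        ((Nat.card K : ℂ) * (2 * (Nat.card K : ℂ) - 1) * (2 * (Nat.card K : ℂ) - 2)) := by
      linear_combination hord
    exact mul_left_cancel₀ (mul_ne_zero (by norm_num) (pow_ne_zero 2 hk0)) h4
  have hNn : Nat.card G = Nat.card K * (2 * Nat.card K - 1) * (2 * Nat.card K - 2) := by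
    have : (Nat.card G : ℂ)
        = ((Nat.card K * (2 * Nat.card K - 1) * (2 * Nat.card K - 2) : ℕ) : ℂ) := by
      rw [hN]; push_cast [hc1, hc2]; ring
    exact_mod_cast this
  refine ⟨hNn, -X, ?_, ?_, ?_, ?_⟩
  · rcases gen.hX with hirr | hirr
    · exfalso
      obtain ⟨n, hn⟩ := Cfsg.Agent.Lib.Helper2.IsCharacter.apply_one
        (IsIrrCharacter.isCharacter hirr)
      rw [hX1] at hn
      have h5 : ((n : ℂ)) + 2 * (Nat.card K : ℂ) = 1 := by rw [← hn]; ring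
      have h6 : n + 2 * Nat.card K = 1 := by exact_mod_cast h5
      omega
    · exact hirr
  · rw [Pi.neg_apply, hX1]; ring
  · intro y hy
    rw [Pi.neg_apply, gen_X_conjSet gen hy]
  · intro x hx1 hxK
    have h1 := CT9D_beta h hk gen hY1 hZ1 hx1 hxK
    rw [hX1] at h1
    rw [Pi.neg_apply]
    exact alg_B _ _ _ _ hk0 hq0 hq1 hN h1

theorem cj_cj {A : Type*} (f : A → ℂ) : cj (cj f) = f := by
  funext a; simp [cj]

theorem cj_one {A : Type*} : cj (fun _ : A => (1 : ℂ)) = fun _ => 1 := by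
  funext a; simp [cj]

theorem irr_cj {μ : K → ℂ} (hμ : Cfsg.IsIrrCharacter K μ) : Cfsg.IsIrrCharacter K (cj μ) :=
  isIrrCharacter_conj hμ

/-- `Del` is determined by its values on `K`. -/
theorem Del_ext (h : Hyp t s K) {μ ν : K → ℂ} (hμ : Cfsg.IsIrrCharacter K μ)
    (hν : Cfsg.IsIrrCharacter K ν)
    (hval : ∀ y : K, 2 - μ y - conj (μ y) = 2 - ν y - conj (ν y)) : Del K μ = Del K ν := by
  funext x
  by_cases hx : x ∈ conjSet K
  · obtain ⟨_, g, hg⟩ := hx
    rw [← Del_isClassFunction K μ x g, ← Del_isClassFunction K ν x g]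
    have h1 := CT2_apply_mem h hμ ⟨g * x * g⁻¹, hg⟩
    have h2 := CT2_apply_mem h hν ⟨g * x * g⁻¹, hg⟩
    simp only at h1 h2
    rw [h1, h2, hval]
  · by_cases hx1 : x = 1
    · have h1 := CT2_apply_mem h hμ (1 : K)
      have h2 := CT2_apply_mem h hν (1 : K)
      rw [Subgroup.coe_one] at h1 h2
      rw [hx1, h1, h2, hval]
    · rw [CT2_apply_not_mem μ hx1 hx, CT2_apply_not_mem ν hx1 hx]

theorem Del_cj (h : Hyp t s K) {μ : K → ℂ} (hμ : Cfsg.IsIrrCharacter K μ) :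
    Del K (cj μ) = Del K μ := by
  apply Del_ext h (irr_cj hμ) hμ
  intro y
  simp only [cj, Complex.conj_conj]
  ring

theorem Del_apply_one (h : Hyp t s K) {μ : K → ℂ} (hμ : Cfsg.IsIrrCharacter K μ) :
    Del K μ 1 = 0 := by
  have h1 := CT2_apply_mem h hμ (1 : K)
  rw [Subgroup.coe_one] at h1
  rw [h1, (CT5_mul h.comm hμ).1]
  norm_num

/-- The main character-theoretic output. -/
theorem CTmain (h : Hyp t s K) (hk : 4 ≤ Nat.card K) :
    (Nat.card G = Nat.card K * (2 * Nat.card K + 1) * (2 * Nat.card K + 2) ∧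
      ∃ x ∈ RO K, Nat.card (Subgroup.centralizer ({x} : Set G)) = 2 * Nat.card K + 1) ∨
    (Nat.card G = Nat.card K * (2 * Nat.card K - 1) * (2 * Nat.card K - 2) ∧
      ∃ X' : G → ℂ, Cfsg.IsIrrCharacter G X' ∧ X' 1 = 2 * (Nat.card K : ℂ) - 1 ∧
        (∀ y ∈ conjSet K, X' y = -1) ∧
        ∀ x : G, x ≠ 1 → x ∉ conjSet K → ((Nat.card K : ℂ) - 1) * X' x = (beta x : ℂ)) := by
  classical
  haveI : Fintype (Cfsg.IrrCharacter G) := Fintype.ofFinite _
  haveI : Fintype (Cfsg.IrrCharacter K) := Fintype.ofFinite _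
  obtain ⟨σf, hσirr, hσ1, hσr, hσu⟩ := CT5_real h
  -- the index set
  let M := {μ : Cfsg.IrrCharacter K // (μ : K → ℂ) ≠ fun _ => 1}
  have hne : ∀ μ : M, cj (μ.1 : K → ℂ) ≠ fun _ => 1 := by
    intro μ hc
    apply μ.2
    have := congrArg cj hc
    rwa [cj_cj, cj_one] at this
  let bar : M → M := fun μ => ⟨⟨cj (μ.1 : K → ℂ), irr_cj μ.1.2⟩, hne μ⟩
  have hbarval : ∀ μ : M, ((bar μ).1 : K → ℂ) = cj (μ.1 : K → ℂ) := fun _ => rfl
  have hMext : ∀ μ ν : M, μ = ν ↔ (μ.1 : K → ℂ) = (ν.1 : K → ℂ) := by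
    intro μ ν
    constructor
    · intro h1; rw [h1]
    · intro h1; exact Subtype.ext (Subtype.ext h1)
  let σM : M := ⟨⟨σf, hσirr⟩, hσ1⟩
  have hbar : ∀ μ, bar (bar μ) = μ := by
    intro μ
    rw [hMext, hbarval, hbarval, cj_cj]
  have hσM : bar σM = σM := by
    rw [hMext, hbarval]; exact hσr
  have hσMu : ∀ μ, bar μ = μ → μ = σM := by
    intro μ hμ
    rw [hMext, hbarval] at hμ
    rcases hσu _ μ.1.2 hμ with h1 | h1
    · exact absurd h1 μ.2
    · rw [hMext]; exact h1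
  -- a non-real character exists
  obtain ⟨μ₀, hμ₀⟩ : ∃ μ₀ : M, bar μ₀ ≠ μ₀ := by
    by_contra hall
    push Not at hall
    have hcard := CT5_card (K := K) h.comm
    let one : Cfsg.IrrCharacter K := ⟨fun _ => 1, Cfsg.Agent.Lib.Helper25.isIrrCharacter_one⟩
    have hsub : (Finset.univ : Finset (Cfsg.IrrCharacter K)) ⊆ {one, ⟨σf, hσirr⟩} := by
      intro μ _
      by_cases h1 : (μ : K → ℂ) = fun _ => 1
      · rw [Finset.mem_insert]; left; exact Subtype.ext h1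
      · have := hσMu ⟨μ, h1⟩ (hall ⟨μ, h1⟩)
        rw [hMext] at this
        rw [Finset.mem_insert, Finset.mem_singleton]; right; exact Subtype.ext this
    have := Finset.card_le_card hsub
    rw [Finset.card_univ, hcard] at this
    have h2 := Finset.card_le_two (a := one) (b := (⟨σf, hσirr⟩ : Cfsg.IrrCharacter K))
    omega
  have hD : ∀ μ : M, Cfsg.IsGeneralizedCharacter G (Del K (μ.1 : K → ℂ)) := fun μ =>
    Del_isGenChar K (IsIrrCharacter.isCharacter μ.1.2)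
  have hgram : ∀ μ ν : M, Cfsg.classInner (Del K (μ.1 : K → ℂ)) (Del K (ν.1 : K → ℂ))
      = 2 + (if μ = ν then 1 else 0) + (if μ = bar ν then 1 else 0) := by
    intro μ ν
    rw [CT3_gram h μ.1.2 ν.1.2 μ.2 ν.2]
    congr 1
    · congr 1
      by_cases h1 : μ = ν
      · rw [if_pos h1, if_pos ((hMext _ _).1 h1)]
      · rw [if_neg h1, if_neg (fun hc => h1 ((hMext _ _).2 hc))]
    · by_cases h1 : μ = bar ν
      · rw [if_pos h1, if_pos (by rw [← hbarval]; exact (hMext _ _).1 h1)]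
      · rw [if_neg h1, if_neg (fun hc => h1 ((hMext _ _).2 (by rw [hbarval]; exact hc)))]
  rcases CT8_sunflower bar hbar σM hσM hσMu μ₀ hμ₀ (fun μ : M => Del K (μ.1 : K → ℂ)) hD
    (fun μ => by rw [hbarval]; exact Del_cj h μ.1.2)
    (fun μ => CT3_one h μ.1.2 μ.2) (fun μ => Del_apply_one h μ.1.2)
    (fun μ ν => by convert hgram μ ν) with hgen | hs5
  · obtain ⟨X, hX, hX1, hDX⟩ := hgen
    obtain ⟨σ', Y, Z, Lam, gen⟩ := CT9A_gen h X hX hX1 (fun μ hμ hμ1 => hDX ⟨⟨μ, hμ⟩, hμ1⟩)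
    obtain ⟨hord, hY1, hZ1⟩ := CT9B_order h hk gen
    rcases CT9C_degree h hk gen hord with hc | hc
    · exact Or.inl (CT10A h hk gen hord hY1 hZ1 hc)
    · exact Or.inr (CT10B h hk gen hord hY1 hZ1 hc)
  · exfalso
    obtain ⟨μ₁, μ₂, X, L₁, L₂, B, hb1, hb2, h21, h21', hall, hX, hL1, hL2, hB, hD1, hD2, hDσ,
      o1, o2, o3, o4, o5, o6, o7, o8, o9, o10⟩ := hs5
    refine S5_false h (μ₁.1 : K → ℂ) (μ₂.1 : K → ℂ) σf μ₁.1.2 μ₂.1.2 hσirr ?_ ?_ hσr hσ1 ?_ ?_ ?_
      X L₁ L₂ B hX hL1 hL2 hB hD1 hD2 hDσ o1 o2 o3 o4 o5 o6 o7 o8 o9 o10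
    · intro hc; exact hb1 ((hMext _ _).2 (by rw [hbarval]; exact hc))
    · intro hc; exact hb2 ((hMext _ _).2 (by rw [hbarval]; exact hc))
    · intro hc; exact h21 ((hMext _ _).2 hc)
    · intro hc; exact h21' ((hMext _ _).2 (by rw [hbarval]; exact hc))
    · intro μ hμ
      by_cases h1 : μ = fun _ => 1
      · exact Or.inl h1
      · right
        rcases hall ⟨⟨μ, hμ⟩, h1⟩ with h2 | h2 | h2 | h2 | h2
        · left; exact (hMext _ _).1 h2
        · right; left; have := (hMext _ _).1 h2; rwa [hbarval] at this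
        · right; right; left; exact (hMext _ _).1 h2
        · right; right; right; left; have := (hMext _ _).1 h2; rwa [hbarval] at this
        · right; right; right; right; exact (hMext _ _).1 h2

end Cfsg.Agent.Lib.Helper11.S3282
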