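import Mathlib
import Cfsg.Prelude.Def_Characters
import Cfsg.Agent.Lib.Helper11.S3282Bridge
import Cfsg.Agent.Lib.Helper11.S3282Main
import Cfsg.Agent.Lib.Helper9.TwoCon3

/-!
S3282: final assembly of the cases A, B and `k = 2`.
-/

set_option autoImplicit false

namespace Cfsg.Agent.Lib.Helper11.S3282

open Cfsg Cfsg.Agent.Lib.Helper2 Cfsg.Agent.Lib.Helper11
open FO
open scoped ComplexConjugate

universe u

variable {G : Type u} [Group G] {t s : G} {K : Subgroup G}

/-- Schur–Zassenhaus inside `N`: a normal Hall subgroup `Q` of `N` has a complement. -/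
theorem exists_complement_hall [Finite G] (Q N : Subgroup G) (hQN : Q ≤ N)
    (hN : N ≤ Subgroup.normalizer (Q : Set G))
    (hcop : (Nat.card Q).Coprime (Nat.card N / Nat.card Q)) :
    ∃ D : Subgroup G, D ≤ N ∧ Q ⊓ D = ⊥ ∧ Q ⊔ D = N ∧ Nat.card Q * Nat.card D = Nat.card N := by
  haveI : (Q.subgroupOf N).Normal := Subgroup.normal_subgroupOf_of_le_normalizer hN
  have hcardQ : Nat.card (Q.subgroupOf N) = Nat.card Q :=
    Nat.card_congr (Subgroup.subgroupOfEquivOfLe hQN).toEquiv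
  have hidx : (Q.subgroupOf N).index = Nat.card N / Nat.card Q := by
    have h1 := (Q.subgroupOf N).card_mul_index
    rw [hcardQ] at h1
    rw [← h1, Nat.mul_div_cancel_left _ Nat.card_pos]
  obtain ⟨H, hH⟩ := Subgroup.exists_right_complement'_of_coprime (N := Q.subgroupOf N)
    (by rw [hcardQ, hidx]; exact hcop)
  refine ⟨H.map N.subtype, ?_, ?_, ?_, ?_⟩
  · rintro _ ⟨x, -, rfl⟩
    exact x.2
  · rw [eq_bot_iff]
    rintro x ⟨hxQ, y, hyH, rfl⟩
    have h1 : y ∈ Q.subgroupOf N ⊓ H := ⟨Subgroup.mem_subgroupOf.2 hxQ, hyH⟩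
    rw [hH.disjoint.eq_bot, Subgroup.mem_bot] at h1
    rw [h1]; simp
  · have h1 := hH.sup_eq_top
    have h2 : (Q.subgroupOf N ⊔ H).map N.subtype = (⊤ : Subgroup N).map N.subtype := by rw [h1]
    rw [Subgroup.map_sup, Subgroup.map_subgroupOf_eq_of_le hQN, ← MonoidHom.range_eq_map,
      Subgroup.range_subtype] at h2
    exact h2
  · have h1 := hH.card_mul_card
    rw [hcardQ] at h1
    rw [← h1]
    congr 1
    exact Nat.card_congr (Subgroup.equivMapOfInjective H N.subtype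
      (Subgroup.subtype_injective N)).toEquiv.symm

theorem K_ne_bot (h : Hyp t s K) : K ≠ ⊥ := by
  intro hc
  have h1 : t ∈ (⊥ : Subgroup G) := hc ▸ h.htK
  rw [Subgroup.mem_bot] at h1
  have := h.ht
  rw [h1, orderOf_one] at this
  omega

/-- case A. -/
theorem caseA_final [Finite G] (h : Hyp t s K) (hk : 4 ≤ Nat.card K)
    (hG : Nat.card G = Nat.card K * (2 * Nat.card K + 1) * (2 * Nat.card K + 2))
    {x : G} (hx : x ∈ RO K)
    (hcx : Nat.card (Subgroup.centralizer ({x} : Set G)) = 2 * Nat.card K + 1) : Concl G := by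
  obtain ⟨Q, hQ, hC, hQK, hNQ⟩ := A3_caseA h hk hG hx hcx
  refine ⟨Q, K, ?_, hC, ?_, ?_, hQK, hNQ, ?_⟩
  · rw [hG, hQ]
    have : 2 * Nat.card K + 1 - 1 = 2 * Nat.card K := by omega
    rw [this]; ring
  · exact ⟨⟨fun a b => Subtype.ext (h.comm a a.2 b b.2)⟩⟩
  · rw [hQ]
  · intro X hX hX1
    refine ⟨?_, s, h.hs, h.hsK, h.hinv, ?_⟩
    · rw [G1_normalizer h hX hX1, G1_normalizer h le_rfl (K_ne_bot h)]
    · rw [G1_normalizer h le_rfl (K_ne_bot h), h.hH]

theorem cop_a (k : ℕ) (hk : 1 ≤ k) : Nat.Coprime (2 * k - 1) k := by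
  have h1 := Nat.gcd_dvd_left (2 * k - 1) k
  have h2 := Nat.gcd_dvd_right (2 * k - 1) k
  have h3 : Nat.gcd (2 * k - 1) k ∣ 2 * k := Dvd.dvd.mul_left h2 2
  have h4 : Nat.gcd (2 * k - 1) k ∣ 2 * k - (2 * k - 1) := Nat.dvd_sub h3 h1
  have : 2 * k - (2 * k - 1) = 1 := by omega
  rw [this] at h4
  exact Nat.dvd_one.1 h4

theorem cop_b (k : ℕ) (hk : 1 ≤ k) : Nat.Coprime (2 * k - 1) (2 * k - 2) := by
  have h1 := Nat.gcd_dvd_left (2 * k - 1) (2 * k - 2)
  have h2 := Nat.gcd_dvd_right (2 * k - 1) (2 * k - 2)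
  have h4 : Nat.gcd (2 * k - 1) (2 * k - 2) ∣ (2 * k - 1) - (2 * k - 2) := Nat.dvd_sub h1 h2
  have : (2 * k - 1) - (2 * k - 2) = 1 := by omega
  rw [this] at h4
  exact Nat.dvd_one.1 h4

theorem cop_c (k : ℕ) (hk : 1 ≤ k) : Nat.Coprime (2 * k - 1) (k - 1) := by
  have h1 := Nat.gcd_dvd_left (2 * k - 1) (k - 1)
  have h2 := Nat.gcd_dvd_right (2 * k - 1) (k - 1)
  have h3 : Nat.gcd (2 * k - 1) (k - 1) ∣ 2 * (k - 1) := Dvd.dvd.mul_left h2 2
  have h4 : Nat.gcd (2 * k - 1) (k - 1) ∣ (2 * k - 1) - 2 * (k - 1) := Nat.dvd_sub h1 h3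
  have : (2 * k - 1) - 2 * (k - 1) = 1 := by omega
  rw [this] at h4
  exact Nat.dvd_one.1 h4

theorem cop_d (k : ℕ) (hk : 1 ≤ k) : Nat.Coprime (k - 1) k := by
  have h1 := Nat.gcd_dvd_left (k - 1) k
  have h2 := Nat.gcd_dvd_right (k - 1) k
  have h4 : Nat.gcd (k - 1) k ∣ k - (k - 1) := Nat.dvd_sub h2 h1
  have : k - (k - 1) = 1 := by omega
  rw [this] at h4
  exact Nat.dvd_one.1 h4

theorem orderOf_conj_eq (g d : G) : orderOf (g * d * g⁻¹) = orderOf d := by
  have := orderOf_injective (MulAut.conj g).toMonoidHom (MulAut.conj g).injective d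
  simpa using this

/-- no involution normalizes a non-trivial `r`-subgroup whose non-identity elements are in `NR`. -/
theorem no_invol_normalizes [Finite G] (h : Hyp t s K) (τ : G) (hτ : orderOf τ = 2)
    (U : Subgroup G) (hU : ∀ y ∈ U, y ≠ 1 → y ∈ NR K) (hU1 : U ≠ ⊥)
    (hnorm : ∀ u ∈ U, τ * u * τ⁻¹ ∈ U) : False := by
  have hττ : τ * τ = 1 := by
    have := pow_orderOf_eq_one τ
    rwa [hτ, pow_two] at this
  have hτinv : τ⁻¹ = τ := inv_eq_of_mul_eq_one_left hττ
  have hτN : τ ∈ Subgroup.normalizer (U : Set G) := by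
    rw [Subgroup.mem_normalizer_iff]
    intro y
    constructor
    · exact hnorm y
    · intro hy
      have := hnorm _ hy
      have e : τ * (τ * y * τ⁻¹) * τ⁻¹ = y := by
        rw [hτinv]
        calc τ * (τ * y * τ) * τ = (τ * τ) * y * (τ * τ) := by group
          _ = y := by rw [hττ]; group
      rwa [e] at this
  have hfix : U ⊓ Subgroup.centralizer ({τ} : Set G) = ⊥ := by
    rw [eq_bot_iff]
    rintro y ⟨hyU, hyC⟩
    rw [Subgroup.mem_bot]
    by_contra hy1
    have hyNR := hU y hyU hy1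
    apply hyNR.2.1
    have hyC' : y ∈ Subgroup.centralizer ({τ} : Set G) := hyC
    have hcomm : y * τ = τ * y := Subgroup.mem_centralizer_singleton_iff.1 hyC'
    exact G1_commute h (G1_invol_mem h hτ) hcomm hy1
  have hinv := Cfsg.Agent.Lib.Helper9.TwoCon.inverts_of_fpf hττ hτN hfix
  obtain ⟨⟨y, hyU⟩, hy1'⟩ := (Subgroup.ne_bot_iff_exists_ne_one.1 hU1)
  have hy1 : y ≠ 1 := fun hc => hy1' (Subtype.ext hc)
  exact (hU y hyU hy1).2.2 ⟨τ, hτ, hinv y hyU⟩

/-- case B. -/
theorem caseB_final [Fintype G] (h : Hyp t s K) (hk : 4 ≤ Nat.card K)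
    (hG : Nat.card G = Nat.card K * (2 * Nat.card K - 1) * (2 * Nat.card K - 2))
    (X : G → ℂ) (hX : Cfsg.IsIrrCharacter G X) (hX1 : X 1 = 2 * (Nat.card K : ℂ) - 1)
    (hXK : ∀ y ∈ conjSet K, X y = -1)
    (hXβ : ∀ x : G, x ≠ 1 → x ∉ conjSet K → ((Nat.card K : ℂ) - 1) * X x = (beta x : ℂ)) :
    Concl G := by
  classical
  obtain ⟨hRO, hNRcard, hX0⟩ := B1_count h hk hG X hX hX1 hXK hXβ
  have hk1 : 1 ≤ Nat.card K := by omega
  -- an element of `NR`
  have hNRne : Nonempty (NR K) := by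
    have : 0 < Nat.card (NR K) := by
      rw [hNRcard]
      have : 7 ≤ 2 * Nat.card K - 1 := by omega
      have h2 : 7 ^ 2 ≤ (2 * Nat.card K - 1) ^ 2 := Nat.pow_le_pow_left this 2
      omega
    exact (Nat.card_pos_iff.1 this).1
  obtain ⟨⟨x₀, hx₀⟩⟩ := hNRne
  have hcent : ∀ x ∈ NR K, ∀ y ∈ Subgroup.centralizer ({x} : Set G), y ≠ 1 → y ∈ NR K :=
    fun x hx => (B2_cent h X hX hX1 hX0 hx).1
  have hdvd : ∀ x ∈ NR K, Nat.card (Subgroup.centralizer ({x} : Set G)) ∣ 2 * Nat.card K - 1 :=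
    fun x hx => (B2_cent h X hX hX1 hX0 hx).2
  have hcl : ∀ x ∈ NR K, Nat.card (Subgroup.centralizer ({x} : Set G)) = 2 * Nat.card K - 1 ∧
      ∀ y ∈ NR K, IsConj x y ∨ IsConj x⁻¹ y := fun x hx => B2_classes h hk hG hNRcard hdvd hx
  obtain ⟨r, hr, P, hr2, hP, hrel⟩ := B2_sylow h hk hG hcent hcl hx₀
  set Q : Subgroup G := Subgroup.centralizer ({x₀} : Set G) with hQdef
  have hx₀Q : x₀ ∈ Q := Subgroup.mem_centralizer_singleton_iff.2 rfl
  have hQcard : Nat.card Q = 2 * Nat.card K - 1 := (hcl x₀ hx₀).1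
  -- the Sylow subgroup is abelian
  have hfree : ¬ Cfsg.Involves ↥(Cfsg.qd r) G := by
    apply QD1_free r hr2
    intro τ hτ U hU hU1 hnorm
    refine no_invol_normalizes h τ hτ U ?_ hU1 hnorm
    intro y hy hy1
    apply hrel y _ hy1
    obtain ⟨n, hn⟩ := (IsPGroup.iff_orderOf.1 hU) ⟨y, hy⟩
    exact ⟨n, by rw [← hn, Subgroup.orderOf_mk]⟩
  have hPab := QD2_comm r hr2 hfree P (by
    intro y hy z hz hy1 hz1
    rw [hP] at hy hz
    exact (hcl y (hcent x₀ hx₀ y hy hy1)).2 z (hcent x₀ hx₀ z hz hz1))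
  have hC : ∀ y ∈ Q, y ≠ 1 → Subgroup.centralizer ({y} : Set G) = Q := by
    intro y hy hy1
    have hyNR := hcent x₀ hx₀ y hy hy1
    symm
    apply Subgroup.eq_of_le_of_card_ge
    · intro z hz
      rw [Subgroup.mem_centralizer_singleton_iff]
      have hy' : y ∈ (P : Subgroup G) := by rw [hP]; exact hy
      have hz' : z ∈ (P : Subgroup G) := by rw [hP]; exact hz
      exact hPab z hz' y hy'
    · rw [(hcl y hyNR).1, hQcard]
  have hQ1 : Q ≠ ⊥ := by
    intro hc
    have : x₀ ∈ (⊥ : Subgroup G) := hc ▸ hx₀Q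
    exact hx₀.1 (Subgroup.mem_bot.1 this)
  -- the normalizer of `Q`
  have hGQ : Nat.card G / Nat.card Q = Nat.card K * (2 * Nat.card K - 2) := by
    rw [hG, hQcard]
    have : Nat.card K * (2 * Nat.card K - 1) * (2 * Nat.card K - 2)
        = (2 * Nat.card K - 1) * (Nat.card K * (2 * Nat.card K - 2)) := by ring
    rw [this, Nat.mul_div_cancel_left _ (by omega)]
  obtain ⟨e, j, hNe, he, hGN⟩ := A1_normalizer hQ1 hC (by
    rw [hGQ, hQcard]
    exact Nat.Coprime.mul_right (cop_a _ hk1) (cop_b _ hk1))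
  rw [hQcard] at hNe he hGN
  have he' : e ∣ 2 * Nat.card K - 2 := by
    have : 2 * Nat.card K - 1 - 1 = 2 * Nat.card K - 2 := by omega
    rwa [this] at he
  have hek : e = Nat.card K - 1 := by
    apply A2_arith_B (j := j) (by omega) he'
    rw [← hG, hGN, hNe]
  rw [hek] at hNe
  -- a complement
  obtain ⟨D, hDN, hQD, hQDsup, hQDcard⟩ := exists_complement_hall Q
    (Subgroup.normalizer (Q : Set G)) Subgroup.le_normalizer le_rfl (by
      rw [hNe, hQcard, Nat.mul_div_cancel_left _ (by omega)]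
      exact cop_c _ hk1)
  have hDcard : Nat.card D = Nat.card K - 1 := by
    rw [hNe, hQcard] at hQDcard
    exact Nat.eq_of_mul_eq_mul_left (by omega) hQDcard
  have heven := G1_even h
  -- the non-identity elements of `D` are in `RO`
  have hDRO : ∀ d ∈ D, d ≠ 1 → d ∈ RO K := by
    intro d hd hd1
    have ho : orderOf d ∣ Nat.card K - 1 := hDcard ▸ Subgroup.orderOf_dvd_natCard D hd
    have hone : ∀ m : ℕ, (Nat.card K - 1).Coprime m → orderOf d ∣ m → False := by
      intro m hm hdm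
      have : orderOf d ∣ 1 := by
        have := Nat.dvd_gcd ho hdm
        rwa [hm] at this
      exact hd1 (orderOf_eq_one_iff.1 (Nat.dvd_one.1 this))
    refine ⟨hd1, ?_, ?_⟩
    · rintro ⟨-, g, hg⟩
      apply hone (Nat.card K) (cop_d _ hk1)
      rw [← orderOf_conj_eq g d]
      exact Subgroup.orderOf_dvd_natCard K hg
    · by_contra hnr
      have hdNR : d ∈ NR K := ⟨hd1, (by
        rintro ⟨-, g, hg⟩
        apply hone (Nat.card K) (cop_d _ hk1)
        rw [← orderOf_conj_eq g d]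
        exact Subgroup.orderOf_dvd_natCard K hg), hnr⟩
      apply hone (2 * Nat.card K - 1) (cop_c _ hk1).symm
      rw [← (hcl d hdNR).1]
      exact Subgroup.orderOf_dvd_natCard _ (Subgroup.mem_centralizer_singleton_iff.2 rfl)
  have hDtor : ∀ d ∈ D, d ≠ 1 → D = Subgroup.centralizer ({d} : Set G) :=
    fun d hd hd1 => G4_torus h hRO D hDcard hDRO hd hd1
  have hD1 : D ≠ ⊥ := by
    intro hc
    rw [hc, Subgroup.card_bot] at hDcard
    omega
  obtain ⟨⟨d₀, hd₀⟩, hd₀1'⟩ := Subgroup.ne_bot_iff_exists_ne_one.1 hD1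
  have hd₀1 : d₀ ≠ 1 := fun hc => hd₀1' (Subtype.ext hc)
  have hd₀RO := hDRO d₀ hd₀ hd₀1
  have hDeq := hDtor d₀ hd₀ hd₀1
  obtain ⟨u, hu, hud⟩ := hd₀RO.2.2
  have huinvD : ∀ y ∈ D, u * y * u⁻¹ = y⁻¹ := by
    rw [hDeq]; exact G2_inverts h hd₀RO hu hud
  have hDcomm : ∀ y ∈ D, ∀ z ∈ D, y * z = z * y := by
    rw [hDeq]; exact G2_comm h hd₀RO
  have hND : Subgroup.normalizer (D : Set G) = D ⊔ Subgroup.zpowers u := by
    rw [hDeq]; exact G3_torus h hRO hd₀RO hu hud
  have huD : u ∉ D := by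
    intro huD
    have h1 : orderOf u ∣ Nat.card K - 1 := hDcard ▸ Subgroup.orderOf_dvd_natCard D huD
    rw [hu] at h1
    omega
  have huu : u * u = 1 := by
    have := pow_orderOf_eq_one u
    rwa [hu, pow_two] at this
  have huinv : u⁻¹ = u := inv_eq_of_mul_eq_one_left huu
  refine ⟨Q, D, ?_, hC, ⟨⟨fun a b => Subtype.ext (hDcomm a a.2 b b.2)⟩⟩, ?_, hQD, hQDsup.symm, ?_⟩
  · rw [hG, hQcard]
    have e1 : 2 * Nat.card K - 1 + 1 = 2 * Nat.card K := by omega
    have e2 : 2 * Nat.card K - 1 - 1 = 2 * Nat.card K - 2 := by omega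
    rw [e1, e2]; ring
  · rw [hDcard, hQcard]; omega
  · intro Y hY hY1
    refine ⟨?_, u, hu, huD, huinvD, hND⟩
    apply le_antisymm
    · intro g hg
      obtain ⟨⟨y, hyY⟩, hy1'⟩ := Subgroup.ne_bot_iff_exists_ne_one.1 hY1
      have hy1 : y ≠ 1 := fun hc => hy1' (Subtype.ext hc)
      have hgy : g * y * g⁻¹ ∈ Y := (Subgroup.mem_normalizer_iff.1 hg y).1 hyY
      have hgy1 : g * y * g⁻¹ ≠ 1 := by
        intro hc
        apply hy1
        have : y = g⁻¹ * (g * y * g⁻¹) * g := by group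
        rw [this, hc]; group
      have e1 := hDtor y (hY hyY) hy1
      have e2 := hDtor _ (hY hgy) hgy1
      rw [Subgroup.mem_normalizer_iff]
      intro d
      constructor
      · intro hd
        rw [e1, Subgroup.mem_centralizer_singleton_iff] at hd
        rw [e2, Subgroup.mem_centralizer_singleton_iff]
        calc g * d * g⁻¹ * (g * y * g⁻¹) = g * (d * y) * g⁻¹ := by group
          _ = g * (y * d) * g⁻¹ := by rw [hd]
          _ = g * y * g⁻¹ * (g * d * g⁻¹) := by group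
      · intro hd
        rw [e2, Subgroup.mem_centralizer_singleton_iff] at hd
        rw [e1, Subgroup.mem_centralizer_singleton_iff]
        calc d * y = g⁻¹ * (g * d * g⁻¹ * (g * y * g⁻¹)) * g := by group
          _ = g⁻¹ * (g * y * g⁻¹ * (g * d * g⁻¹)) * g := by rw [hd]
          _ = y * d := by group
    · rw [hND]
      apply sup_le
      · intro d hd
        rw [Subgroup.mem_normalizer_iff]
        intro y
        constructor
        · intro hy
          have : d * y * d⁻¹ = y := by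
            rw [hDcomm d hd y (hY hy)]; group
          rwa [this]
        · intro hy
          have hc := hDcomm d hd _ (hY hy)
          have : d * y * d⁻¹ = y := by
            have h2 : d * (d * y * d⁻¹) = d * y := by rw [hc]; group
            exact mul_left_cancel h2
          rwa [this] at hy
      · rw [Subgroup.zpowers_le, Subgroup.mem_normalizer_iff]
        intro y
        constructor
        · intro hy
          rw [huinvD y (hY hy)]
          exact Y.inv_mem hy
        · intro hy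
          have h2 := huinvD _ (hY hy)
          have h3 : u * (u * y * u⁻¹) * u⁻¹ = y := by
            rw [huinv]
            calc u * (u * y * u) * u = (u * u) * y * (u * u) := by group
              _ = y := by rw [huu]; group
          rw [h3] at h2
          rw [h2]
          exact Y.inv_mem hy

/-- The abstract Brauer–Suzuki–Wall theorem. -/
theorem main_thm [Finite G] (h : Hyp t s K) : Concl G := by
  classical
  haveI : Fintype G := Fintype.ofFinite G
  haveI : Fintype K := Fintype.ofFinite K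
  obtain ⟨m, hm⟩ := G1_even h
  have hpos : 0 < Nat.card K := Nat.card_pos
  by_cases hk2 : Nat.card K = 2
  · exact K2_final h hk2
  · have hk : 4 ≤ Nat.card K := by omega
    rcases CTmain h hk with ⟨hG, x, hx, hcx⟩ | ⟨hG, X, hX, hX1, hXK, hXβ⟩
    · exact caseA_final h hk hG hx hcx
    · exact caseB_final h hk hG X hX hX1 hXK hXβ

end Cfsg.Agent.Lib.Helper11.S3282
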