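import Cfsg.Agent.Lib.Helper11.ExcDegree5
import Cfsg.Agent.Lib.Helper2.PermLemma
import Cfsg.Agent.Lib.Helper25.ClassMult

/-!
# S3341, character-theoretic part

For an abelian TI-subgroup `H` with Frobenius normaliser `L`: two more sums over the exceptional
characters of `L`, and the sum over `z ∈ H ∖ 1` of the class-algebra expressions
`∑_χ conj (χ x χ y / χ 1) χ z` for `x, y ∈ H ∖ 1` with `x` not `L`-conjugate to `y⁻¹`.
-/

set_option autoImplicit false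

namespace Cfsg.Agent.Lib.Helper11.S3341K

open Cfsg
open Cfsg.Agent.Lib.Helper2
open Cfsg.Agent.Lib.Helper11
open Cfsg.Agent.S1522
open scoped ComplexConjugate

variable {G : Type*} [Group G] [Fintype G] (H L : Subgroup G) [Fintype L]

/-- Column orthogonality in `L`, restricted to the exceptional index set. -/
theorem exc_sum_mul_conj [hK : (H.subgroupOf L).Normal] [Fintype (ExcIdx H L)]
    (x y : L) (hx : (x : G) ∈ H) (hy : (y : G) ∈ H) (hxy : ¬ IsConj x y) :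
    ∑ θ : ExcIdx H L, (θ.1 : L → ℂ) x * conj ((θ.1 : L → ℂ) y)
      = -((H.subgroupOf L).index : ℂ) := by
  classical
  haveI : Fintype (IrrCharacter L) := Fintype.ofFinite _
  have h0 := column_orthogonality (G := L) x y
  rw [if_neg hxy, sum_irr_split H L] at h0
  have h2 : ∑ ψ ∈ Finset.univ.filter (fun ψ : IrrCharacter L =>
      ¬ ∃ k : L, (k : G) ∈ H ∧ (ψ : L → ℂ) k ≠ (ψ : L → ℂ) 1),
      (ψ : L → ℂ) x * conj ((ψ : L → ℂ) y) = ((H.subgroupOf L).index : ℂ) := by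
    rw [← sum_triv_degree_sq H L]
    apply Finset.sum_congr rfl
    intro ψ hψ
    rw [Finset.mem_filter] at hψ
    have h1 : (ψ : L → ℂ) x = (ψ : L → ℂ) 1 := by
      by_contra hne
      exact hψ.2 ⟨x, hx, hne⟩
    have h2 : (ψ : L → ℂ) y = (ψ : L → ℂ) 1 := by
      by_contra hne
      exact hψ.2 ⟨y, hy, hne⟩
    rw [h1, h2, IsCharacter.conj_apply_one (IsIrrCharacter.isCharacter ψ.2), sq]
  rw [h2] at h0
  exact eq_neg_of_add_eq_zero_left h0

/-- An exceptional character of `L` sums to `-[L:H]` over `H ∖ 1`. -/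
theorem exc_sum_H [hK : (H.subgroupOf L).Normal]
    (hcent : ∀ h ∈ H, h ≠ 1 → ∀ x ∈ L, x * h = h * x → x ∈ H)
    (hab : ∀ a ∈ H, ∀ b ∈ H, a * b = b * a) (θ : ExcIdx H L)
    [DecidablePred (fun z : L => (z : G) ∈ H ∧ z ≠ 1)] :
    ∑ z ∈ Finset.univ.filter (fun z : L => (z : G) ∈ H ∧ z ≠ 1), (θ.1 : L → ℂ) z
      = -((H.subgroupOf L).index : ℂ) := by
  classical
  have hne : θ.1 ≠ trivialIrr L := by
    intro h
    obtain ⟨k, -, hk⟩ := θ.2
    apply hk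
    rw [h]
    rfl
  have h0 := classInner_irrCharacter θ.1 (trivialIrr L)
  rw [if_neg hne, classInner] at h0
  have hL0 : ((Nat.card L : ℂ))⁻¹ ≠ 0 := by
    apply inv_ne_zero
    have : 0 < Nat.card L := Nat.card_pos
    exact_mod_cast this.ne'
  have h1 : ∑ g : L, (θ.1 : L → ℂ) g * conj ((trivialIrr L : L → ℂ) g) = 0 := by
    rcases mul_eq_zero.1 h0 with h | h
    · exact absurd h hL0
    · exact h
  have h2 : ∑ g : L, (θ.1 : L → ℂ) g * conj ((trivialIrr L : L → ℂ) g)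
      = ∑ g : L, (θ.1 : L → ℂ) g := by
    apply Finset.sum_congr rfl
    intro g _
    have : (trivialIrr L : L → ℂ) g = 1 := rfl
    rw [this, map_one, mul_one]
  rw [h2] at h1
  have hp := excIdx_props H L hcent hab θ
  rw [← Finset.sum_filter_add_sum_filter_not Finset.univ
    (fun z : L => (z : G) ∈ H ∧ z ≠ 1)] at h1
  have h3 : ∑ z ∈ Finset.univ.filter (fun z : L => ¬ ((z : G) ∈ H ∧ z ≠ 1)), (θ.1 : L → ℂ) z
      = ((H.subgroupOf L).index : ℂ) := by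
    rw [Finset.sum_eq_single_of_mem (1 : L)]
    · exact hp.1
    · rw [Finset.mem_filter]
      exact ⟨Finset.mem_univ _, fun h => h.2 rfl⟩
    · intro z hz hz1
      rw [Finset.mem_filter] at hz
      apply hp.2
      intro hzH
      exact hz.2 ⟨hzH, hz1⟩
  rw [h3] at h1
  exact eq_neg_of_add_eq_zero_left h1


/-- The number of elements of `H ∖ 1`, counted inside `L`. -/
theorem card_filter_H (hHL : H ≤ L) [DecidablePred (fun z : L => (z : G) ∈ H ∧ z ≠ 1)] :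
    ((Finset.univ.filter (fun z : L => (z : G) ∈ H ∧ z ≠ 1)).card : ℂ) = (Nat.card H : ℂ) - 1 := by
  classical
  have h1 : Finset.univ.filter (fun z : L => (z : G) ∈ H ∧ z ≠ 1)
      = (Finset.univ.filter (fun z : L => (z : G) ∈ H)).erase 1 := by
    ext z
    simp only [Finset.mem_filter, Finset.mem_univ, true_and, Finset.mem_erase]
    tauto
  have h2 : (Finset.univ.filter (fun z : L => (z : G) ∈ H)).card = Nat.card H := by
    rw [← Nat.card_congr (Subgroup.subgroupOfEquivOfLe hHL).toEquiv, Nat.card_eq_fintype_card,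
      Fintype.card_subtype]
    rfl
  have h3 : (1 : L) ∈ Finset.univ.filter (fun z : L => (z : G) ∈ H) := by
    rw [Finset.mem_filter]
    exact ⟨Finset.mem_univ _, H.one_mem⟩
  rw [h1, Finset.card_erase_of_mem h3, h2]
  have : 1 ≤ Nat.card H := Nat.card_pos
  push_cast [Nat.cast_sub this]
  ring

/-- **Key identity**: the class-algebra expressions for `x, y ∈ H ∖ 1` (with `x` not conjugate to
`y⁻¹` in `L`), summed over `z ∈ H ∖ 1`. -/
theorem key_identity [hK : (H.subgroupOf L).Normal] [Fintype (IrrCharacter G)]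
    (hHL : H ≤ L)
    (hcent : ∀ h ∈ H, h ≠ 1 → ∀ x ∈ L, x * h = h * x → x ∈ H)
    (hab : ∀ a ∈ H, ∀ b ∈ H, a * b = b * a)
    (ε m₀ : ℤ) (x₀ : ℕ) (f : ExcIdx H L → IrrCharacter G) (Nz : Finset (IrrCharacter G))
    (m : IrrCharacter G → ℤ) (d : IrrCharacter G → ℕ)
    (hε : ε = 1 ∨ ε = -1) (hinj : Function.Injective f)
    (hd : ∀ χ : IrrCharacter G, (χ : G → ℂ) 1 = (d χ : ℂ))
    (hx₀ : ∀ θ : ExcIdx H L, d (f θ) = x₀)
    (hNz : ∀ χ, χ ∈ Nz ↔ χ ∉ Set.range f ∧ m χ ≠ 0)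
    (hm : ∀ χ ∉ Set.range f, ∀ g ∈ H, g ≠ 1 → (χ : G → ℂ) g = (m χ : ℂ))
    (hf : ∀ θ : ExcIdx H L, ∀ x : L, (x : G) ∈ H → x ≠ 1 →
        (f θ : G → ℂ) x = (m₀ : ℂ) + (ε : ℂ) * (θ.1 : L → ℂ) x)
    (hE1 : ∑ χ ∈ Nz, (m χ) ^ 2 + (Nat.card (ExcIdx H L) : ℤ) * m₀ ^ 2 - 2 * ε * m₀
        = ((H.subgroupOf L).index : ℤ))
    (x y : L) (hx : (x : G) ∈ H) (hx1 : x ≠ 1) (hy : (y : G) ∈ H) (hy1 : y ≠ 1)
    (hxy : ¬ IsConj x y⁻¹) [DecidablePred (fun z : L => (z : G) ∈ H ∧ z ≠ 1)] :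
    ∑ z ∈ Finset.univ.filter (fun z : L => (z : G) ∈ H ∧ z ≠ 1),
      ∑ χ : IrrCharacter G,
        conj ((χ : G → ℂ) x * (χ : G → ℂ) y / (χ : G → ℂ) 1) * (χ : G → ℂ) z
    = ((Nat.card H : ℂ) - 1) * ∑ χ ∈ Nz, ((m χ : ℤ) : ℂ) ^ 3 / (d χ : ℂ)
      - (((Nat.card H : ℂ) - 1) * (m₀ : ℂ) - (ε : ℂ) * ((H.subgroupOf L).index : ℂ))
        * (∑ χ ∈ Nz, ((m χ : ℤ) : ℂ) ^ 2) / (x₀ : ℂ) := by
  classical
  haveI : Fintype (ExcIdx H L) := Fintype.ofFinite _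
  have htc : Fintype.card (ExcIdx H L) = Nat.card (ExcIdx H L) := Nat.card_eq_fintype_card.symm
  set A := Finset.univ.filter (fun z : L => (z : G) ∈ H ∧ z ≠ 1) with hA
  have hcardA := card_filter_H H L hHL
  rw [← hA] at hcardA
  have hεsq : ((ε : ℂ)) * (ε : ℂ) = 1 := by
    rcases hε with h | h <;> rw [h] <;> simp
  have hεconj : conj (ε : ℂ) = (ε : ℂ) := map_intCast _ _
  have hrange : ∀ χ : IrrCharacter G, χ ∉ Set.range f ↔ χ ∉ Finset.univ.image f := by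
    intro χ
    simp
  have hy1' : y⁻¹ ≠ 1 := by
    intro h
    exact hy1 (inv_eq_one.1 h)
  have hyi : ((y⁻¹ : L) : G) ∈ H := by
    rw [Subgroup.coe_inv]
    exact H.inv_mem hy
  -- sums over the exceptional index set
  have hS1x := exc_sum_apply H L hcent hab x hx hx1
  have hS1y := exc_sum_apply H L hcent hab y hy hy1
  have hS2 : ∑ θ : ExcIdx H L, (θ.1 : L → ℂ) x * (θ.1 : L → ℂ) y
      = -((H.subgroupOf L).index : ℂ) := by
    rw [← exc_sum_mul_conj H L x y⁻¹ hx hyi hxy]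
    apply Finset.sum_congr rfl
    intro θ _
    rw [IrrCharacter.apply_inv θ.1 y, Complex.conj_conj]
  -- swap the sums
  rw [Finset.sum_comm]
  have hinner : ∀ χ : IrrCharacter G, ∑ z ∈ A,
      conj ((χ : G → ℂ) x * (χ : G → ℂ) y / (χ : G → ℂ) 1) * (χ : G → ℂ) z
      = conj ((χ : G → ℂ) x * (χ : G → ℂ) y / (χ : G → ℂ) 1) * ∑ z ∈ A, (χ : G → ℂ) z := by
    intro χ
    rw [Finset.mul_sum]
  rw [Finset.sum_congr rfl (fun χ _ => hinner χ),
    ← Finset.sum_add_sum_compl (Finset.univ.image f), Finset.sum_image (fun a _ b _ h => hinj h)]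
  -- the exceptional part
  have hzsum : ∀ θ : ExcIdx H L, ∑ z ∈ A, (f θ : G → ℂ) z
      = ((Nat.card H : ℂ) - 1) * (m₀ : ℂ) - (ε : ℂ) * ((H.subgroupOf L).index : ℂ) := by
    intro θ
    have h1 : ∀ z ∈ A, (f θ : G → ℂ) z = (m₀ : ℂ) + (ε : ℂ) * (θ.1 : L → ℂ) z := by
      intro z hz
      rw [hA, Finset.mem_filter] at hz
      exact hf θ z hz.2.1 hz.2.2
    rw [Finset.sum_congr rfl h1, Finset.sum_add_distrib, Finset.sum_const, ← Finset.mul_sum,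
      exc_sum_H H L hcent hab θ, nsmul_eq_mul, hcardA]
    ring
  have hexc : ∑ θ : ExcIdx H L,
      conj ((f θ : G → ℂ) x * (f θ : G → ℂ) y / (f θ : G → ℂ) 1) * ∑ z ∈ A, (f θ : G → ℂ) z
      = ((Nat.card (ExcIdx H L) : ℂ) * (m₀ : ℂ) ^ 2 - 2 * (ε : ℂ) * (m₀ : ℂ)
          - ((H.subgroupOf L).index : ℂ)) / (x₀ : ℂ)
        * (((Nat.card H : ℂ) - 1) * (m₀ : ℂ) - (ε : ℂ) * ((H.subgroupOf L).index : ℂ)) := by
    have hterm : ∀ θ : ExcIdx H L,
        conj ((f θ : G → ℂ) x * (f θ : G → ℂ) y / (f θ : G → ℂ) 1) * ∑ z ∈ A, (f θ : G → ℂ) z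
        = conj ((m₀ : ℂ) ^ 2 + (ε : ℂ) * (m₀ : ℂ) * (θ.1 : L → ℂ) x
            + (ε : ℂ) * (m₀ : ℂ) * (θ.1 : L → ℂ) y + (θ.1 : L → ℂ) x * (θ.1 : L → ℂ) y)
          * ((((Nat.card H : ℂ) - 1) * (m₀ : ℂ) - (ε : ℂ) * ((H.subgroupOf L).index : ℂ))
            / (x₀ : ℂ)) := by
      intro θ
      rw [hzsum θ, hf θ x hx hx1, hf θ y hy hy1, hd (f θ), hx₀ θ, map_div₀, Complex.conj_natCast]
      have : ((m₀ : ℂ) + (ε : ℂ) * (θ.1 : L → ℂ) x) * ((m₀ : ℂ) + (ε : ℂ) * (θ.1 : L → ℂ) y)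
          = (m₀ : ℂ) ^ 2 + (ε : ℂ) * (m₀ : ℂ) * (θ.1 : L → ℂ) x
            + (ε : ℂ) * (m₀ : ℂ) * (θ.1 : L → ℂ) y + (θ.1 : L → ℂ) x * (θ.1 : L → ℂ) y := by
        linear_combination ((θ.1 : L → ℂ) x * (θ.1 : L → ℂ) y) * hεsq
      rw [this]
      ring
    rw [Finset.sum_congr rfl (fun θ _ => hterm θ), ← Finset.sum_mul, ← map_sum,
      Finset.sum_add_distrib, Finset.sum_add_distrib, Finset.sum_add_distrib, Finset.sum_const,
      ← Finset.mul_sum, ← Finset.mul_sum, hS1x, hS1y, hS2, Finset.card_univ, htc, nsmul_eq_mul]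
    have hc : conj ((Nat.card (ExcIdx H L) : ℂ) * (m₀ : ℂ) ^ 2 + (ε : ℂ) * (m₀ : ℂ) * -1
        + (ε : ℂ) * (m₀ : ℂ) * -1 + -((H.subgroupOf L).index : ℂ))
        = (Nat.card (ExcIdx H L) : ℂ) * (m₀ : ℂ) ^ 2 - 2 * (ε : ℂ) * (m₀ : ℂ)
          - ((H.subgroupOf L).index : ℂ) := by
      simp only [map_add, map_mul, map_neg, map_one, map_pow, map_intCast, map_natCast]
      ring
    rw [hc]
    ring
  -- the non-exceptional part
  have hnon : ∑ χ ∈ (Finset.univ.image f)ᶜ,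
      conj ((χ : G → ℂ) x * (χ : G → ℂ) y / (χ : G → ℂ) 1) * ∑ z ∈ A, (χ : G → ℂ) z
      = ((Nat.card H : ℂ) - 1) * ∑ χ ∈ Nz, ((m χ : ℤ) : ℂ) ^ 3 / (d χ : ℂ) := by
    have hNz' : Nz = (Finset.univ.image f)ᶜ.filter (fun χ => m χ ≠ 0) := by
      ext χ
      rw [hNz, Finset.mem_filter, Finset.mem_compl, hrange]
    rw [hNz', Finset.mul_sum, Finset.sum_filter_of_ne]
    · apply Finset.sum_congr rfl
      intro χ hχ
      rw [Finset.mem_compl, ← hrange] at hχ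
      have h1 : ∀ z ∈ A, (χ : G → ℂ) z = ((m χ : ℤ) : ℂ) := by
        intro z hz
        rw [hA, Finset.mem_filter] at hz
        exact hm χ hχ z hz.2.1 (fun h => hz.2.2 (Subtype.ext h))
      rw [Finset.sum_congr rfl h1, Finset.sum_const, nsmul_eq_mul, hcardA,
        hm χ hχ x hx (fun h => hx1 (Subtype.ext h)), hm χ hχ y hy (fun h => hy1 (Subtype.ext h)),
        hd χ, map_div₀, map_mul, map_intCast, Complex.conj_natCast]
      ring
    · intro χ _ hne h0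
      apply hne
      rw [h0]
      simp
  rw [hexc, hnon]
  have hE1c : (∑ χ ∈ Nz, ((m χ : ℤ) : ℂ) ^ 2) + (Nat.card (ExcIdx H L) : ℂ) * (m₀ : ℂ) ^ 2
      - 2 * (ε : ℂ) * (m₀ : ℂ) = ((H.subgroupOf L).index : ℂ) := by
    exact_mod_cast hE1
  have hE1' : (Nat.card (ExcIdx H L) : ℂ) * (m₀ : ℂ) ^ 2 - 2 * (ε : ℂ) * (m₀ : ℂ)
      - ((H.subgroupOf L).index : ℂ) = -(∑ χ ∈ Nz, ((m χ : ℤ) : ℂ) ^ 2) := by
    linear_combination hE1c
  rw [hE1']
  ring


/-- Congruence for the degree of an exceptional character: `|H|` divides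
`x₀ + (|H| - 1) m₀ - ε [L:H]`. -/
theorem exc_degree_congr [hK : (H.subgroupOf L).Normal]
    (hHL : H ≤ L)
    (hcent : ∀ h ∈ H, h ≠ 1 → ∀ x ∈ L, x * h = h * x → x ∈ H)
    (hab : ∀ a ∈ H, ∀ b ∈ H, a * b = b * a)
    (ε m₀ : ℤ) (x₀ : ℕ) (χ : IrrCharacter G) (θ : ExcIdx H L)
    (hd : (χ : G → ℂ) 1 = (x₀ : ℂ))
    (hf : ∀ x : L, (x : G) ∈ H → x ≠ 1 →
        (χ : G → ℂ) x = (m₀ : ℂ) + (ε : ℂ) * (θ.1 : L → ℂ) x) :
    (Nat.card H : ℤ) ∣ (x₀ : ℤ) + ((Nat.card H : ℤ) - 1) * m₀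
      - ε * ((H.subgroupOf L).index : ℤ) := by
  classical
  have hχL : IsCharacter L (fun l : L => (χ : G → ℂ) l) :=
    IsCharacter.restrict (IsIrrCharacter.isCharacter χ.2) L
  obtain ⟨n, hn⟩ := Cfsg.Agent.Lib.Helper25.sum_char_subgroup hχL (H.subgroupOf L)
  have hcardK : Nat.card (H.subgroupOf L) = Nat.card H :=
    Nat.card_congr (Subgroup.subgroupOfEquivOfLe hHL).toEquiv
  rw [hcardK] at hn
  have hcardA := card_filter_H H L hHL
  set A := Finset.univ.filter (fun z : L => (z : G) ∈ H ∧ z ≠ 1) with hA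
  have h1 : ∑ z : H.subgroupOf L, (χ : G → ℂ) ((z : L) : G)
      = ∑ z ∈ Finset.univ.filter (fun z : L => (z : G) ∈ H), (χ : G → ℂ) (z : G) := by
    symm
    apply Finset.sum_subtype
    intro z
    rw [Finset.mem_filter, Subgroup.mem_subgroupOf]
    simp
  have h2 : Finset.univ.filter (fun z : L => (z : G) ∈ H) = insert 1 A := by
    ext z
    rw [Finset.mem_insert, hA, Finset.mem_filter, Finset.mem_filter]
    constructor
    · intro hz
      by_cases hz1 : z = 1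
      · exact Or.inl hz1
      · exact Or.inr ⟨Finset.mem_univ _, hz.2, hz1⟩
    · rintro (rfl | hz)
      · exact ⟨Finset.mem_univ _, H.one_mem⟩
      · exact ⟨Finset.mem_univ _, hz.2.1⟩
  have h3 : (1 : L) ∉ A := by
    rw [hA, Finset.mem_filter]
    exact fun h => h.2.2 rfl
  have h4 : ∑ z ∈ A, (χ : G → ℂ) (z : G)
      = ((Nat.card H : ℂ) - 1) * (m₀ : ℂ) - (ε : ℂ) * ((H.subgroupOf L).index : ℂ) := by
    have h5 : ∀ z ∈ A, (χ : G → ℂ) z = (m₀ : ℂ) + (ε : ℂ) * (θ.1 : L → ℂ) z := by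
      intro z hz
      rw [hA, Finset.mem_filter] at hz
      exact hf z hz.2.1 hz.2.2
    rw [Finset.sum_congr rfl h5, Finset.sum_add_distrib, Finset.sum_const, ← Finset.mul_sum,
      exc_sum_H H L hcent hab θ, nsmul_eq_mul, hcardA]
    ring
  rw [h1, h2, Finset.sum_insert h3, h4] at hn
  have h6 : (χ : G → ℂ) ((1 : L) : G) = (x₀ : ℂ) := by
    rw [Subgroup.coe_one]
    exact hd
  rw [h6] at hn
  have h7 : (x₀ : ℤ) + ((Nat.card H : ℤ) - 1) * m₀ - ε * ((H.subgroupOf L).index : ℤ)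
      = (Nat.card H : ℤ) * (n : ℤ) := by
    have : ((x₀ : ℤ) : ℂ) + (((Nat.card H : ℤ) : ℂ) - 1) * (m₀ : ℂ)
        - (ε : ℂ) * (((H.subgroupOf L).index : ℤ) : ℂ) = ((Nat.card H : ℤ) : ℂ) * ((n : ℤ) : ℂ) := by
      push_cast
      linear_combination hn
    exact_mod_cast this
  exact ⟨n, h7⟩

end Cfsg.Agent.Lib.Helper11.S3341K
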