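import Cfsg.Agent.Lib.Helper11.S3341K
import Cfsg.Agent.Lib.Helper7.PairCount2
import Cfsg.Agent.Lib.Helper11.ExcPrime
import Cfsg.Agent.Lib.Helper29.S3341A
import Cfsg.Agent.Lib.Helper25.S3341Pairs
import Cfsg.Agent.Lib.Helper12.S3341FO3
import Cfsg.Agent.Lib.Helper19.S3341ArithB

/-!
# S3341: a simple group with a self-centralising elementary abelian Sylow 3-subgroup of order 9 and
at least two classes of elements of order 3 has order 360.
-/

set_option autoImplicit false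

namespace Cfsg.Agent.Lib.Helper11.S3341M

open Cfsg
open Cfsg.Agent.Lib.Helper2
open Cfsg.Agent.Lib.Helper11
open Cfsg.Agent.S1522
open scoped ComplexConjugate

/-- A finite family of nonzero integers whose squares sum to `1`. -/
theorem finset_sum_sq_eq_one {ι : Type*} [DecidableEq ι] (s : Finset ι) (m : ι → ℤ)
    (hm : ∀ i ∈ s, m i ≠ 0) (h : ∑ i ∈ s, m i ^ 2 = 1) :
    ∃ a, s = {a} ∧ (m a = 1 ∨ m a = -1) := by
  have h1 : ∀ i ∈ s, m i ^ 2 = 1 := by
    intro i hi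
    have hle : m i ^ 2 ≤ 1 := by
      rw [← h]
      exact Finset.single_le_sum (f := fun j => m j ^ 2) (fun j _ => sq_nonneg (m j)) hi
    have hne := hm i hi
    have hpos : 0 < m i ^ 2 := by positivity
    omega
  have hcard : s.card = 1 := by
    have : ∑ i ∈ s, m i ^ 2 = ∑ i ∈ s, (1 : ℤ) := Finset.sum_congr rfl h1
    rw [h, Finset.sum_const, nsmul_eq_mul, mul_one] at this
    exact_mod_cast this.symm
  obtain ⟨a, ha⟩ := Finset.card_eq_one.1 hcard
  refine ⟨a, ha, ?_⟩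
  have h2 := h1 a (by rw [ha]; exact Finset.mem_singleton_self a)
  have h3 : (m a - 1) * (m a + 1) = 0 := by linear_combination h2
  rcases mul_eq_zero.1 h3 with h | h
  · left; linarith
  · right; linarith

/-- A finite family of nonzero integers whose squares sum to `3`. -/
theorem finset_sum_sq_eq_three {ι : Type*} [DecidableEq ι] (s : Finset ι) (m : ι → ℤ)
    (hm : ∀ i ∈ s, m i ≠ 0) (h : ∑ i ∈ s, m i ^ 2 = 3) :
    ∃ a b c, a ≠ b ∧ a ≠ c ∧ b ≠ c ∧ s = {a, b, c} ∧ (m a = 1 ∨ m a = -1) ∧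
      (m b = 1 ∨ m b = -1) ∧ (m c = 1 ∨ m c = -1) := by
  have h1 : ∀ i ∈ s, m i ^ 2 = 1 := by
    intro i hi
    have hle : m i ^ 2 ≤ 3 := by
      rw [← h]
      exact Finset.single_le_sum (f := fun j => m j ^ 2) (fun j _ => sq_nonneg (m j)) hi
    have hne := hm i hi
    have hlt : -2 < m i ∧ m i < 2 := by constructor <;> nlinarith
    obtain ⟨k, hk⟩ : ∃ k, m i = k := ⟨_, rfl⟩
    rw [hk] at hlt hne ⊢
    obtain ⟨h2, h3⟩ := hlt
    interval_cases k <;> simp_all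
  have hpm : ∀ i ∈ s, m i = 1 ∨ m i = -1 := by
    intro i hi
    have h2 := h1 i hi
    have h3 : (m i - 1) * (m i + 1) = 0 := by linear_combination h2
    rcases mul_eq_zero.1 h3 with h | h
    · left; linarith
    · right; linarith
  have hcard : s.card = 3 := by
    have : ∑ i ∈ s, m i ^ 2 = ∑ i ∈ s, (1 : ℤ) := Finset.sum_congr rfl h1
    rw [h, Finset.sum_const, nsmul_eq_mul, mul_one] at this
    exact_mod_cast this.symm
  obtain ⟨a, b, c, hab, hac, hbc, hs⟩ := Finset.card_eq_three.1 hcard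
  refine ⟨a, b, c, hab, hac, hbc, hs, hpm a ?_, hpm b ?_, hpm c ?_⟩ <;> rw [hs] <;> simp


theorem sum_four {ι α : Type*} [DecidableEq ι] [AddCommMonoid α] (s : Finset ι) (T a b c : ι)
    (hT : T ∈ s) (hs : s.erase T = {a, b, c}) (hab : a ≠ b) (hac : a ≠ c) (hbc : b ≠ c)
    (F : ι → α) : ∑ i ∈ s, F i = F T + (F a + (F b + F c)) := by
  rw [← Finset.add_sum_erase s F hT, hs, Finset.sum_insert, Finset.sum_insert,
    Finset.sum_singleton]
  · simp [hbc]
  · simp [hab, hac]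

theorem sum_two {ι α : Type*} [DecidableEq ι] [AddCommMonoid α] (s : Finset ι) (T a : ι)
    (hT : T ∈ s) (hs : s.erase T = {a}) (F : ι → α) : ∑ i ∈ s, F i = F T + F a := by
  rw [← Finset.add_sum_erase s F hT, hs, Finset.sum_singleton]

theorem m0_cases_four (ε m₀ s : ℤ) (hε : ε = 1 ∨ ε = -1) (hs : 0 ≤ s)
    (h : 1 + s + 2 * m₀ ^ 2 - 2 * ε * m₀ = 4) : (m₀ = 0 ∨ m₀ = ε) ∧ s = 3 := by
  rcases hε with h' | h'
  · subst h'
    have h1 : -2 < m₀ := by nlinarith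
    have h2 : m₀ < 3 := by nlinarith
    interval_cases m₀ <;> first | omega | (constructor <;> omega)
  · subst h'
    have h1 : -3 < m₀ := by nlinarith
    have h2 : m₀ < 2 := by nlinarith
    interval_cases m₀ <;> first | omega | (constructor <;> omega)

theorem m0_cases_two (ε m₀ s : ℤ) (hε : ε = 1 ∨ ε = -1) (hs : 0 ≤ s)
    (h : 1 + s + 4 * m₀ ^ 2 - 2 * ε * m₀ = 2) : m₀ = 0 ∧ s = 1 := by
  rcases hε with h' | h'
  · subst h'
    have h1 : -2 < m₀ := by nlinarith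
    have h2 : m₀ < 2 := by nlinarith
    interval_cases m₀ <;> omega
  · subst h'
    have h1 : -2 < m₀ := by nlinarith
    have h2 : m₀ < 2 := by nlinarith
    interval_cases m₀ <;> omega

section Main

variable {G : Type*} [Group G] [Finite G]


/-- Fibre decomposition of the pair count over the products in `H ∖ 1`. -/
theorem sum_card_pairs [Fintype G] [DecidableEq G] (H : Subgroup G) (x y : G)
    [DecidablePred (fun z : G => z ∈ H ∧ z ≠ 1)] :
    ∑ z ∈ Finset.univ.filter (fun z : G => z ∈ H ∧ z ≠ 1),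
      Nat.card {p : G × G // IsConj x p.1 ∧ IsConj y p.2 ∧ p.1 * p.2 = z}
    = Nat.card {p : G × G // IsConj x p.1 ∧ IsConj y p.2 ∧ p.1 * p.2 ∈ H ∧ p.1 * p.2 ≠ 1} := by
  classical
  rw [Nat.card_eq_fintype_card, Fintype.card_subtype]
  rw [Finset.card_eq_sum_card_fiberwise (f := fun p : G × G => p.1 * p.2)
    (t := Finset.univ.filter (fun z : G => z ∈ H ∧ z ≠ 1))]
  · apply Finset.sum_congr rfl
    intro z hz
    rw [Nat.card_eq_fintype_card, Fintype.card_subtype, Finset.filter_filter]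
    congr 1
    ext p
    simp only [Finset.mem_filter, Finset.mem_univ, true_and]
    rw [Finset.mem_filter] at hz
    constructor
    · rintro ⟨h1, h2, h3⟩
      exact ⟨⟨h1, h2, by rw [h3]; exact hz.2⟩, h3⟩
    · rintro ⟨⟨h1, h2, -⟩, h3⟩
      exact ⟨h1, h2, h3⟩
  · intro p hp
    rw [Finset.mem_coe, Finset.mem_filter] at hp
    rw [Finset.mem_coe, Finset.mem_filter]
    exact ⟨Finset.mem_univ _, hp.2.2.2⟩


/-- The order of the group. -/
theorem card_eq [IsSimpleGroup G] (P : Sylow 3 G)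
    (hcomm : ∀ a ∈ (P : Subgroup G), ∀ b ∈ (P : Subgroup G), a * b = b * a)
    (hexp : ∀ a ∈ (P : Subgroup G), a ^ 3 = 1)
    (hcard : Nat.card (P : Subgroup G) = 9)
    (hcent : ∀ s ∈ (P : Subgroup G), s ≠ 1 → Subgroup.centralizer ({s} : Set G) = (P : Subgroup G))
    (hclasses : ∃ a b : G, orderOf a = 3 ∧ orderOf b = 3 ∧ ∀ g : G, g * a * g⁻¹ ≠ b) :
    Nat.card G = 360 := by
  classical
  haveI : Fintype G := Fintype.ofFinite G
  set H : Subgroup G := (P : Subgroup G) with hH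
  set L : Subgroup G := Subgroup.normalizer (H : Set G) with hL
  haveI : Fintype L := Fintype.ofFinite _
  haveI : Fintype (IrrCharacter G) := Fintype.ofFinite _
  haveI : Fintype (ExcIdx H L) := Fintype.ofFinite _
  have hHL : H ≤ L := Subgroup.le_normalizer
  have hHn : ∀ x ∈ L, ∀ h ∈ H, x * h * x⁻¹ ∈ H :=
    fun x hx h hh => ((Subgroup.mem_normalizer_iff.1 hx) h).1 hh
  have hcentL : ∀ h ∈ H, h ≠ 1 → ∀ x ∈ L, x * h = h * x → x ∈ H := by
    intro h hh h1 x _ hx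
    rw [← hcent h hh h1, Subgroup.mem_centralizer_singleton_iff]
    exact hx
  have hTI : IsTISubset (H : Set G) := by
    intro g hg x hx hgx
    by_contra hx1
    exact hg (Cfsg.Agent.Lib.Helper12.S3341FO3.fusion P hcomm hcard hcent x hx hx1 g hgx)
  haveI hKn : (H.subgroupOf L).Normal := subgroupOf_normal_of_conj H L hHn
  set e := (H.subgroupOf L).index with he
  have he24 : e = 2 ∨ e = 4 := Cfsg.Agent.Lib.Helper12.S3341FO3.index_two_or_four P hcomm hexp hcard hcent hclasses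
  have hcount := exc_card_mul H L hHL hcentL hcomm
  rw [hcard, ← he] at hcount
  have htc : Fintype.card (ExcIdx H L) = Nat.card (ExcIdx H L) := Nat.card_eq_fintype_card.symm
  rw [htc] at hcount
  have ht : 2 ≤ Nat.card (ExcIdx H L) := by
    rcases he24 with h | h <;> rw [h] at hcount <;> omega
  obtain ⟨ε, m₀, x₀, f, Nz, m, d, hε, hinj, hd, hx₀, htriv, hmtriv, hNz, hm, hdvd, hf, -, hE1, hE2,
    -⟩ := exc_degree_main2 H L hHn hcentL hTI rfl hcomm ht
  rw [← he] at hE1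
  rw [hcard] at hdvd
  -- the two non-conjugate elements
  obtain ⟨x, y, hx, hy, hx1, hy1, hxy⟩ := Cfsg.Agent.Lib.Helper12.S3341FO3.exists_nonconj P hcard hclasses
  have heven : Even e := by
    rcases he24 with h | h <;> rw [h] <;> decide
  have hreal : IsConj y y⁻¹ := Cfsg.Agent.Lib.Helper12.S3341FO3.isConj_inv P hcomm hcard hcent heven y hy
  have hxy' : ¬ IsConj x y⁻¹ := fun h => hxy (h.trans hreal.symm)
  have hxyL : ¬ IsConj (⟨x, hHL hx⟩ : L) (⟨y, hHL hy⟩ : L)⁻¹ := by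
    intro h
    apply hxy'
    obtain ⟨c, hc⟩ := isConj_iff.1 h
    apply isConj_iff.2
    refine ⟨(c : G), ?_⟩
    have := congrArg (Subtype.val : L → G) hc
    simpa using this
  have hKI := S3341K.key_identity H L hHL hcentL hcomm ε m₀ x₀ f Nz m d hε hinj hd hx₀ hNz hm hf
    hE1 ⟨x, hHL hx⟩ ⟨y, hHL hy⟩ hx (fun h => hx1 (by simpa using congrArg Subtype.val h)) hy
    (fun h => hy1 (by simpa using congrArg Subtype.val h)) hxyL
  rw [hcard] at hKI
  -- class-algebra constants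
  have hCx : Nat.card (Subgroup.centralizer ({x} : Set G)) = 9 := by rw [hcent x hx hx1, hcard]
  have hCy : Nat.card (Subgroup.centralizer ({y} : Set G)) = 9 := by rw [hcent y hy hy1, hcard]
  have hcf : ∀ z : G, (81 : ℂ)
      * (Nat.card {p : G × G // IsConj x p.1 ∧ IsConj y p.2 ∧ p.1 * p.2 = z} : ℂ)
      = (Nat.card G : ℂ) * ∑ χ : IrrCharacter G,
        conj ((χ : G → ℂ) x * (χ : G → ℂ) y / (χ : G → ℂ) 1) * (χ : G → ℂ) z := by
    intro z
    rw [← Cfsg.Agent.Lib.Helper7.card_centralizer_mul_card_pairs2 x y z, hCx, hCy]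
    norm_num
  have hpairs := Cfsg.Agent.Lib.Helper25.S3341.card_pairs P hcomm hexp hcard hcent x y hx hx1 hy hy1 hxy hxy'
  rw [← hH, ← hL, ← he, ← sum_card_pairs H x y] at hpairs
  -- transport the sum from `L` to `G`
  have himage : (Finset.univ.filter (fun z : L => (z : G) ∈ H ∧ z ≠ 1)).image Subtype.val
      = Finset.univ.filter (fun z : G => z ∈ H ∧ z ≠ 1) := by
    ext z
    simp only [Finset.mem_image, Finset.mem_filter, Finset.mem_univ, true_and]
    constructor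
    · rintro ⟨w, ⟨hw, hw1⟩, rfl⟩
      exact ⟨hw, fun h => hw1 (Subtype.ext h)⟩
    · rintro ⟨hz, hz1⟩
      exact ⟨⟨z, hHL hz⟩, ⟨hz, fun h => hz1 (by simpa using congrArg Subtype.val h)⟩, rfl⟩
  have hC : (81 : ℂ) * ((e : ℂ) * (e : ℂ)) = (Nat.card G : ℂ)
      * (((9 : ℕ) : ℂ) - 1) * ∑ χ ∈ Nz, ((m χ : ℤ) : ℂ) ^ 3 / (d χ : ℂ)
      - (Nat.card G : ℂ) * ((((9 : ℕ) : ℂ) - 1) * (m₀ : ℂ) - (ε : ℂ) * (e : ℂ))
        * (∑ χ ∈ Nz, ((m χ : ℤ) : ℂ) ^ 2) / (x₀ : ℂ) := by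
    have h1 : ((e * e : ℕ) : ℂ) = ∑ z ∈ Finset.univ.filter (fun z : G => z ∈ H ∧ z ≠ 1),
        (Nat.card {p : G × G // IsConj x p.1 ∧ IsConj y p.2 ∧ p.1 * p.2 = z} : ℂ) := by
      rw [← hpairs]
      push_cast
      rfl
    have h2 : (81 : ℂ) * ((e : ℂ) * (e : ℂ)) = (Nat.card G : ℂ)
        * ∑ z ∈ Finset.univ.filter (fun z : L => (z : G) ∈ H ∧ z ≠ 1),
          ∑ χ : IrrCharacter G,
            conj ((χ : G → ℂ) x * (χ : G → ℂ) y / (χ : G → ℂ) 1) * (χ : G → ℂ) z := by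
      have : ((e : ℂ) * (e : ℂ)) = ((e * e : ℕ) : ℂ) := by push_cast; ring
      rw [this, h1, Finset.mul_sum, Finset.sum_congr rfl (fun z _ => hcf z), ← Finset.mul_sum,
        ← himage, Finset.sum_image (fun a _ b _ h => Subtype.ext h)]
    rw [h2, hKI]
    ring
  -- general facts
  have hna : ¬ ∀ a b : G, a * b = b * a := by
    intro hab
    have h1 : Subgroup.centralizer ({x} : Set G) = ⊤ := by
      ext g
      simp [Subgroup.mem_centralizer_singleton_iff, hab g x]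
    rw [hcent x hx hx1] at h1
    have h2 : H.subgroupOf L = ⊤ := by
      rw [Subgroup.subgroupOf_eq_top, h1]
      exact le_top
    have h3 : e = 1 := by rw [he, h2, Subgroup.index_top]
    rcases he24 with h | h <;> omega
  have hdpos : ∀ χ : IrrCharacter G, 0 < d χ := by
    intro χ
    obtain ⟨n, hn, h1⟩ := IsIrrCharacter.apply_one χ.2
    rw [hd χ] at h1
    have : d χ = n := by exact_mod_cast h1
    omega
  have hTmem : trivialIrr G ∈ Nz := (hNz _).2 ⟨htriv, by rw [hmtriv]; exact one_ne_zero⟩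
  have hdT : d (trivialIrr G) = 1 := by
    have h0 := hd (trivialIrr G)
    have h1 : (trivialIrr G : G → ℂ) 1 = 1 := rfl
    rw [h1] at h0
    exact_mod_cast h0.symm
  have hd2 : ∀ χ : IrrCharacter G, χ ≠ trivialIrr G → 2 ≤ d χ := by
    intro χ hχ
    by_contra h
    have h1 : d χ = 1 := by
      have := hdpos χ
      omega
    exact hχ (eq_trivialIrr_of_degree_one hna χ (by rw [hd χ, h1]; simp))
  obtain ⟨θ₀⟩ : Nonempty (ExcIdx H L) := by
    by_contra hemp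
    rw [not_nonempty_iff] at hemp
    rw [Nat.card_of_isEmpty] at ht
    omega
  have hx₀2 : 2 ≤ x₀ := by
    rw [← hx₀ θ₀]
    apply hd2
    intro h
    exact htriv ⟨θ₀, h⟩
  have hx9 : (9 : ℤ) ∣ (x₀ : ℤ) + 8 * m₀ - ε * (e : ℤ) := by
    have h0 := S3341K.exc_degree_congr H L hHL hcentL hcomm ε m₀ x₀ (f θ₀) θ₀
      (by rw [hd, hx₀]) (hf θ₀)
    rw [hcard, ← he] at h0
    have h1 : (x₀ : ℤ) + (((9 : ℕ) : ℤ) - 1) * m₀ - ε * (e : ℤ)
        = (x₀ : ℤ) + 8 * m₀ - ε * (e : ℤ) := by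
      push_cast
      ring
    rw [h1] at h0
    exact h0
  -- sum of squares of degrees
  have hsq : ∑ χ ∈ Nz, d χ ^ 2 + Nat.card (ExcIdx H L) * x₀ ^ 2 ≤ Nat.card G := by
    have h0 := sum_irr_degree_sq (G := G)
    have h1 : ∑ χ : IrrCharacter G, d χ ^ 2 = Nat.card G := by
      have : ((∑ χ : IrrCharacter G, d χ ^ 2 : ℕ) : ℂ) = (Nat.card G : ℂ) := by
        rw [← h0]
        push_cast
        apply Finset.sum_congr rfl
        intro χ _
        rw [hd χ]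
      exact_mod_cast this
    have hdisj : Disjoint Nz (Finset.univ.image f) := by
      rw [Finset.disjoint_left]
      intro χ hχ hχ'
      obtain ⟨θ, -, rfl⟩ := Finset.mem_image.1 hχ'
      exact ((hNz _).1 hχ).1 ⟨θ, rfl⟩
    have h2 : ∑ χ ∈ Finset.univ.image f, d χ ^ 2 = Nat.card (ExcIdx H L) * x₀ ^ 2 := by
      rw [Finset.sum_image (fun a _ b _ h => hinj h)]
      rw [Finset.sum_congr rfl (fun θ _ => by rw [hx₀ θ]), Finset.sum_const, Finset.card_univ,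
        htc, smul_eq_mul]
    rw [← h1, ← h2, ← Finset.sum_union hdisj]
    exact Finset.sum_le_sum_of_subset (Finset.subset_univ _)
  have hmNz : ∀ χ ∈ Nz.erase (trivialIrr G), m χ ≠ 0 := by
    intro χ hχ
    exact ((hNz χ).1 (Finset.mem_of_mem_erase hχ)).2
  have hsplit : ∑ χ ∈ Nz, m χ ^ 2 = 1 + ∑ χ ∈ Nz.erase (trivialIrr G), m χ ^ 2 := by
    rw [← Finset.add_sum_erase Nz _ hTmem, hmtriv]
    norm_num
  have hsnn : 0 ≤ ∑ χ ∈ Nz.erase (trivialIrr G), m χ ^ 2 :=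
    Finset.sum_nonneg (fun χ _ => sq_nonneg (m χ))
  have hnonexc : ∀ χ ∈ Nz.erase (trivialIrr G),
      χ ∉ Set.range f ∧ χ ≠ trivialIrr G := by
    intro χ hχ
    exact ⟨((hNz χ).1 (Finset.mem_of_mem_erase hχ)).1, Finset.ne_of_mem_erase hχ⟩
  rcases he24 with he2 | he4
  · -- e = 2
    exfalso
    have ht4 : Nat.card (ExcIdx H L) = 4 := by rw [he2] at hcount; omega
    rw [ht4, he2, hsplit] at hE1
    push_cast at hE1
    obtain ⟨hm₀, hs1⟩ := m0_cases_two ε m₀ _ hε hsnn hE1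
    obtain ⟨a, hsa, hma⟩ := finset_sum_sq_eq_one _ m hmNz hs1
    have haN := hnonexc a (by rw [hsa]; exact Finset.mem_singleton_self a)
    have hda := hdvd a haN.1
    have hda2 := hd2 a haN.2
    rw [sum_two Nz _ a hTmem hsa, hmtriv, hdT, ht4, hm₀] at hE2
    rw [sum_two Nz _ a hTmem hsa, sum_two Nz _ a hTmem hsa, hmtriv, hdT, hm₀, he2] at hC
    rw [sum_two Nz _ a hTmem hsa, hdT, ht4] at hsq
    have hma3 : ((m a : ℤ) : ℂ) ^ 3 = ((m a : ℤ) : ℂ) := by
      rcases hma with h | h <;> rw [h] <;> norm_num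
    have hma2 : ((m a : ℤ) : ℂ) ^ 2 = 1 := by
      rcases hma with h | h <;> rw [h] <;> norm_num
    rw [hma3, hma2] at hC
    have hda0 : (d a : ℂ) ≠ 0 := by
      have := hdpos a
      exact_mod_cast this.ne'
    have hx0 : (x₀ : ℂ) ≠ 0 := by
      have : x₀ ≠ 0 := by omega
      exact_mod_cast this
    have hA : ((m a : ℤ) : ℂ) / (d a : ℂ) * (d a : ℂ) = ((m a : ℤ) : ℂ) := div_mul_cancel₀ _ hda0
    have hX : (1 : ℂ) / (x₀ : ℂ) * (x₀ : ℂ) = 1 := div_mul_cancel₀ _ hx0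
    have hmainC : (Nat.card G : ℂ) * (2 * (d a : ℂ) * (x₀ : ℂ) + 2 * ((m a : ℤ) : ℂ) * (x₀ : ℂ)
        + (ε : ℂ) * (d a : ℂ)) = 81 * ((d a : ℂ) * (x₀ : ℂ)) := by
      push_cast at hC
      linear_combination (-((d a : ℂ) * (x₀ : ℂ)) / 4) * hC
        - (2 * (Nat.card G : ℂ) * (x₀ : ℂ)) * hA
        - ((Nat.card G : ℂ) * (ε : ℂ) * (d a : ℂ)) * hX
    have hmain : (Nat.card G : ℤ) * (2 * (d a : ℤ) * x₀ + 2 * m a * x₀ + ε * d a)
        = 81 * ((d a : ℤ) * x₀) := by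
      exact_mod_cast hmainC
    refine Cfsg.Agent.Lib.Helper19.S3341.arith_two (m a) ε (d a) x₀ (Nat.card G) hma hε hda hda2 hx₀2 ?_ ?_ hmain
    · push_cast at hE2
      linarith
    · calc 1 + d a ^ 2 + 4 * x₀ ^ 2 = 1 ^ 2 + d a ^ 2 + 4 * x₀ ^ 2 := by norm_num
        _ ≤ Nat.card G := hsq
  · -- e = 4
    have ht2 : Nat.card (ExcIdx H L) = 2 := by rw [he4] at hcount; omega
    rw [ht2, he4, hsplit] at hE1
    push_cast at hE1
    obtain ⟨hm₀, hs3⟩ := m0_cases_four ε m₀ _ hε hsnn hE1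
    obtain ⟨a, b, c, hab, hac, hbc, hsabc, hma, hmb, hmc⟩ := finset_sum_sq_eq_three _ m hmNz hs3
    have haN := hnonexc a (by rw [hsabc]; simp)
    have hbN := hnonexc b (by rw [hsabc]; simp)
    have hcN := hnonexc c (by rw [hsabc]; simp)
    have hda := hdvd a haN.1
    have hdb := hdvd b hbN.1
    have hdc := hdvd c hcN.1
    have hda2 := hd2 a haN.2
    have hdb2 := hd2 b hbN.2
    have hdc2 := hd2 c hcN.2
    rw [sum_four Nz _ a b c hTmem hsabc hab hac hbc, hmtriv, hdT, ht2] at hE2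
    rw [sum_four Nz _ a b c hTmem hsabc hab hac hbc, sum_four Nz _ a b c hTmem hsabc hab hac hbc,
      hmtriv, hdT, he4] at hC
    rw [sum_four Nz _ a b c hTmem hsabc hab hac hbc, hdT, ht2] at hsq
    have hcube : ∀ k : ℤ, (k = 1 ∨ k = -1) → ((k : ℤ) : ℂ) ^ 3 = ((k : ℤ) : ℂ) := by
      intro k hk
      rcases hk with h | h <;> rw [h] <;> norm_num
    have hsqr : ∀ k : ℤ, (k = 1 ∨ k = -1) → ((k : ℤ) : ℂ) ^ 2 = 1 := by
      intro k hk
      rcases hk with h | h <;> rw [h] <;> norm_num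
    rw [hcube _ hma, hcube _ hmb, hcube _ hmc, hsqr _ hma, hsqr _ hmb, hsqr _ hmc] at hC
    have hda0 : (d a : ℂ) ≠ 0 := by
      have := hdpos a
      exact_mod_cast this.ne'
    have hdb0 : (d b : ℂ) ≠ 0 := by
      have := hdpos b
      exact_mod_cast this.ne'
    have hdc0 : (d c : ℂ) ≠ 0 := by
      have := hdpos c
      exact_mod_cast this.ne'
    have hx0 : (x₀ : ℂ) ≠ 0 := by
      have : x₀ ≠ 0 := by omega
      exact_mod_cast this
    have hA : ((m a : ℤ) : ℂ) / (d a : ℂ) * (d a : ℂ) = ((m a : ℤ) : ℂ) := div_mul_cancel₀ _ hda0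
    have hB : ((m b : ℤ) : ℂ) / (d b : ℂ) * (d b : ℂ) = ((m b : ℤ) : ℂ) := div_mul_cancel₀ _ hdb0
    have hCc : ((m c : ℤ) : ℂ) / (d c : ℂ) * (d c : ℂ) = ((m c : ℤ) : ℂ) := div_mul_cancel₀ _ hdc0
    have hX : (1 : ℂ) / (x₀ : ℂ) * (x₀ : ℂ) = 1 := div_mul_cancel₀ _ hx0
    have hmainC : (Nat.card G : ℂ) * ((d a : ℂ) * (d b : ℂ) * (d c : ℂ) * (x₀ : ℂ)
        + ((m a : ℤ) : ℂ) * (d b : ℂ) * (d c : ℂ) * (x₀ : ℂ)
        + ((m b : ℤ) : ℂ) * (d a : ℂ) * (d c : ℂ) * (x₀ : ℂ)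
        + ((m c : ℤ) : ℂ) * (d a : ℂ) * (d b : ℂ) * (x₀ : ℂ)
        + 2 * ((ε : ℂ) - 2 * (m₀ : ℂ)) * (d a : ℂ) * (d b : ℂ) * (d c : ℂ))
        = 162 * ((d a : ℂ) * (d b : ℂ) * (d c : ℂ) * (x₀ : ℂ)) := by
      push_cast at hC
      linear_combination (-((d a : ℂ) * (d b : ℂ) * (d c : ℂ) * (x₀ : ℂ)) / 8) * hC
        - ((Nat.card G : ℂ) * (d b : ℂ) * (d c : ℂ) * (x₀ : ℂ)) * hA
        - ((Nat.card G : ℂ) * (d a : ℂ) * (d c : ℂ) * (x₀ : ℂ)) * hB
        - ((Nat.card G : ℂ) * (d a : ℂ) * (d b : ℂ) * (x₀ : ℂ)) * hCc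
        + ((Nat.card G : ℂ) / 2 * (8 * (m₀ : ℂ) - 4 * (ε : ℂ)) * (d a : ℂ) * (d b : ℂ)
          * (d c : ℂ)) * hX
    have hmain : (Nat.card G : ℤ) * ((d a : ℤ) * d b * d c * x₀ + m a * d b * d c * x₀
        + m b * d a * d c * x₀ + m c * d a * d b * x₀ + 2 * (ε - 2 * m₀) * d a * d b * d c)
        = 162 * ((d a : ℤ) * d b * d c * x₀) := by
      exact_mod_cast hmainC
    have hε' : ε - 2 * m₀ = 1 ∨ ε - 2 * m₀ = -1 := by
      rcases hm₀ with h | h <;> rcases hε with h' | h' <;> rw [h] <;> rw [h'] <;> norm_num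
    refine Cfsg.Agent.Lib.Helper19.S3341.arith_four (m a) (m b) (m c) (ε - 2 * m₀) (d a) (d b) (d c) x₀ (Nat.card G)
      hma hmb hmc hε' hda hdb hdc hda2 hdb2 hdc2 hx₀2 ?_ ?_ ?_ hmain
    · rw [he4] at hx9
      have : (x₀ : ℤ) - 4 * (ε - 2 * m₀) = (x₀ : ℤ) + 8 * m₀ - ε * ((4 : ℕ) : ℤ) := by
        push_cast
        ring
      rw [this]
      exact hx9
    · push_cast at hE2
      linarith
    · calc 1 + d a ^ 2 + d b ^ 2 + d c ^ 2 + 2 * x₀ ^ 2
          = 1 ^ 2 + (d a ^ 2 + (d b ^ 2 + d c ^ 2)) + 2 * x₀ ^ 2 := by ring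
        _ ≤ Nat.card G := hsq

end Main

end Cfsg.Agent.Lib.Helper11.S3341M
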