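import Cfsg.Agent.Lib.Helper24.S4427Defs
import Cfsg.Agent.Lib.Helper24.GroupAlgForm

/-!
# S4427-[D1] (helper24's Brauer front): the trace of `x ↦ u x v` on `ℂ[G]` (helper11)
-/

set_option autoImplicit false

namespace Cfsg.Agent.Lib.Helper24.S4427

open Module Cfsg.Agent.Lib.Helper24.GroupAlgForm

section D
variable {G : Type*} [Group G] [Fintype G]

/-- [D1] the trace of `x ↦ u x v` on `ℂ[G]` -/
theorem trace_mulLeft_mulRight (u v : MonoidAlgebra ℂ G) :
    LinearMap.trace ℂ (MonoidAlgebra ℂ G) (LinearMap.mulLeft ℂ u ∘ₗ LinearMap.mulRight ℂ v)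
      = ∑ h : G, ∑ w : G, u.coeff w * v.coeff (h⁻¹ * w⁻¹ * h) := by
  classical
  rw [LinearMap.trace_eq_matrix_trace ℂ (MonoidAlgebra.basis G ℂ), Matrix.trace]
  refine Finset.sum_congr rfl fun g _ => ?_
  rw [Matrix.diag_apply, LinearMap.toMatrix_apply, MonoidAlgebra.basis_apply]
  show (u * (MonoidAlgebra.single g 1 * v)).coeff g = _
  rw [coeff_mul_eq_sum]
  refine Finset.sum_congr rfl fun w _ => ?_
  rw [MonoidAlgebra.coeff_single_mul_apply, one_mul, mul_assoc]

/-- [D1] for idempotents `e`, `f` the trace of `x ↦ e x f` is the dimension of `e ℂ[G] f` -/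
theorem finrank_range_mulLeft_mulRight (e f : MonoidAlgebra ℂ G) (he : IsIdempotentElem e)
    (hf : IsIdempotentElem f) :
    (Module.finrank ℂ (LinearMap.range (LinearMap.mulLeft ℂ e ∘ₗ LinearMap.mulRight ℂ f)) : ℂ)
      = ∑ h : G, ∑ w : G, e.coeff w * f.coeff (h⁻¹ * w⁻¹ * h) := by
  classical
  have hproj : LinearMap.IsProj
      (LinearMap.range (LinearMap.mulLeft ℂ e ∘ₗ LinearMap.mulRight ℂ f))
      (LinearMap.mulLeft ℂ e ∘ₗ LinearMap.mulRight ℂ f) := by
    refine ⟨fun x => LinearMap.mem_range_self _ x, ?_⟩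
    rintro _ ⟨y, rfl⟩
    simp only [LinearMap.comp_apply, LinearMap.mulRight_apply, LinearMap.mulLeft_apply]
    calc e * (e * (y * f) * f) = (e * e) * y * (f * f) := by simp only [mul_assoc]
      _ = e * (y * f) := by rw [he.eq, hf.eq, mul_assoc]
  rw [← hproj.trace, trace_mulLeft_mulRight]

end D

end Cfsg.Agent.Lib.Helper24.S4427
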