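import Cfsg.Agent.Lib.Helper24.S4427Defs

/-!
# S4427-[D2] (helper24's Brauer front): the double sum for two subgroups of coprime orders (helper11)

For a fixed `h`, the only `w ∈ Q` with `h⁻¹ w⁻¹ h ∈ R` is `w = 1` (its order divides `|Q|` and `|R|`).
-/

set_option autoImplicit false

namespace Cfsg.Agent.Lib.Helper24.S4427

section D
variable {G : Type*} [Group G] [Fintype G]

/-- [D2] the number of `(Q, R)` double cosets for subgroups of coprime orders, as the sum that
computes the trace of `x ↦ s_Q x s_R` -/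
theorem sum_coeff_sSub_sSub (Q R : Subgroup G) (hcop : (Nat.card Q).Coprime (Nat.card R)) :
    ∑ h : G, ∑ w : G, (sSub ℂ Q).coeff w * (sSub ℂ R).coeff (h⁻¹ * w⁻¹ * h) = (Nat.card G : ℂ) := by
  classical
  have key : ∀ h w : G, (sSub ℂ Q).coeff w * (sSub ℂ R).coeff (h⁻¹ * w⁻¹ * h) =
      if w = 1 then (1 : ℂ) else 0 := by
    intro h w
    rw [coeff_sSub, coeff_sSub]
    by_cases hw : w = 1
    · subst hw
      rw [if_pos rfl, if_pos (Q.one_mem), inv_one, mul_one, inv_mul_cancel, if_pos (R.one_mem),
        mul_one]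
    · rw [if_neg hw]
      by_cases hQ : w ∈ Q
      · by_cases hR : h⁻¹ * w⁻¹ * h ∈ R
        · exfalso
          apply hw
          have h1 : orderOf w ∣ Nat.card Q := Subgroup.orderOf_dvd_natCard Q hQ
          have h2 : orderOf (h⁻¹ * w⁻¹ * h) ∣ Nat.card R := Subgroup.orderOf_dvd_natCard R hR
          have h3 : orderOf (h⁻¹ * w⁻¹ * h) = orderOf w := by
            have : h⁻¹ * w⁻¹ * h = (MulAut.conj h⁻¹) w⁻¹ := by
              rw [MulAut.conj_apply, inv_inv]
            rw [this, MulEquiv.orderOf_eq, orderOf_inv]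
          rw [h3] at h2
          have h4 : orderOf w ∣ 1 := by
            have := Nat.dvd_gcd h1 h2
            rwa [hcop] at this
          exact orderOf_eq_one_iff.mp (Nat.dvd_one.mp h4)
        · rw [if_neg hR, mul_zero]
      · rw [if_neg hQ, zero_mul]
  simp_rw [key]
  rw [Finset.sum_const, Finset.sum_ite_eq' Finset.univ (1 : G) (fun _ => (1 : ℂ)),
    if_pos (Finset.mem_univ _), Finset.card_univ, nsmul_eq_mul, mul_one,
    Nat.card_eq_fintype_card]

end D

end Cfsg.Agent.Lib.Helper24.S4427
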