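import Cfsg.Agent.Lib.Helper11.ExcDegree5
import Cfsg.Agent.Lib.Helper11.ExcPrime

/-!
S4706: the Brauer package for a self-centralising subgroup `P` of prime order `p ≥ 5` with
`|N(P)| = 2p` (inertial index `e = 2`).
-/

set_option autoImplicit false

namespace Cfsg.Agent.Lib.Helper11.S4706

open Cfsg
open Cfsg.Agent.Lib.Helper2
open Cfsg.Agent.Lib.Helper11
open Cfsg.Agent.S1522
open scoped ComplexConjugate

/-- integer arithmetic behind the norm relation with `e = 2` -/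
theorem e2_arith (t s m₀ ε : ℤ) (ht : 2 ≤ t) (hs : 0 ≤ s) (hε : ε = 1 ∨ ε = -1)
    (h : 1 + s + t * m₀ ^ 2 - 2 * ε * m₀ = 2) :
    (s = 1 ∧ (m₀ = 0 ∨ (m₀ = ε ∧ t = 2))) ∨ (s = 0 ∧ m₀ = ε ∧ t = 3) := by
  have h1 : m₀ * (m₀ - ε) ≤ 0 := by
    by_contra hc
    push Not at hc
    have h2 : 2 * (m₀ * (m₀ - ε)) ≤ t * m₀ ^ 2 - 2 * ε * m₀ := by nlinarith [sq_nonneg m₀]
    nlinarith
  have h3 : m₀ = 0 ∨ m₀ = ε := by
    rcases hε with rfl | rfl
    · have : 0 ≤ m₀ ∧ m₀ ≤ 1 := by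
        constructor <;> nlinarith
      omega
    · have : -1 ≤ m₀ ∧ m₀ ≤ 0 := by
        constructor <;> nlinarith
      omega
  rcases h3 with rfl | rfl
  · left
    refine ⟨by linarith, Or.inl rfl⟩
  · have hε2 : m₀ ^ 2 = 1 := by rcases hε with rfl | rfl <;> norm_num
    have h4 : s + t = 3 := by nlinarith
    have h5 : t = 2 ∨ t = 3 := by omega
    rcases h5 with rfl | rfl
    · left
      exact ⟨by linarith, Or.inr ⟨rfl, rfl⟩⟩
    · right
      exact ⟨by linarith, rfl, rfl⟩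

section E2

variable {G : Type*} [Group G] [Fintype G]

/-- **Brauer, `e = 2`**: the irreducible characters of `G` not vanishing on `P ∖ 1` are the
principal one, one more `χ'` (constant `m' = ±1` on `P ∖ 1`) and the `(p-1)/2` exceptional ones,
which all coincide with a function `Λ` off the conjugates of `P ∖ 1`, where
`1 + m' χ' = ε' Λ`. -/
theorem brauer_e2 (p : ℕ) (hp : p.Prime) (hp5 : 5 ≤ p) (P : Subgroup G)
    (hP : Nat.card P = p) (hC : Subgroup.centralizer (P : Set G) = P)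
    (hN : Nat.card (Subgroup.normalizer (P : Set G)) = 2 * p) :
    ∃ (χ' : IrrCharacter G) (m' ε' : ℤ) (E : Finset (IrrCharacter G)) (Λ : G → ℂ),
      (m' = 1 ∨ m' = -1) ∧ (ε' = 1 ∨ ε' = -1) ∧ 2 * E.card + 1 = p ∧
      χ' ≠ trivialIrr G ∧ χ' ∉ E ∧ trivialIrr G ∉ E ∧
      (∀ χ ∈ E, ∀ g : G, (g = 1 ∨ ∀ k : G, k * g * k⁻¹ ∉ P) → (χ : G → ℂ) g = Λ g) ∧
      (∀ g : G, (g = 1 ∨ ∀ k : G, k * g * k⁻¹ ∉ P) →
        1 + (m' : ℂ) * (χ' : G → ℂ) g = (ε' : ℂ) * Λ g) ∧
      (∀ g ∈ P, g ≠ 1 → (χ' : G → ℂ) g = (m' : ℂ)) ∧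
      (∀ χ : IrrCharacter G, χ ≠ trivialIrr G → χ ≠ χ' → χ ∉ E →
        ∀ g ∈ P, g ≠ 1 → (χ : G → ℂ) g = 0) := by
  classical
  haveI : Fintype (IrrCharacter G) := Fintype.ofFinite _
  obtain ⟨L, hNL⟩ : ∃ L : Subgroup G, Subgroup.normalizer (P : Set G) = L := ⟨_, rfl⟩
  haveI : Fintype L := Fintype.ofFinite _
  rw [hNL] at hN
  have hHL : P ≤ L := hNL ▸ Subgroup.le_normalizer
  have hHn : ∀ x ∈ L, ∀ h ∈ P, x * h * x⁻¹ ∈ P := by
    intro x hx h hh
    rw [← hNL] at hx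
    exact (Subgroup.mem_normalizer_iff.1 hx h).1 hh
  have hab : ∀ a ∈ P, ∀ b ∈ P, a * b = b * a := by
    intro a ha b hb
    have ha' : a ∈ Subgroup.centralizer (P : Set G) := by rw [hC]; exact ha
    exact ((Subgroup.mem_centralizer_iff.1 ha') b hb).symm
  have hcent : ∀ h ∈ P, h ≠ 1 → ∀ x ∈ L, x * h = h * x → x ∈ P := by
    intro h hh hh1 x _ hxh
    rw [← hC, Subgroup.mem_centralizer_iff]
    intro y hy
    have hy' : y ∈ Subgroup.zpowers h := by
      rw [zpowers_eq_of_prime_card P hp hP hh hh1]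
      exact hy
    obtain ⟨k, rfl⟩ := Subgroup.mem_zpowers_iff.1 hy'
    have hc : Commute x h := hxh
    exact (hc.zpow_right k).symm.eq
  have hTI := isTISubset_of_prime_card P hp hP
  haveI hKn : (P.subgroupOf L).Normal := subgroupOf_normal_of_conj P _ hHn
  haveI : Fintype (ExcIdx P L) := Fintype.ofFinite _
  have hp0 : 0 < p := hp.pos
  have hidx : (P.subgroupOf L).index = 2 := by
    have h1 := Subgroup.card_mul_index (P.subgroupOf L)
    rw [Nat.card_congr (Subgroup.subgroupOfEquivOfLe hHL).toEquiv, hP, hN] at h1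
    have : p * (P.subgroupOf L).index = p * 2 := by rw [h1]; ring
    exact Nat.eq_of_mul_eq_mul_left hp0 this
  have hcm := exc_card_mul P L hHL hcent hab
  rw [hidx, hP, ← Nat.card_eq_fintype_card] at hcm
  set t := Nat.card (ExcIdx P L) with ht_def
  have ht2 : 2 ≤ t := by omega
  obtain ⟨ε, m₀, x₀, f, Nz, m, d, hε, hinj, hd, hx₀, htriv, hmtriv, hNz, hm, -, hf, hagree,
    hE1, hE2, -⟩ := exc_degree_main2 P L hHn hcent hTI hNL hab ht2
  rw [hidx] at hE1
  have htc : Fintype.card (ExcIdx P L) = t := Nat.card_eq_fintype_card.symm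
  -- the trivial character is in `Nz`
  have htrivNz : trivialIrr G ∈ Nz := by
    rw [hNz]
    exact ⟨htriv, by rw [hmtriv]; norm_num⟩
  have hdtriv : d (trivialIrr G) = 1 := by
    have h := hd (trivialIrr G)
    have h1 : (trivialIrr G : G → ℂ) 1 = 1 := rfl
    rw [h1] at h
    exact_mod_cast h.symm
  -- split off the trivial character
  have hsplit : ∑ χ ∈ Nz, (m χ) ^ 2 = 1 + ∑ χ ∈ Nz.erase (trivialIrr G), (m χ) ^ 2 := by
    rw [← Finset.add_sum_erase Nz _ htrivNz, hmtriv]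
    norm_num
  have hge : ∀ χ ∈ Nz.erase (trivialIrr G), (1 : ℤ) ≤ (m χ) ^ 2 := by
    intro χ hχ
    have h0 : m χ ≠ 0 := ((hNz χ).1 (Finset.mem_of_mem_erase hχ)).2
    have : 0 < (m χ) ^ 2 := by positivity
    omega
  have hcardle : ((Nz.erase (trivialIrr G)).card : ℤ) ≤ ∑ χ ∈ Nz.erase (trivialIrr G), (m χ) ^ 2 := by
    have := Finset.card_nsmul_le_sum (Nz.erase (trivialIrr G)) (fun χ => (m χ) ^ 2) 1 hge
    simpa using this
  have hs0 : (0 : ℤ) ≤ ∑ χ ∈ Nz.erase (trivialIrr G), (m χ) ^ 2 :=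
    Finset.sum_nonneg (fun χ _ => sq_nonneg _)
  rw [hsplit] at hE1
  have harith := e2_arith (t : ℤ) (∑ χ ∈ Nz.erase (trivialIrr G), (m χ) ^ 2) m₀ ε
    (by exact_mod_cast ht2) hs0 hε (by push_cast at hE1 ⊢; linarith)
  -- exclude the degenerate case
  have hmain : (∑ χ ∈ Nz.erase (trivialIrr G), (m χ) ^ 2 = 1) ∧
      (m₀ = 0 ∨ (m₀ = ε ∧ (t : ℤ) = 2)) := by
    rcases harith with h | ⟨hs, hm0, ht3⟩
    · exact h
    · exfalso
      have hempty : Nz.erase (trivialIrr G) = ∅ := by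
        rw [← Finset.card_eq_zero]
        have : ((Nz.erase (trivialIrr G)).card : ℤ) ≤ 0 := by rw [← hs]; exact hcardle
        omega
      have hNz1 : Nz = {trivialIrr G} := by
        rw [← Finset.insert_erase htrivNz, hempty]
        rfl
      rw [hNz1, Finset.sum_singleton, hmtriv, hdtriv, hm0, ht3] at hE2
      rcases hε with rfl | rfl <;> push_cast at hE2 <;> omega
  obtain ⟨hs1, hm0⟩ := hmain
  -- the second nonexceptional character
  have hcard1 : (Nz.erase (trivialIrr G)).card = 1 := by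
    have h1 : ((Nz.erase (trivialIrr G)).card : ℤ) ≤ 1 := by rw [← hs1]; exact hcardle
    have h2 : (Nz.erase (trivialIrr G)).card ≠ 0 := by
      intro h0
      rw [Finset.card_eq_zero] at h0
      rw [h0, Finset.sum_empty] at hs1
      exact zero_ne_one hs1
    omega
  obtain ⟨χ', hχ'⟩ := Finset.card_eq_one.1 hcard1
  rw [hχ', Finset.sum_singleton] at hs1
  have hχ'mem : χ' ∈ Nz.erase (trivialIrr G) := by rw [hχ']; exact Finset.mem_singleton_self _
  have hχ'ne : χ' ≠ trivialIrr G := Finset.ne_of_mem_erase hχ'mem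
  have hχ'Nz : χ' ∈ Nz := Finset.mem_of_mem_erase hχ'mem
  have hχ'f : χ' ∉ Set.range f := ((hNz χ').1 hχ'Nz).1
  have hm' : m χ' = 1 ∨ m χ' = -1 := by
    have : (m χ' - 1) * (m χ' + 1) = 0 := by nlinarith
    rcases mul_eq_zero.1 this with h | h
    · left; omega
    · right; omega
  have hNzeq : Nz = {trivialIrr G, χ'} := by
    rw [← Finset.insert_erase htrivNz, hχ']
  -- the sign
  have hε' : (ε - (t : ℤ) * m₀ = 1 ∨ ε - (t : ℤ) * m₀ = -1) := by
    rcases hm0 with h | ⟨h, ht⟩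
    · rw [h, mul_zero, sub_zero]; exact hε
    · rw [h, ht]
      rcases hε with rfl | rfl
      · right; norm_num
      · left; norm_num
  -- an element of `P ∖ 1` and an index
  obtain ⟨θa⟩ : Nonempty (ExcIdx P L) := by
    rw [← Fintype.card_pos_iff, htc]; omega
  obtain ⟨x, hxH, hx1⟩ : ∃ x : L, (x : G) ∈ P ∧ x ≠ 1 := by
    obtain ⟨k, hk, hne⟩ := θa.2
    refine ⟨k, hk, ?_⟩
    rintro rfl
    exact hne rfl
  have hx1' : (x : G) ≠ 1 := fun h => hx1 (Subtype.ext h)
  have hS1 := exc_sum_apply P L hcent hab x hxH hx1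
  have hfE : ∀ θ : ExcIdx P L, f θ ∈ Finset.univ.image f :=
    fun θ => Finset.mem_image_of_mem f (Finset.mem_univ θ)
  have hΛ : ∀ θ : ExcIdx P L, ∀ g : G, (g = 1 ∨ ∀ k : G, k * g * k⁻¹ ∉ P) →
      (f θ : G → ℂ) g = (f θa : G → ℂ) g := by
    intro θ g hg
    rcases hg with rfl | hg
    · rw [hd, hd, hx₀, hx₀]
    · exact hagree θ θa g hg
  refine ⟨χ', m χ', ε - (t : ℤ) * m₀, Finset.univ.image f, (f θa : G → ℂ), hm', hε', ?_, hχ'ne, ?_,
    ?_, ?_, ?_, ?_, ?_⟩
  · rw [Finset.card_image_of_injective _ hinj, Finset.card_univ, htc]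
    omega
  · intro h
    obtain ⟨θ, -, hθ⟩ := Finset.mem_image.1 h
    exact hχ'f ⟨θ, hθ⟩
  · intro h
    obtain ⟨θ, -, hθ⟩ := Finset.mem_image.1 h
    exact htriv ⟨θ, hθ⟩
  · intro χ hχ g hg
    obtain ⟨θ, -, rfl⟩ := Finset.mem_image.1 hχ
    exact hΛ θ g hg
  · -- the block relation, from column orthogonality
    intro g hg
    have hnc : ¬ IsConj (x : G) g := by
      intro hc
      rcases hg with rfl | hg
      · exact hx1' (isConj_one_left.1 hc)
      · obtain ⟨c, hc⟩ := isConj_iff.1 hc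
        apply hg c⁻¹
        have : c⁻¹ * g * c⁻¹⁻¹ = (x : G) := by rw [← hc]; group
        rw [this]
        exact hxH
    have h0 := column_orthogonality (G := G) (x : G) g
    rw [if_neg hnc, ← Finset.sum_add_sum_compl (Finset.univ.image f),
      Finset.sum_image (fun a _ b _ h => hinj h)] at h0
    have h1 : ∑ θ : ExcIdx P L, (f θ : G → ℂ) (x : G) * conj ((f θ : G → ℂ) g)
        = (((t : ℤ) : ℂ) * (m₀ : ℂ) - (ε : ℂ)) * conj ((f θa : G → ℂ) g) := by
      have hterm : ∀ θ : ExcIdx P L, (f θ : G → ℂ) (x : G) * conj ((f θ : G → ℂ) g)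
          = (m₀ : ℂ) * conj ((f θa : G → ℂ) g)
            + (ε : ℂ) * conj ((f θa : G → ℂ) g) * (θ.1 : L → ℂ) x := by
        intro θ
        rw [hf θ x hxH hx1, hΛ θ g hg]
        ring
      rw [Finset.sum_congr rfl (fun θ _ => hterm θ), Finset.sum_add_distrib, Finset.sum_const,
        Finset.card_univ, htc, nsmul_eq_mul, ← Finset.mul_sum, hS1]
      push_cast
      ring
    have h2 : ∑ χ ∈ (Finset.univ.image f)ᶜ, (χ : G → ℂ) (x : G) * conj ((χ : G → ℂ) g)
        = 1 + (m χ' : ℂ) * conj ((χ' : G → ℂ) g) := by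
      have hsub : Nz ⊆ (Finset.univ.image f)ᶜ := by
        intro χ hχ
        rw [Finset.mem_compl]
        intro h
        obtain ⟨θ, -, hθ⟩ := Finset.mem_image.1 h
        exact ((hNz χ).1 hχ).1 ⟨θ, hθ⟩
      rw [← Finset.sum_subset hsub, hNzeq, Finset.sum_pair hχ'ne.symm]
      · have hnf : trivialIrr G ∉ Set.range f := htriv
        rw [hm _ hnf (x : G) hxH hx1', hm _ hχ'f (x : G) hxH hx1', hmtriv]
        have h1 : (trivialIrr G : G → ℂ) g = 1 := rfl
        rw [h1]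
        simp
      · intro χ hχ hχNz
        rw [Finset.mem_compl] at hχ
        have hχf : χ ∉ Set.range f := by
          rintro ⟨θ, rfl⟩
          exact hχ (hfE θ)
        have hm0' : m χ = 0 := by
          by_contra hne
          exact hχNz ((hNz χ).2 ⟨hχf, hne⟩)
        rw [hm _ hχf (x : G) hxH hx1', hm0']
        simp
    rw [h1, h2] at h0
    -- conjugate
    have h3 := congrArg conj h0
    simp only [map_add, map_mul, map_sub, map_one, map_zero, Complex.conj_conj, map_intCast] at h3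
    push_cast
    linear_combination h3
  · intro g hg hg1
    exact hm _ hχ'f g hg hg1
  · intro χ hχ1 hχ2 hχE g hg hg1
    have hχf : χ ∉ Set.range f := by
      rintro ⟨θ, rfl⟩
      exact hχE (hfE θ)
    have hm0' : m χ = 0 := by
      by_contra hne
      have hmem : χ ∈ Nz := (hNz χ).2 ⟨hχf, hne⟩
      rw [hNzeq, Finset.mem_insert, Finset.mem_singleton] at hmem
      rcases hmem with h | h
      · exact hχ1 h
      · exact hχ2 h
    rw [hm _ hχf g hg hg1, hm0']
    simp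

end E2

end Cfsg.Agent.Lib.Helper11.S4706
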