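import Cfsg.Agent.Lib.Helper11.S4706Defs
import Cfsg.Agent.Lib.Helper11.S4706E
import Cfsg.Agent.Lib.Helper2.RankFive
import Cfsg.Agent.H5.S4706FO67

/-!
S4706: the vanishing trick and the dichotomy (`P` normal, or `π = 1 + χ'`).
-/

set_option autoImplicit false

namespace Cfsg.Agent.Lib.Helper11.S4706

open Cfsg
open Cfsg.Agent.Lib.Helper2
open Cfsg.Agent.Lib.Helper2.RankFive
open Cfsg.Agent.Lib.Helper11
open scoped ComplexConjugate

section Trick

variable {G : Type*} [Group G] [Fintype G]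

/-- **Vanishing trick**: for a function `F` vanishing on the conjugates of `P ∖ 1`, the inner
product with an exceptional character is determined by those with `1` and `χ'`. -/
theorem inner_exc (P : Subgroup G) (χ' : IrrCharacter G) (m' ε' : ℤ) (Λ : G → ℂ)
    (hε' : ε' = 1 ∨ ε' = -1)
    (hrel : ∀ g : G, (g = 1 ∨ ∀ k : G, k * g * k⁻¹ ∉ P) →
      1 + (m' : ℂ) * (χ' : G → ℂ) g = (ε' : ℂ) * Λ g)
    (χ : IrrCharacter G)
    (hχ : ∀ g : G, (g = 1 ∨ ∀ k : G, k * g * k⁻¹ ∉ P) → (χ : G → ℂ) g = Λ g)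
    (F : G → ℂ) (hF : ∀ g : G, g ≠ 1 → (∃ k : G, k * g * k⁻¹ ∈ P) → F g = 0) :
    classInner F (χ : G → ℂ)
      = (ε' : ℂ) * (classInner F (trivialIrr G : G → ℂ)
          + (m' : ℂ) * classInner F (χ' : G → ℂ)) := by
  have hεsq : (ε' : ℂ) * (ε' : ℂ) = 1 := by
    rcases hε' with h | h <;> rw [h] <;> simp
  rw [classInner_def, classInner_def, classInner_def]
  have hterm : ∀ g : G, F g * conj ((χ : G → ℂ) g)
      = (ε' : ℂ) * (F g * conj ((trivialIrr G : G → ℂ) g)
          + (m' : ℂ) * (F g * conj ((χ' : G → ℂ) g))) := by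
    intro g
    by_cases hg : g = 1 ∨ ∀ k : G, k * g * k⁻¹ ∉ P
    · have h1 := hrel g hg
      have h2 : Λ g = (ε' : ℂ) * (1 + (m' : ℂ) * (χ' : G → ℂ) g) := by
        rw [h1, ← mul_assoc, hεsq, one_mul]
      have h3 : (trivialIrr G : G → ℂ) g = 1 := rfl
      rw [hχ g hg, h2, h3]
      simp only [map_mul, map_add, map_one, map_intCast]
      ring
    · have h0 : F g = 0 := by
        push Not at hg
        obtain ⟨hg1, k, hk⟩ := hg
        exact hF g hg1 ⟨k, hk⟩
      rw [h0]
      simp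
  rw [Finset.sum_congr rfl (fun g _ => hterm g), ← Finset.mul_sum, Finset.sum_add_distrib,
    ← Finset.mul_sum]
  ring

end Trick

section Dichotomy

variable {G : Type*} [Group G] [Fintype G] {Ω : Type*} [Fintype Ω] [MulAction G Ω]

theorem pch_eq_pc : pch G Ω = pc G Ω := rfl

/-- a non-identity element without fixed points -/
theorem pch_eq_zero_of_fpf (g : G) (h : ∀ a : Ω, g • a ≠ a) : pch G Ω g = 0 := by
  have : IsEmpty (MulAction.fixedBy Ω g) := ⟨fun x => h x.1 x.2⟩
  show ((Nat.card (MulAction.fixedBy Ω g) : ℕ) : ℂ) = 0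
  rw [Nat.card_of_isEmpty]
  simp

/-- **Dichotomy**: either `P` is normal, or the permutation character is `1 + χ'`. -/
theorem dichotomy [MulAction.IsPretransitive G Ω]
    (p : ℕ) [hpF : Fact p.Prime] (hp5 : 5 ≤ p) (hΩ : Nat.card Ω = p) (P : Sylow p G)
    (hP : Nat.card P = p)
    (hfaith : ∀ g : G, (∀ a : Ω, g • a = a) → g = 1)
    (hfpf : ∀ g : G, g ≠ 1 → (∃ k : G, k * g * k⁻¹ ∈ (P : Subgroup G)) → ∀ a : Ω, g • a ≠ a)
    (χ' : IrrCharacter G) (m' ε' : ℤ) (E : Finset (IrrCharacter G)) (Λ : G → ℂ)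
    (hm' : m' = 1 ∨ m' = -1) (hε' : ε' = 1 ∨ ε' = -1) (hE : 2 * E.card + 1 = p)
    (hχ'1 : χ' ≠ trivialIrr G) (hχ'E : χ' ∉ E) (htE : trivialIrr G ∉ E)
    (hΛ : ∀ χ ∈ E, ∀ g : G, (g = 1 ∨ ∀ k : G, k * g * k⁻¹ ∉ (P : Subgroup G)) →
      (χ : G → ℂ) g = Λ g)
    (hrel : ∀ g : G, (g = 1 ∨ ∀ k : G, k * g * k⁻¹ ∉ (P : Subgroup G)) →
      1 + (m' : ℂ) * (χ' : G → ℂ) g = (ε' : ℂ) * Λ g)
    (hχ'P : ∀ g ∈ (P : Subgroup G), g ≠ 1 → (χ' : G → ℂ) g = (m' : ℂ))
    (hvan : ∀ χ : IrrCharacter G, χ ≠ trivialIrr G → χ ≠ χ' → χ ∉ E →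
      ∀ g ∈ (P : Subgroup G), g ≠ 1 → (χ : G → ℂ) g = 0) :
    (P : Subgroup G).Normal ∨
      (m' = -1 ∧ ε' = -1 ∧ ∀ g : G, (χ' : G → ℂ) g = pch G Ω g - 1) := by
  classical
  haveI : Fintype (IrrCharacter G) := Fintype.ofFinite _
  have hp := hpF.out
  obtain ⟨a⟩ : Nonempty Ω := by
    have : 0 < Nat.card Ω := by rw [hΩ]; exact hp.pos
    exact (Nat.card_pos_iff.1 this).1
  -- the permutation character vanishes on the conjugates of `P ∖ 1`
  have hpv : ∀ g : G, g ≠ 1 → (∃ k : G, k * g * k⁻¹ ∈ (P : Subgroup G)) → pc G Ω g = 0 :=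
    fun g hg hk => pch_eq_zero_of_fpf g (hfpf g hg hk)
  -- degrees
  have hdeg : ∀ χ : IrrCharacter G, (χ : G → ℂ) 1 = (charDegree (χ : G → ℂ) : ℂ) :=
    fun χ => TwoDeg.apply_one_eq_charDegree χ
  have hdegpos : ∀ χ : IrrCharacter G, 1 ≤ charDegree (χ : G → ℂ) := by
    intro χ
    obtain ⟨d, hd0, hd⟩ := IsIrrCharacter.apply_one χ.2
    have h := hdeg χ
    rw [hd] at h
    have : d = charDegree (χ : G → ℂ) := by exact_mod_cast h
    omega
  have hdegtriv : charDegree ((trivialIrr G : IrrCharacter G) : G → ℂ) = 1 := by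
    have h := hdeg (trivialIrr G)
    have h1 : (trivialIrr G : G → ℂ) 1 = 1 := rfl
    rw [h1] at h
    exact_mod_cast h.symm
  -- multiplicities of the exceptional characters
  set b := mult Ω χ' with hb
  have hmultE : ∀ χ ∈ E, ((mult Ω χ : ℕ) : ℤ) = ε' * (1 + m' * (b : ℤ)) := by
    intro χ hχ
    have h := inner_exc (P : Subgroup G) χ' m' ε' Λ hε' hrel χ (hΛ χ hχ) (pc G Ω) hpv
    rw [mult_spec a χ, mult_spec a (trivialIrr G), mult_spec a χ', mult_trivial a] at h
    have h' : ((mult Ω χ : ℕ) : ℂ) = ((ε' * (1 + m' * (b : ℤ)) : ℤ) : ℂ) := by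
      rw [h]; push_cast; ring
    exact_mod_cast h'
  -- the other characters do not occur
  have hsum := card_eq_sum (G := G) (Ω := Ω) a
  rw [hΩ] at hsum
  have hother : ∀ χ : IrrCharacter G, χ ≠ trivialIrr G → χ ≠ χ' → χ ∉ E → mult Ω χ = 0 := by
    intro χ h1 h2 h3
    obtain ⟨k, hk⟩ := card_dvd_degree_of_vanish (P : Subgroup G) (χ : G → ℂ)
      (IsIrrCharacter.isCharacter χ.2) (hvan χ h1 h2 h3)
    rw [hdeg χ, hP] at hk
    have hk' : charDegree (χ : G → ℂ) = p * k := by exact_mod_cast hk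
    have hkpos : 1 ≤ k := by
      rcases Nat.eq_zero_or_pos k with h | h
      · rw [h, mul_zero] at hk'
        have := hdegpos χ
        omega
      · exact h
    have hge : p ≤ charDegree (χ : G → ℂ) := by
      rw [hk']; exact Nat.le_mul_of_pos_right p hkpos
    have hpair : ∑ ψ ∈ ({trivialIrr G, χ} : Finset (IrrCharacter G)),
        mult Ω ψ * charDegree (ψ : G → ℂ) ≤ p := by
      rw [hsum]
      exact Finset.sum_le_sum_of_subset (Finset.subset_univ _)
    rw [Finset.sum_pair h1.symm, mult_trivial a, hdegtriv] at hpair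
    by_contra hne
    have h1' : 1 ≤ mult Ω χ := Nat.one_le_iff_ne_zero.2 hne
    have : p ≤ mult Ω χ * charDegree (χ : G → ℂ) := by
      calc p ≤ charDegree (χ : G → ℂ) := hge
        _ = 1 * charDegree (χ : G → ℂ) := (one_mul _).symm
        _ ≤ mult Ω χ * charDegree (χ : G → ℂ) := Nat.mul_le_mul_right _ h1'
    omega
  -- an exceptional character and the common degree
  have hEcard : 2 ≤ E.card := by omega
  obtain ⟨χ₀, hχ₀⟩ : E.Nonempty := Finset.card_pos.1 (by omega)
  set x₀ := charDegree (χ₀ : G → ℂ) with hx₀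
  have hΛ1 : Λ 1 = (x₀ : ℂ) := by rw [← hΛ χ₀ hχ₀ 1 (Or.inl rfl), hdeg χ₀]
  have hdegE : ∀ χ ∈ E, charDegree (χ : G → ℂ) = x₀ := by
    intro χ hχ
    have h := hΛ χ hχ 1 (Or.inl rfl)
    rw [hdeg χ, hΛ1] at h
    exact_mod_cast h
  set c := mult Ω χ₀ with hc
  have hmultE' : ∀ χ ∈ E, mult Ω χ = c := by
    intro χ hχ
    have h1 := hmultE χ hχ
    have h2 := hmultE χ₀ hχ₀
    have : ((mult Ω χ : ℕ) : ℤ) = ((c : ℕ) : ℤ) := by rw [h1, h2]
    exact_mod_cast this
  set d' := charDegree (χ' : G → ℂ) with hd'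
  -- the degree equation
  set S : Finset (IrrCharacter G) := insert (trivialIrr G) (insert χ' E) with hS
  have hsumS : ∑ χ : IrrCharacter G, mult Ω χ * charDegree (χ : G → ℂ)
      = ∑ χ ∈ S, mult Ω χ * charDegree (χ : G → ℂ) := by
    symm
    apply Finset.sum_subset (Finset.subset_univ _)
    intro χ _ hχS
    rw [hS, Finset.mem_insert, Finset.mem_insert] at hχS
    push Not at hχS
    rw [hother χ hχS.1 hχS.2.1 hχS.2.2, zero_mul]
  have htS : trivialIrr G ∉ insert χ' E := by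
    rw [Finset.mem_insert]
    push Not
    exact ⟨hχ'1.symm, htE⟩
  have hsumE : ∑ χ ∈ E, mult Ω χ * charDegree (χ : G → ℂ) = E.card * (c * x₀) := by
    rw [Finset.sum_congr rfl (fun χ hχ => by rw [hmultE' χ hχ, hdegE χ hχ]), Finset.sum_const,
      smul_eq_mul]
  rw [hsumS, hS, Finset.sum_insert htS, Finset.sum_insert hχ'E, mult_trivial a, hdegtriv,
    hsumE] at hsum
  -- apply the arithmetic lemma
  have hprime : (2 * E.card + 1).Prime := by rw [hE]; exact hp
  have h3 : 1 + m' * (d' : ℤ) = ε' * (x₀ : ℤ) := by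
    have h := hrel 1 (Or.inl rfl)
    rw [hdeg χ', hΛ1] at h
    have h' : ((1 + m' * (d' : ℤ) : ℤ) : ℂ) = ((ε' * (x₀ : ℤ) : ℤ) : ℂ) := by
      push_cast; exact h
    exact_mod_cast h'
  have h2 : 2 * E.card = b * d' + c * E.card * x₀ := by
    have e1 : E.card * (c * x₀) = c * E.card * x₀ := by ring
    try rw [← hb] at hsum
    try rw [← hd'] at hsum
    rw [e1] at hsum
    omega
  rcases Cfsg.H5.S4706FO67.dichotomy_arith E.card b c d' x₀ m' ε' hEcard hprime hm' hε'
    (hdegpos χ') (hdegpos χ₀) (hmultE χ₀ hχ₀) h2 h3 with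
    ⟨hm1, hε1, hb1, hc0, -, -⟩ | ⟨hm1, hε1, hb0, hc1, hd1, hx2⟩
  · -- the doubly transitive case
    right
    refine ⟨hm1, hε1, ?_⟩
    have hexp := classFunction_expansion (pc G Ω) (pc_isClassFunction a)
    intro g
    have hg := congrFun hexp g
    rw [Finset.sum_apply] at hg
    have hsumg : ∑ χ : IrrCharacter G, (classInner (pc G Ω) (χ : G → ℂ) • (χ : G → ℂ)) g
        = ∑ χ ∈ ({trivialIrr G, χ'} : Finset (IrrCharacter G)),
          (classInner (pc G Ω) (χ : G → ℂ) • (χ : G → ℂ)) g := by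
      symm
      apply Finset.sum_subset (Finset.subset_univ _)
      intro χ _ hχS
      rw [Finset.mem_insert, Finset.mem_singleton] at hχS
      push Not at hχS
      rw [Pi.smul_apply, mult_spec a χ]
      by_cases hχE : χ ∈ E
      · rw [hmultE' χ hχE, hc0]; simp
      · rw [hother χ hχS.1 hχS.2 hχE]; simp
    rw [hsumg, Finset.sum_pair hχ'1.symm, Pi.smul_apply, Pi.smul_apply, mult_spec a,
      mult_spec a, mult_trivial a, ← hb, hb1] at hg
    have h1 : (trivialIrr G : G → ℂ) g = 1 := rfl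
    rw [h1] at hg
    show (χ' : G → ℂ) g = pc G Ω g - 1
    rw [hg]
    simp
  · -- the normal case
    left
    have hχ'one : (χ' : G → ℂ) 1 = 1 := by rw [hdeg χ', ← hd', hd1]; simp
    obtain ⟨φ, hφ⟩ := exists_monoidHom_of_isIrrCharacter_of_apply_one χ'.2 hχ'one
    have hPle : (P : Subgroup G) ≤ φ.ker := by
      intro g hg
      rw [MonoidHom.mem_ker]
      by_cases hg1 : g = 1
      · rw [hg1, map_one]
      · have h := hχ'P g hg hg1
        rw [hφ, hm1] at h
        apply Units.ext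
        simpa using h
    -- the permutation character on the remaining elements
    have hexp := classFunction_expansion (pc G Ω) (pc_isClassFunction a)
    have hpcval : ∀ g : G, (g = 1 ∨ ∀ k : G, k * g * k⁻¹ ∉ (P : Subgroup G)) →
        pc G Ω g = 1 + (E.card : ℂ) * (1 + (χ' : G → ℂ) g) := by
      intro g hgc
      have hg := congrFun hexp g
      rw [Finset.sum_apply] at hg
      have hsumg : ∑ χ : IrrCharacter G, (classInner (pc G Ω) (χ : G → ℂ) • (χ : G → ℂ)) g
          = ∑ χ ∈ insert (trivialIrr G) E,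
            (classInner (pc G Ω) (χ : G → ℂ) • (χ : G → ℂ)) g := by
        symm
        apply Finset.sum_subset (Finset.subset_univ _)
        intro χ _ hχS
        rw [Finset.mem_insert] at hχS
        push Not at hχS
        rw [Pi.smul_apply, mult_spec a χ]
        by_cases hχ' : χ = χ'
        · rw [hχ', ← hb, hb0]; simp
        · rw [hother χ hχS.1 hχ' hχS.2]; simp
      have hΛg : Λ g = 1 + (χ' : G → ℂ) g := by
        have h := hrel g hgc
        rw [hm1, hε1] at h
        simpa using h.symm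
      have hsumE' : ∑ χ ∈ E, (classInner (pc G Ω) (χ : G → ℂ) • (χ : G → ℂ)) g
          = (E.card : ℂ) * (1 + (χ' : G → ℂ) g) := by
        rw [Finset.sum_congr rfl (fun χ hχ => by
          rw [Pi.smul_apply, mult_spec a χ, hmultE' χ hχ, hc1, hΛ χ hχ g hgc, hΛg]),
          Finset.sum_const, nsmul_eq_mul]
        simp
      rw [hsumg, Finset.sum_insert htE, hsumE', Pi.smul_apply, mult_spec a, mult_trivial a] at hg
      have h1 : (trivialIrr G : G → ℂ) g = 1 := rfl
      rw [h1] at hg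
      rw [hg]
      simp
    -- the kernel is a `p`-group
    have hker : ∀ g ∈ φ.ker, g ≠ 1 → ∃ k : G, k * g * k⁻¹ ∈ (P : Subgroup G) := by
      intro g hg hg1
      by_contra hno
      push Not at hno
      have hval := hpcval g (Or.inr hno)
      have hχg : (χ' : G → ℂ) g = 1 := by
        rw [hφ]
        rw [MonoidHom.mem_ker] at hg
        simp [hg]
      rw [hχg] at hval
      have hcard : Nat.card (MulAction.fixedBy Ω g) = Nat.card Ω := by
        have h' : ((Nat.card (MulAction.fixedBy Ω g) : ℕ) : ℂ) = ((2 * E.card + 1 : ℕ) : ℂ) := by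
          have : pc G Ω g = ((Nat.card (MulAction.fixedBy Ω g) : ℕ) : ℂ) := rfl
          rw [← this, hval]; push_cast; ring
        rw [hΩ, ← hE]
        exact_mod_cast h'
      apply hg1
      apply hfaith
      intro x
      have hfin : (MulAction.fixedBy Ω g) = Set.univ := by
        rw [Set.eq_univ_iff_ncard, ← Nat.card_coe_set_eq, hcard]
      have : x ∈ MulAction.fixedBy Ω g := by rw [hfin]; exact Set.mem_univ x
      exact this
    have hPG : IsPGroup p φ.ker := by
      rintro ⟨g, hg⟩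
      refine ⟨1, ?_⟩
      rw [pow_one]
      apply Subtype.ext
      show g ^ p = 1
      by_cases hg1 : g = 1
      · rw [hg1, one_pow]
      · obtain ⟨k, hk⟩ := hker g hg hg1
        have h1 : (⟨k * g * k⁻¹, hk⟩ : (P : Subgroup G)) ^ p = 1 := by
          have := pow_card_eq_one' (G := (P : Subgroup G)) (x := ⟨k * g * k⁻¹, hk⟩)
          rwa [hP] at this
        have h2 : (k * g * k⁻¹) ^ p = 1 := by
          have := congrArg Subtype.val h1
          simpa using this
        rw [conj_pow] at h2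
        have : g ^ p = k⁻¹ * (k * g ^ p * k⁻¹) * k := by group
        rw [this, h2]
        group
    have hKP : φ.ker = (P : Subgroup G) := P.is_maximal' hPG hPle
    rw [← hKP]
    infer_instance

end Dichotomy

end Cfsg.Agent.Lib.Helper11.S4706
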