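import Cfsg.Agent.Lib.Helper11.S4706D

/-!
S4706: the alternating square of the permutation character is `χ' + Σ Λ_j`; consequently every
non-identity element fixes at most two points.
-/

set_option autoImplicit false

namespace Cfsg.Agent.Lib.Helper11.S4706

open Cfsg
open Cfsg.Agent.Lib.Helper2
open Cfsg.Agent.Lib.Helper2.RankFive
open Cfsg.Agent.Lib.Helper11
open scoped ComplexConjugate

section Main

variable {G : Type*} [Group G] [Fintype G] {Ω : Type*} [Fintype Ω] [MulAction G Ω]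

/-- the number of fixed points is a class function -/
theorem fx_conj (g h : G) : fx G Ω (h * g * h⁻¹) = fx G Ω g := by
  unfold fx
  apply Nat.card_congr
  refine ⟨fun x => ⟨h⁻¹ • x.1, ?_⟩, fun x => ⟨h • x.1, ?_⟩, ?_, ?_⟩
  · have hx := x.2
    rw [MulAction.mem_fixedBy] at hx ⊢
    conv_rhs => rw [← hx]
    simp [mul_smul]
  · have hx := x.2
    rw [MulAction.mem_fixedBy] at hx ⊢
    simp [mul_smul, hx]
  · intro x; simp
  · intro x; simp

theorem altSq_isClassFunction : IsClassFunction G (altSq G Ω) := by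
  intro g h
  unfold altSq
  have h2 : (h * g * h⁻¹) ^ 2 = h * g ^ 2 * h⁻¹ := by rw [conj_pow]
  rw [h2, fx_conj, fx_conj]

theorem fx_le_card (g : G) : fx G Ω g ≤ Nat.card Ω := by
  unfold fx
  exact Nat.card_le_card_of_injective (fun x => x.1) Subtype.val_injective

theorem fx_le_sq (g : G) : fx G Ω g ≤ fx G Ω (g ^ 2) := by
  unfold fx
  apply Nat.card_le_card_of_injective
    (fun x : MulAction.fixedBy Ω g => (⟨x.1, by
      have hx := x.2
      rw [MulAction.mem_fixedBy] at hx ⊢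
      rw [pow_two, mul_smul, hx, hx]⟩ : MulAction.fixedBy Ω (g ^ 2)))
  intro x y hxy
  apply Subtype.ext
  exact congrArg (fun z : MulAction.fixedBy Ω (g ^ 2) => z.1) hxy

theorem fx_one : fx G Ω 1 = Nat.card Ω := by
  unfold fx
  rw [MulAction.fixedBy_one_eq_univ, Nat.card_coe_set_eq, Set.ncard_univ]

theorem eq_one_of_fx_eq (hfaith : ∀ g : G, (∀ a : Ω, g • a = a) → g = 1) (g : G)
    (h : fx G Ω g = Nat.card Ω) : g = 1 := by
  apply hfaith
  intro x
  have hfin : (MulAction.fixedBy Ω g) = Set.univ := by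
    rw [Set.eq_univ_iff_ncard, ← Nat.card_coe_set_eq]
    exact h
  have : x ∈ MulAction.fixedBy Ω g := by rw [hfin]; exact Set.mem_univ x
  exact this

/-- **Main step**: in the doubly transitive case every non-identity element fixes at most two
points, and `|G| > p(p-1)(p-2)/2`. -/
theorem fix_le_two_main [MulAction.IsPretransitive G Ω]
    (p : ℕ) [hpF : Fact p.Prime] (hp5 : 5 ≤ p) (hΩ : Nat.card Ω = p) (P : Subgroup G)
    (hP : Nat.card P = p)
    (hfaith : ∀ g : G, (∀ a : Ω, g • a = a) → g = 1)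
    (hfpf : ∀ g : G, g ≠ 1 → (∃ k : G, k * g * k⁻¹ ∈ P) → ∀ a : Ω, g • a ≠ a)
    (χ' : IrrCharacter G) (E : Finset (IrrCharacter G)) (Λ : G → ℂ)
    (hE : 2 * E.card + 1 = p)
    (hχ'1 : χ' ≠ trivialIrr G) (hχ'E : χ' ∉ E) (htE : trivialIrr G ∉ E)
    (hΛ : ∀ χ ∈ E, ∀ g : G, (g = 1 ∨ ∀ k : G, k * g * k⁻¹ ∉ P) → (χ : G → ℂ) g = Λ g)
    (hrel : ∀ g : G, (g = 1 ∨ ∀ k : G, k * g * k⁻¹ ∉ P) →
      1 + ((-1 : ℤ) : ℂ) * (χ' : G → ℂ) g = ((-1 : ℤ) : ℂ) * Λ g)
    (hχ' : ∀ g : G, (χ' : G → ℂ) g = pch G Ω g - 1)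
    (hA1 : ∀ χ : IrrCharacter G, ∃ r : ℝ, 0 ≤ r ∧ classInner (altSq G Ω) (χ : G → ℂ) = (r : ℂ))
    (hA2 : classInner (altSq G Ω) (fun _ => (1 : ℂ)) = 0)
    (hA3 : ∃ r : ℝ, 1 ≤ r ∧ classInner (altSq G Ω) (pch G Ω) = (r : ℂ)) :
    (∀ g : G, g ≠ 1 → fx G Ω g ≤ 2) ∧ p * (p - 1) * (p - 2) < 2 * Nat.card G := by
  classical
  haveI : Fintype (IrrCharacter G) := Fintype.ofFinite _
  have hp := hpF.out
  set t := E.card with ht
  have hdeg : ∀ χ : IrrCharacter G, (χ : G → ℂ) 1 = (charDegree (χ : G → ℂ) : ℂ) :=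
    fun χ => TwoDeg.apply_one_eq_charDegree χ
  have hdegpos : ∀ χ : IrrCharacter G, 1 ≤ charDegree (χ : G → ℂ) := by
    intro χ
    obtain ⟨d, hd0, hd⟩ := IsIrrCharacter.apply_one χ.2
    have h := hdeg χ
    rw [hd] at h
    have : d = charDegree (χ : G → ℂ) := by exact_mod_cast h
    omega
  -- degrees
  have hpch1 : pch G Ω 1 = (p : ℂ) := by
    show ((fx G Ω 1 : ℕ) : ℂ) = _
    rw [fx_one, hΩ]
  have hχ'deg : (χ' : G → ℂ) 1 = (p : ℂ) - 1 := by rw [hχ', hpch1]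
  have hΛval : ∀ g : G, (g = 1 ∨ ∀ k : G, k * g * k⁻¹ ∉ P) → Λ g = pch G Ω g - 2 := by
    intro g hg
    have h := hrel g hg
    rw [hχ'] at h
    push_cast at h
    linear_combination h
  have hΛ1 : Λ 1 = (p : ℂ) - 2 := by rw [hΛval 1 (Or.inl rfl), hpch1]
  -- `altSq` vanishes on the conjugates of `P ∖ 1`
  have hAv : ∀ g : G, g ≠ 1 → (∃ k : G, k * g * k⁻¹ ∈ P) → altSq G Ω g = 0 := by
    intro g hg1 ⟨k, hk⟩
    have hg2 : g ^ 2 ≠ 1 := by
      intro h2
      have ho2 : orderOf g ∣ 2 := orderOf_dvd_of_pow_eq_one h2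
      have hop : orderOf (⟨k * g * k⁻¹, hk⟩ : P) ∣ p := by
        have := orderOf_dvd_natCard (⟨k * g * k⁻¹, hk⟩ : P)
        rwa [hP] at this
      have hoeq : orderOf (⟨k * g * k⁻¹, hk⟩ : P) = orderOf g := by
        rw [← Subgroup.orderOf_coe]
        show orderOf (k * g * k⁻¹) = orderOf g
        have := MulEquiv.orderOf_eq (MulAut.conj k) g
        rwa [MulAut.conj_apply] at this
      rw [hoeq] at hop
      have h1 : orderOf g ∣ Nat.gcd 2 p := Nat.dvd_gcd ho2 hop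
      have hcop : Nat.gcd 2 p = 1 := by
        have : Nat.Coprime 2 p := by
          rw [Nat.coprime_primes Nat.prime_two hp]
          omega
        exact this
      rw [hcop, Nat.dvd_one, orderOf_eq_one_iff] at h1
      exact hg1 h1
    have hk2 : k * g ^ 2 * k⁻¹ ∈ P := by
      rw [← conj_pow]
      exact P.pow_mem hk 2
    have h1 : fx G Ω g = 0 := by
      have : IsEmpty (MulAction.fixedBy Ω g) := ⟨fun x => hfpf g hg1 ⟨k, hk⟩ x.1 x.2⟩
      unfold fx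
      rw [Nat.card_of_isEmpty]
    have h2 : fx G Ω (g ^ 2) = 0 := by
      have : IsEmpty (MulAction.fixedBy Ω (g ^ 2)) :=
        ⟨fun x => hfpf (g ^ 2) hg2 ⟨k, hk2⟩ x.1 x.2⟩
      unfold fx
      rw [Nat.card_of_isEmpty]
    unfold altSq
    rw [h1, h2]
    simp
  -- the inner products
  obtain ⟨r, hr1, hr⟩ := hA3
  have hAtriv : classInner (altSq G Ω) (trivialIrr G : G → ℂ) = 0 := hA2
  have hAχ' : classInner (altSq G Ω) (χ' : G → ℂ) = (r : ℂ) := by
    have h1 : (χ' : G → ℂ) = pch G Ω - (fun _ => (1 : ℂ)) := by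
      funext g
      rw [hχ']
      rfl
    rw [h1, classInner_sub_right, hr, hA2, sub_zero]
  have hAE : ∀ χ ∈ E, classInner (altSq G Ω) (χ : G → ℂ) = (r : ℂ) := by
    intro χ hχ
    have h := inner_exc P χ' (-1) (-1) Λ (Or.inr rfl) hrel χ (hΛ χ hχ) (altSq G Ω) hAv
    rw [h, hAtriv, hAχ']
    push_cast
    ring
  choose ρ hρ0 hρ using hA1
  -- expansion at the identity
  have hexp := classFunction_expansion (altSq G Ω) altSq_isClassFunction
  have hA1val : altSq G Ω 1 = ((p : ℂ) ^ 2 - (p : ℂ)) / 2 := by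
    unfold altSq
    rw [one_pow, fx_one, hΩ]
  have hexp1 := congrFun hexp 1
  rw [Finset.sum_apply, hA1val] at hexp1
  set S : Finset (IrrCharacter G) := insert χ' E with hS
  have hsplit : ∑ χ : IrrCharacter G, (classInner (altSq G Ω) (χ : G → ℂ) • (χ : G → ℂ)) 1
      = (r : ℂ) * ((p : ℂ) - 1) + (t : ℂ) * ((r : ℂ) * ((p : ℂ) - 2))
        + ((∑ χ ∈ Sᶜ, ρ χ * (charDegree (χ : G → ℂ) : ℝ) : ℝ) : ℂ) := by
    rw [← Finset.sum_add_sum_compl S, hS, Finset.sum_insert hχ'E]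
    congr 1
    · congr 1
      · rw [Pi.smul_apply, hAχ', hχ'deg, smul_eq_mul]
      · rw [Finset.sum_congr rfl (fun χ hχ => by
          rw [Pi.smul_apply, hAE χ hχ, hΛ χ hχ 1 (Or.inl rfl), hΛ1, smul_eq_mul]),
          Finset.sum_const, nsmul_eq_mul]
    · push_cast
      apply Finset.sum_congr rfl
      intro χ _
      rw [Pi.smul_apply, hρ χ, hdeg χ, smul_eq_mul]
  rw [hsplit] at hexp1
  have hpC : (p : ℂ) = 2 * (t : ℂ) + 1 := by
    have : p = 2 * t + 1 := hE.symm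
    rw [this]; push_cast; ring
  -- pass to the reals
  have hreal : ((p : ℝ) ^ 2 - (p : ℝ)) / 2
      = r * ((p : ℝ) - 1) + (t : ℝ) * (r * ((p : ℝ) - 2))
        + ∑ χ ∈ Sᶜ, ρ χ * (charDegree (χ : G → ℂ) : ℝ) := by
    have hc : ((((p : ℝ) ^ 2 - (p : ℝ)) / 2 : ℝ) : ℂ)
        = ((r * ((p : ℝ) - 1) + (t : ℝ) * (r * ((p : ℝ) - 2))
          + ∑ χ ∈ Sᶜ, ρ χ * (charDegree (χ : G → ℂ) : ℝ) : ℝ) : ℂ) := by
      push_cast
      push_cast at hexp1
      exact hexp1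
    exact_mod_cast hc
  have hpR : (p : ℝ) = 2 * (t : ℝ) + 1 := by
    have : p = 2 * t + 1 := hE.symm
    rw [this]; push_cast; ring
  have hrest0 : 0 ≤ ∑ χ ∈ Sᶜ, ρ χ * (charDegree (χ : G → ℂ) : ℝ) :=
    Finset.sum_nonneg (fun χ _ => mul_nonneg (hρ0 χ) (Nat.cast_nonneg _))
  have htR : (2 : ℝ) ≤ (t : ℝ) := by
    have : 2 ≤ t := by omega
    exact_mod_cast this
  have hkey : (1 - r) * ((2 * (t : ℝ) + 1) * (t : ℝ))
      = ∑ χ ∈ Sᶜ, ρ χ * (charDegree (χ : G → ℂ) : ℝ) := by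
    rw [hpR] at hreal
    linarith [hreal]
  have hr_eq : r = 1 := by
    have hpos : 0 < (2 * (t : ℝ) + 1) * (t : ℝ) := mul_pos (by linarith) (by linarith)
    have h1 : 0 ≤ (1 - r) * ((2 * (t : ℝ) + 1) * (t : ℝ)) := by rw [hkey]; exact hrest0
    have h2 : 0 ≤ 1 - r := by
      by_contra hneg
      push Not at hneg
      have := mul_neg_of_neg_of_pos hneg hpos
      linarith
    linarith
  have hrest : ∑ χ ∈ Sᶜ, ρ χ * (charDegree (χ : G → ℂ) : ℝ) = 0 := by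
    rw [← hkey, hr_eq]; ring
  have hρzero : ∀ χ ∈ Sᶜ, ρ χ = 0 := by
    intro χ hχ
    have h := (Finset.sum_eq_zero_iff_of_nonneg
      (fun χ _ => mul_nonneg (hρ0 χ) (Nat.cast_nonneg _))).1 hrest χ hχ
    have hd : (0 : ℝ) < (charDegree (χ : G → ℂ) : ℝ) := by
      have := hdegpos χ
      exact_mod_cast this
    rcases mul_eq_zero.1 h with h | h
    · exact h
    · linarith
  -- the alternating square is `χ' + Σ_E χ`
  have hAval : ∀ g : G, altSq G Ω g = (χ' : G → ℂ) g + ∑ χ ∈ E, (χ : G → ℂ) g := by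
    intro g
    have hg := congrFun hexp g
    rw [Finset.sum_apply, ← Finset.sum_add_sum_compl S, hS, Finset.sum_insert hχ'E] at hg
    rw [hg]
    have h3 : ∑ χ ∈ (insert χ' E)ᶜ, (classInner (altSq G Ω) (χ : G → ℂ) • (χ : G → ℂ)) g = 0 := by
      apply Finset.sum_eq_zero
      intro χ hχ
      rw [Pi.smul_apply, hρ χ, hρzero χ (by rw [hS]; exact hχ)]
      simp
    rw [h3, add_zero, Pi.smul_apply, hAχ', hr_eq]
    congr 1
    · simp
    · apply Finset.sum_congr rfl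
      intro χ hχ
      rw [Pi.smul_apply, hAE χ hχ, hr_eq]
      simp
  -- fixed points
  have hfix : ∀ g : G, g ≠ 1 → fx G Ω g ≤ 2 := by
    intro g hg1
    by_cases hgc : ∀ k : G, k * g * k⁻¹ ∉ P
    · have hv := hAval g
      rw [hχ', Finset.sum_congr rfl (fun χ hχ => hΛ χ hχ g (Or.inr hgc)), Finset.sum_const,
        nsmul_eq_mul, hΛval g (Or.inr hgc)] at hv
      unfold altSq pch at hv
      have hv' : ((fx G Ω (g ^ 2) : ℤ) : ℂ)
          = (((fx G Ω g : ℤ)) ^ 2 - ((p : ℤ) + 1) * (fx G Ω g : ℤ) + 2 * (p : ℤ) : ℤ) := by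
        push_cast
        rw [hpC]
        have : ((t : ℕ) : ℂ) = (E.card : ℂ) := by rw [ht]
        rw [this]
        linear_combination (-2 : ℂ) * hv
      have hv'' : (fx G Ω (g ^ 2) : ℤ)
          = ((fx G Ω g : ℤ)) ^ 2 - ((p : ℤ) + 1) * (fx G Ω g : ℤ) + 2 * (p : ℤ) := by
        exact_mod_cast hv'
      have hlt : fx G Ω g < p := by
        have hle := fx_le_card (Ω := Ω) g
        rw [hΩ] at hle
        rcases Nat.lt_or_ge (fx G Ω g) p with h | h
        · exact h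
        · exfalso
          apply hg1
          apply eq_one_of_fx_eq hfaith g
          rw [hΩ]; omega
      exact Cfsg.H5.S4706FO67.fix_le_two p (fx G Ω g) (fx G Ω (g ^ 2)) hp5 (fx_le_sq g) hlt hv''
    · push Not at hgc
      obtain ⟨k, hk⟩ := hgc
      have : IsEmpty (MulAction.fixedBy Ω g) := ⟨fun x => hfpf g hg1 ⟨k, hk⟩ x.1 x.2⟩
      have h0 : fx G Ω g = 0 := by
        unfold fx
        rw [Nat.card_of_isEmpty]
      omega
  refine ⟨hfix, ?_⟩
  -- the order bound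
  have hsq := sum_irr_degree_sq (G := G)
  have hsqR : (Nat.card G : ℝ) = ∑ χ : IrrCharacter G, ((charDegree (χ : G → ℂ) : ℝ)) ^ 2 := by
    have h1 : ∑ χ : IrrCharacter G, (χ : G → ℂ) 1 ^ 2
        = ((∑ χ : IrrCharacter G, ((charDegree (χ : G → ℂ) : ℝ)) ^ 2 : ℝ) : ℂ) := by
      push_cast
      apply Finset.sum_congr rfl
      intro χ _
      rw [hdeg χ]
    rw [h1] at hsq
    exact_mod_cast hsq.symm
  have hdegχ' : (charDegree (χ' : G → ℂ) : ℝ) = (p : ℝ) - 1 := by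
    have h := hχ'deg
    rw [hdeg χ'] at h
    have h' : ((charDegree (χ' : G → ℂ) : ℝ) : ℂ) = (((p : ℝ) - 1 : ℝ) : ℂ) := by
      push_cast; exact h
    exact_mod_cast h'
  have hdegE : ∀ χ ∈ E, (charDegree (χ : G → ℂ) : ℝ) = (p : ℝ) - 2 := by
    intro χ hχ
    have h := hΛ χ hχ 1 (Or.inl rfl)
    rw [hdeg χ, hΛ1] at h
    have h' : ((charDegree (χ : G → ℂ) : ℝ) : ℂ) = (((p : ℝ) - 2 : ℝ) : ℂ) := by
      push_cast; exact h
    exact_mod_cast h'
  have hlower : ((p : ℝ) - 1) ^ 2 + (t : ℝ) * ((p : ℝ) - 2) ^ 2 ≤ (Nat.card G : ℝ) := by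
    rw [hsqR, ← Finset.sum_add_sum_compl S, hS, Finset.sum_insert hχ'E, hdegχ',
      Finset.sum_congr rfl (fun χ hχ => by rw [hdegE χ hχ]), Finset.sum_const, nsmul_eq_mul]
    have : 0 ≤ ∑ χ ∈ (insert χ' E)ᶜ, ((charDegree (χ : G → ℂ) : ℝ)) ^ 2 :=
      Finset.sum_nonneg (fun χ _ => sq_nonneg _)
    linarith
  have hfinal : ((p * (p - 1) * (p - 2) : ℕ) : ℝ) < ((2 * Nat.card G : ℕ) : ℝ) := by
    have h1 : ((p - 1 : ℕ) : ℝ) = (p : ℝ) - 1 := by
      rw [Nat.cast_sub (by omega)]; simp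
    have h2 : ((p - 2 : ℕ) : ℝ) = (p : ℝ) - 2 := by
      rw [Nat.cast_sub (by omega)]; simp
    push_cast
    rw [h1, h2]
    rw [hpR] at hlower ⊢
    nlinarith [hlower, htR]
  exact_mod_cast hfinal

end Main

end Cfsg.Agent.Lib.Helper11.S4706
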