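import Mathlib

/-!
S4707: the arithmetic behind the structure theorem (degree `2p`).
-/

set_option autoImplicit false

namespace Cfsg.Agent.Lib.Helper11.S4707

/-- degree arithmetic for a transitive action of degree `2p`, `p = 2t + 1` -/
theorem structure_arith (t a c d' x₀ R : ℕ) (m' ε' : ℤ) (ht : 2 ≤ t)
    (hm : m' = 1 ∨ m' = -1) (hε : ε' = 1 ∨ ε' = -1) (hd : 1 ≤ d') (hx : 1 ≤ x₀)
    (h1 : (c : ℤ) = ε' * (1 + m' * a))
    (h2 : 2 * (2 * t + 1) = 1 + a * d' + c * t * x₀ + R)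
    (h3 : 1 + m' * (d' : ℤ) = ε' * x₀)
    (hcong : ((2 * t + 1 : ℕ) : ℤ) ∣ (d' : ℤ) - m') :
    (m' = 1 ∧ ε' = 1 ∧ d' = 1) ∨
      (m' = -1 ∧ ε' = -1 ∧ a = 1 ∧ c = 0 ∧ (d' = 2 * t ∨ (d' = 4 * t + 1 ∧ R = 0))) := by
  have h2' : (2 : ℤ) * (2 * t + 1) = 1 + a * d' + c * t * x₀ + R := by exact_mod_cast h2
  have ha0 : (0 : ℤ) ≤ a := Int.natCast_nonneg a
  have hc0 : (0 : ℤ) ≤ c := Int.natCast_nonneg c
  have hR0 : (0 : ℤ) ≤ R := Int.natCast_nonneg R
  have hd1 : (1 : ℤ) ≤ d' := by exact_mod_cast hd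
  have hx1 : (1 : ℤ) ≤ x₀ := by exact_mod_cast hx
  have ht2 : (2 : ℤ) ≤ t := by exact_mod_cast ht
  obtain ⟨k, hk⟩ := hcong
  push_cast at hk
  rcases hm with rfl | rfl <;> rcases hε with rfl | rfl
  · -- (1, 1)
    left
    refine ⟨rfl, rfl, ?_⟩
    have hc : (c : ℤ) = 1 + a := by linarith
    have hx0 : (x₀ : ℤ) = 1 + d' := by linarith
    by_contra hne
    have hk1 : 1 ≤ k := by
      by_contra hk0
      push Not at hk0
      have hk0' : k ≤ 0 := by omega
      have : (d' : ℤ) - 1 ≤ 0 := by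
        rw [hk]
        exact mul_nonpos_of_nonneg_of_nonpos (by linarith) hk0'
      have hd'1 : (d' : ℤ) = 1 := by linarith
      exact hne (by exact_mod_cast hd'1)
    have hdge : (2 * (t : ℤ) + 2) ≤ d' := by nlinarith
    have hctx : (t : ℤ) * (2 * t + 3) ≤ c * t * x₀ := by
      rw [hc, hx0]
      have h5 : (t : ℤ) * (2 * t + 3) ≤ 1 * t * (1 + d') := by nlinarith
      have h6 : (1 : ℤ) * t * (1 + d') ≤ (1 + a) * t * (1 + d') := by
        have : (0 : ℤ) ≤ a * (t * (1 + d')) := mul_nonneg ha0 (mul_nonneg (by linarith) (by linarith))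
        nlinarith
      linarith
    have had : (0 : ℤ) ≤ a * d' := mul_nonneg ha0 (by linarith)
    nlinarith
  · -- (1, -1)
    exfalso
    linarith
  · -- (-1, 1)
    exfalso
    linarith
  · -- (-1, -1)
    right
    have hc : (c : ℤ) = a - 1 := by linarith
    have hx0 : (x₀ : ℤ) = d' - 1 := by linarith
    have ha1 : (1 : ℤ) ≤ a := by linarith
    have hk1 : 1 ≤ k := by
      by_contra hk0
      push Not at hk0
      have hk0' : k ≤ 0 := by omega
      have : (d' : ℤ) - (-1) ≤ 0 := by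
        rw [hk]
        exact mul_nonpos_of_nonneg_of_nonpos (by linarith) hk0'
      linarith
    have hdge : (2 * (t : ℤ)) ≤ d' := by nlinarith
    have ha : (a : ℤ) = 1 := by
      by_contra hne
      have ha2 : (2 : ℤ) ≤ a := by omega
      have h5 : (2 : ℤ) * (2 * t) ≤ a * d' := by nlinarith
      have h6 : (1 : ℤ) * t * (2 * t - 1) ≤ c * t * x₀ := by
        rw [hc, hx0]
        have h7 : (1 : ℤ) * t * (2 * t - 1) ≤ 1 * t * (d' - 1) := by nlinarith
        have h8 : (1 : ℤ) * t * (d' - 1) ≤ (a - 1) * t * (d' - 1) := by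
          have : (0 : ℤ) ≤ (a - 2) * (t * (d' - 1)) :=
            mul_nonneg (by linarith) (mul_nonneg (by linarith) (by linarith))
          nlinarith
        linarith
      nlinarith
    have hc0' : (c : ℤ) = 0 := by rw [hc, ha]; ring
    have ha' : a = 1 := by exact_mod_cast ha
    have hc' : c = 0 := by exact_mod_cast hc0'
    refine ⟨rfl, rfl, ha', hc', ?_⟩
    rw [ha, hc0'] at h2'
    have hk2 : k ≤ 2 := by
      by_contra hk3
      push Not at hk3
      have : (3 : ℤ) * (2 * t + 1) ≤ (2 * t + 1) * k := by nlinarith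
      linarith
    have hkc : k = 1 ∨ k = 2 := by omega
    rcases hkc with rfl | rfl
    · left
      have : (d' : ℤ) = 2 * t := by linarith
      exact_mod_cast this
    · right
      have h9 : (d' : ℤ) = 4 * t + 1 := by linarith
      have h10 : (R : ℤ) = 0 := by linarith
      exact ⟨by exact_mod_cast h9, by exact_mod_cast h10⟩

end Cfsg.Agent.Lib.Helper11.S4707
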