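import Cfsg.Agent.Lib.Helper11.S4706D
import Cfsg.Agent.Lib.Helper11.S4707A
import Cfsg.Agent.Lib.Helper11.ExcDegree4
import Cfsg.Agent.Lib.Helper2.TwoTransitive

/-!
S4707: the structure theorem.  For a simple group acting transitively, not doubly transitively,
on `2p` points with the `brauer_e2` package: `m' = ε' = -1`, `χ'(1) = p - 1` and `χ'` occurs
exactly once in the permutation character.
-/

set_option autoImplicit false

namespace Cfsg.Agent.Lib.Helper11.S4707

open Cfsg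
open Cfsg.Agent.Lib.Helper2
open Cfsg.Agent.Lib.Helper2.RankFive
open Cfsg.Agent.Lib.Helper11
open Cfsg.Agent.Lib.Helper11.S4706
open scoped ComplexConjugate

variable {G : Type*} [Group G] [Fintype G] {Ω : Type*} [Fintype Ω] [MulAction G Ω]

theorem structure_2p [MulAction.IsPretransitive G Ω]
    (p : ℕ) [hpF : Fact p.Prime] (hp5 : 5 ≤ p) (hΩ : Nat.card Ω = 2 * p) (P : Sylow p G)
    (hP : Nat.card P = p)
    (hfpf : ∀ g : G, g ≠ 1 → (∃ k : G, k * g * k⁻¹ ∈ (P : Subgroup G)) → ∀ a : Ω, g • a ≠ a)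
    (hnot2 : ¬ MulAction.IsMultiplyPretransitive G Ω 2)
    (hsimple : ∀ N : Subgroup G, N.Normal → N = ⊥ ∨ N = ⊤)
    (χ' : IrrCharacter G) (m' ε' : ℤ) (E : Finset (IrrCharacter G)) (Λ : G → ℂ)
    (hm' : m' = 1 ∨ m' = -1) (hε' : ε' = 1 ∨ ε' = -1) (hE : 2 * E.card + 1 = p)
    (hχ'1 : χ' ≠ trivialIrr G) (hχ'E : χ' ∉ E) (htE : trivialIrr G ∉ E)
    (hΛ : ∀ χ ∈ E, ∀ g : G, (g = 1 ∨ ∀ k : G, k * g * k⁻¹ ∉ (P : Subgroup G)) →
      (χ : G → ℂ) g = Λ g)
    (hrel : ∀ g : G, (g = 1 ∨ ∀ k : G, k * g * k⁻¹ ∉ (P : Subgroup G)) →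
      1 + (m' : ℂ) * (χ' : G → ℂ) g = (ε' : ℂ) * Λ g)
    (hχ'P : ∀ g ∈ (P : Subgroup G), g ≠ 1 → (χ' : G → ℂ) g = (m' : ℂ))
    (hvan : ∀ χ : IrrCharacter G, χ ≠ trivialIrr G → χ ≠ χ' → χ ∉ E →
      ∀ g ∈ (P : Subgroup G), g ≠ 1 → (χ : G → ℂ) g = 0) :
    m' = -1 ∧ ε' = -1 ∧ (χ' : G → ℂ) 1 = (p : ℂ) - 1 ∧ mult Ω χ' = 1 := by
  classical
  haveI : Fintype (IrrCharacter G) := Fintype.ofFinite _
  have hp := hpF.out
  obtain ⟨a⟩ : Nonempty Ω := by
    have : 0 < Nat.card Ω := by rw [hΩ]; have := hp.pos; omega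
    exact (Nat.card_pos_iff.1 this).1
  have hpv : ∀ g : G, g ≠ 1 → (∃ k : G, k * g * k⁻¹ ∈ (P : Subgroup G)) → pc G Ω g = 0 :=
    fun g hg hk => pch_eq_zero_of_fpf g (hfpf g hg hk)
  have hdeg : ∀ χ : IrrCharacter G, (χ : G → ℂ) 1 = (charDegree (χ : G → ℂ) : ℂ) :=
    fun χ => TwoDeg.apply_one_eq_charDegree χ
  have hdegpos : ∀ χ : IrrCharacter G, 1 ≤ charDegree (χ : G → ℂ) := by
    intro χ
    obtain ⟨d, hd0, hd⟩ := IsIrrCharacter.apply_one χ.2
    have h := hdeg χ
    rw [hd] at h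
    have : d = charDegree (χ : G → ℂ) := by exact_mod_cast h
    omega
  have hdegtriv : charDegree ((trivialIrr G : IrrCharacter G) : G → ℂ) = 1 := by
    have h := hdeg (trivialIrr G)
    have h1 : (trivialIrr G : G → ℂ) 1 = 1 := rfl
    rw [h1] at h
    exact_mod_cast h.symm
  -- multiplicities of the exceptional characters
  set b := mult Ω χ' with hb
  have hmultE : ∀ χ ∈ E, ((mult Ω χ : ℕ) : ℤ) = ε' * (1 + m' * (b : ℤ)) := by
    intro χ hχ
    have h := inner_exc (P : Subgroup G) χ' m' ε' Λ hε' hrel χ (hΛ χ hχ) (pc G Ω) hpv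
    rw [mult_spec a χ, mult_spec a (trivialIrr G), mult_spec a χ', mult_trivial a] at h
    have h' : ((mult Ω χ : ℕ) : ℂ) = ((ε' * (1 + m' * (b : ℤ)) : ℤ) : ℂ) := by
      rw [h]; push_cast; ring
    exact_mod_cast h'
  have hsum := card_eq_sum (G := G) (Ω := Ω) a
  rw [hΩ] at hsum
  have hEcard : 2 ≤ E.card := by omega
  obtain ⟨χ₀, hχ₀⟩ : E.Nonempty := Finset.card_pos.1 (by omega)
  set x₀ := charDegree (χ₀ : G → ℂ) with hx₀
  have hΛ1 : Λ 1 = (x₀ : ℂ) := by rw [← hΛ χ₀ hχ₀ 1 (Or.inl rfl), hdeg χ₀]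
  have hdegE : ∀ χ ∈ E, charDegree (χ : G → ℂ) = x₀ := by
    intro χ hχ
    have h := hΛ χ hχ 1 (Or.inl rfl)
    rw [hdeg χ, hΛ1] at h
    exact_mod_cast h
  set c := mult Ω χ₀ with hc
  have hmultE' : ∀ χ ∈ E, mult Ω χ = c := by
    intro χ hχ
    have h1 := hmultE χ hχ
    have h2 := hmultE χ₀ hχ₀
    have : ((mult Ω χ : ℕ) : ℤ) = ((c : ℕ) : ℤ) := by rw [h1, h2]
    exact_mod_cast this
  set d' := charDegree (χ' : G → ℂ) with hd'
  -- the degree equation
  set S : Finset (IrrCharacter G) := insert (trivialIrr G) (insert χ' E) with hS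
  set R := ∑ χ ∈ Sᶜ, mult Ω χ * charDegree (χ : G → ℂ) with hR
  have htS : trivialIrr G ∉ insert χ' E := by
    rw [Finset.mem_insert]
    push Not
    exact ⟨hχ'1.symm, htE⟩
  have hsumE : ∑ χ ∈ E, mult Ω χ * charDegree (χ : G → ℂ) = E.card * (c * x₀) := by
    rw [Finset.sum_congr rfl (fun χ hχ => by rw [hmultE' χ hχ, hdegE χ hχ]), Finset.sum_const,
      smul_eq_mul]
  rw [← Finset.sum_add_sum_compl S, hS, Finset.sum_insert htS, Finset.sum_insert hχ'E,
    mult_trivial a, hdegtriv, hsumE] at hsum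
  have h3 : 1 + m' * (d' : ℤ) = ε' * (x₀ : ℤ) := by
    have h := hrel 1 (Or.inl rfl)
    rw [hdeg χ', hΛ1] at h
    have h' : ((1 + m' * (d' : ℤ) : ℤ) : ℂ) = ((ε' * (x₀ : ℤ) : ℤ) : ℂ) := by
      push_cast; exact h
    exact_mod_cast h'
  have h2 : 2 * (2 * E.card + 1) = 1 + b * d' + c * E.card * x₀ + R := by
    have e1 : E.card * (c * x₀) = c * E.card * x₀ := by ring
    rw [hE]
    try rw [← hS] at hsum
    try rw [← hR] at hsum
    try rw [← hb] at hsum
    try rw [← hd'] at hsum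
    rw [e1] at hsum
    omega
  have hcong : ((2 * E.card + 1 : ℕ) : ℤ) ∣ (d' : ℤ) - m' := by
    have h := dvd_degree_sub_of_const (H := (P : Subgroup G)) (IsIrrCharacter.isCharacter χ'.2) d' m'
      (hdeg χ') hχ'P
    rw [hP] at h
    rw [hE]
    exact h
  rcases structure_arith E.card b c d' x₀ R m' ε' hEcard hm' hε' (hdegpos χ') (hdegpos χ₀)
    (hmultE χ₀ hχ₀) h2 h3 hcong with ⟨hm1, hε1, hd1⟩ | ⟨hm1, hε1, hb1, hc0, hdcase⟩
  · -- the linear case contradicts simplicity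
    exfalso
    have hχ'one : (χ' : G → ℂ) 1 = 1 := by rw [hdeg χ', ← hd', hd1]; simp
    obtain ⟨φ, hφ⟩ := exists_monoidHom_of_isIrrCharacter_of_apply_one χ'.2 hχ'one
    have hPle : (P : Subgroup G) ≤ φ.ker := by
      intro g hg
      rw [MonoidHom.mem_ker]
      by_cases hg1 : g = 1
      · rw [hg1, map_one]
      · have h := hχ'P g hg hg1
        rw [hφ, hm1] at h
        apply Units.ext
        simpa using h
    rcases hsimple φ.ker (MonoidHom.normal_ker φ) with hbot | htop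
    · rw [hbot] at hPle
      have hPbot : (P : Subgroup G) = ⊥ := le_bot_iff.1 hPle
      have : Nat.card (P : Subgroup G) = 1 := by rw [hPbot]; simp
      rw [hP] at this
      omega
    · apply hχ'1
      apply Subtype.ext
      funext g
      have hg : g ∈ φ.ker := by rw [htop]; exact Subgroup.mem_top g
      rw [MonoidHom.mem_ker] at hg
      rw [hφ]
      show ((φ g : ℂˣ) : ℂ) = 1
      rw [hg]
      simp
  · refine ⟨hm1, hε1, ?_, hb1⟩
    rcases hdcase with hd2 | ⟨hd2, hR0⟩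
    · rw [hdeg χ', ← hd', hd2, ← hE]
      push_cast
      ring
    · -- the doubly transitive case is excluded
      exfalso
      apply hnot2
      have hother : ∀ χ ∈ Sᶜ, mult Ω χ = 0 := by
        intro χ hχ
        have h := (Finset.sum_eq_zero_iff.1 hR0) χ hχ
        rcases Nat.mul_eq_zero.1 h with h | h
        · exact h
        · have := hdegpos χ
          omega
      have hexp := classFunction_expansion (pc G Ω) (pc_isClassFunction a)
      have hχ'eq : (χ' : G → ℂ) = fun g => (Nat.card (MulAction.fixedBy Ω g) : ℂ) - 1 := by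
        funext g
        have hg := congrFun hexp g
        rw [Finset.sum_apply] at hg
        have hsumg : ∑ χ : IrrCharacter G, (classInner (pc G Ω) (χ : G → ℂ) • (χ : G → ℂ)) g
            = ∑ χ ∈ ({trivialIrr G, χ'} : Finset (IrrCharacter G)),
              (classInner (pc G Ω) (χ : G → ℂ) • (χ : G → ℂ)) g := by
          symm
          apply Finset.sum_subset (Finset.subset_univ _)
          intro χ _ hχS
          rw [Finset.mem_insert, Finset.mem_singleton] at hχS
          push Not at hχS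
          rw [Pi.smul_apply, mult_spec a χ]
          by_cases hχE : χ ∈ E
          · rw [hmultE' χ hχE, hc0]; simp
          · have hχSc : χ ∈ Sᶜ := by
              rw [Finset.mem_compl, hS, Finset.mem_insert, Finset.mem_insert]
              push Not
              exact ⟨hχS.1, hχS.2, hχE⟩
            rw [hother χ hχSc]; simp
        rw [hsumg, Finset.sum_pair hχ'1.symm, Pi.smul_apply, Pi.smul_apply, mult_spec a,
          mult_spec a, mult_trivial a, ← hb, hb1] at hg
        have h1 : (trivialIrr G : G → ℂ) g = 1 := rfl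
        rw [h1] at hg
        have hpcg : pc G Ω g = (Nat.card (MulAction.fixedBy Ω g) : ℂ) := rfl
        rw [← hpcg, hg]
        simp
      rw [← Cfsg.Agent.Lib.Helper2.isIrrCharacter_fixedPoints_sub_one_iff Ω
        (by rw [hΩ]; have := hp.two_le; omega)]
      have h := χ'.2
      rwa [hχ'eq] at h

end Cfsg.Agent.Lib.Helper11.S4707
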