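import Cfsg.Agent.Lib.Helper11.S4706D
import Cfsg.Agent.Lib.Helper11.GenChar

/-!
S4707: the alternating square of `χ'` is exactly the sum of the exceptional characters, hence
`χ'(g)^2 - χ'(g^2) = (p - 1)(χ'(g) - 1)` for the `p`-regular elements `g`.
-/

set_option autoImplicit false

namespace Cfsg.Agent.Lib.Helper11.S4707

open Cfsg
open Cfsg.Agent.Lib.Helper2
open Cfsg.Agent.Lib.Helper11
open Cfsg.Agent.Lib.Helper11.S4706
open scoped ComplexConjugate

variable {G : Type*} [Group G] [Fintype G]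

theorem alt_exact (p : ℕ) (hp : p.Prime) (hp5 : 5 ≤ p) (P : Subgroup G) (hP : Nat.card P = p)
    (χ' : IrrCharacter G) (E : Finset (IrrCharacter G)) (Λ : G → ℂ) (hE : 2 * E.card + 1 = p)
    (hχ'1 : χ' ≠ trivialIrr G) (hχ'E : χ' ∉ E) (htE : trivialIrr G ∉ E)
    (hΛ : ∀ χ ∈ E, ∀ g : G, (g = 1 ∨ ∀ k : G, k * g * k⁻¹ ∉ P) → (χ : G → ℂ) g = Λ g)
    (hrel : ∀ g : G, (g = 1 ∨ ∀ k : G, k * g * k⁻¹ ∉ P) → Λ g = (χ' : G → ℂ) g - 1)
    (hdeg' : (χ' : G → ℂ) 1 = (p : ℂ) - 1)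
    (hχ'P : ∀ g ∈ P, g ≠ 1 → (χ' : G → ℂ) g = -1)
    (hreal : ∀ g : G, conj ((χ' : G → ℂ) g) = (χ' : G → ℂ) g)
    (hfs : (Nat.card G : ℂ)⁻¹ * ∑ s : G, (χ' : G → ℂ) (s * s) = 1)
    (hAchar : IsCharacter G (fun g => ((χ' : G → ℂ) g ^ 2 - (χ' : G → ℂ) (g ^ 2)) / 2)) :
    ∀ g : G, (g = 1 ∨ ∀ k : G, k * g * k⁻¹ ∉ P) →
      (χ' : G → ℂ) g ^ 2 - (χ' : G → ℂ) (g ^ 2) = ((p : ℂ) - 1) * ((χ' : G → ℂ) g - 1) := by
  classical
  haveI : Fintype (IrrCharacter G) := Fintype.ofFinite _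
  set A : G → ℂ := fun g => ((χ' : G → ℂ) g ^ 2 - (χ' : G → ℂ) (g ^ 2)) / 2 with hA
  set t := E.card with ht
  have hχ'cf : IsClassFunction G (χ' : G → ℂ) :=
    IsCharacter.isClassFunction (IsIrrCharacter.isCharacter χ'.2)
  have hdeg : ∀ χ : IrrCharacter G, (χ : G → ℂ) 1 = (charDegree (χ : G → ℂ) : ℂ) :=
    fun χ => TwoDeg.apply_one_eq_charDegree χ
  have hdegpos : ∀ χ : IrrCharacter G, 1 ≤ charDegree (χ : G → ℂ) := by
    intro χ
    obtain ⟨d, hd0, hd⟩ := IsIrrCharacter.apply_one χ.2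
    have h := hdeg χ
    rw [hd] at h
    have : d = charDegree (χ : G → ℂ) := by exact_mod_cast h
    omega
  have hΛ1 : Λ 1 = (p : ℂ) - 2 := by
    rw [hrel 1 (Or.inl rfl), hdeg']; ring
  have hrel' : ∀ g : G, (g = 1 ∨ ∀ k : G, k * g * k⁻¹ ∉ P) →
      1 + ((-1 : ℤ) : ℂ) * (χ' : G → ℂ) g = ((-1 : ℤ) : ℂ) * Λ g := by
    intro g hg
    rw [hrel g hg]
    push_cast
    ring
  -- `[A, 1] = 0`
  have hAtriv : classInner A (trivialIrr G : G → ℂ) = 0 := by
    rw [classInner_def]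
    have h1 : ∀ g : G, A g * conj ((trivialIrr G : G → ℂ) g)
        = ((χ' : G → ℂ) g * conj ((χ' : G → ℂ) g) - (χ' : G → ℂ) (g * g)) / 2 := by
      intro g
      have : (trivialIrr G : G → ℂ) g = 1 := rfl
      rw [this, map_one, mul_one, hreal g, hA]
      simp only [pow_two]
    rw [Finset.sum_congr rfl (fun g _ => h1 g), ← Finset.sum_div, Finset.sum_sub_distrib,
      mul_div_assoc', mul_sub]
    have h2 := classInner_irrCharacter_self χ'
    rw [classInner_def] at h2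
    rw [h2, hfs]
    norm_num
  -- `A + χ'` vanishes on the conjugates of `P ∖ 1`
  have hFv : ∀ g : G, g ≠ 1 → (∃ k : G, k * g * k⁻¹ ∈ P) → (A + (χ' : G → ℂ)) g = 0 := by
    intro g hg1 ⟨k, hk⟩
    have hg2 : g ^ 2 ≠ 1 := by
      intro h2
      have ho2 : orderOf g ∣ 2 := orderOf_dvd_of_pow_eq_one h2
      have hop : orderOf (⟨k * g * k⁻¹, hk⟩ : P) ∣ p := by
        have := orderOf_dvd_natCard (⟨k * g * k⁻¹, hk⟩ : P)
        rwa [hP] at this
      have hoeq : orderOf (⟨k * g * k⁻¹, hk⟩ : P) = orderOf g := by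
        rw [← Subgroup.orderOf_coe]
        show orderOf (k * g * k⁻¹) = orderOf g
        have := MulEquiv.orderOf_eq (MulAut.conj k) g
        rwa [MulAut.conj_apply] at this
      rw [hoeq] at hop
      have h1 : orderOf g ∣ Nat.gcd 2 p := Nat.dvd_gcd ho2 hop
      have hcop : Nat.gcd 2 p = 1 := by
        have : Nat.Coprime 2 p := by
          rw [Nat.coprime_primes Nat.prime_two hp]
          omega
        exact this
      rw [hcop, Nat.dvd_one, orderOf_eq_one_iff] at h1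
      exact hg1 h1
    have hk2 : k * g ^ 2 * k⁻¹ ∈ P := by
      rw [← conj_pow]
      exact P.pow_mem hk 2
    have hkg1 : k * g * k⁻¹ ≠ 1 := by
      intro h
      apply hg1
      have : g = k⁻¹ * (k * g * k⁻¹) * k := by group
      rw [this, h]; group
    have hkg2 : k * g ^ 2 * k⁻¹ ≠ 1 := by
      intro h
      apply hg2
      have : g ^ 2 = k⁻¹ * (k * g ^ 2 * k⁻¹) * k := by group
      rw [this, h]; group
    have h1 : (χ' : G → ℂ) g = -1 := by
      rw [← hχ'cf g k]; exact hχ'P _ hk hkg1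
    have h2 : (χ' : G → ℂ) (g ^ 2) = -1 := by
      rw [← hχ'cf (g ^ 2) k]; exact hχ'P _ hk2 hkg2
    show A g + (χ' : G → ℂ) g = 0
    rw [hA]
    simp only
    rw [h1, h2]
    norm_num
  -- inner products
  obtain ⟨n', hn'⟩ := IsCharacter.inner_irr_nat hAchar χ'
  have hAE : ∀ χ ∈ E, classInner A (χ : G → ℂ) = 1 + (n' : ℂ) := by
    intro χ hχ
    have hne : χ' ≠ χ := fun h => hχ'E (h ▸ hχ)
    have hne1 : χ' ≠ trivialIrr G := hχ'1
    have h := inner_exc P χ' (-1) (-1) Λ (Or.inr rfl) hrel' χ (hΛ χ hχ) (A + (χ' : G → ℂ)) hFv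
    rw [classInner_add_left, classInner_add_left, classInner_add_left, hAtriv,
      classInner_irrCharacter_ne hne, classInner_irrCharacter_ne hne1,
      classInner_irrCharacter_self, hn'] at h
    rw [add_zero] at h
    rw [h]
    push_cast
    ring
  have hA1 : ∀ χ : IrrCharacter G, ∃ n : ℕ, classInner A (χ : G → ℂ) = (n : ℂ) :=
    fun χ => IsCharacter.inner_irr_nat hAchar χ
  choose ρ hρ using hA1
  -- expansion at the identity
  have hAcf : IsClassFunction G A := IsCharacter.isClassFunction hAchar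
  have hexp := classFunction_expansion A hAcf
  have hA1val : A 1 = (((p : ℂ) - 1) ^ 2 - ((p : ℂ) - 1)) / 2 := by
    rw [hA]
    simp only
    rw [one_pow, hdeg']
  have hexp1 := congrFun hexp 1
  rw [Finset.sum_apply, hA1val] at hexp1
  set S : Finset (IrrCharacter G) := insert χ' E with hS
  have hsplit : ∑ χ : IrrCharacter G, (classInner A (χ : G → ℂ) • (χ : G → ℂ)) 1
      = (n' : ℂ) * ((p : ℂ) - 1) + (t : ℂ) * ((1 + (n' : ℂ)) * ((p : ℂ) - 2))
        + ((∑ χ ∈ Sᶜ, ρ χ * charDegree (χ : G → ℂ) : ℕ) : ℂ) := by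
    rw [← Finset.sum_add_sum_compl S, hS, Finset.sum_insert hχ'E]
    congr 1
    · congr 1
      · rw [Pi.smul_apply, hn', hdeg', smul_eq_mul]
      · rw [Finset.sum_congr rfl (fun χ hχ => by
          rw [Pi.smul_apply, hAE χ hχ, hΛ χ hχ 1 (Or.inl rfl), hΛ1, smul_eq_mul]),
          Finset.sum_const, nsmul_eq_mul]
    · push_cast
      apply Finset.sum_congr rfl
      intro χ _
      rw [Pi.smul_apply, hρ χ, hdeg χ, smul_eq_mul]
  rw [hsplit] at hexp1
  have hpt : p = 2 * t + 1 := hE.symm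
  -- pass to the integers
  have hint : (((2 * t + 1 : ℕ) : ℤ) - 1) ^ 2 - (((2 * t + 1 : ℕ) : ℤ) - 1)
      = 2 * ((n' : ℤ) * (((2 * t + 1 : ℕ) : ℤ) - 1)
        + (t : ℤ) * ((1 + (n' : ℤ)) * (((2 * t + 1 : ℕ) : ℤ) - 2))
        + ((∑ χ ∈ Sᶜ, ρ χ * charDegree (χ : G → ℂ) : ℕ) : ℤ)) := by
    have hc : (((((2 * t + 1 : ℕ) : ℤ) - 1) ^ 2 - (((2 * t + 1 : ℕ) : ℤ) - 1) : ℤ) : ℂ)
        = ((2 * ((n' : ℤ) * (((2 * t + 1 : ℕ) : ℤ) - 1)
        + (t : ℤ) * ((1 + (n' : ℤ)) * (((2 * t + 1 : ℕ) : ℤ) - 2))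
        + ((∑ χ ∈ Sᶜ, ρ χ * charDegree (χ : G → ℂ) : ℕ) : ℤ)) : ℤ) : ℂ) := by
      rw [hpt] at hexp1
      push_cast
      push_cast at hexp1
      linear_combination (2 : ℂ) * hexp1
    exact_mod_cast hc
  set Rr : ℕ := ∑ χ ∈ Sᶜ, ρ χ * charDegree (χ : G → ℂ) with hRr
  have ht2 : 2 ≤ t := by omega
  have hkey : (n' : ℤ) * (2 * t) + (t : ℤ) * (n' : ℤ) * (2 * t - 1) + (Rr : ℤ) = 0 := by
    push_cast at hint
    nlinarith [hint]
  have hn0 : n' = 0 := by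
    by_contra hne
    have h1 : (1 : ℤ) ≤ n' := by
      have : 1 ≤ n' := Nat.one_le_iff_ne_zero.2 hne
      exact_mod_cast this
    have h2 : (0 : ℤ) ≤ Rr := Int.natCast_nonneg _
    have h3 : (2 : ℤ) ≤ t := by exact_mod_cast ht2
    have h4 : (0 : ℤ) ≤ (t : ℤ) * (n' : ℤ) * (2 * t - 1) :=
      mul_nonneg (mul_nonneg (by linarith) (by linarith)) (by linarith)
    nlinarith
  have hR0 : Rr = 0 := by
    rw [hn0] at hkey
    have : (Rr : ℤ) = 0 := by simpa using hkey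
    exact_mod_cast this
  have hρzero : ∀ χ ∈ Sᶜ, ρ χ = 0 := by
    intro χ hχ
    have h := (Finset.sum_eq_zero_iff.1 hR0) χ hχ
    rcases Nat.mul_eq_zero.1 h with h | h
    · exact h
    · have := hdegpos χ
      omega
  -- the alternating square is `Σ_E χ`
  have hAval : ∀ g : G, A g = ∑ χ ∈ E, (χ : G → ℂ) g := by
    intro g
    have hg := congrFun hexp g
    rw [Finset.sum_apply, ← Finset.sum_add_sum_compl S, hS, Finset.sum_insert hχ'E] at hg
    rw [hg]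
    have h3 : ∑ χ ∈ (insert χ' E)ᶜ, (classInner A (χ : G → ℂ) • (χ : G → ℂ)) g = 0 := by
      apply Finset.sum_eq_zero
      intro χ hχ
      rw [Pi.smul_apply, hρ χ, hρzero χ (by rw [hS]; exact hχ)]
      simp
    rw [h3, add_zero, Pi.smul_apply, hn', hn0]
    simp only [Nat.cast_zero, zero_smul, zero_add]
    apply Finset.sum_congr rfl
    intro χ hχ
    rw [Pi.smul_apply, hAE χ hχ, hn0]
    simp
  intro g hg
  have hv := hAval g
  rw [Finset.sum_congr rfl (fun χ hχ => hΛ χ hχ g hg), Finset.sum_const, nsmul_eq_mul,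
    hrel g hg] at hv
  have hpC : (p : ℂ) = 2 * (t : ℂ) + 1 := by
    rw [hpt]; push_cast; ring
  rw [hpC]
  have hv' : ((χ' : G → ℂ) g ^ 2 - (χ' : G → ℂ) (g ^ 2)) / 2
      = (t : ℂ) * ((χ' : G → ℂ) g - 1) := hv
  linear_combination (2 : ℂ) * hv'

end Cfsg.Agent.Lib.Helper11.S4707
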