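import Mathlib

/-!
S4707 FO-COUNT: the counting argument for the integer values of `χ'`.
-/

set_option autoImplicit false

namespace Cfsg.Agent.Lib.Helper11.S4707

theorem count_main {G : Type*} [Group G] [Fintype G] [DecidableEq G] (p : ℕ) (hp5 : 5 ≤ p)
    (c : G → ℤ) (S : Finset G) (h1S : (1 : G) ∉ S)
    (hScard : S.card * (2 * p) = (p - 1) * Fintype.card G)
    (hc1 : c 1 = (p : ℤ) - 1) (hcS : ∀ g ∈ S, c g = -1)
    (hle : ∀ g : G, g ≠ 1 → c g ≤ (p : ℤ) - 2)
    (hrel : ∀ g : G, g ∉ S → c g ^ 2 - c (g ^ 2) = ((p : ℤ) - 1) * (c g - 1))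
    (hs1 : ∑ g, c g = 0) (hs2 : ∑ g, c g ^ 2 = (Fintype.card G : ℤ))
    (hs3 : ∑ g, c g ^ 3 = (Fintype.card G : ℤ)) :
    (∀ g : G, g ∉ S → g ≠ 1 → g ^ 2 = 1 → c g = 0) ∧
    (∀ g : G, g ∉ S → g ^ 2 ≠ 1 → c g = 1) ∧
    Fintype.card G = p * (p - 1) * (p - 2) := by
  have hp5Z : (5 : ℤ) ≤ (p : ℤ) := by exact_mod_cast hp5
  set n : ℤ := (Fintype.card G : ℤ) with hn
  have hScardZ : (S.card : ℤ) * (2 * (p : ℤ)) = ((p : ℤ) - 1) * n := by
    have h : ((S.card * (2 * p) : ℕ) : ℤ) = (((p - 1) * Fintype.card G : ℕ) : ℤ) := by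
      rw [hScard]
    rw [Nat.cast_mul, Nat.cast_mul, Nat.cast_mul, Nat.cast_sub (by omega)] at h
    push_cast at h
    exact h
  -- involutions
  have hinv : ∀ g : G, g ∉ S → g ≠ 1 → g ^ 2 = 1 → c g = 0 := by
    intro g hgS hg1 hg2
    have h := hrel g hgS
    rw [hg2, hc1] at h
    have h2 : c g * (c g - ((p : ℤ) - 1)) = 0 := by nlinarith
    rcases mul_eq_zero.1 h2 with h3 | h3
    · exact h3
    · have := hle g hg1
      omega
  -- bounds for the remaining elements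
  have hbd : ∀ g : G, g ∉ S → g ^ 2 ≠ 1 → 1 ≤ c g ∧ c g ≤ (p : ℤ) - 2 := by
    intro g hgS hg2
    have hg1 : g ≠ 1 := by
      intro h
      apply hg2
      rw [h, one_pow]
    have h := hrel g hgS
    have h2 := hle (g ^ 2) hg2
    refine ⟨?_, hle g hg1⟩
    by_contra hneg
    push Not at hneg
    have hc0 : c g ≤ 0 := by omega
    nlinarith
  -- the cubic
  set q : G → ℤ := fun g => c g ^ 3 - (p : ℤ) * c g ^ 2 + ((p : ℤ) - 1) * c g with hq
  have hqf : ∀ g : G, q g = c g * (c g - 1) * (c g - ((p : ℤ) - 1)) := by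
    intro g
    rw [hq]
    ring
  have hqsum : ∑ g, q g = -((p : ℤ) - 1) * n := by
    rw [hq]
    simp only
    rw [Finset.sum_add_distrib, Finset.sum_sub_distrib, ← Finset.mul_sum, ← Finset.mul_sum, hs1,
      hs2, hs3]
    ring
  set r : G → ℤ := fun g => (if g ∈ S then -2 * (p : ℤ) else 0) - q g with hr
  have hrnn : ∀ g : G, 0 ≤ r g := by
    intro g
    rw [hr]
    simp only
    by_cases hgS : g ∈ S
    · rw [if_pos hgS, hqf, hcS g hgS]
      have : (-1 : ℤ) * (-1 - 1) * (-1 - ((p : ℤ) - 1)) = -2 * (p : ℤ) := by ring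
      rw [this]
      omega
    · rw [if_neg hgS, hqf]
      by_cases hg2 : g ^ 2 = 1
      · by_cases hg1 : g = 1
        · rw [hg1, hc1]
          have : ((p : ℤ) - 1) * ((p : ℤ) - 1 - 1) * ((p : ℤ) - 1 - ((p : ℤ) - 1)) = 0 := by ring
          rw [this]
          norm_num
        · rw [hinv g hgS hg1 hg2]
          simp
      · obtain ⟨h1, h2⟩ := hbd g hgS hg2
        have h3 : 0 ≤ c g * (c g - 1) := mul_nonneg (by linarith) (by linarith)
        have h4 : c g - ((p : ℤ) - 1) ≤ 0 := by linarith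
        have h5 : c g * (c g - 1) * (c g - ((p : ℤ) - 1)) ≤ 0 :=
          mul_nonpos_of_nonneg_of_nonpos h3 h4
        linarith
  have hrsum : ∑ g, r g = 0 := by
    rw [hr]
    simp only
    rw [Finset.sum_sub_distrib, hqsum, Finset.sum_ite_mem, Finset.univ_inter, Finset.sum_const,
      nsmul_eq_mul]
    linarith
  have hrzero : ∀ g : G, r g = 0 := by
    intro g
    exact (Finset.sum_eq_zero_iff_of_nonneg (fun g _ => hrnn g)).1 hrsum g (Finset.mem_univ g)
  have hreg : ∀ g : G, g ∉ S → g ^ 2 ≠ 1 → c g = 1 := by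
    intro g hgS hg2
    obtain ⟨h1, h2⟩ := hbd g hgS hg2
    have h := hrzero g
    rw [hr] at h
    simp only at h
    rw [if_neg hgS, hqf] at h
    have h3 : c g * (c g - 1) * (c g - ((p : ℤ) - 1)) = 0 := by linarith
    rcases mul_eq_zero.1 h3 with h4 | h4
    · rcases mul_eq_zero.1 h4 with h5 | h5
      · omega
      · omega
    · omega
  refine ⟨hinv, hreg, ?_⟩
  -- the order
  have hdiff : ∀ g : G, c g ^ 2 - c g
      = (if g = 1 then ((p : ℤ) - 1) * ((p : ℤ) - 2) else 0) + (if g ∈ S then 2 else 0) := by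
    intro g
    by_cases hgS : g ∈ S
    · have hg1 : g ≠ 1 := fun h => h1S (h ▸ hgS)
      rw [if_neg hg1, if_pos hgS, hcS g hgS]
      norm_num
    · rw [if_neg hgS]
      by_cases hg1 : g = 1
      · rw [if_pos hg1, hg1, hc1]
        ring
      · rw [if_neg hg1]
        by_cases hg2 : g ^ 2 = 1
        · rw [hinv g hgS hg1 hg2]
          norm_num
        · rw [hreg g hgS hg2]
          norm_num
  have hsumdiff : ∑ g, (c g ^ 2 - c g) = ((p : ℤ) - 1) * ((p : ℤ) - 2) + 2 * (S.card : ℤ) := by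
    rw [Finset.sum_congr rfl (fun g _ => hdiff g), Finset.sum_add_distrib,
      Finset.sum_ite_eq' Finset.univ (1 : G), if_pos (Finset.mem_univ _), Finset.sum_ite_mem,
      Finset.univ_inter, Finset.sum_const, nsmul_eq_mul]
    ring
  rw [Finset.sum_sub_distrib, hs1, hs2] at hsumdiff
  have hnval : n = (p : ℤ) * ((p : ℤ) - 1) * ((p : ℤ) - 2) := by
    have h1 : (p : ℤ) * n = (p : ℤ) * (((p : ℤ) - 1) * ((p : ℤ) - 2)) + ((p : ℤ) - 1) * n := by
      have : (p : ℤ) * n = (p : ℤ) * (((p : ℤ) - 1) * ((p : ℤ) - 2) + 2 * (S.card : ℤ)) := by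
        rw [← hsumdiff]; ring
      rw [this, ← hScardZ]
      ring
    nlinarith
  have hcast : ((Fintype.card G : ℕ) : ℤ) = ((p * (p - 1) * (p - 2) : ℕ) : ℤ) := by
    rw [Nat.cast_mul, Nat.cast_mul, Nat.cast_sub (by omega), Nat.cast_sub (by omega)]
    push_cast
    exact hnval
  exact_mod_cast hcast

end Cfsg.Agent.Lib.Helper11.S4707
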