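import Cfsg.Agent.Lib.Helper11.S4706D
import Cfsg.Agent.Lib.Helper11.GaloisTwist
import Cfsg.Agent.Lib.Helper11.Clifford
import Cfsg.Agent.Lib.Helper25.EvenDegree
import Cfsg.Agent.Lib.Helper25.Kernel

/-!
S4707: glue lemmas about the non-exceptional character `χ'` of degree `p - 1`.
-/

set_option autoImplicit false

namespace Cfsg.Agent.Lib.Helper11.S4707

open Cfsg
open Cfsg.Agent.Lib.Helper2
open Cfsg.Agent.Lib.Helper11
open Cfsg.Agent.Lib.Helper11.S4706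
open scoped ComplexConjugate

variable {G : Type*} [Group G] [Fintype G]

/-- a non-identity element of `P` -/
theorem exists_ne_one (p : ℕ) (hp5 : 5 ≤ p) (P : Subgroup G) (hP : Nat.card P = p) :
    ∃ u ∈ P, u ≠ 1 := by
  by_contra hcon
  push Not at hcon
  have hbot : P = ⊥ := by
    rw [Subgroup.eq_bot_iff_forall]
    exact hcon
  rw [hbot] at hP
  simp at hP
  omega

/-- `χ'` is the only irreducible character of degree `p - 1` not vanishing on `P ∖ 1`. -/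
theorem unique_of_degree (p : ℕ) (hp5 : 5 ≤ p) (P : Subgroup G)
    (χ' : IrrCharacter G) (E : Finset (IrrCharacter G))
    (hdegE : ∀ χ ∈ E, (χ : G → ℂ) 1 = (p : ℂ) - 2)
    (hvan : ∀ χ : IrrCharacter G, χ ≠ trivialIrr G → χ ≠ χ' → χ ∉ E →
      ∀ g ∈ P, g ≠ 1 → (χ : G → ℂ) g = 0)
    (θ : IrrCharacter G) (hθ1 : (θ : G → ℂ) 1 = (p : ℂ) - 1)
    (u : G) (hu : u ∈ P) (hu1 : u ≠ 1) (hθu : (θ : G → ℂ) u ≠ 0) : θ = χ' := by
  by_contra hne
  have hp5C : (5 : ℝ) ≤ (p : ℝ) := by exact_mod_cast hp5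
  by_cases h1 : θ = trivialIrr G
  · rw [h1] at hθ1
    have h2 : (trivialIrr G : G → ℂ) 1 = 1 := rfl
    rw [h2] at hθ1
    have h3 : ((1 : ℝ) : ℂ) = (((p : ℝ) - 1 : ℝ) : ℂ) := by push_cast; exact hθ1
    have h4 : (1 : ℝ) = (p : ℝ) - 1 := by exact_mod_cast h3
    linarith
  · by_cases hE : θ ∈ E
    · have h2 := hdegE θ hE
      rw [hθ1] at h2
      have h3 : (((p : ℝ) - 1 : ℝ) : ℂ) = (((p : ℝ) - 2 : ℝ) : ℂ) := by push_cast; exact h2
      have h4 : (p : ℝ) - 1 = (p : ℝ) - 2 := by exact_mod_cast h3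
      linarith
    · exact hθu (hvan θ h1 hne hE u hu hu1)

/-- `χ'` is real valued. -/
theorem real_valued (p : ℕ) (hp5 : 5 ≤ p) (P : Subgroup G) (hP : Nat.card P = p)
    (χ' : IrrCharacter G) (E : Finset (IrrCharacter G))
    (hdeg' : (χ' : G → ℂ) 1 = (p : ℂ) - 1)
    (hdegE : ∀ χ ∈ E, (χ : G → ℂ) 1 = (p : ℂ) - 2)
    (hχ'P : ∀ g ∈ P, g ≠ 1 → (χ' : G → ℂ) g = -1)
    (hvan : ∀ χ : IrrCharacter G, χ ≠ trivialIrr G → χ ≠ χ' → χ ∉ E →
      ∀ g ∈ P, g ≠ 1 → (χ : G → ℂ) g = 0) :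
    ∀ g : G, conj ((χ' : G → ℂ) g) = (χ' : G → ℂ) g := by
  obtain ⟨u, hu, hu1⟩ := exists_ne_one p hp5 P hP
  have h := unique_of_degree p hp5 P χ' E hdegE hvan (Cfsg.Agent.Lib.Helper25.barIrr χ')
    (by rw [Cfsg.Agent.Lib.Helper25.barIrr_apply, hdeg']; simp) u hu hu1
    (by rw [Cfsg.Agent.Lib.Helper25.barIrr_apply, hχ'P u hu hu1]; simp)
  intro g
  have h2 := congrFun (congrArg Subtype.val h) g
  rwa [Cfsg.Agent.Lib.Helper25.barIrr_apply] at h2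

/-- `χ'` is invariant under the coprime power maps. -/
theorem pow_invariant (p : ℕ) (hp : p.Prime) (hp5 : 5 ≤ p) (P : Subgroup G)
    (hP : Nat.card P = p)
    (χ' : IrrCharacter G) (E : Finset (IrrCharacter G))
    (hdeg' : (χ' : G → ℂ) 1 = (p : ℂ) - 1)
    (hdegE : ∀ χ ∈ E, (χ : G → ℂ) 1 = (p : ℂ) - 2)
    (hχ'P : ∀ g ∈ P, g ≠ 1 → (χ' : G → ℂ) g = -1)
    (hvan : ∀ χ : IrrCharacter G, χ ≠ trivialIrr G → χ ≠ χ' → χ ∉ E →
      ∀ g ∈ P, g ≠ 1 → (χ : G → ℂ) g = 0) :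
    ∀ k : ℕ, k.Coprime (Nat.card G) → ∀ g : G, (χ' : G → ℂ) (g ^ k) = (χ' : G → ℂ) g := by
  intro k hk
  obtain ⟨u, hu, hu1⟩ := exists_ne_one p hp5 P hP
  set θ : IrrCharacter G := ⟨fun g => (χ' : G → ℂ) (g ^ k), isIrrCharacter_pow_coprime k hk χ'.2⟩
    with hθ
  have huk : u ^ k ∈ P := P.pow_mem hu k
  have huk1 : u ^ k ≠ 1 := by
    intro h
    have ho : orderOf u ∣ k := orderOf_dvd_of_pow_eq_one h
    have hoG : orderOf u ∣ Nat.card G := orderOf_dvd_natCard u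
    have h1 : orderOf u ∣ Nat.gcd k (Nat.card G) := Nat.dvd_gcd ho hoG
    rw [hk, Nat.dvd_one, orderOf_eq_one_iff] at h1
    exact hu1 h1
  have h := unique_of_degree p hp5 P χ' E hdegE hvan θ
    (by show (χ' : G → ℂ) (1 ^ k) = _; rw [one_pow, hdeg']) u hu hu1
    (by show (χ' : G → ℂ) (u ^ k) ≠ 0; rw [hχ'P _ huk huk1]; simp)
  intro g
  exact congrFun (congrArg Subtype.val h) g

/-- faithfulness: an integer value `c g` of `χ'` at `g ≠ 1` is at most `p - 2`. -/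
theorem value_le (p : ℕ) (hp5 : 5 ≤ p) (P : Subgroup G) (hP : Nat.card P = p)
    (hsimple : ∀ N : Subgroup G, N.Normal → N = ⊥ ∨ N = ⊤)
    (χ' : IrrCharacter G)
    (hdeg' : (χ' : G → ℂ) 1 = (p : ℂ) - 1)
    (hχ'P : ∀ g ∈ P, g ≠ 1 → (χ' : G → ℂ) g = -1)
    (c : G → ℤ) (hc : ∀ g : G, (χ' : G → ℂ) g = (c g : ℂ)) :
    ∀ g : G, g ≠ 1 → c g ≤ (p : ℤ) - 2 := by
  intro g hg1
  have hχ'c : IsCharacter G (χ' : G → ℂ) := IsIrrCharacter.isCharacter χ'.2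
  obtain ⟨n, hn1, hn⟩ := IsCharacter.exists_degree_norm_le hχ'c
  have hnp : (n : ℤ) = (p : ℤ) - 1 := by
    rw [hdeg'] at hn1
    have h : (((p : ℤ) - 1 : ℤ) : ℂ) = ((n : ℤ) : ℂ) := by push_cast; exact hn1
    exact_mod_cast h.symm
  have hle : c g ≤ (p : ℤ) - 1 := by
    have h := hn g
    rw [hc g] at h
    have h2 : ‖((c g : ℤ) : ℂ)‖ = |((c g : ℤ) : ℝ)| := by
      rw [← Complex.ofReal_intCast, Complex.norm_real]; rfl
    rw [h2] at h
    have h3 : ((c g : ℤ) : ℝ) ≤ (n : ℝ) := le_trans (le_abs_self _) h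
    have h4 : c g ≤ (n : ℤ) := by exact_mod_cast h3
    linarith
  obtain ⟨K, hKn, hK⟩ := Cfsg.Agent.Lib.Helper25.exists_kernel hχ'c
  have hne : c g ≠ (p : ℤ) - 1 := by
    intro heq
    have hgK : g ∈ K := by
      rw [hK, hc g, hdeg', heq]
      push_cast
      ring
    rcases hsimple K hKn with hbot | htop
    · rw [hbot, Subgroup.mem_bot] at hgK
      exact hg1 hgK
    · obtain ⟨u, hu, hu1⟩ := exists_ne_one p hp5 P hP
      have huK : u ∈ K := by rw [htop]; exact Subgroup.mem_top u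
      rw [hK, hχ'P u hu hu1, hdeg'] at huK
      have h3 : (((-1 : ℝ)) : ℂ) = (((p : ℝ) - 1 : ℝ) : ℂ) := by push_cast; exact huK
      have h4 : (-1 : ℝ) = (p : ℝ) - 1 := by exact_mod_cast h3
      have : (5 : ℝ) ≤ (p : ℝ) := by exact_mod_cast hp5
      linarith
  omega

end Cfsg.Agent.Lib.Helper11.S4707
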