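import Cfsg.Agent.Lib.Helper11.S4706D
import Cfsg.Agent.Lib.Helper11.GenChar
import Cfsg.Agent.Lib.Helper2.Column
import Cfsg.Agent.Lib.Helper2.PermChar

/-!
S4707: glue lemmas (sums of the integer values of `χ'`, divisibility on subgroups, centralisers of
involutions, the point stabiliser).
-/

set_option autoImplicit false

namespace Cfsg.Agent.Lib.Helper11.S4707

open Cfsg
open Cfsg.Agent.Lib.Helper2
open Cfsg.Agent.Lib.Helper2.RankFive
open Cfsg.Agent.Lib.Helper11
open Cfsg.Agent.Lib.Helper11.S4706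
open scoped ComplexConjugate

variable {G : Type*} [Group G] [Fintype G]

/-- first and second moments of the integer values of a non-trivial irreducible character -/
theorem moments (χ' : IrrCharacter G) (hχ'1 : χ' ≠ trivialIrr G)
    (c : G → ℤ) (hc : ∀ g : G, (χ' : G → ℂ) g = (c g : ℂ)) :
    ∑ g, c g = 0 ∧ ∑ g, c g ^ 2 = (Fintype.card G : ℤ) := by
  have hGne : (Nat.card G : ℂ) ≠ 0 := card_ne_zero_complex
  constructor
  · have h := classInner_irrCharacter_ne hχ'1
    rw [classInner_def] at h
    have h1 : ∀ g : G, (χ' : G → ℂ) g * conj ((trivialIrr G : G → ℂ) g) = ((c g : ℤ) : ℂ) := by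
      intro g
      have : (trivialIrr G : G → ℂ) g = 1 := rfl
      rw [this, map_one, mul_one, hc g]
    rw [Finset.sum_congr rfl (fun g _ => h1 g)] at h
    rcases mul_eq_zero.1 h with h | h
    · exact absurd (inv_eq_zero.1 h) hGne
    · have : ((∑ g, c g : ℤ) : ℂ) = ((0 : ℤ) : ℂ) := by push_cast; exact h
      exact_mod_cast this
  · have h := classInner_irrCharacter_self χ'
    rw [classInner_def] at h
    have h1 : ∀ g : G, (χ' : G → ℂ) g * conj ((χ' : G → ℂ) g) = ((c g ^ 2 : ℤ) : ℂ) := by
      intro g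
      rw [hc g, map_intCast]
      push_cast
      ring
    rw [Finset.sum_congr rfl (fun g _ => h1 g)] at h
    have h2 : (∑ g, ((c g ^ 2 : ℤ) : ℂ)) = (Nat.card G : ℂ) := by
      field_simp at h
      exact h
    have : ((∑ g, c g ^ 2 : ℤ) : ℂ) = ((Fintype.card G : ℤ) : ℂ) := by
      push_cast
      push_cast at h2
      rw [h2, Nat.card_eq_fintype_card]
    exact_mod_cast this

/-- third moment -/
theorem moment_three (χ' : IrrCharacter G)
    (c : G → ℤ) (hc : ∀ g : G, (χ' : G → ℂ) g = (c g : ℂ))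
    (h3 : ∑ g : G, (χ' : G → ℂ) g ^ 3 = (Nat.card G : ℂ)) :
    ∑ g, c g ^ 3 = (Fintype.card G : ℤ) := by
  have : ((∑ g, c g ^ 3 : ℤ) : ℂ) = ((Fintype.card G : ℤ) : ℂ) := by
    push_cast
    rw [← Nat.card_eq_fintype_card, ← h3]
    apply Finset.sum_congr rfl
    intro g _
    rw [hc g]
  exact_mod_cast this

open Classical in
/-- divisibility of the sum of the values over a subgroup -/
theorem sum_subgroup_dvd {χ : G → ℂ} (hχ : IsCharacter G χ)
    (c : G → ℤ) (hc : ∀ g : G, χ g = (c g : ℂ)) (A : Subgroup G) :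
    (Nat.card A : ℤ) ∣ ∑ g ∈ Finset.univ.filter (fun g : G => g ∈ A), c g := by
  haveI : Fintype A := Fintype.ofFinite A
  obtain ⟨n, hn⟩ := IsCharacter.inner_irr_nat (IsCharacter.restrict hχ A) (trivialIrr A)
  rw [classInner_def] at hn
  have hAne : (Nat.card A : ℂ) ≠ 0 := by
    have : 0 < Nat.card A := Nat.card_pos
    exact_mod_cast this.ne'
  have h1 : ∀ h : A, (fun h : A => χ h) h * conj ((trivialIrr A : A → ℂ) h) = ((c h : ℤ) : ℂ) := by
    intro h
    have : (trivialIrr A : A → ℂ) h = 1 := rfl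
    rw [this, map_one, mul_one]
    exact hc h
  rw [Finset.sum_congr rfl (fun g _ => h1 g)] at hn
  have h2 : (∑ h : A, ((c h : ℤ) : ℂ)) = (n : ℂ) * (Nat.card A : ℂ) := by
    field_simp at hn
    rw [hn, mul_comm]
  have h3 : ∑ g ∈ Finset.univ.filter (fun g : G => g ∈ A), c g = ∑ h : A, c h := by
    apply Finset.sum_subtype
    intro x
    simp
  rw [h3]
  have h4 : ((∑ h : A, c h : ℤ) : ℂ) = (((n : ℤ) * (Nat.card A : ℤ) : ℤ) : ℂ) := by
    push_cast
    exact h2
  have h5 : ∑ h : A, c h = (n : ℤ) * (Nat.card A : ℤ) := by exact_mod_cast h4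
  rw [h5]
  exact Dvd.intro_left _ rfl

/-- lower bound for the centraliser of an element on which the exceptional characters are `-1` -/
theorem card_centralizer_ge (E : Finset (IrrCharacter G)) (htE : trivialIrr G ∉ E) (u : G)
    (hEu : ∀ χ ∈ E, (χ : G → ℂ) u = -1) :
    1 + E.card ≤ Nat.card (Subgroup.centralizer ({u} : Set G)) := by
  classical
  haveI : Fintype (IrrCharacter G) := Fintype.ofFinite _
  have h := column_orthogonality u u
  rw [if_pos (IsConj.refl u)] at h
  have h1 : ∀ χ : IrrCharacter G, (χ : G → ℂ) u * conj ((χ : G → ℂ) u)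
      = ((Complex.normSq ((χ : G → ℂ) u) : ℝ) : ℂ) := fun χ => Complex.mul_conj _
  rw [Finset.sum_congr rfl (fun χ _ => h1 χ)] at h
  have h2 : ∑ χ : IrrCharacter G, Complex.normSq ((χ : G → ℂ) u)
      = (Nat.card (Subgroup.centralizer ({u} : Set G)) : ℝ) := by
    have : ((∑ χ : IrrCharacter G, Complex.normSq ((χ : G → ℂ) u) : ℝ) : ℂ)
        = (((Nat.card (Subgroup.centralizer ({u} : Set G)) : ℕ) : ℝ) : ℂ) := by
      push_cast
      exact h
    exact_mod_cast this
  have h3 : ∑ χ ∈ insert (trivialIrr G) E, Complex.normSq ((χ : G → ℂ) u)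
      ≤ ∑ χ : IrrCharacter G, Complex.normSq ((χ : G → ℂ) u) :=
    Finset.sum_le_sum_of_subset_of_nonneg (Finset.subset_univ _)
      (fun χ _ _ => Complex.normSq_nonneg _)
  rw [Finset.sum_insert htE, h2] at h3
  have h4 : (trivialIrr G : G → ℂ) u = 1 := rfl
  rw [h4, Finset.sum_congr rfl (fun χ hχ => by
    rw [hEu χ hχ, Complex.normSq_neg, Complex.normSq_one])] at h3
  simp only [map_one, Finset.sum_const, nsmul_eq_mul, mul_one] at h3
  exact_mod_cast h3

section Action

variable {Ω : Type*} [Fintype Ω] [MulAction G Ω]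

/-- the order of a point stabiliser -/
theorem card_stabilizer [MulAction.IsPretransitive G Ω] (a : Ω) :
    Nat.card (MulAction.stabilizer G a) * Nat.card Ω = Nat.card G := by
  have h : Nat.card (MulAction.orbit G a) * Nat.card (MulAction.stabilizer G a) = Nat.card G := by
    rw [← Nat.card_prod]
    exact Nat.card_congr (MulAction.orbitProdStabilizerEquivGroup G a)
  rw [MulAction.orbit_eq_univ, Nat.card_coe_set_eq, Set.ncard_univ] at h
  rw [mul_comm]
  exact h

open Classical in
/-- the sum of a real character occurring with multiplicity `m` in the permutation character,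
over a point stabiliser -/
theorem sum_stabilizer [MulAction.IsPretransitive G Ω] (a : Ω) (χ' : IrrCharacter G)
    (c : G → ℤ) (hc : ∀ g : G, (χ' : G → ℂ) g = (c g : ℂ)) (m : ℕ) (hm : mult Ω χ' = m) :
    ∑ g ∈ Finset.univ.filter (fun g : G => g ∈ MulAction.stabilizer G a), c g
      = (m : ℤ) * (Nat.card (MulAction.stabilizer G a) : ℤ) := by
  haveI : Fintype (MulAction.stabilizer G a) := Fintype.ofFinite _
  have h := mult_spec a χ'
  rw [hm] at h
  have hpc : pc G Ω = indFun (MulAction.stabilizer G a) (fun _ => 1) :=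
    permChar_eq_indFun (G := G) (X := Ω) a
  have hfr := frobenius_reciprocity (H := MulAction.stabilizer G a) (fun _ => (1 : ℂ))
    (χ' : G → ℂ) (IsCharacter.isClassFunction (IsIrrCharacter.isCharacter χ'.2))
  rw [hpc, hfr, classInner_def] at h
  have hHne : (Nat.card (MulAction.stabilizer G a) : ℂ) ≠ 0 := by
    have : 0 < Nat.card (MulAction.stabilizer G a) := Nat.card_pos
    exact_mod_cast this.ne'
  have h1 : ∀ x : MulAction.stabilizer G a, (fun _ : MulAction.stabilizer G a => (1 : ℂ)) x
      * conj ((fun h : MulAction.stabilizer G a => (χ' : G → ℂ) h) x) = ((c x : ℤ) : ℂ) := by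
    intro x
    simp only [one_mul]
    rw [hc, map_intCast]
  rw [Finset.sum_congr rfl (fun g _ => h1 g)] at h
  have h2 : (∑ x : MulAction.stabilizer G a, ((c x : ℤ) : ℂ))
      = (m : ℂ) * (Nat.card (MulAction.stabilizer G a) : ℂ) := by
    field_simp at h
    rw [h, mul_comm]
  have h3 : ∑ g ∈ Finset.univ.filter (fun g : G => g ∈ MulAction.stabilizer G a), c g
      = ∑ x : MulAction.stabilizer G a, c x := by
    apply Finset.sum_subtype
    intro x
    simp
  rw [h3]
  have h4 : ((∑ x : MulAction.stabilizer G a, c x : ℤ) : ℂ)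
      = (((m : ℤ) * (Nat.card (MulAction.stabilizer G a) : ℤ) : ℤ) : ℂ) := by
    push_cast
    exact h2
  exact_mod_cast h4

end Action

end Cfsg.Agent.Lib.Helper11.S4707
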