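import Cfsg.Agent.Lib.Helper11.S4706D
import Cfsg.Agent.Lib.Helper11.GenChar
import Cfsg.Agent.Lib.Helper11.BLChar
import Cfsg.Agent.Lib.Helper2.DirectProduct

/-!
S4707 FO-S: `[χ'², χ'] = 1`, i.e. `∑ χ'(g)^3 = |G|`.
-/

set_option autoImplicit false

namespace Cfsg.Agent.Lib.Helper11.S4707

open Cfsg
open Cfsg.Agent.Lib.Helper2
open Cfsg.Agent.Lib.Helper11
open Cfsg.Agent.Lib.Helper11.S4706
open scoped ComplexConjugate

variable {G : Type*} [Group G] [Fintype G]

theorem cube_sum (p : ℕ) (hp : p.Prime) (hp5 : 5 ≤ p) (P : Subgroup G) (hP : Nat.card P = p)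
    (χ' : IrrCharacter G) (E : Finset (IrrCharacter G)) (Λ : G → ℂ) (hE : 2 * E.card + 1 = p)
    (hχ'1 : χ' ≠ trivialIrr G) (hχ'E : χ' ∉ E) (htE : trivialIrr G ∉ E)
    (hΛ : ∀ χ ∈ E, ∀ g : G, (g = 1 ∨ ∀ k : G, k * g * k⁻¹ ∉ P) → (χ : G → ℂ) g = Λ g)
    (hrel : ∀ g : G, (g = 1 ∨ ∀ k : G, k * g * k⁻¹ ∉ P) → Λ g = (χ' : G → ℂ) g - 1)
    (hdeg' : (χ' : G → ℂ) 1 = (p : ℂ) - 1)
    (hχ'P : ∀ g ∈ P, g ≠ 1 → (χ' : G → ℂ) g = -1)
    (hvan : ∀ χ : IrrCharacter G, χ ≠ trivialIrr G → χ ≠ χ' → χ ∉ E →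
      ∀ g ∈ P, g ≠ 1 → (χ : G → ℂ) g = 0)
    (hreal : ∀ g : G, conj ((χ' : G → ℂ) g) = (χ' : G → ℂ) g) :
    ∑ g : G, (χ' : G → ℂ) g ^ 3 = (Nat.card G : ℂ) := by
  classical
  haveI : Fintype (IrrCharacter G) := Fintype.ofFinite _
  have hGne : (Nat.card G : ℂ) ≠ 0 := card_ne_zero_complex
  have hχ'c : IsCharacter G (χ' : G → ℂ) := IsIrrCharacter.isCharacter χ'.2
  have hχ'cf : IsClassFunction G (χ' : G → ℂ) := IsCharacter.isClassFunction hχ'c
  have hrel' : ∀ g : G, (g = 1 ∨ ∀ k : G, k * g * k⁻¹ ∉ P) →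
      1 + ((-1 : ℤ) : ℂ) * (χ' : G → ℂ) g = ((-1 : ℤ) : ℂ) * Λ g := by
    intro g hg
    rw [hrel g hg]
    push_cast
    ring
  -- value of `χ'` on the conjugates of `P ∖ 1`
  have hval : ∀ g : G, g ≠ 1 → (∃ k : G, k * g * k⁻¹ ∈ P) → (χ' : G → ℂ) g = -1 := by
    intro g hg1 ⟨k, hk⟩
    have hkg1 : k * g * k⁻¹ ≠ 1 := by
      intro h
      apply hg1
      have : g = k⁻¹ * (k * g * k⁻¹) * k := by group
      rw [this, h]; group
    rw [← hχ'cf g k]
    exact hχ'P _ hk hkg1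
  set X : G → ℂ := (χ' : G → ℂ) * (χ' : G → ℂ) with hX
  have hXc : IsCharacter G X := isCharacter_mul hχ'c hχ'c
  obtain ⟨s, hs⟩ := IsCharacter.inner_irr_nat hXc χ'
  -- `[X, 1] = 1`
  have hX1 : classInner X (trivialIrr G : G → ℂ) = 1 := by
    have h := classInner_irrCharacter_self χ'
    rw [classInner_def] at h ⊢
    rw [← h]
    congr 1
    apply Finset.sum_congr rfl
    intro g _
    have : (trivialIrr G : G → ℂ) g = 1 := rfl
    rw [this, map_one, mul_one, hreal g]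
    rfl
  -- (a) `[X, χ] = s` on `E`
  have hXE : ∀ χ ∈ E, classInner X (χ : G → ℂ) = (s : ℂ) := by
    intro χ hχ
    have hne : χ' ≠ χ := fun h => hχ'E (h ▸ hχ)
    have hFv : ∀ g : G, g ≠ 1 → (∃ k : G, k * g * k⁻¹ ∈ P) → (X + (χ' : G → ℂ)) g = 0 := by
      intro g hg1 hk
      show (χ' : G → ℂ) g * (χ' : G → ℂ) g + (χ' : G → ℂ) g = 0
      rw [hval g hg1 hk]
      norm_num
    have h := inner_exc P χ' (-1) (-1) Λ (Or.inr rfl) hrel' χ (hΛ χ hχ) (X + (χ' : G → ℂ)) hFv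
    rw [classInner_add_left, classInner_add_left, classInner_add_left, hX1,
      classInner_irrCharacter_ne hne, classInner_irrCharacter_ne hχ'1,
      classInner_irrCharacter_self, hs] at h
    rw [add_zero] at h
    rw [h]
    push_cast
    ring
  -- degree bound: `s ≤ 1`
  obtain ⟨a, d, ha, hd, hdeg⟩ := IsCharacter.sum_inner_mul_degree hXc
  have hEcard : 2 ≤ E.card := by omega
  have hs_le : s ≤ 1 := by
    by_contra hcon
    push Not at hcon
    set T : Finset (IrrCharacter G) := insert (trivialIrr G) (insert χ' E) with hT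
    have htT : trivialIrr G ∉ insert χ' E := by
      rw [Finset.mem_insert]
      push Not
      exact ⟨hχ'1.symm, htE⟩
    have hsub : ∑ θ ∈ T, a θ * d θ ≤ ∑ θ : IrrCharacter G, a θ * d θ :=
      Finset.sum_le_sum_of_subset (Finset.subset_univ _)
    have hat : a (trivialIrr G) = 1 := by
      have h := ha (trivialIrr G)
      rw [hX1] at h
      exact_mod_cast h.symm
    have hdt : d (trivialIrr G) = 1 := by
      have h := (hd (trivialIrr G)).1
      have h1 : (trivialIrr G : G → ℂ) 1 = 1 := rfl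
      rw [h1] at h
      exact_mod_cast h.symm
    have haχ' : a χ' = s := by
      have h := ha χ'
      rw [hs] at h
      exact_mod_cast h.symm
    have hdχ' : d χ' + 1 = p := by
      have h := (hd χ').1
      rw [hdeg'] at h
      have h2 : (((d χ' + 1 : ℕ) : ℤ) : ℂ) = (((p : ℕ) : ℤ) : ℂ) := by
        push_cast; rw [← h]; ring
      exact_mod_cast h2
    have haE : ∀ χ ∈ E, a χ = s := by
      intro χ hχ
      have h := ha χ
      rw [hXE χ hχ] at h
      exact_mod_cast h.symm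
    have hdE : ∀ χ ∈ E, d χ + 2 = p := by
      intro χ hχ
      have h := (hd χ).1
      rw [hΛ χ hχ 1 (Or.inl rfl), hrel 1 (Or.inl rfl), hdeg'] at h
      have h2 : (((d χ + 2 : ℕ) : ℤ) : ℂ) = (((p : ℕ) : ℤ) : ℂ) := by
        push_cast; rw [← h]; ring
      exact_mod_cast h2
    have hsumE : ∑ θ ∈ E, a θ * d θ = E.card * (s * (p - 2)) := by
      rw [Finset.sum_congr rfl (fun χ hχ => by
        rw [haE χ hχ, show d χ = p - 2 from by have := hdE χ hχ; omega]), Finset.sum_const,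
        smul_eq_mul]
    rw [hT, Finset.sum_insert htT, Finset.sum_insert hχ'E, hat, hdt, haχ', hsumE] at hsub
    have hX1val : X 1 = (((p - 1) * (p - 1) : ℕ) : ℂ) := by
      show (χ' : G → ℂ) 1 * (χ' : G → ℂ) 1 = _
      rw [hdeg', Nat.cast_mul, Nat.cast_sub (by omega)]
      push_cast
      ring
    rw [hX1val] at hdeg
    have hdeg'' : (p - 1) * (p - 1) = ∑ θ : IrrCharacter G, a θ * d θ := by exact_mod_cast hdeg
    rw [← hdeg''] at hsub
    have hdχ'' : d χ' = p - 1 := by omega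
    rw [hdχ''] at hsub
    have hpt : p = 2 * E.card + 1 := hE.symm
    have h2s : 2 ≤ s := hcon
    have h3 : 1 * 1 + (2 * (p - 1) + E.card * (2 * (p - 2))) ≤ (p - 1) * (p - 1) := by
      calc 1 * 1 + (2 * (p - 1) + E.card * (2 * (p - 2)))
          ≤ 1 * 1 + (s * (p - 1) + E.card * (s * (p - 2))) := by
            have h4 : 2 * (p - 1) ≤ s * (p - 1) := Nat.mul_le_mul_right _ h2s
            have h5 : E.card * (2 * (p - 2)) ≤ E.card * (s * (p - 2)) :=
              Nat.mul_le_mul_left _ (Nat.mul_le_mul_right _ h2s)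
            omega
        _ ≤ (p - 1) * (p - 1) := hsub
    rw [hpt] at h3
    have h6 : 2 * E.card + 1 - 1 = 2 * E.card := by omega
    have h7 : 2 * E.card + 1 - 2 = 2 * E.card - 1 := by omega
    rw [h6, h7] at h3
    have h8 : E.card * (2 * (2 * E.card - 1)) + 2 * E.card = 2 * E.card * (2 * E.card) := by
      have : 1 ≤ 2 * E.card := by omega
      zify [this]
      ring
    nlinarith
  -- (b) `s ≥ 1`
  obtain ⟨χ₀, hχ₀⟩ : E.Nonempty := Finset.card_pos.1 (by omega)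
  have hne0 : χ' ≠ χ₀ := fun h => hχ'E (h ▸ hχ₀)
  have hne0t : χ₀ ≠ trivialIrr G := fun h => htE (h ▸ hχ₀)
  have hχ₀c : IsCharacter G (χ₀ : G → ℂ) := IsIrrCharacter.isCharacter χ₀.2
  set Y : G → ℂ := (χ' : G → ℂ) * (χ₀ : G → ℂ) with hY
  have hYc : IsCharacter G Y := isCharacter_mul hχ'c hχ₀c
  obtain ⟨n₀, hn₀⟩ := IsCharacter.inner_irr_nat hYc χ₀
  have hY1 : classInner Y (trivialIrr G : G → ℂ) = 0 := by
    have h := classInner_irrCharacter_ne hne0.symm
    rw [classInner_def] at h ⊢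
    rw [← h]
    congr 1
    apply Finset.sum_congr rfl
    intro g _
    have : (trivialIrr G : G → ℂ) g = 1 := rfl
    rw [this, map_one, mul_one, hreal g]
    show (χ' : G → ℂ) g * (χ₀ : G → ℂ) g = _
    ring
  have hYχ' : classInner Y (χ' : G → ℂ) = (s : ℂ) := by
    have h := hXE χ₀ hχ₀
    have h2 : classInner Y (χ' : G → ℂ) = conj (classInner X (χ₀ : G → ℂ)) := by
      rw [classInner_def, classInner_def, map_mul, map_inv₀, Complex.conj_natCast, map_sum]
      congr 1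
      apply Finset.sum_congr rfl
      intro g _
      rw [map_mul, Complex.conj_conj, hreal g]
      show (χ' : G → ℂ) g * (χ₀ : G → ℂ) g * (χ' : G → ℂ) g
        = conj ((χ' : G → ℂ) g * (χ' : G → ℂ) g) * (χ₀ : G → ℂ) g
      rw [map_mul, hreal g]
      ring
    rw [h2, h, Complex.conj_natCast]
  have hs_ge : 1 ≤ s := by
    have hFv : ∀ g : G, g ≠ 1 → (∃ k : G, k * g * k⁻¹ ∈ P) → (Y + (χ₀ : G → ℂ)) g = 0 := by
      intro g hg1 hk
      show (χ' : G → ℂ) g * (χ₀ : G → ℂ) g + (χ₀ : G → ℂ) g = 0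
      rw [hval g hg1 hk]
      ring
    have h := inner_exc P χ' (-1) (-1) Λ (Or.inr rfl) hrel' χ₀ (hΛ χ₀ hχ₀) (Y + (χ₀ : G → ℂ)) hFv
    rw [classInner_add_left, classInner_add_left, classInner_add_left, hY1, hYχ', hn₀,
      classInner_irrCharacter_self, classInner_irrCharacter_ne hne0t,
      classInner_irrCharacter_ne hne0.symm] at h
    have h2 : (((n₀ + 1 : ℕ) : ℤ) : ℂ) = (((s : ℕ) : ℤ) : ℂ) := by
      push_cast
      rw [h]
      push_cast
      ring
    have h3 : n₀ + 1 = s := by exact_mod_cast h2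
    omega
  have hs1 : s = 1 := by omega
  -- conclusion
  rw [hs1, classInner_def] at hs
  have h3 : ∑ g : G, X g * conj ((χ' : G → ℂ) g) = (Nat.card G : ℂ) := by
    field_simp at hs
    simpa using hs
  rw [← h3]
  apply Finset.sum_congr rfl
  intro g _
  rw [hreal g]
  show (χ' : G → ℂ) g ^ 3 = (χ' : G → ℂ) g * (χ' : G → ℂ) g * (χ' : G → ℂ) g
  ring

end Cfsg.Agent.Lib.Helper11.S4707
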