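import Cfsg.Agent.Lib.Helper11.S4707B
import Cfsg.Agent.Lib.Helper11.S4707C
import Cfsg.Agent.Lib.Helper11.S4707G
import Cfsg.Agent.Lib.Helper11.S4707H
import Cfsg.Agent.Lib.Helper11.S4707S
import Cfsg.Agent.Lib.Helper11.S4707Count
import Cfsg.Agent.Lib.Helper2.S4707FOALT
import Cfsg.Agent.Lib.Helper25.S4707FOFS
import Cfsg.Agent.Lib.Helper25.S4707FORAT
import Cfsg.Agent.Lib.Helper3.S4707FOSING
import Cfsg.Agent.Lib.Helper3.S4707FOFIN

/-!
S4707: the core theorem (abstract group acting on `2p` points).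
-/

set_option autoImplicit false

namespace Cfsg.Agent.Lib.Helper11.S4707

open Cfsg
open Cfsg.Agent.Lib.Helper2
open Cfsg.Agent.Lib.Helper2.RankFive
open Cfsg.Agent.Lib.Helper11
open Cfsg.Agent.Lib.Helper11.S4706
open scoped ComplexConjugate

variable {G : Type*} [Group G] [Fintype G] {Ω : Type*} [Fintype Ω] [MulAction G Ω]

theorem core [MulAction.IsPretransitive G Ω]
    (p : ℕ) [hpF : Fact p.Prime] (hp5 : 5 ≤ p) (hΩ : Nat.card Ω = 2 * p) (P : Sylow p G)
    (hP : Nat.card (P : Subgroup G) = p)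
    (hC : Subgroup.centralizer ((P : Subgroup G) : Set G) = (P : Subgroup G))
    (hN : Nat.card (Subgroup.normalizer ((P : Subgroup G) : Set G)) = 2 * p)
    (hfpf : ∀ g : G, g ≠ 1 → (∃ k : G, k * g * k⁻¹ ∈ (P : Subgroup G)) → ∀ a : Ω, g • a ≠ a)
    (hnot2 : ¬ MulAction.IsMultiplyPretransitive G Ω 2)
    (hsimple : ∀ N : Subgroup G, N.Normal → N = ⊥ ∨ N = ⊤) :
    p = 5 ∧ Nat.card G = 60 := by
  classical
  have hp := hpF.out
  obtain ⟨a⟩ : Nonempty Ω := by
    have : 0 < Nat.card Ω := by rw [hΩ]; have := hp.pos; omega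
    exact (Nat.card_pos_iff.1 this).1
  -- the package
  obtain ⟨χ', m', ε', E, Λ, hm', hε', hE, hχ'1, hχ'E, htE, hΛ, hrel0, hχ'P0, hvan⟩ :=
    brauer_e2 p hp hp5 (P : Subgroup G) hP hC hN
  obtain ⟨hm1, hε1, hdeg', hmult⟩ := structure_2p p hp5 hΩ P hP hfpf hnot2 hsimple χ' m' ε' E Λ
    hm' hε' hE hχ'1 hχ'E htE hΛ hrel0 hχ'P0 hvan
  have hrel : ∀ g : G, (g = 1 ∨ ∀ k : G, k * g * k⁻¹ ∉ (P : Subgroup G)) →
      Λ g = (χ' : G → ℂ) g - 1 := by
    intro g hg
    have h := hrel0 g hg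
    rw [hm1, hε1] at h
    push_cast at h
    linear_combination h
  have hχ'P : ∀ g ∈ (P : Subgroup G), g ≠ 1 → (χ' : G → ℂ) g = -1 := by
    intro g hg hg1
    rw [hχ'P0 g hg hg1, hm1]
    push_cast
    rfl
  have hdegE : ∀ χ ∈ E, (χ : G → ℂ) 1 = (p : ℂ) - 2 := by
    intro χ hχ
    rw [hΛ χ hχ 1 (Or.inl rfl), hrel 1 (Or.inl rfl), hdeg']
    ring
  have hχ'c : IsCharacter G (χ' : G → ℂ) := IsIrrCharacter.isCharacter χ'.2
  have hχ'cf : IsClassFunction G (χ' : G → ℂ) := IsCharacter.isClassFunction hχ'c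
  have hreal := real_valued p hp5 (P : Subgroup G) hP χ' E hdeg' hdegE hχ'P hvan
  have hfs := Cfsg.Agent.Lib.Helper25.S4707.fs_eq_one p hp hp5 (P : Subgroup G) hP hC χ' E hE hχ'1 hχ'E htE hdeg' hdegE
    hχ'P hvan
  have hAchar := Cfsg.Agent.Lib.Helper2.AltSq.isCharacter_altSq hχ'c
  have hV2 := alt_exact p hp hp5 (P : Subgroup G) hP χ' E Λ hE hχ'1 hχ'E htE hΛ hrel hdeg' hχ'P
    hreal hfs hAchar
  -- integrality
  have hpow := pow_invariant p hp hp5 (P : Subgroup G) hP χ' E hdeg' hdegE hχ'P hvan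
  have hint := Cfsg.Agent.Lib.Helper25.S4707.int_valued_of_pow_coprime hχ'c hpow
  choose c hc using hint
  -- the elements of order `p`
  obtain ⟨hScard, hSiff⟩ := Cfsg.Agent.Lib.Helper3.S4707FOSING.card_order_p p P hP hN
  set S : Finset G := Finset.univ.filter (fun g : G => orderOf g = p) with hS
  have hmemS : ∀ g : G, g ∈ S ↔ orderOf g = p := by
    intro g
    rw [hS, Finset.mem_filter]
    simp
  have h1S : (1 : G) ∉ S := by
    rw [hmemS, orderOf_one]
    omega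
  have hcS : ∀ g ∈ S, c g = -1 := by
    intro g hg
    rw [hmemS, hSiff] at hg
    obtain ⟨hg1, k, hk⟩ := hg
    have hkg1 : k * g * k⁻¹ ≠ 1 := by
      intro h
      apply hg1
      have : g = k⁻¹ * (k * g * k⁻¹) * k := by group
      rw [this, h]; group
    have h := hχ'P _ hk hkg1
    rw [hχ'cf g k, hc g] at h
    have : ((c g : ℤ) : ℂ) = ((-1 : ℤ) : ℂ) := by push_cast; exact h
    exact_mod_cast this
  have hregS : ∀ g : G, g ∉ S → (g = 1 ∨ ∀ k : G, k * g * k⁻¹ ∉ (P : Subgroup G)) := by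
    intro g hg
    rw [hmemS, hSiff] at hg
    push Not at hg
    by_cases hg1 : g = 1
    · exact Or.inl hg1
    · exact Or.inr (hg hg1)
  have hrelZ : ∀ g : G, g ∉ S → c g ^ 2 - c (g ^ 2) = ((p : ℤ) - 1) * (c g - 1) := by
    intro g hg
    have h := hV2 g (hregS g hg)
    rw [hc g, hc (g ^ 2)] at h
    have : ((c g ^ 2 - c (g ^ 2) : ℤ) : ℂ) = ((((p : ℤ) - 1) * (c g - 1) : ℤ) : ℂ) := by
      push_cast
      exact h
    exact_mod_cast this
  have hc1 : c 1 = (p : ℤ) - 1 := by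
    have h := hdeg'
    rw [hc 1] at h
    have : ((c 1 : ℤ) : ℂ) = (((p : ℤ) - 1 : ℤ) : ℂ) := by push_cast; exact h
    exact_mod_cast this
  have hle := value_le p hp5 (P : Subgroup G) hP hsimple χ' hdeg' hχ'P c hc
  obtain ⟨hs1, hs2⟩ := moments χ' hχ'1 c hc
  have hcube := cube_sum p hp hp5 (P : Subgroup G) hP χ' E Λ hE hχ'1 hχ'E htE hΛ hrel hdeg'
    hχ'P hvan hreal
  have hs3 := moment_three χ' c hc hcube
  obtain ⟨hinv0, hreg1, hcard⟩ := count_main p hp5 c S h1S hScard hc1 hcS hle hrelZ hs1 hs2 hs3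
  -- the final step
  have hcp : ∀ g : G, orderOf g = p → c g = -1 := fun g hg => hcS g ((hmemS g).2 hg)
  have hc2 : ∀ g : G, orderOf g = 2 → c g = 0 := by
    intro g hg
    have hgS : g ∉ S := by rw [hmemS, hg]; omega
    have hg1 : g ≠ 1 := by
      intro h
      rw [h, orderOf_one] at hg
      omega
    have hg2 : g ^ 2 = 1 := by rw [← hg]; exact pow_orderOf_eq_one g
    exact hinv0 g hgS hg1 hg2
  have hcr : ∀ g : G, orderOf g ≠ p → g ^ 2 ≠ 1 → c g = 1 :=
    fun g hg hg2 => hreg1 g (by rw [hmemS]; exact hg) hg2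
  have hno4 : ∀ g : G, orderOf g ≠ 4 := by
    intro g hg
    have hgS : g ∉ S := by rw [hmemS, hg]; omega
    have hg2 : g ^ 2 ≠ 1 := by
      intro h
      have := orderOf_dvd_of_pow_eq_one h
      rw [hg] at this
      omega
    have ho2 : orderOf (g ^ 2) = 2 := by
      rw [orderOf_pow' g (by norm_num : (2 : ℕ) ≠ 0), hg]
      norm_num
    have h := hrelZ g hgS
    rw [hcr g (by rw [hg]; omega) hg2, hc2 (g ^ 2) ho2] at h
    have hp5Z : (5 : ℤ) ≤ (p : ℤ) := by exact_mod_cast hp5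
    nlinarith
  have hdiv := sum_subgroup_dvd hχ'c c hc
  have hcent : ∀ u : G, orderOf u = 2 →
      p + 1 ≤ 2 * Nat.card (Subgroup.centralizer ({u} : Set G)) := by
    intro u hu
    have huS : u ∉ S := by rw [hmemS, hu]; omega
    have hEu : ∀ χ ∈ E, (χ : G → ℂ) u = -1 := by
      intro χ hχ
      rw [hΛ χ hχ u (hregS u huS), hrel u (hregS u huS), hc u, hc2 u hu]
      push_cast
      ring
    have h := card_centralizer_ge E htE u hEu
    omega
  have hH : Nat.card (MulAction.stabilizer G a) * (2 * p) = Fintype.card G := by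
    rw [← hΩ, card_stabilizer a, Nat.card_eq_fintype_card]
  have hHsum := sum_stabilizer a χ' c hc 1 hmult
  rw [Nat.cast_one, one_mul] at hHsum
  have hp5' := Cfsg.Agent.Lib.Helper3.S4707FOFIN.final_five p hp hp5 c hcard hc1 hcp hc2 hcr hno4 hdiv hcent
    (MulAction.stabilizer G a) hH hHsum
  refine ⟨hp5', ?_⟩
  rw [Nat.card_eq_fintype_card, hcard, hp5']

end Cfsg.Agent.Lib.Helper11.S4707
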