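import Mathlib
import Cfsg.Prelude.Def_GeometricClasses

/-!
# S5630 (Aschbacher's theorem for SL_n(q)): shared definitions (helper11)
-/

set_option autoImplicit false

namespace Cfsg.Agent.Lib.Helper11.Asch

open Matrix Cfsg Cfsg.Geo
open scoped MatrixGroups Kronecker

variable {n : ℕ} {F : Type*} [Field F]

/-- `H` normalizes `X` (elementwise form). -/
def NormBy (H X : Subgroup (GL (Fin n) F)) : Prop := ∀ h ∈ H, ∀ x ∈ X, h * x * h⁻¹ ∈ X

/-- `X` acts irreducibly on `F^n`. -/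
def Irr (X : Subgroup (GL (Fin n) F)) : Prop := ActsIrreducibly (matrixSet X)

/-- `X` acts absolutely irreducibly on `F^n`. -/
def AbsIrr (X : Subgroup (GL (Fin n) F)) : Prop := ActsAbsolutelyIrreducibly (matrixSet X)

/-- `H` lies in a member of one of the eight geometric classes. -/
def InClass (n : ℕ) (F : Type*) [Field F] [Fintype F] (H : Subgroup (GL (Fin n) F)) : Prop :=
  ∃ M : Subgroup (GL (Fin n) F), InLinearClass n F M ∧ H ≤ M

/-- Every subgroup normalized by `H` is scalar or absolutely irreducible. -/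
def QP (H : Subgroup (GL (Fin n) F)) : Prop :=
  ∀ X : Subgroup (GL (Fin n) F), NormBy H X → X ≤ scalars (Fin n) F ∨ AbsIrr X

/-- The commutant of `X` in the matrix algebra. -/
def commAlg (X : Subgroup (GL (Fin n) F)) : Subalgebra F (Matrix (Fin n) (Fin n) F) :=
  Subalgebra.centralizer F (matrixSet X)

/-- The subalgebra of `End_F(F^n)` generated by `X`. -/
def envEnd (X : Subgroup (GL (Fin n) F)) : Subalgebra F (Module.End F (Fin n → F)) :=
  Algebra.adjoin F ((fun g : GL (Fin n) F => Matrix.toLin' (g : Matrix (Fin n) (Fin n) F)) '' (X : Set (GL (Fin n) F)))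

/-- `F^n` is isotypic (homogeneous) as a module over the algebra generated by `X`. -/
def Homog (X : Subgroup (GL (Fin n) F)) : Prop := IsIsotypic (envEnd X) (Fin n → F)

/-- `a ↦ a ⊗ 1` as a monoid hom of matrix monoids. -/
def kronLMat (m k : ℕ) (F : Type*) [Field F] :
    Matrix (Fin m) (Fin m) F →* Matrix (Fin m × Fin k) (Fin m × Fin k) F where
  toFun a := a ⊗ₖ (1 : Matrix (Fin k) (Fin k) F)
  map_one' := Matrix.one_kronecker_one
  map_mul' a b := by rw [← Matrix.mul_kronecker_mul, mul_one]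

/-- `b ↦ 1 ⊗ b` as a monoid hom of matrix monoids. -/
def kronRMat (m k : ℕ) (F : Type*) [Field F] :
    Matrix (Fin k) (Fin k) F →* Matrix (Fin m × Fin k) (Fin m × Fin k) F where
  toFun b := (1 : Matrix (Fin m) (Fin m) F) ⊗ₖ b
  map_one' := Matrix.one_kronecker_one
  map_mul' a b := by rw [← Matrix.mul_kronecker_mul, mul_one]

/-- `a ↦ P · reindex (a ⊗ 1) · P⁻¹ : GL_m → GL_n`. -/
def kronL {m k : ℕ} (e : Fin n ≃ Fin m × Fin k) (P : GL (Fin n) F) : GL (Fin m) F →* GL (Fin n) F :=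
  ((MulAut.conj P).toMonoidHom.comp (glReindex (F := F) e.symm).toMonoidHom).comp (Units.map (kronLMat m k F))

/-- `b ↦ P · reindex (1 ⊗ b) · P⁻¹ : GL_k → GL_n`. -/
def kronR {m k : ℕ} (e : Fin n ≃ Fin m × Fin k) (P : GL (Fin n) F) : GL (Fin k) F →* GL (Fin n) F :=
  ((MulAut.conj P).toMonoidHom.comp (glReindex (F := F) e.symm).toMonoidHom).comp (Units.map (kronRMat m k F))

theorem kronL_val {m k : ℕ} (e : Fin n ≃ Fin m × Fin k) (P : GL (Fin n) F) (a : GL (Fin m) F) :
    ((kronL e P a : GL (Fin n) F) : Matrix (Fin n) (Fin n) F) =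
      (P : Matrix (Fin n) (Fin n) F) *
        Matrix.reindex e.symm e.symm ((a : Matrix (Fin m) (Fin m) F) ⊗ₖ (1 : Matrix (Fin k) (Fin k) F)) *
        ((P⁻¹ : GL (Fin n) F) : Matrix (Fin n) (Fin n) F) := by
  rfl

theorem kronR_val {m k : ℕ} (e : Fin n ≃ Fin m × Fin k) (P : GL (Fin n) F) (b : GL (Fin k) F) :
    ((kronR e P b : GL (Fin n) F) : Matrix (Fin n) (Fin n) F) =
      (P : Matrix (Fin n) (Fin n) F) *
        Matrix.reindex e.symm e.symm ((1 : Matrix (Fin m) (Fin m) F) ⊗ₖ (b : Matrix (Fin k) (Fin k) F)) *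
        ((P⁻¹ : GL (Fin n) F) : Matrix (Fin n) (Fin n) F) := by
  rfl

end Cfsg.Agent.Lib.Helper11.Asch
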