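import Cfsg.Agent.Lib.Helper25.SLCC.Defs

set_option autoImplicit false

/-! S2086 farm (architect helper25), piece [A2]: Milnor's construction of lifts of the root elements
satisfying Steinberg's relations, from `CommLift` and `Bal`. -/

namespace Cfsg.Agent.Lib.Helper25.SLCC

open Matrix
open scoped commutatorElement

variable {n : ℕ} {K : Type*} [Field K] {E : Type*} [Group E]

namespace Helper11

theorem exists_ne_two (hn : 3 ≤ n) (a b : Fin n) : ∃ h : Fin n, h ≠ a ∧ h ≠ b := by
  classical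
  have hcard : ({a, b} : Finset (Fin n)).card < (Finset.univ : Finset (Fin n)).card := by
    rw [Finset.card_univ, Fintype.card_fin]
    calc ({a, b} : Finset (Fin n)).card ≤ 2 := Finset.card_le_two
      _ < n := by omega
  obtain ⟨h, -, hh⟩ := Finset.exists_mem_notMem_of_card_lt_card hcard
  simp only [Finset.mem_insert, Finset.mem_singleton, not_or] at hh
  exact ⟨h, hh.1, hh.2⟩

/-- `⁅a, b * c⁆ = ⁅a, b⁆ * ⁅a, c⁆` when `b` commutes with `⁅a, c⁆` -/
theorem comm_mul_right (a b c : E) (h : b * ⁅a, c⁆ = ⁅a, c⁆ * b) :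
    ⁅a, b * c⁆ = ⁅a, b⁆ * ⁅a, c⁆ := by
  have h1 : ⁅a, b * c⁆ = ⁅a, b⁆ * (b * ⁅a, c⁆ * b⁻¹) := by
    simp only [commutatorElement_def]
    group
  rw [h1, h, mul_inv_cancel_right]

end Helper11

/-- [A2] Milnor's construction: from `CommLift` and `Bal` to lifts satisfying Steinberg's relations -/
theorem exists_lifts_of_commLift_bal (hn : 3 ≤ n) (ψ : E →* SpecialLinearGroup (Fin n) K)
    (hψ : Function.Surjective ψ) (hc : ψ.ker ≤ Subgroup.center E) (hCL : CommLift ψ) (hBal : Bal ψ) :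
    ∃ y : Fin n → Fin n → K → E,
      (∀ i j : Fin n, i ≠ j → ∀ t : K, ψ (y i j t) = T i j t) ∧
      (∀ i j : Fin n, i ≠ j → ∀ t u : K, y i j t * y i j u = y i j (t + u)) ∧
      (∀ i j k l : Fin n, i ≠ j → k ≠ l → i ≠ l → j ≠ k → ∀ t u : K,
        y i j t * y k l u = y k l u * y i j t) ∧
      (∀ i j l : Fin n, i ≠ j → j ≠ l → i ≠ l → ∀ t u : K, ⁅y i j t, y j l u⁆ = y i l (t * u)) := by
  choose hs hs1 hs2 using Helper11.exists_ne_two (n := n) hn
  -- chosen lifts
  let L : Fin n → Fin n → K → E := fun i j t => Function.surjInv hψ (T i j t)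
  have hL : ∀ i j t, ψ (L i j t) = T i j t := fun i j t => Function.surjInv_eq hψ _
  let y : Fin n → Fin n → K → E := fun i j t => ⁅L i (hs i j) 1, L (hs i j) j t⁆
  have hy : ∀ i j : Fin n, i ≠ j → ∀ t : K, ψ (y i j t) = T i j t := by
    intro i j hij t
    show ψ ⁅L i (hs i j) 1, L (hs i j) j t⁆ = T i j t
    rw [map_commutatorElement, hL, hL, T_comm3 (hs1 i j).symm (hs2 i j) hij, one_mul]
  -- the key fact: every commutator of lifts of `x_ij(t)`, `x_jl(u)` is `y i l (t * u)`
  have key : ∀ i j l : Fin n, i ≠ j → j ≠ l → i ≠ l → ∀ (t u : K) (A B : E),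
      ψ A = T i j t → ψ B = T j l u → ⁅A, B⁆ = y i l (t * u) := by
    intro i j l hij hjl hil t u A B hA hB
    exact hBal i j (hs i l) l hij hjl hil (hs1 i l).symm (hs2 i l) t u A B _ _ hA hB
      (hL _ _ _) (hL _ _ _)
  refine ⟨y, hy, ?_, ?_, ?_⟩
  · intro i j hij t u
    have hih : i ≠ hs i j := (hs1 i j).symm
    have hhj : hs i j ≠ j := hs2 i j
    have h1 : ψ (L (hs i j) j t * L (hs i j) j u) = T (hs i j) j (t + u) := by
      rw [map_mul, hL, hL, T_add hhj]
    have h2 := key i (hs i j) j hih hhj hij 1 (t + u) (L i (hs i j) 1) _ (hL _ _ _) h1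
    rw [one_mul] at h2
    rw [← h2]
    symm
    apply Helper11.comm_mul_right
    -- `L (hs i j) j t` commutes with `y i j u`
    exact hCL (hs i j) j i j hhj hij hhj hij.symm t u _ (y i j u) (hL _ _ _) (hy i j hij u)
  · intro i j k l hij hkl hil hjk t u
    exact hCL i j k l hij hkl hil hjk t u _ _ (hy i j hij t) (hy k l hkl u)
  · intro i j l hij hjl hil t u
    exact key i j l hij hjl hil t u _ _ (hy i j hij t) (hy j l hjl u)

end Cfsg.Agent.Lib.Helper25.SLCC
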