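import Cfsg.Agent.Lib.Helper25.SLCC.Defs

set_option autoImplicit false

/-! S2086 farm (architect helper25), piece [A6]: diagonal elements of `SL_n(K)` and their action on
the root elements. -/

namespace Cfsg.Agent.Lib.Helper25.SLCC

open Matrix
open scoped commutatorElement

variable {n : ℕ} {K : Type*} [Field K]

namespace Helper11

/-- the diagonal matrix with entries `d`, of determinant `1` -/
def diagSL (d : Fin n → K) (hprod : ∏ i, d i = 1) : SpecialLinearGroup (Fin n) K :=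
  ⟨Matrix.diagonal d, by rw [Matrix.det_diagonal]; exact hprod⟩

theorem diagSL_conj (d : Fin n → K) (hd : ∀ i, d i ≠ 0) (hprod : ∏ i, d i = 1) {i j : Fin n}
    (hij : i ≠ j) (t : K) :
    diagSL d hprod * T i j t * (diagSL d hprod)⁻¹ = T i j (d i * (d j)⁻¹ * t) := by
  rw [mul_inv_eq_iff_eq_mul]
  rw [T_of hij, T_of hij]
  apply Subtype.ext
  change Matrix.diagonal d * ((1 : Matrix (Fin n) (Fin n) K) + Matrix.single i j t)
    = (1 + Matrix.single i j (d i * (d j)⁻¹ * t)) * Matrix.diagonal d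
  ext a b
  rw [Matrix.diagonal_mul, Matrix.mul_diagonal, Matrix.add_apply, Matrix.add_apply,
    Matrix.one_apply, Matrix.single_apply, Matrix.single_apply]
  have hj := hd j
  by_cases hab : a = b
  · subst hab
    by_cases h1 : i = a ∧ j = a
    · exact absurd (h1.1.trans h1.2.symm) hij
    · rw [if_neg h1, if_neg h1, if_pos rfl]; ring
  · rw [if_neg hab]
    by_cases h1 : i = a ∧ j = b
    · obtain ⟨rfl, rfl⟩ := h1
      rw [if_pos ⟨rfl, rfl⟩, if_pos ⟨rfl, rfl⟩]
      field_simp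
      ring
    · rw [if_neg h1, if_neg h1]; ring

/-- the entries of `diag(…, v at k, …, w at l, …)` -/
def d2 (k l : Fin n) (v w : K) : Fin n → K :=
  fun x => (if x = k then v else 1) * (if x = l then w else 1)

theorem d2_prod (k l : Fin n) (v w : K) : ∏ x, d2 k l v w x = v * w := by
  unfold d2
  rw [Finset.prod_mul_distrib, Finset.prod_ite_eq', Finset.prod_ite_eq']
  simp

theorem d2_ne_zero (k l : Fin n) {v w : K} (hv : v ≠ 0) (hw : w ≠ 0) (x : Fin n) :
    d2 k l v w x ≠ 0 := by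
  unfold d2
  apply mul_ne_zero <;> split_ifs <;> simp [hv, hw]

theorem d2_left {k l : Fin n} (hkl : k ≠ l) (v w : K) : d2 k l v w k = v := by
  simp [d2, hkl]

theorem d2_right {k l : Fin n} (hkl : k ≠ l) (v w : K) : d2 k l v w l = w := by
  simp [d2, hkl.symm]

theorem d2_other {k l x : Fin n} (hk : x ≠ k) (hl : x ≠ l) (v w : K) : d2 k l v w x = 1 := by
  simp [d2, hk, hl]

/-- the entries of `diag(…, a at i, …, b at j, …, c at l, …)` -/
def d3 (i j l : Fin n) (a b c : K) : Fin n → K :=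
  fun x => (if x = i then a else 1) * (if x = j then b else 1) * (if x = l then c else 1)

theorem d3_prod (i j l : Fin n) (a b c : K) : ∏ x, d3 i j l a b c x = a * b * c := by
  unfold d3
  rw [Finset.prod_mul_distrib, Finset.prod_mul_distrib, Finset.prod_ite_eq', Finset.prod_ite_eq',
    Finset.prod_ite_eq']
  simp

theorem d3_ne_zero (i j l : Fin n) {a b c : K} (ha : a ≠ 0) (hb : b ≠ 0) (hc : c ≠ 0)
    (x : Fin n) : d3 i j l a b c x ≠ 0 := by
  unfold d3
  refine mul_ne_zero (mul_ne_zero ?_ ?_) ?_ <;> split_ifs <;> simp [ha, hb, hc]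

theorem d3_1 {i j l : Fin n} (hij : i ≠ j) (hil : i ≠ l) (a b c : K) :
    d3 i j l a b c i = a := by
  simp [d3, hij, hil]

theorem d3_2 {i j l : Fin n} (hij : i ≠ j) (hjl : j ≠ l) (a b c : K) :
    d3 i j l a b c j = b := by
  simp [d3, hij.symm, hjl]

theorem d3_3 {i j l : Fin n} (hil : i ≠ l) (hjl : j ≠ l) (a b c : K) :
    d3 i j l a b c l = c := by
  simp [d3, hil.symm, hjl.symm]

end Helper11

/-- [A6] diagonal elements of `SL_n(K)` and their action on the root elements -/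
theorem exists_diag (d : Fin n → K) (hd : ∀ i, d i ≠ 0) (hprod : ∏ i, d i = 1) :
    ∃ D : SpecialLinearGroup (Fin n) K, ∀ i j : Fin n, i ≠ j → ∀ t : K,
      D * T i j t * D⁻¹ = T i j (d i * (d j)⁻¹ * t) := by
  exact ⟨Helper11.diagSL d hprod, fun i j hij t => Helper11.diagSL_conj d hd hprod hij t⟩

/-- [A6] `diag(…, v at k, …, v⁻¹ at l, …)` -/
theorem exists_diag_two {k l : Fin n} (hkl : k ≠ l) {v : K} (hv : v ≠ 0) :
    ∃ D : SpecialLinearGroup (Fin n) K,
      (∀ i j : Fin n, i ≠ j → i ≠ k → i ≠ l → j ≠ k → j ≠ l → ∀ t : K, D * T i j t * D⁻¹ = T i j t) ∧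
      (∀ u : K, D * T k l u * D⁻¹ = T k l (v ^ 2 * u)) := by
  have hprod : ∏ x, Helper11.d2 k l v v⁻¹ x = 1 := by
    rw [Helper11.d2_prod, mul_inv_cancel₀ hv]
  have hd := Helper11.d2_ne_zero k l hv (inv_ne_zero hv)
  refine ⟨Helper11.diagSL _ hprod, ?_, ?_⟩
  · intro i j hij hik hil hjk hjl t
    rw [Helper11.diagSL_conj _ hd hprod hij, Helper11.d2_other hik hil, Helper11.d2_other hjk hjl]
    congr 1
    simp
  · intro u
    rw [Helper11.diagSL_conj _ hd hprod hkl, Helper11.d2_left hkl, Helper11.d2_right hkl]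
    congr 1
    rw [inv_inv]; ring

/-- [A6] `diag(…, a at i, …, a at j, …, a⁻² at l, …)` -/
theorem exists_diag_three {i j l : Fin n} (hij : i ≠ j) (hjl : j ≠ l) (hil : i ≠ l) {a : K}
    (ha : a ≠ 0) :
    ∃ D : SpecialLinearGroup (Fin n) K,
      (∀ t : K, D * T i j t * D⁻¹ = T i j t) ∧ (∀ t : K, D * T j i t * D⁻¹ = T j i t) ∧
      (∀ u : K, D * T i l u * D⁻¹ = T i l (a ^ 3 * u)) ∧
      (∀ u : K, D * T j l u * D⁻¹ = T j l (a ^ 3 * u)) ∧
      (∀ u : K, D * T l i u * D⁻¹ = T l i ((a ^ 3)⁻¹ * u)) ∧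
      (∀ u : K, D * T l j u * D⁻¹ = T l j ((a ^ 3)⁻¹ * u)) := by
  have ha2 : (a ^ 2)⁻¹ ≠ 0 := inv_ne_zero (pow_ne_zero 2 ha)
  have hprod : ∏ x, Helper11.d3 i j l a a (a ^ 2)⁻¹ x = 1 := by
    rw [Helper11.d3_prod]
    field_simp
  have hd := Helper11.d3_ne_zero i j l ha ha ha2
  have e1 := Helper11.d3_1 hij hil a a (a ^ 2)⁻¹
  have e2 := Helper11.d3_2 hij hjl a a (a ^ 2)⁻¹
  have e3 := Helper11.d3_3 hil hjl a a (a ^ 2)⁻¹
  refine ⟨Helper11.diagSL _ hprod, ?_, ?_, ?_, ?_, ?_, ?_⟩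
  · intro t
    rw [Helper11.diagSL_conj _ hd hprod hij, e1, e2]
    congr 1
    field_simp
  · intro t
    rw [Helper11.diagSL_conj _ hd hprod hij.symm, e1, e2]
    congr 1
    field_simp
  · intro u
    rw [Helper11.diagSL_conj _ hd hprod hil, e1, e3]
    congr 1
    rw [inv_inv]; ring
  · intro u
    rw [Helper11.diagSL_conj _ hd hprod hjl, e2, e3]
    congr 1
    rw [inv_inv]; ring
  · intro u
    rw [Helper11.diagSL_conj _ hd hprod hil.symm, e1, e3]
    congr 1
    field_simp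
  · intro u
    rw [Helper11.diagSL_conj _ hd hprod hjl.symm, e2, e3]
    congr 1
    field_simp

end Cfsg.Agent.Lib.Helper25.SLCC
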