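import Cfsg.Agent.Lib.Helper28.J1
import Cfsg.Agent.Lib.Helper28.BSGSMat4

/-!
Kernel-checked word identities in `J₁ = ⟨x, y⟩ ≤ GL₇(11)`: with `a = x y x y⁻¹`, `b = x a x⁻¹`,
`c = x b x⁻¹` one has an elementary abelian group `⟨a, b, c⟩` of order 8 and `x c x⁻¹ = a b`.
-/

set_option autoImplicit false

namespace Cfsg.Agent.Lib.Helper11.SchurJ

open Cfsg.Agent.Lib.Helper28 Cfsg.Agent.Lib.Helper28.BSGSMat Cfsg.Agent.Lib.Helper28.J1Data

/-- `a = x y x y⁴` -/
def wa : List Bool := [false, true, false, true, true, true, true]
/-- `b = x a x⁶` -/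
def wb : List Bool := [false, false, true, false, true, true, true, true,
  false, false, false, false, false, false]
/-- `c = x² a x⁵` -/
def wc : List Bool := [false, false, false, true, false, true, true, true, true,
  false, false, false, false, false]

def ma : List M7 := wordM xc yc wa
def mb : List M7 := wordM xc yc wb
def mc : List M7 := wordM xc yc wc

theorem c_aa : idB (ma ++ ma) = true := by decide +kernel
theorem c_bb : idB (mb ++ mb) = true := by decide +kernel
theorem c_cc : idB (mc ++ mc) = true := by decide +kernel
theorem c_ab : wordEqB (ma ++ mb) (mb ++ ma) = true := by decide +kernel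
theorem c_ac : wordEqB (ma ++ mc) (mc ++ ma) = true := by decide +kernel
theorem c_bc : wordEqB (mb ++ mc) (mc ++ mb) = true := by decide +kernel
theorem c_ta : wordEqB (decM xc :: ma) (mb ++ [decM xc]) = true := by decide +kernel
theorem c_tb : wordEqB (decM xc :: mb) (mc ++ [decM xc]) = true := by decide +kernel
theorem c_tc : wordEqB (decM xc :: mc) ((ma ++ mb) ++ [decM xc]) = true := by decide +kernel
theorem n_a : wordEqB ma [] = false := by decide +kernel
theorem n_b : wordEqB mb [] = false := by decide +kernel
theorem n_c : wordEqB mc [] = false := by decide +kernel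
theorem n_ab : wordEqB (ma ++ mb) [] = false := by decide +kernel
theorem n_ac : wordEqB (ma ++ mc) [] = false := by decide +kernel
theorem n_bc : wordEqB (mb ++ mc) [] = false := by decide +kernel
theorem n_abc : wordEqB ((ma ++ mb) ++ mc) [] = false := by decide +kernel

end Cfsg.Agent.Lib.Helper11.SchurJ
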