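import Cfsg.Agent.Lib.Helper11.SchurJA
import Cfsg.Agent.Lib.Helper11.SchurJB

/-!
The Schur multiplier of `J₁` is trivial: every finite stem extension of `J₁` has trivial kernel.
-/

set_option autoImplicit false

namespace Cfsg.Agent.Lib.Helper11.SchurJ

open Cfsg
open Cfsg.Agent.Lib.Helper28 Cfsg.Agent.Lib.Helper28.BSGSMat Cfsg.Agent.Lib.Helper28.J1Data

/-- the three commuting involutions, in `GL₇(11)` -/
noncomputable def ga : GL (Fin 7) (ZMod 11) := wordG J1.x J1.y wa
noncomputable def gb : GL (Fin 7) (ZMod 11) := wordG J1.x J1.y wb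
noncomputable def gc : GL (Fin 7) (ZMod 11) := wordG J1.x J1.y wc

theorem actA : ActsBy ga ma := actsBy_word J1.hxc J1.hyc wa
theorem actB : ActsBy gb mb := actsBy_word J1.hxc J1.hyc wb
theorem actC : ActsBy gc mc := actsBy_word J1.hxc J1.hyc wc
theorem actX : ActsBy J1.x [decM xc] := actsBy_single (glOf_acts J1.hxc)

theorem r_aa : ga * ga = 1 := eq_one_of_idB (actsBy_append actA actA) c_aa
theorem r_bb : gb * gb = 1 := eq_one_of_idB (actsBy_append actB actB) c_bb
theorem r_cc : gc * gc = 1 := eq_one_of_idB (actsBy_append actC actC) c_cc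
theorem r_ab : ga * gb = gb * ga :=
  eq_of_wordEqB (actsBy_append actA actB) (actsBy_append actB actA) c_ab
theorem r_ac : ga * gc = gc * ga :=
  eq_of_wordEqB (actsBy_append actA actC) (actsBy_append actC actA) c_ac
theorem r_bc : gb * gc = gc * gb :=
  eq_of_wordEqB (actsBy_append actB actC) (actsBy_append actC actB) c_bc
theorem r_ta : J1.x * ga = gb * J1.x :=
  eq_of_wordEqB (actsBy_cons (glOf_acts J1.hxc) actA) (actsBy_append actB actX) c_ta
theorem r_tb : J1.x * gb = gc * J1.x :=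
  eq_of_wordEqB (actsBy_cons (glOf_acts J1.hxc) actB) (actsBy_append actC actX) c_tb
theorem r_tc : J1.x * gc = ga * gb * J1.x :=
  eq_of_wordEqB (actsBy_cons (glOf_acts J1.hxc) actC)
    (actsBy_append (actsBy_append actA actB) actX) c_tc
theorem r_na : ga ≠ 1 := ne_of_wordEqB_false actA actsBy_one n_a
theorem r_nb : gb ≠ 1 := ne_of_wordEqB_false actB actsBy_one n_b
theorem r_nc : gc ≠ 1 := ne_of_wordEqB_false actC actsBy_one n_c
theorem r_nab : ga * gb ≠ 1 := ne_of_wordEqB_false (actsBy_append actA actB) actsBy_one n_ab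
theorem r_nac : ga * gc ≠ 1 := ne_of_wordEqB_false (actsBy_append actA actC) actsBy_one n_ac
theorem r_nbc : gb * gc ≠ 1 := ne_of_wordEqB_false (actsBy_append actB actC) actsBy_one n_bc
theorem r_nabc : ga * gb * gc ≠ 1 :=
  ne_of_wordEqB_false (actsBy_append (actsBy_append actA actB) actC) actsBy_one n_abc

theorem x_eq_janko : J1.x = Cfsg.Spor.jankoX := Units.ext (J1.x_val.trans rfl)

theorem y_eq_janko : J1.y = Cfsg.Spor.jankoY := Units.ext (J1.y_val.trans rfl)

theorem card_J1 : Nat.card ↥Cfsg.Spor.J1 = 175560 := by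
  show Nat.card ↥(Subgroup.closure ({Cfsg.Spor.jankoX, Cfsg.Spor.jankoY} :
    Set (GL (Fin 7) (ZMod 11)))) = 175560
  rw [← x_eq_janko, ← y_eq_janko]
  exact J1.card_closure

theorem word_mem (w : List Bool) : wordG J1.x J1.y w ∈ Cfsg.Spor.J1 := by
  have h := wordG_mem J1.x J1.y w
  rw [x_eq_janko, y_eq_janko] at h ⊢
  exact h

theorem x_mem_J1 : J1.x ∈ Cfsg.Spor.J1 := by
  rw [x_eq_janko]
  exact Subgroup.subset_closure (Set.mem_insert _ _)

/-- the generator `x` in `J₁` -/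
noncomputable def jx : ↥Cfsg.Spor.J1 := ⟨J1.x, x_mem_J1⟩

/-- the elements in `J₁` -/
noncomputable def ja : ↥Cfsg.Spor.J1 := ⟨ga, word_mem wa⟩
noncomputable def jb : ↥Cfsg.Spor.J1 := ⟨gb, word_mem wb⟩
noncomputable def jc : ↥Cfsg.Spor.J1 := ⟨gc, word_mem wc⟩

theorem not_sq_dvd (r : ℕ) (hr : r.Prime) (h2 : r ≠ 2) : ¬ r ^ 2 ∣ 175560 := by
  intro h
  have hd : r ∣ 175560 := dvd_trans (dvd_pow_self r (by norm_num)) h
  have e : (175560 : ℕ) = 2 * (2 * (2 * (3 * (5 * (7 * (11 * 19)))))) := by norm_num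
  rw [e] at hd
  have key : ∀ q : ℕ, q.Prime → r ∣ q → r = q := fun q hq hrq =>
    (Nat.prime_dvd_prime_iff_eq hr hq).mp hrq
  have hcases : r = 3 ∨ r = 5 ∨ r = 7 ∨ r = 11 ∨ r = 19 := by
    rcases (Nat.Prime.dvd_mul hr).mp hd with h' | hd
    · exact absurd (key 2 Nat.prime_two h') h2
    rcases (Nat.Prime.dvd_mul hr).mp hd with h' | hd
    · exact absurd (key 2 Nat.prime_two h') h2
    rcases (Nat.Prime.dvd_mul hr).mp hd with h' | hd
    · exact absurd (key 2 Nat.prime_two h') h2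
    rcases (Nat.Prime.dvd_mul hr).mp hd with h' | hd
    · exact Or.inl (key 3 (by norm_num) h')
    rcases (Nat.Prime.dvd_mul hr).mp hd with h' | hd
    · exact Or.inr (Or.inl (key 5 (by norm_num) h'))
    rcases (Nat.Prime.dvd_mul hr).mp hd with h' | hd
    · exact Or.inr (Or.inr (Or.inl (key 7 (by norm_num) h')))
    rcases (Nat.Prime.dvd_mul hr).mp hd with h' | hd
    · exact Or.inr (Or.inr (Or.inr (Or.inl (key 11 (by norm_num) h'))))
    · exact Or.inr (Or.inr (Or.inr (Or.inr (key 19 (by norm_num) hd))))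
  rcases hcases with rfl | rfl | rfl | rfl | rfl <;> norm_num at h

theorem ja_val : (ja : GL (Fin 7) (ZMod 11)) = ga := rfl
theorem jb_val : (jb : GL (Fin 7) (ZMod 11)) = gb := rfl
theorem jc_val : (jc : GL (Fin 7) (ZMod 11)) = gc := rfl
theorem jx_val : (jx : GL (Fin 7) (ZMod 11)) = J1.x := rfl

theorem j_aa : ja * ja = 1 := by
  apply Subtype.ext
  rw [Subgroup.coe_mul, Subgroup.coe_one, ja_val]
  exact r_aa
theorem j_bb : jb * jb = 1 := by
  apply Subtype.ext
  rw [Subgroup.coe_mul, Subgroup.coe_one, jb_val]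
  exact r_bb
theorem j_cc : jc * jc = 1 := by
  apply Subtype.ext
  rw [Subgroup.coe_mul, Subgroup.coe_one, jc_val]
  exact r_cc
theorem j_ab : ja * jb = jb * ja := by
  apply Subtype.ext
  rw [Subgroup.coe_mul, Subgroup.coe_mul, ja_val, jb_val]
  exact r_ab
theorem j_ac : ja * jc = jc * ja := by
  apply Subtype.ext
  rw [Subgroup.coe_mul, Subgroup.coe_mul, ja_val, jc_val]
  exact r_ac
theorem j_bc : jb * jc = jc * jb := by
  apply Subtype.ext
  rw [Subgroup.coe_mul, Subgroup.coe_mul, jb_val, jc_val]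
  exact r_bc
theorem j_ta : jx * ja = jb * jx := by
  apply Subtype.ext
  rw [Subgroup.coe_mul, Subgroup.coe_mul, ja_val, jb_val, jx_val]
  exact r_ta
theorem j_tb : jx * jb = jc * jx := by
  apply Subtype.ext
  rw [Subgroup.coe_mul, Subgroup.coe_mul, jb_val, jc_val, jx_val]
  exact r_tb
theorem j_tc : jx * jc = ja * jb * jx := by
  apply Subtype.ext
  rw [Subgroup.coe_mul, Subgroup.coe_mul, Subgroup.coe_mul, ja_val, jb_val, jc_val, jx_val]
  exact r_tc
theorem j_na : ja ≠ 1 := by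
  intro h
  have h' := congrArg Subtype.val h
  rw [Subgroup.coe_one, ja_val] at h'
  exact r_na h'
theorem j_nb : jb ≠ 1 := by
  intro h
  have h' := congrArg Subtype.val h
  rw [Subgroup.coe_one, jb_val] at h'
  exact r_nb h'
theorem j_nc : jc ≠ 1 := by
  intro h
  have h' := congrArg Subtype.val h
  rw [Subgroup.coe_one, jc_val] at h'
  exact r_nc h'
theorem j_nab : ja * jb ≠ 1 := by
  intro h
  have h' := congrArg Subtype.val h
  rw [Subgroup.coe_one, Subgroup.coe_mul, ja_val, jb_val] at h'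
  exact r_nab h'
theorem j_nac : ja * jc ≠ 1 := by
  intro h
  have h' := congrArg Subtype.val h
  rw [Subgroup.coe_one, Subgroup.coe_mul, ja_val, jc_val] at h'
  exact r_nac h'
theorem j_nbc : jb * jc ≠ 1 := by
  intro h
  have h' := congrArg Subtype.val h
  rw [Subgroup.coe_one, Subgroup.coe_mul, jb_val, jc_val] at h'
  exact r_nbc h'
theorem j_nabc : ja * jb * jc ≠ 1 := by
  intro h
  have h' := congrArg Subtype.val h
  rw [Subgroup.coe_one, Subgroup.coe_mul, Subgroup.coe_mul, ja_val, jb_val, jc_val] at h'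
  exact r_nabc h'

theorem ker_eq_bot (Γ : Type) [Group Γ] [Finite Γ] (σ : Γ →* ↥Cfsg.Spor.J1)
    (hσ : IsStemExtension σ) : σ.ker = ⊥ := by
  haveI : Finite ↥Cfsg.Spor.J1 :=
    Nat.finite_of_card_ne_zero (by rw [card_J1]; norm_num)
  rw [← Subgroup.card_eq_one]
  by_contra hne
  obtain ⟨r, hr, hdvd⟩ := Nat.exists_prime_and_dvd hne
  haveI : Fact r.Prime := ⟨hr⟩
  by_cases h2 : r = 2
  · subst h2
    exact two_not_dvd σ hσ 21945 (by decide) (by rw [card_J1]) ja jb jc jx
      j_aa j_bb j_cc j_ab j_ac j_bc j_ta j_tb j_tc j_na j_nb j_nc j_nab j_nac j_nbc j_nabc hdvd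
  · refine not_dvd_of_sq_not_dvd σ hσ r ?_ hdvd
    rw [card_J1]
    exact not_sq_dvd r hr h2

end Cfsg.Agent.Lib.Helper11.SchurJ
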