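import Cfsg.Agent.Lib.Helper11.SelfCentP
import Cfsg.Agent.Lib.Helper11.BLCount

/-!
Groups with an element `x` of prime order `p` with `C_G(x) = ⟨x⟩`: the Brauer–Leonard data for
`N = N_G(⟨x⟩)`, `K = Z = ⟨x⟩`, and irreducible characters of degree `p - 1`.
-/

set_option autoImplicit false

namespace Cfsg.Agent.Lib.Helper11

open Cfsg
open Cfsg.Agent.Lib.Helper2
open Cfsg.Agent.S4495 Cfsg.Agent.S4496
open scoped ComplexConjugate

namespace SelfCentP

variable {G : Type*} [Group G] [Finite G] (p : ℕ) [Fact p.Prime] (x : G)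

/-- The Brauer–Leonard data attached to `⟨x⟩` inside its normalizer. -/
theorem blData (hx : orderOf x = p)
    (hC : Subgroup.centralizer ({x} : Set G) = Subgroup.zpowers x) :
    BLData ((Subgroup.zpowers x).subgroupOf (Subgroup.normalizer (Subgroup.zpowers x : Set G)))
      ((Subgroup.zpowers x).subgroupOf (Subgroup.normalizer (Subgroup.zpowers x : Set G)))
      (MonoidHom.id _) := by
  refine ⟨le_refl _, ?_, fun z hz => rfl, fun n k h => rfl, ?_⟩
  · intro z hz k hk
    apply Subtype.ext
    have hz' : (z : G) ∈ Subgroup.zpowers x := hz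
    have hk' : (k : G) ∈ Subgroup.zpowers x := hk
    obtain ⟨i, hi⟩ := Subgroup.mem_zpowers_iff.1 hz'
    obtain ⟨j, hj⟩ := Subgroup.mem_zpowers_iff.1 hk'
    show (z : G) * (k : G) = (k : G) * (z : G)
    rw [← hi, ← hj, ← zpow_add, ← zpow_add, add_comm]
  · intro n z hz hz1 hcomm
    have hz' : (z : G) ∈ Subgroup.zpowers x := hz
    have hz1' : (z : G) ≠ 1 := fun h => hz1 (Subtype.ext h)
    have hcen := centralizer_of_mem p x hx hC (z : G) hz' hz1'
    show (n : G) ∈ Subgroup.zpowers x
    have hmem : (n : G) ∈ Subgroup.centralizer ({(z : G)} : Set G) := by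
      rw [Subgroup.mem_centralizer_iff]
      intro y hy
      rw [Set.mem_singleton_iff] at hy
      rw [hy]
      exact (congrArg Subtype.val hcomm).symm
    rw [hcen] at hmem
    exact hmem

/-- The nonidentity elements of `⟨x⟩` form a trivial-intersection set. -/
theorem blTI (hx : orderOf x = p) :
    ∀ a ∈ blSet (MonoidHom.id
      ((Subgroup.zpowers x).subgroupOf (Subgroup.normalizer (Subgroup.zpowers x : Set G)))),
    ∀ g : G, g⁻¹ * a * g ∈ blSet (MonoidHom.id
      ((Subgroup.zpowers x).subgroupOf (Subgroup.normalizer (Subgroup.zpowers x : Set G)))) →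
    g ∈ Subgroup.normalizer (Subgroup.zpowers x : Set G) := by
  rintro a ⟨k, hka, hk1⟩ g ⟨k', hka', hk1'⟩
  have hkX : a ∈ Subgroup.zpowers x := by rw [← hka]; exact k.2
  have hk'X : g⁻¹ * a * g ∈ Subgroup.zpowers x := by rw [← hka']; exact k'.2
  have ha1 : a ≠ 1 := by
    intro h
    apply hk1
    apply Subtype.ext
    apply Subtype.ext
    show ((k : Subgroup.normalizer (Subgroup.zpowers x : Set G)) : G) = 1
    rw [hka, h]
  have ha1' : g⁻¹ * a * g ≠ 1 := by
    intro h
    apply hk1'
    apply Subtype.ext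
    apply Subtype.ext
    show ((k' : Subgroup.normalizer (Subgroup.zpowers x : Set G)) : G) = 1
    rw [hka', h]
  have h1 := zpowers_eq_of_mem p x hx a hkX ha1
  have h2 := zpowers_eq_of_mem p x hx _ hk'X ha1'
  rw [Subgroup.mem_normalizer_iff'']
  intro h
  constructor
  · intro hh
    rw [← h1] at hh
    obtain ⟨i, hi⟩ := Subgroup.mem_zpowers_iff.1 hh
    rw [← h2, ← hi]
    have : g⁻¹ * a ^ i * g = (g⁻¹ * a * g) ^ i := by
      have := map_zpow (MulAut.conj g⁻¹) a i
      simpa [MulAut.conj_apply] using this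
    rw [this]
    exact Subgroup.zpow_mem_zpowers _ i
  · intro hh
    rw [← h2] at hh
    obtain ⟨i, hi⟩ := Subgroup.mem_zpowers_iff.1 hh
    have : g⁻¹ * a ^ i * g = (g⁻¹ * a * g) ^ i := by
      have := map_zpow (MulAut.conj g⁻¹) a i
      simpa [MulAut.conj_apply] using this
    rw [← this] at hi
    have h3 : h = a ^ i := by
      have h4 : g * (g⁻¹ * a ^ i * g) * g⁻¹ = g * (g⁻¹ * h * g) * g⁻¹ := by rw [hi]
      rw [show g * (g⁻¹ * a ^ i * g) * g⁻¹ = a ^ i by group,
        show g * (g⁻¹ * h * g) * g⁻¹ = h by group] at h4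
      exact h4.symm
    rw [h3, ← h1]
    exact Subgroup.zpow_mem_zpowers _ i


/-- The counting argument: multiplicities with sum `q - 1` and small square sum, vanishing in
families of size `e ≥ 2` away from a distinguished index, vanish at the distinguished index. -/
theorem comb_one_eq_zero {I : Type*} [Fintype I] [DecidableEq I] (one : I) (a : I → ℕ) (e q : ℕ)
    (he : 2 ≤ e) (hcard : Fintype.card I = q) (hsum : ∑ i, a i = q - 1)
    (hsq : ∑ i, a i ^ 2 ≤ e + q - 2)
    (hF : ∀ i₀ : I, i₀ ≠ one → a i₀ = 0 →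
      ∃ F : Finset I, F.card = e ∧ one ∉ F ∧ ∀ i ∈ F, a i = 0) :
    a one = 0 := by
  by_contra h1
  have hq1 : 1 ≤ q := by
    rw [← hcard]
    exact Fintype.card_pos_iff.2 ⟨one⟩
  -- some other index has multiplicity zero
  have hex : ∃ i₀ : I, i₀ ≠ one ∧ a i₀ = 0 := by
    by_contra hcon
    push Not at hcon
    have hall : ∀ i : I, 1 ≤ a i := by
      intro i
      by_cases hi : i = one
      · rw [hi]; omega
      · have := hcon i hi
        omega
    have : Fintype.card I ≤ ∑ i, a i := by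
      calc Fintype.card I = ∑ _i : I, 1 := by simp
        _ ≤ ∑ i, a i := Finset.sum_le_sum (fun i _ => hall i)
    omega
  obtain ⟨i₀, hi₀, hai₀⟩ := hex
  obtain ⟨F, hFcard, -, hFzero⟩ := hF i₀ hi₀ hai₀
  have hsplit1 : ∑ i, a i = ∑ i ∈ Fᶜ, a i := by
    rw [← Finset.sum_add_sum_compl F a, Finset.sum_eq_zero (fun i hi => hFzero i hi), zero_add]
  have hsplit2 : ∑ i, a i ^ 2 = ∑ i ∈ Fᶜ, a i ^ 2 := by
    rw [← Finset.sum_add_sum_compl F (fun i => a i ^ 2),
      Finset.sum_eq_zero (fun i hi => by rw [hFzero i hi]; rfl), zero_add]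
  have hcompl : (Fᶜ).card = q - e := by
    rw [Finset.card_compl, hcard, hFcard]
  have hle : e ≤ q := by
    rw [← hcard, ← hFcard]
    exact Finset.card_le_univ F
  have hkey : ∀ n : ℕ, 3 * n ≤ n ^ 2 + 2 := by
    intro n
    rcases n with _ | _ | n
    · omega
    · omega
    · nlinarith
  have h3 : 3 * ∑ i ∈ Fᶜ, a i ≤ ∑ i ∈ Fᶜ, a i ^ 2 + 2 * (Fᶜ).card := by
    rw [Finset.mul_sum]
    calc ∑ i ∈ Fᶜ, 3 * a i ≤ ∑ i ∈ Fᶜ, (a i ^ 2 + 2) := Finset.sum_le_sum (fun i _ => hkey (a i))
      _ = ∑ i ∈ Fᶜ, a i ^ 2 + 2 * (Fᶜ).card := by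
          rw [Finset.sum_add_distrib, Finset.sum_const, smul_eq_mul, mul_comm]
  rw [← hsplit1, ← hsplit2, hcompl, hsum] at h3
  omega

end SelfCentP

namespace BLData

variable {G : Type*} [Group G] [Fintype G] {N : Subgroup G} [Fintype N] {K : Subgroup N}
  [hK : K.Normal] [Fintype K]

open Classical in
/-- In the Brauer–Leonard set-up with `Z = K` (so `K` is abelian and `N / K` acts freely on the
nonidentity elements of `K`), with `[N : K] ≥ 2`: an irreducible character of `G` of degree
`|K| - 1` restricts to `K` without the principal constituent. -/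
theorem restrict_inner_one_eq_zero (D : BLData K K (MonoidHom.id K))
    (hTI : ∀ a ∈ blSet (MonoidHom.id K), ∀ x : G, x⁻¹ * a * x ∈ blSet (MonoidHom.id K) → x ∈ N)
    (he : 2 ≤ K.index) {χ : G → ℂ} (hχ : IsIrrCharacter G χ)
    (hdeg : χ 1 + 1 = (Nat.card K : ℂ)) :
    classInner (fun k : K => χ ((k : N) : G)) (fun _ : K => (1 : ℂ)) = 0 := by
  haveI : Fintype (IrrCharacter K) := Fintype.ofFinite _
  set ψ : K → ℂ := fun k : K => χ ((k : N) : G) with hψdef
  have hψ : IsCharacter K ψ :=
    IsCharacter.restrict (IsCharacter.restrict (IsIrrCharacter.isCharacter hχ) N) K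
  have hcomm : ∀ a b : K, a * b = b * a := fun a b => Subtype.ext (D.central a a.2 b b.2)
  obtain ⟨a, d, ha, hd, hsum⟩ := IsCharacter.sum_inner_mul_degree hψ
  have hd1 : ∀ θ : IrrCharacter K, d θ = 1 := by
    intro θ
    have h1 := IsIrrCharacter.apply_one_of_comm hcomm θ.2
    rw [(hd θ).1] at h1
    exact_mod_cast h1
  set q : ℕ := Nat.card K with hq
  have hcardI : Fintype.card (IrrCharacter K) = q := by
    have h1 := sum_irr_degree_sq (G := K)
    have h2 : ∑ θ : IrrCharacter K, (θ : K → ℂ) 1 ^ 2 = (Fintype.card (IrrCharacter K) : ℂ) := by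
      rw [Finset.sum_congr rfl (fun θ _ => by
        rw [IsIrrCharacter.apply_one_of_comm hcomm θ.2, one_pow])]
      simp
    rw [h2] at h1
    exact_mod_cast h1
  have hψ1 : ψ 1 = χ 1 := rfl
  have hsumA : ∑ θ : IrrCharacter K, a θ + 1 = q := by
    have h1 : ((∑ θ : IrrCharacter K, a θ * d θ : ℕ) : ℂ) + 1 = (q : ℂ) := by
      rw [← hsum, hψ1, hdeg]
    have h2 : ∑ θ : IrrCharacter K, a θ * d θ = ∑ θ : IrrCharacter K, a θ := by
      apply Finset.sum_congr rfl
      intro θ _
      rw [hd1 θ, mul_one]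
    rw [h2] at h1
    exact_mod_cast h1
  have hq2 : 2 ≤ q := by
    have : 0 < q := Nat.card_pos
    by_contra hlt
    have hq1 : q = 1 := by omega
    -- then χ 1 = 0
    have : χ 1 = 0 := by
      have h2 := hdeg
      rw [hq1] at h2
      have h3 : χ 1 + 1 = 0 + 1 := by rw [h2]; simp
      exact add_right_cancel h3
    exact IsIrrCharacter.apply_one_ne_zero hχ this
  set e : ℕ := K.index with he_def
  have hN : Nat.card N = e * q := by
    rw [he_def, hq, mul_comm]
    exact (Subgroup.card_mul_index K).symm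
  -- the square sum
  have hsq : ∑ θ : IrrCharacter K, a θ ^ 2 ≤ e + q - 2 := by
    have hb := bessel_indexed_le (Finset.univ : Finset (IrrCharacter K))
      (fun θ => (θ : K → ℂ))
      (fun i _ j _ => by
        rw [classInner_irr_eq_ite i.2 j.2]
        by_cases hij : i = j
        · rw [if_pos hij, if_pos (congrArg Subtype.val hij)]
        · rw [if_neg hij, if_neg (fun h => hij (Subtype.ext h))]) ψ
    rw [classInner_self_eq_ofReal, Complex.ofReal_re] at hb
    have h1 : ∑ θ : IrrCharacter K, ‖classInner ψ (θ : K → ℂ)‖ ^ 2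
        = ((∑ θ : IrrCharacter K, a θ ^ 2 : ℕ) : ℝ) := by
      push_cast
      apply Finset.sum_congr rfl
      intro θ _
      rw [ha θ, Complex.norm_natCast]
    rw [h1] at hb
    have h2 := D.sum_norm_sq_le hTI hχ
    have h3 : ∑ k : K, ‖ψ k‖ ^ 2
        = ‖ψ 1‖ ^ 2 + ∑ k : K, (if (MonoidHom.id K) k = 1 then 0 else ‖χ ((k : N) : G)‖ ^ 2) := by
      rw [← Finset.add_sum_erase Finset.univ _ (Finset.mem_univ (1 : K))]
      congr 1
      rw [← Finset.sum_erase_add Finset.univ _ (Finset.mem_univ (1 : K))]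
      rw [MonoidHom.id_apply, if_pos rfl, add_zero]
      apply Finset.sum_congr rfl
      intro k hk
      rw [MonoidHom.id_apply, if_neg (Finset.ne_of_mem_erase hk)]
    have h4 : ‖ψ 1‖ ^ 2 = ((q : ℝ) - 1) ^ 2 := by
      have h5 : ψ 1 = ((q : ℝ) - 1 : ℝ) := by
        rw [hψ1]
        push_cast
        rw [← hdeg]
        ring
      rw [h5, Complex.norm_real, Real.norm_eq_abs, sq_abs]
    have hq0 : (0 : ℝ) < q := by exact_mod_cast Nat.card_pos
    have h6 : (q : ℝ) * ((∑ θ : IrrCharacter K, a θ ^ 2 : ℕ) : ℝ)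
        ≤ ((q : ℝ) - 1) ^ 2 + (e : ℝ) * q := by
      have h7 : ((∑ θ : IrrCharacter K, a θ ^ 2 : ℕ) : ℝ)
          ≤ (q : ℝ)⁻¹ * (((q : ℝ) - 1) ^ 2 + (e : ℝ) * q) := by
        refine le_trans hb ?_
        rw [← hq]
        apply mul_le_mul_of_nonneg_left _ (inv_nonneg.2 hq0.le)
        rw [h3, h4]
        have : (Nat.card N : ℝ) = (e : ℝ) * q := by exact_mod_cast hN
        rw [← this]
        linarith
      calc (q : ℝ) * ((∑ θ : IrrCharacter K, a θ ^ 2 : ℕ) : ℝ)
          ≤ (q : ℝ) * ((q : ℝ)⁻¹ * (((q : ℝ) - 1) ^ 2 + (e : ℝ) * q)) :=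
            mul_le_mul_of_nonneg_left h7 hq0.le
        _ = ((q : ℝ) - 1) ^ 2 + (e : ℝ) * q := by
            rw [← mul_assoc, mul_inv_cancel₀ hq0.ne', one_mul]
    set S : ℕ := ∑ θ : IrrCharacter K, a θ ^ 2 with hS
    by_contra hcon
    push Not at hcon
    have h8 : (e : ℝ) + q - 1 ≤ (S : ℝ) := by
      have : e + q - 1 ≤ S := by omega
      have h9 : ((e + q - 1 : ℕ) : ℝ) ≤ (S : ℝ) := by exact_mod_cast this
      rw [Nat.cast_sub (by omega)] at h9
      push_cast at h9
      exact h9
    have hq2' : (2 : ℝ) ≤ q := by exact_mod_cast hq2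
    nlinarith
  -- the principal character as an index
  let one : IrrCharacter K := ⟨fun _ => (1 : ℂ), isIrrCharacter_one⟩
  have hone : a one = 0 := by
    apply SelfCentP.comb_one_eq_zero one a e q he hcardI (by omega) hsq
    intro θ₀ hθ₀ haθ₀
    have hnt : ¬ ZTriv K (θ₀ : K → ℂ) := by
      intro hz
      apply hθ₀
      apply Subtype.ext
      funext k
      show (θ₀ : K → ℂ) k = 1
      rw [hz k k.2, IsIrrCharacter.apply_one_of_comm hcomm θ₀.2]
    have hirr := D.irr_indFun θ₀.2 hnt
    have hnorm : classInner (indFun K (θ₀ : K → ℂ)) (indFun K (θ₀ : K → ℂ)) = 1 := by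
      rw [classInner_irr_eq_ite hirr hirr, if_pos rfl]
    refine ⟨Finset.univ.filter (fun θ' : IrrCharacter K =>
        indFun K (θ' : K → ℂ) = indFun K (θ₀ : K → ℂ)), ?_, ?_, ?_⟩
    · have h1 := card_fiber_indFun K θ₀
      rw [hnorm, mul_one] at h1
      exact_mod_cast h1
    · intro hmem
      have h1 := (Finset.mem_filter.1 hmem).2
      have h2 := D.inner_indFun_one θ₀.2 hnt
      have h3 : indFun K (fun _ : K => (1 : ℂ)) = indFun K (θ₀ : K → ℂ) := h1
      rw [h3, hnorm] at h2
      exact one_ne_zero h2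
    · intro θ' hθ'
      have h1 := (Finset.mem_filter.1 hθ').2
      have hcf : IsClassFunction N (fun n : N => χ (n : G)) :=
        IsCharacter.isClassFunction (IsCharacter.restrict (IsIrrCharacter.isCharacter hχ) N)
      have h2 := classInner_indFun_right K (θ' : K → ℂ) (fun n : N => χ (n : G)) hcf
      have h3 := classInner_indFun_right K (θ₀ : K → ℂ) (fun n : N => χ (n : G)) hcf
      rw [h1, h3] at h2
      have h4 : classInner ψ (θ' : K → ℂ) = classInner ψ (θ₀ : K → ℂ) := h2.symm
      rw [ha θ', ha θ₀, haθ₀] at h4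
      exact_mod_cast h4
  have := ha one
  rw [hone, Nat.cast_zero] at this
  exact this

end BLData

namespace BLData

variable {L : Type*} [Group L] [Fintype L] {K : Subgroup L} [hK : K.Normal] [Fintype K]

omit [Fintype L] hK in
/-- A character of `K` that is not constant on `Z` has an irreducible constituent that is not
constant on `Z` (one-level version). -/
theorem exists_constituent_not_ztriv' {Z : Subgroup L} {ψ : K → ℂ} (hψ : IsCharacter K ψ)
    (hnt : ¬ ZTriv Z ψ) :
    ∃ θ : K → ℂ, IsIrrCharacter K θ ∧ classInner ψ θ ≠ 0 ∧ ¬ ZTriv Z θ := by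
  classical
  have : Fintype (IrrCharacter K) := Fintype.ofFinite _
  by_contra hcon
  apply hnt
  intro k hk
  have hexp := classFunction_expansion ψ (IsCharacter.isClassFunction hψ)
  have h1 := congrFun hexp k
  have h2 := congrFun hexp 1
  rw [Finset.sum_apply] at h1 h2
  rw [h1, h2]
  apply Finset.sum_congr rfl
  intro θ _
  rw [Pi.smul_apply, Pi.smul_apply]
  by_cases h0 : classInner ψ (θ : K → ℂ) = 0
  · rw [h0, zero_smul, zero_smul]
  · have hz : ZTriv Z (θ : K → ℂ) := by
      by_contra hz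
      exact hcon ⟨θ, θ.2, h0, hz⟩
    rw [hz k hk]

open Classical in
/-- In the Brauer–Leonard set-up with `Z = K`, a character of `L` whose restriction to `K` has no
principal constituent vanishes off `K`. -/
theorem vanish_off_of_restrict_inner_one (D : BLData K K (MonoidHom.id K)) {ψ : L → ℂ}
    (hψ : IsCharacter L ψ)
    (h0 : classInner (fun k : K => ψ (k : L)) (fun _ : K => (1 : ℂ)) = 0) (l : L) (hl : l ∉ K) :
    ψ l = 0 := by
  haveI : Fintype (IrrCharacter L) := Fintype.ofFinite _
  have hψcf := IsCharacter.isClassFunction hψ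
  have hexp := classFunction_expansion ψ hψcf
  have hone : IsCharacter K (fun _ : K => (1 : ℂ)) := IsIrrCharacter.isCharacter isIrrCharacter_one
  have ha : ∀ μ : IrrCharacter L, ∃ n : ℕ, classInner ψ (μ : L → ℂ) = (n : ℂ) :=
    fun μ => IsCharacter.inner_irr_nat hψ μ
  have hb : ∀ μ : IrrCharacter L, ∃ n : ℕ,
      classInner (fun k : K => (μ : L → ℂ) (k : L)) (fun _ : K => (1 : ℂ)) = (n : ℂ) :=
    fun μ => classInner_isCharacter_nat
      (IsCharacter.restrict (IsIrrCharacter.isCharacter μ.2) K) hone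
  choose a ha using ha
  choose b hb using hb
  -- the expansion of the inner product with the principal character
  have hsum : ∑ μ : IrrCharacter L, a μ * b μ = 0 := by
    have h1 : classInner ψ (indFun K (fun _ : K => (1 : ℂ))) = 0 := by
      rw [classInner_indFun_right K _ ψ hψcf]
      exact h0
    have h2 : classInner ψ (indFun K (fun _ : K => (1 : ℂ)))
        = ∑ μ : IrrCharacter L, classInner ψ (μ : L → ℂ) *
            classInner (μ : L → ℂ) (indFun K (fun _ : K => (1 : ℂ))) := by
      conv_lhs => rw [hexp]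
      rw [classInner_sum_left]
      apply Finset.sum_congr rfl
      intro μ _
      rw [classInner_smul_left]
    rw [h1] at h2
    have : ((∑ μ : IrrCharacter L, a μ * b μ : ℕ) : ℂ) = 0 := by
      rw [h2]
      push_cast
      apply Finset.sum_congr rfl
      intro μ _
      rw [ha μ, ← hb μ,
        classInner_indFun_right K _ _ (IsCharacter.isClassFunction (IsIrrCharacter.isCharacter μ.2))]
    exact_mod_cast this
  have h1 := congrFun hexp l
  rw [Finset.sum_apply] at h1
  rw [h1]
  apply Finset.sum_eq_zero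
  intro μ _
  rw [Pi.smul_apply, smul_eq_mul]
  by_cases ha0 : a μ = 0
  · rw [ha μ, ha0, Nat.cast_zero, zero_mul]
  · have hz := (Finset.sum_eq_zero_iff.1 hsum) μ (Finset.mem_univ _)
    have hb0 : b μ = 0 := by
      rcases Nat.mul_eq_zero.1 hz with h | h
      · exact absurd h ha0
      · exact h
    have hμK : IsCharacter K (fun k : K => (μ : L → ℂ) (k : L)) :=
      IsCharacter.restrict (IsIrrCharacter.isCharacter μ.2) K
    have hnt : ¬ ZTriv K (fun k : K => (μ : L → ℂ) (k : L)) := by
      intro hz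
      have h2 := hb μ
      rw [hb0, Nat.cast_zero, classInner_def] at h2
      have h3 : ∑ k : K, (fun k : K => (μ : L → ℂ) (k : L)) k * conj ((fun _ : K => (1 : ℂ)) k)
          = (Nat.card K : ℂ) * (μ : L → ℂ) 1 := by
        rw [Finset.sum_congr rfl (fun k _ => by
          show (μ : L → ℂ) (k : L) * conj (1 : ℂ) = (μ : L → ℂ) 1
          rw [map_one, mul_one]
          exact hz k k.2)]
        rw [Finset.sum_const, Finset.card_univ, nsmul_eq_mul, Nat.card_eq_fintype_card]
      rw [h3, ← mul_assoc, inv_mul_cancel₀ (card_subgroup_ne_zero K), one_mul] at h2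
      exact IsIrrCharacter.apply_one_ne_zero μ.2 h2
    obtain ⟨θ, hθ, hne, hθnt⟩ := exists_constituent_not_ztriv' hμK hnt
    have hirr := D.irr_indFun hθ hθnt
    have h2 : classInner (μ : L → ℂ) (indFun K θ) ≠ 0 := by
      rw [classInner_indFun_right K _ _
        (IsCharacter.isClassFunction (IsIrrCharacter.isCharacter μ.2))]
      exact hne
    rw [classInner_irr_eq_ite μ.2 hirr] at h2
    have h3 : (μ : L → ℂ) = indFun K θ := by
      by_contra h
      rw [if_neg h] at h2
      exact h2 rfl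
    rw [h3, indFun_apply_of_not_mem K θ hl, mul_zero]

end BLData

end Cfsg.Agent.Lib.Helper11
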