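import Cfsg.Agent.Lib.Helper11.SelfCentChar
import Cfsg.Agent.Lib.Helper11.DetRoots

/-!
Groups with an element `x` of prime order `p` with `C_G(x) = ⟨x⟩` and an irreducible character of
degree `p - 1`: the number of classes of elements of order `p` is even or `G / G'` has even order.
-/

set_option autoImplicit false

namespace Cfsg.Agent.Lib.Helper11

open Cfsg
open Cfsg.Agent.Lib.Helper2
open Cfsg.Agent.S4495 Cfsg.Agent.S4496
open scoped ComplexConjugate

namespace SelfCentP

/-- A homomorphism from a finite group to a cyclic group whose kernel and image have coprime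
orders: there is an element whose order is the order of the image and whose nonidentity powers
avoid the kernel. -/
theorem exists_lift_of_cyclic {L A : Type*} [Group L] [Finite L] [Group A] [IsCyclic A]
    (φ : L →* A) (hcop : (Nat.card φ.ker).Coprime (Nat.card φ.range)) :
    ∃ g : L, orderOf g = Nat.card φ.range ∧
      ∀ j, 0 < j → j < Nat.card φ.range → g ^ j ∉ φ.ker := by
  set e := Nat.card φ.range with he
  set q := Nat.card φ.ker with hq
  obtain ⟨a, ha⟩ := (inferInstance : IsCyclic φ.range).exists_generator
  have hord_a : orderOf a = e := orderOf_eq_card_of_forall_mem_zpowers ha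
  obtain ⟨c, hc⟩ := a.2
  have hcard : Nat.card L = q * e := by
    rw [hq, he, ← Subgroup.index_ker, Subgroup.card_mul_index]
  have hord_a' : orderOf (φ c) = e := by
    rw [hc, ← hord_a, Subgroup.orderOf_coe]
  refine ⟨c ^ q, ?_, ?_⟩
  · have h1 : orderOf (φ (c ^ q)) = e := by
      rw [map_pow, Nat.Coprime.orderOf_pow, hord_a']
      rw [hord_a']
      exact hcop.symm
    apply Nat.dvd_antisymm
    · apply orderOf_dvd_of_pow_eq_one
      rw [← pow_mul, ← hcard]
      exact pow_card_eq_one'
    · rw [← h1]
      exact orderOf_map_dvd φ (c ^ q)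
  · intro j hj0 hje hmem
    rw [MonoidHom.mem_ker, map_pow] at hmem
    have h1 : orderOf (φ (c ^ q)) = e := by
      rw [map_pow, Nat.Coprime.orderOf_pow, hord_a']
      rw [hord_a']
      exact hcop.symm
    have h2 := orderOf_dvd_of_pow_eq_one hmem
    rw [h1] at h2
    exact absurd (Nat.le_of_dvd hj0 h2) (by omega)

/-- If some `ρ g` has determinant `-1`, the commutator subgroup has even index. -/
theorem even_index_commutator_of_det {G : Type*} [Group G] [Finite G] {V : Type*}
    [AddCommGroup V] [Module ℂ V] (ρ : Representation ℂ G V) (g : G)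
    (hdet : LinearMap.det (ρ g) = -1) : Even (commutator G).index := by
  let δ : G →* ℂˣ := (LinearMap.det.comp ρ).toHomUnits
  have hδg : δ g = -1 := by
    apply Units.ext
    show LinearMap.det (ρ g) = ((-1 : ℂˣ) : ℂ)
    rw [hdet]
    simp
  have hle : commutator G ≤ δ.ker := Abelianization.commutator_subset_ker δ
  have h1 : δ.ker.index ∣ (commutator G).index := Subgroup.index_dvd_of_le hle
  have h2 : orderOf (δ g) = 2 := by
    rw [hδg]
    apply orderOf_eq_prime
    · simp
    · intro h
      have h3 := congrArg Units.val h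
      norm_num at h3
  have h3 : orderOf (δ g) ∣ Nat.card δ.range := by
    have h4 : orderOf (⟨δ g, ⟨g, rfl⟩⟩ : δ.range) ∣ Nat.card δ.range := orderOf_dvd_natCard _
    rw [← Subgroup.orderOf_coe] at h4
    exact h4
  rw [h2, ← Subgroup.index_ker] at h3
  exact even_iff_two_dvd.2 (dvd_trans h3 h1)

/-- The centralizer of `⟨x⟩` is the centralizer of `x`. -/
theorem centralizer_zpowers_eq {G : Type*} [Group G] (x : G)
    (hC : Subgroup.centralizer ({x} : Set G) = Subgroup.zpowers x) :
    Subgroup.centralizer (Subgroup.zpowers x : Set G) = Subgroup.zpowers x := by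
  apply le_antisymm
  · have h1 : Subgroup.centralizer (Subgroup.zpowers x : Set G)
        ≤ Subgroup.centralizer ({x} : Set G) := by
      apply Subgroup.centralizer_le
      intro y hy
      rw [Set.mem_singleton_iff] at hy
      rw [hy]
      exact Subgroup.mem_zpowers x
    exact le_trans h1 (le_of_eq hC)
  · intro y hy
    rw [Subgroup.mem_centralizer_iff]
    intro z hz
    obtain ⟨i, hi⟩ := Subgroup.mem_zpowers_iff.1 hy
    obtain ⟨j, hj⟩ := Subgroup.mem_zpowers_iff.1 hz
    rw [← hi, ← hj, ← zpow_add, ← zpow_add, add_comm]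

variable {G : Type*} [Group G] [Finite G] (p : ℕ) [Fact p.Prime] (x : G)

/-- The parity statement: with an irreducible character of degree `p - 1`, the number of classes of
elements of order `p` is even or the commutator subgroup has even index. -/
theorem parity (hx : orderOf x = p)
    (hC : Subgroup.centralizer ({x} : Set G) = Subgroup.zpowers x) (t : ℕ)
    (ht : Nat.card {C : ConjClasses G // ∃ g ∈ C.carrier, orderOf g = p} = t)
    (χ : G → ℂ) (hχ : IsIrrCharacter G χ) (hdeg : χ 1 + 1 = (p : ℂ)) :
    Even t ∨ Even (commutator G).index := by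
  classical
  haveI : Fintype G := Fintype.ofFinite G
  have hp : p.Prime := Fact.out
  by_cases hte : Even t
  · exact Or.inl hte
  right
  have htodd : Odd t := Nat.not_even_iff_odd.1 hte
  have hNt := t_mul_card_normalizer p x hx hC t ht
  have hXN : Subgroup.zpowers x ≤ Subgroup.normalizer (Subgroup.zpowers x : Set G) :=
    Subgroup.le_normalizer
  have hcardX : Nat.card (Subgroup.zpowers x) = p := by rw [Nat.card_zpowers, hx]
  have hcardK : Nat.card ((Subgroup.zpowers x).subgroupOf
      (Subgroup.normalizer (Subgroup.zpowers x : Set G))) = p := by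
    rw [Nat.card_congr (Subgroup.subgroupOfEquivOfLe hXN).toEquiv, hcardX]
  have hidx := Subgroup.card_mul_index ((Subgroup.zpowers x).subgroupOf
      (Subgroup.normalizer (Subgroup.zpowers x : Set G)))
  rw [hcardK] at hidx
  set e : ℕ := ((Subgroup.zpowers x).subgroupOf
      (Subgroup.normalizer (Subgroup.zpowers x : Set G))).index with he_def
  have hte' : t * e = p - 1 := by
    rw [← hidx] at hNt
    have h1 : (t * e) * p = (p - 1) * p := by rw [← hNt]; ring
    exact Nat.eq_of_mul_eq_mul_right hp.pos h1
  have he0 : 0 < e := by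
    rcases Nat.eq_zero_or_pos e with h | h
    · rw [h, mul_zero] at hte'
      have := hp.two_le
      omega
    · exact h
  by_cases he1 : e = 1
  · -- then `N = X`, `t = p - 1` is odd, so `p = 2`
    have hNX : Subgroup.normalizer (Subgroup.zpowers x : Set G) = Subgroup.zpowers x := by
      symm
      apply Subgroup.eq_of_le_of_card_ge hXN
      rw [← hidx, he1, mul_one, hcardX]
    have h1 := index_commutator_of_normalizer_eq p x hx hC hNX
    rw [h1]
    rw [he1, mul_one] at hte'
    rcases hp.eq_two_or_odd' with h2 | h2
    · rw [h2]; exact even_two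
    · exfalso
      obtain ⟨k, hk⟩ := h2
      obtain ⟨m, hm⟩ := htodd
      omega
  have he2 : 2 ≤ e := by omega
  have hpodd : Odd p := by
    rcases hp.eq_two_or_odd' with h2 | h2
    · exfalso
      rw [h2] at hte'
      have : t * e = 1 := hte'
      have := Nat.eq_one_of_mul_eq_one_left this
      omega
    · exact h2
  have heven : Even e := by
    by_contra hne
    have heodd : Odd e := Nat.not_even_iff_odd.1 hne
    have h1 : Odd (t * e) := htodd.mul heodd
    rw [hte'] at h1
    obtain ⟨k, hk⟩ := hpodd
    obtain ⟨m, hm⟩ := h1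
    omega
  -- the Brauer–Leonard data
  haveI : Fintype (Subgroup.normalizer (Subgroup.zpowers x : Set G)) := Fintype.ofFinite _
  haveI : Fintype ((Subgroup.zpowers x).subgroupOf
      (Subgroup.normalizer (Subgroup.zpowers x : Set G))) := Fintype.ofFinite _
  have D := blData p x hx hC
  have hTI := blTI p x hx
  have h0 := D.restrict_inner_one_eq_zero hTI he2 hχ (by rw [hcardK]; exact hdeg)
  have hvan := D.vanish_off_of_restrict_inner_one
    (ψ := fun n : Subgroup.normalizer (Subgroup.zpowers x : Set G) => χ (n : G))
    (IsCharacter.restrict (IsIrrCharacter.isCharacter hχ) _) h0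
  -- an element of order `e` avoiding `⟨x⟩`
  haveI : Fact (Nat.card (Subgroup.zpowers x)).Prime := ⟨by rw [hcardX]; exact hp⟩
  haveI : IsCyclic (MulAut (Subgroup.zpowers x)) :=
    isCyclic_of_injective (IsCyclic.mulAutMulEquiv (Subgroup.zpowers x)).toMonoidHom
      (MulEquiv.injective _)
  have hker : (Subgroup.normalizerMonoidHom (Subgroup.zpowers x)).ker
      = (Subgroup.zpowers x).subgroupOf (Subgroup.normalizer (Subgroup.zpowers x : Set G)) := by
    rw [Subgroup.normalizerMonoidHom_ker, centralizer_zpowers_eq x hC]
  have hrange : Nat.card (Subgroup.normalizerMonoidHom (Subgroup.zpowers x)).range = e := by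
    rw [← Subgroup.index_ker, hker]
  have hcop : (Nat.card (Subgroup.normalizerMonoidHom (Subgroup.zpowers x)).ker).Coprime
      (Nat.card (Subgroup.normalizerMonoidHom (Subgroup.zpowers x)).range) := by
    rw [hrange, hker, hcardK]
    rw [Nat.Prime.coprime_iff_not_dvd hp]
    intro hdvd
    have h1 : p ∣ p - 1 := by
      rw [← hte']
      exact Dvd.dvd.mul_left hdvd t
    have h2 := Nat.le_of_dvd (by have := hp.two_le; omega) h1
    have := hp.two_le
    omega
  obtain ⟨g, hgord, hgpow⟩ := exists_lift_of_cyclic
    (Subgroup.normalizerMonoidHom (Subgroup.zpowers x)) hcop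
  rw [hrange] at hgord hgpow
  rw [hker] at hgpow
  -- the determinant
  obtain ⟨n, ρ, hirr, rfl⟩ := hχ
  have hdim : Module.finrank ℂ (Fin n → ℂ) = t * e := by
    rw [Representation.char_one] at hdeg
    have h1 : Module.finrank ℂ (Fin n → ℂ) + 1 = p := by exact_mod_cast hdeg
    omega
  have hdet := DetRoots.det_eq_neg_one ρ (g : G) e t (by rw [Subgroup.orderOf_coe, hgord])
    heven htodd hdim (by
      intro j hj0 hje
      have h1 := hvan (g ^ j) (hgpow j hj0 hje)
      rw [Subgroup.coe_pow] at h1
      exact h1)
  exact even_index_commutator_of_det ρ (g : G) hdet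

end SelfCentP

end Cfsg.Agent.Lib.Helper11
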