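import Cfsg.Agent.S4495

/-!
Groups with an element `x` of prime order `p` with `C_G(x) = ⟨x⟩`: normal subgroups of order `1 + np`
(the number of subgroups of order `p`), after Brauer.  Builds on helper24's `S4495`, `S4496`.
-/

set_option autoImplicit false

namespace Cfsg.Agent.Lib.Helper11

open Cfsg.Agent.S4495 Cfsg.Agent.S4496
open scoped Pointwise commutatorElement

namespace SelfCentP

variable {G : Type*} [Group G] [Finite G] (p : ℕ) [Fact p.Prime] (x : G)

/-- `|G| = |N_G(⟨x⟩)| · (number of subgroups of order p)`. -/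
theorem card_eq_normalizer_mul (hx : orderOf x = p)
    (hC : Subgroup.centralizer ({x} : Set G) = Subgroup.zpowers x) :
    Nat.card G = Nat.card (Subgroup.normalizer (Subgroup.zpowers x : Set G)) *
      Nat.card {H : Subgroup G // Nat.card H = p} := by
  have hfac := factorization_eq_one p x hx hC
  have hcx : Nat.card (Subgroup.zpowers x) = p ^ (Nat.card G).factorization p := by
    rw [Nat.card_zpowers, hx, hfac, pow_one]
  let P : Sylow p G := Sylow.ofCard _ hcx
  have h1 : Nat.card (Sylow p G)
      = (Subgroup.normalizer (Subgroup.zpowers x : Set G)).index := P.card_eq_index_normalizer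
  rw [card_subgroups p hfac, h1]
  exact (Subgroup.card_mul_index _).symm

/-- `t ≤ p - 1`, and `t = p - 1` iff the normalizer of `⟨x⟩` is `⟨x⟩`. -/
theorem card_normalizer_of_t (hx : orderOf x = p)
    (hC : Subgroup.centralizer ({x} : Set G) = Subgroup.zpowers x) (t : ℕ)
    (ht : Nat.card {C : ConjClasses G // ∃ g ∈ C.carrier, orderOf g = p} = t) :
    t ≤ p - 1 ∧ (t = p - 1 → Subgroup.normalizer (Subgroup.zpowers x : Set G) = Subgroup.zpowers x) ∧
      (t < p - 1 → ∃ n ∈ Subgroup.normalizer (Subgroup.zpowers x : Set G), n ∉ Subgroup.zpowers x) := by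
  have hp : p.Prime := Fact.out
  have h1 := t_mul_card_normalizer p x hx hC t ht
  have hXN : Subgroup.zpowers x ≤ Subgroup.normalizer (Subgroup.zpowers x : Set G) :=
    Subgroup.le_normalizer
  have hcX : Nat.card (Subgroup.zpowers x) = p := by rw [Nat.card_zpowers, hx]
  have hle : p ≤ Nat.card (Subgroup.normalizer (Subgroup.zpowers x : Set G)) := by
    rw [← hcX]
    exact Subgroup.card_le_of_le hXN
  have hp2 : 2 ≤ p := hp.two_le
  have hpos : 0 < p := by omega
  refine ⟨?_, ?_, ?_⟩
  · by_contra hlt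
    push Not at hlt
    have : (p - 1) * p < t * Nat.card (Subgroup.normalizer (Subgroup.zpowers x : Set G)) := by
      calc (p - 1) * p < t * p := Nat.mul_lt_mul_of_pos_right hlt hpos
        _ ≤ t * Nat.card (Subgroup.normalizer (Subgroup.zpowers x : Set G)) :=
            Nat.mul_le_mul_left _ hle
    omega
  · intro ht1
    rw [ht1] at h1
    have hp1 : 0 < p - 1 := by omega
    have h2 : Nat.card (Subgroup.normalizer (Subgroup.zpowers x : Set G)) = p :=
      Nat.eq_of_mul_eq_mul_left hp1 h1
    symm
    apply Subgroup.eq_of_le_of_card_ge hXN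
    rw [h2, hcX]
  · intro hlt
    by_contra hcon
    push Not at hcon
    have hNX : Subgroup.normalizer (Subgroup.zpowers x : Set G) ≤ Subgroup.zpowers x := hcon
    have h2 : Nat.card (Subgroup.normalizer (Subgroup.zpowers x : Set G)) ≤ p := by
      rw [← hcX]
      exact Subgroup.card_le_of_le hNX
    have h3 : Nat.card (Subgroup.normalizer (Subgroup.zpowers x : Set G)) = p := le_antisymm h2 hle
    rw [h3] at h1
    have := Nat.eq_of_mul_eq_mul_right hpos h1
    omega


/-- Case `t = p - 1`. -/
theorem card_commutator_of_normalizer_eq (hx : orderOf x = p)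
    (hC : Subgroup.centralizer ({x} : Set G) = Subgroup.zpowers x)
    (hN : Subgroup.normalizer (Subgroup.zpowers x : Set G) = Subgroup.zpowers x) :
    Nat.card (commutator G) = Nat.card {H : Subgroup G // Nat.card H = p} ∧
      (commutator G).index = p := by
  have hp : p.Prime := Fact.out
  have hidx := index_commutator_of_normalizer_eq p x hx hC hN
  refine ⟨?_, hidx⟩
  have h1 := card_eq_normalizer_mul p x hx hC
  rw [hN, Nat.card_zpowers, hx] at h1
  have h2 := Subgroup.card_mul_index (commutator G)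
  rw [hidx, h1, mul_comm] at h2
  exact Nat.eq_of_mul_eq_mul_left hp.pos h2

/-- Elements of order `p` lie in every normal subgroup of order divisible by `p`. -/
theorem mem_of_orderOf_eq (hx : orderOf x = p)
    (hC : Subgroup.centralizer ({x} : Set G) = Subgroup.zpowers x) (S : Subgroup G) [S.Normal]
    (hpS : p ∣ Nat.card S) (g : G) (hg : orderOf g = p) : g ∈ S := by
  have hp : p.Prime := Fact.out
  have hfac := factorization_eq_one p x hx hC
  have hidx : ¬ p ∣ S.index := by
    intro h
    have h1 := Subgroup.card_mul_index S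
    have h2 : p ^ 2 ∣ Nat.card G := by
      rw [← h1, sq]
      exact Nat.mul_dvd_mul hpS h
    have h3 := (Nat.Prime.pow_dvd_iff_le_factorization hp Nat.card_pos.ne').mp h2
    omega
  have h1 : (QuotientGroup.mk g : G ⧸ S) ^ p = 1 := by
    rw [← QuotientGroup.mk_pow, ← hg, pow_orderOf_eq_one]
    rfl
  have h2 : (QuotientGroup.mk g : G ⧸ S) ^ S.index = 1 := by
    rw [Subgroup.index_eq_card]
    exact pow_card_eq_one'
  have h3 : orderOf (QuotientGroup.mk g : G ⧸ S) ∣ Nat.gcd p S.index :=
    Nat.dvd_gcd (orderOf_dvd_of_pow_eq_one h1) (orderOf_dvd_of_pow_eq_one h2)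
  have h4 : Nat.gcd p S.index = 1 := (Nat.Prime.coprime_iff_not_dvd hp).2 hidx
  rw [h4] at h3
  have h5 : (QuotientGroup.mk g : G ⧸ S) = 1 := orderOf_eq_one_iff.1 (Nat.dvd_one.1 h3)
  exact (QuotientGroup.eq_one_iff g).1 h5

/-- Case `G'' ≠ G'` with `x ∈ G'`. -/
theorem card_second_derived (hx : orderOf x = p)
    (hC : Subgroup.centralizer ({x} : Set G) = Subgroup.zpowers x) (hxG' : x ∈ commutator G)
    (hne : ⁅commutator G, commutator G⁆ ≠ commutator G) :
    Nat.card ↥⁅commutator G, commutator G⁆ = Nat.card {H : Subgroup G // Nat.card H = p} ∧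
      Nat.card (commutator G) = p * Nat.card {H : Subgroup G // Nat.card H = p} := by
  classical
  have hp : p.Prime := Fact.out
  haveI : Fintype G := Fintype.ofFinite G
  haveI : Fintype (Sylow p G) := Fintype.ofFinite _
  obtain ⟨G', hG'⟩ : ∃ G' : Subgroup G, G' = commutator G := ⟨_, rfl⟩
  rw [← hG'] at hxG' hne ⊢
  haveI hG'n : G'.Normal := by rw [hG']; infer_instance
  obtain ⟨D, hD⟩ : ∃ D : Subgroup G, D = ⁅G', G'⁆ := ⟨_, rfl⟩
  rw [← hD] at hne ⊢
  haveI hDn : D.Normal := by rw [hD]; exact Subgroup.commutator_normal G' G'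
  have hDG' : D ≤ G' := by rw [hD]; exact Subgroup.commutator_le_left G' G'
  have hpD : ¬ p ∣ Nat.card D := by
    intro h
    apply hne
    apply le_antisymm hDG'
    rw [hG']
    exact part_a p x hx hC D h
  obtain ⟨hdvd, -, hord, hcent⟩ := part_b p x hx hC D hpD
  -- the image of `G'` in `G ⧸ D`
  let f : G' →* G ⧸ D := (QuotientGroup.mk' D).comp G'.subtype
  have hker : f.ker = D.subgroupOf G' := by
    ext g
    rw [MonoidHom.mem_ker, Subgroup.mem_subgroupOf]
    exact QuotientGroup.eq_one_iff (g : G)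
  have hrange : f.range = Subgroup.zpowers (QuotientGroup.mk x : G ⧸ D) := by
    apply le_antisymm
    · rintro _ ⟨g, rfl⟩
      rw [← hcent, Subgroup.mem_centralizer_iff]
      intro y hy
      rw [Set.mem_singleton_iff] at hy
      rw [hy]
      show (QuotientGroup.mk x : G ⧸ D) * QuotientGroup.mk (g : G)
        = QuotientGroup.mk (g : G) * QuotientGroup.mk x
      rw [← QuotientGroup.mk_mul, ← QuotientGroup.mk_mul, QuotientGroup.eq]
      have h1 : (x * (g : G))⁻¹ * ((g : G) * x) = ⁅(g : G)⁻¹, x⁻¹⁆ := by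
        rw [commutatorElement_def]
        group
      rw [h1, hD]
      exact Subgroup.commutator_mem_commutator (G'.inv_mem g.2) (G'.inv_mem hxG')
    · rw [Subgroup.zpowers_le]
      exact ⟨⟨x, hxG'⟩, rfl⟩
  have hcardG' : Nat.card G' = Nat.card D * p := by
    have h1 := Subgroup.card_mul_index f.ker
    rw [Subgroup.index_ker, hrange, Nat.card_zpowers, hord, hker] at h1
    rw [← h1]
    congr 1
    exact Nat.card_congr (Subgroup.subgroupOfEquivOfLe hDG').toEquiv
  have hpG' : p ∣ Nat.card G' := by rw [hcardG']; exact dvd_mul_left p _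
  -- count the elements of order `p`
  have hfac := factorization_eq_one p x hx hC
  have hcount := card_order_p p hfac
  rw [← Nat.card_eq_fintype_card, ← card_subgroups p hfac] at hcount
  have hsub : Finset.univ.filter (fun g : G => orderOf g = p)
      ⊆ Finset.univ.filter (fun g : G => g ∈ G' ∧ g ∉ D) := by
    intro g hg
    rw [Finset.mem_filter] at hg ⊢
    refine ⟨Finset.mem_univ _, mem_of_orderOf_eq p x hx hC G' hpG' g hg.2, ?_⟩
    intro hgD
    apply hpD
    have := orderOf_dvd_natCard (⟨g, hgD⟩ : D)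
    rw [Subgroup.orderOf_mk, hg.2] at this
    exact this
  have hle := Finset.card_le_card hsub
  have hcardB : (Finset.univ.filter (fun g : G => g ∈ G' ∧ g ∉ D)).card + Nat.card D
      = Nat.card G' := by
    have h1 : Nat.card D = (Finset.univ.filter (fun g : G => g ∈ D)).card := by
      rw [Nat.card_eq_fintype_card, Fintype.card_subtype]
    have h2 : Nat.card G' = (Finset.univ.filter (fun g : G => g ∈ G')).card := by
      rw [Nat.card_eq_fintype_card, Fintype.card_subtype]
    rw [h1, h2, ← Finset.card_union_of_disjoint]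
    · congr 1
      ext g
      simp only [Finset.mem_union, Finset.mem_filter, Finset.mem_univ, true_and]
      constructor
      · rintro (h | h)
        · exact h.1
        · exact hDG' h
      · intro h
        by_cases hgD : g ∈ D
        · exact Or.inr hgD
        · exact Or.inl ⟨h, hgD⟩
    · rw [Finset.disjoint_left]
      intro g h1 h2
      exact (Finset.mem_filter.1 h1).2.2 (Finset.mem_filter.1 h2).2
  rw [hcount] at hle
  set m := Nat.card {H : Subgroup G // Nat.card H = p} with hm
  have hp2 : 2 ≤ p := hp.two_le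
  have hDpos : 0 < Nat.card D := Nat.card_pos
  have hmD : m ≤ Nat.card D := by
    have h1 : m * (p - 1) + Nat.card D ≤ Nat.card D * p := by
      rw [← hcardG', ← hcardB]
      omega
    have h2 : Nat.card D * p = Nat.card D * (p - 1) + Nat.card D := by
      have : p = (p - 1) + 1 := by omega
      conv_lhs => rw [this, mul_add, mul_one]
    rw [h2] at h1
    have h3 : m * (p - 1) ≤ Nat.card D * (p - 1) := by omega
    exact Nat.le_of_mul_le_mul_right h3 (by omega)
  have hmpos : 0 < m := by
    rw [hm]
    apply Nat.card_pos_iff.2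
    refine ⟨⟨⟨Subgroup.zpowers x, ?_⟩⟩, inferInstance⟩
    rw [Nat.card_zpowers, hx]
  have hDm : Nat.card D ≤ m := Nat.le_of_dvd hmpos hdvd
  have hDeq : Nat.card D = m := le_antisymm hDm hmD
  refine ⟨hDeq, ?_⟩
  rw [hcardG', hDeq, mul_comm]


/-- A subgroup of order prime to `p` meets `⟨x⟩` trivially. -/
theorem inf_zpowers_eq_bot (hx : orderOf x = p) (S : Subgroup G) (hpS : ¬ p ∣ Nat.card S) :
    ∀ y : G, y ∈ S → y ∈ Subgroup.zpowers x → y = 1 := by
  have hp : p.Prime := Fact.out
  intro y hyS hyX
  have h1 : orderOf y ∣ Nat.card S := by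
    have := orderOf_dvd_natCard (⟨y, hyS⟩ : S)
    rwa [Subgroup.orderOf_mk] at this
  have h2 : orderOf y ∣ p := by
    have := orderOf_dvd_natCard (⟨y, hyX⟩ : Subgroup.zpowers x)
    rwa [Subgroup.orderOf_mk, Nat.card_zpowers, hx] at this
  rcases (Nat.dvd_prime hp).1 h2 with h | h
  · exact orderOf_eq_one_iff.1 h
  · exfalso
    apply hpS
    rw [← h]
    exact h1

/-- If `G` has a normal subgroup whose order is the number of subgroups of order `p` and
`x ∈ G'`, then `G'' ≠ G'`. -/
theorem second_derived_ne_of_normal (hx : orderOf x = p)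
    (hC : Subgroup.centralizer ({x} : Set G) = Subgroup.zpowers x) (S : Subgroup G) [hS : S.Normal]
    (hcard : Nat.card S = Nat.card {H : Subgroup G // Nat.card H = p})
    (hxG' : x ∈ commutator G) : ⁅commutator G, commutator G⁆ ≠ commutator G := by
  classical
  have hp : p.Prime := Fact.out
  have hfac := factorization_eq_one p x hx hC
  have hpS : ¬ p ∣ Nat.card S := by
    rw [hcard, card_subgroups p hfac]
    intro h
    have h1 : Nat.card (Sylow p G) ≡ 1 [MOD p] := card_sylow_modEq_one p G
    have h2 : Nat.card (Sylow p G) % p = 0 := Nat.mod_eq_zero_of_dvd h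
    have h3 : Nat.card (Sylow p G) % p = 1 % p := h1
    rw [h2, Nat.mod_eq_of_lt hp.one_lt] at h3
    exact zero_ne_one h3
  have hdisj := inf_zpowers_eq_bot p x hx S hpS
  obtain ⟨N, hN⟩ : ∃ N : Subgroup G, N = Subgroup.normalizer (Subgroup.zpowers x : Set G) :=
    ⟨_, rfl⟩
  -- `N ∩ S = 1`
  have hNS : ∀ n : G, n ∈ N → n ∈ S → n = 1 := by
    intro n hnN hnS
    have h1 : n * x * n⁻¹ ∈ Subgroup.zpowers x := by
      rw [hN] at hnN
      exact (Subgroup.mem_normalizer_iff.mp hnN x).mp (Subgroup.mem_zpowers x)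
    have h2 : n * x * n⁻¹ * x⁻¹ ∈ Subgroup.zpowers x :=
      Subgroup.mul_mem _ h1 (Subgroup.inv_mem _ (Subgroup.mem_zpowers x))
    have h3 : n * x * n⁻¹ * x⁻¹ ∈ S := by
      have : n * x * n⁻¹ * x⁻¹ = n * (x * n⁻¹ * x⁻¹) := by group
      rw [this]
      exact S.mul_mem hnS (hS.conj_mem _ (S.inv_mem hnS) x)
    have h4 := hdisj _ h3 h2
    have h5 : n ∈ Subgroup.zpowers x := by
      rw [← hC, Subgroup.mem_centralizer_iff]
      intro y hy
      rw [Set.mem_singleton_iff] at hy
      rw [hy]
      calc x * n = (n * x * n⁻¹ * x⁻¹)⁻¹ * (n * x) := by group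
        _ = n * x := by rw [h4, inv_one, one_mul]
    exact hdisj n hnS h5
  -- `N` maps onto `G ⧸ S`
  let f : N →* G ⧸ S := (QuotientGroup.mk' S).comp N.subtype
  have hinj : Function.Injective f := by
    rw [injective_iff_map_eq_one]
    intro n hn
    apply Subtype.ext
    exact hNS (n : G) n.2 ((QuotientGroup.eq_one_iff (n : G)).1 hn)
  have hcardN : Nat.card (G ⧸ S) = Nat.card N := by
    have h1 := card_eq_normalizer_mul p x hx hC
    rw [← hN, ← hcard] at h1
    have h2 := Subgroup.card_mul_index S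
    rw [h1, Subgroup.index_eq_card, mul_comm] at h2
    have hSpos : 0 < Nat.card S := Nat.card_pos
    exact Nat.eq_of_mul_eq_mul_right hSpos h2
  have hsurj : Function.Surjective f := by
    have hbij : Function.Bijective f :=
      (Nat.bijective_iff_injective_and_card f).2 ⟨hinj, hcardN.symm⟩
    exact hbij.2
  -- commutators in `G ⧸ S`
  have hcomm : commutator (G ⧸ S) ≤ Subgroup.zpowers (QuotientGroup.mk x : G ⧸ S) := by
    rw [commutator_def, Subgroup.commutator_le]
    intro a _ b _
    obtain ⟨n₁, rfl⟩ := hsurj a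
    obtain ⟨n₂, rfl⟩ := hsurj b
    have h1 := comm_mem_centralizer x (n₁ : G) (n₂ : G) (by rw [← hN]; exact n₁.2)
      (by rw [← hN]; exact n₂.2)
    rw [hC] at h1
    have h2 : ⁅f n₁, f n₂⁆ = QuotientGroup.mk' S ⁅(n₁ : G), (n₂ : G)⁆ := by
      rw [map_commutatorElement]
      rfl
    rw [h2]
    obtain ⟨k, hk⟩ := Subgroup.mem_zpowers_iff.1 h1
    rw [← hk, map_zpow]
    exact Subgroup.zpow_mem_zpowers _ k
  have hab : ⁅commutator (G ⧸ S), commutator (G ⧸ S)⁆ = ⊥ := by
    rw [Subgroup.commutator_eq_bot_iff_le_centralizer]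
    intro a ha
    rw [Subgroup.mem_centralizer_iff]
    intro b hb
    obtain ⟨i, hi⟩ := Subgroup.mem_zpowers_iff.1 (hcomm ha)
    obtain ⟨j, hj⟩ := Subgroup.mem_zpowers_iff.1 (hcomm hb)
    rw [← hi, ← hj, ← zpow_add, ← zpow_add, add_comm]
  intro heq
  have hle : ⁅commutator G, commutator G⁆ ≤ S := by
    have h1 : (⁅commutator G, commutator G⁆).map (QuotientGroup.mk' S) = ⊥ := by
      rw [Subgroup.map_commutator]
      apply le_bot_iff.1
      rw [← hab]
      have h2 : (commutator G).map (QuotientGroup.mk' S) ≤ commutator (G ⧸ S) := by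
        rw [commutator_def, commutator_def, Subgroup.map_commutator]
        exact Subgroup.commutator_mono le_top le_top
      exact Subgroup.commutator_mono h2 h2
    intro g hg
    have h3 : QuotientGroup.mk' S g ∈ (⁅commutator G, commutator G⁆).map (QuotientGroup.mk' S) :=
      Subgroup.mem_map_of_mem _ hg
    rw [h1, Subgroup.mem_bot] at h3
    exact (QuotientGroup.eq_one_iff g).1 h3
  rw [heq] at hle
  have hx1 : x = 1 := hdisj x (hle hxG') (Subgroup.mem_zpowers x)
  rw [hx1, orderOf_one] at hx
  exact hp.one_lt.ne hx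

end SelfCentP

end Cfsg.Agent.Lib.Helper11
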