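import Mathlib
import Cfsg.Prelude.Def_Characters
import Cfsg.Agent.Lib.Helper11.Clifford

/-!
A family `β i j` of "root-like" differences of irreducible characters
(`β i j + β j k = β i k`, each `β i j` (`i ≠ j`) a difference of two distinct irreducible characters,
`⟨β i j, β i k⟩ = 1` for distinct `i, j, k`) is of the form `β i j = δ (μ i - μ j)` for a sign `δ` and an
injective family `μ` of irreducible characters.
-/

set_option autoImplicit false

namespace Cfsg.Agent.Lib.Helper11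

open Cfsg.Agent.Lib.Helper2

variable {G : Type*} [Group G] [Fintype G]

/-- inner product of two differences of irreducible characters -/
theorem classInner_sub_sub_irr {a b c d : G → ℂ} (ha : Cfsg.IsIrrCharacter G a)
    (hb : Cfsg.IsIrrCharacter G b) (hc : Cfsg.IsIrrCharacter G c) (hd : Cfsg.IsIrrCharacter G d)
    [Decidable (a = c)] [Decidable (a = d)] [Decidable (b = c)] [Decidable (b = d)] :
    Cfsg.classInner (a - b) (c - d)
      = (if a = c then 1 else 0) - (if a = d then 1 else 0) - (if b = c then 1 else 0)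
        + (if b = d then 1 else 0) := by
  rw [classInner_sub_left, classInner_sub_right, classInner_sub_right,
    classInner_irr_eq_ite ha hc, classInner_irr_eq_ite ha hd, classInner_irr_eq_ite hb hc,
    classInner_irr_eq_ite hb hd]
  ring

theorem ite_arith (p1 p2 p3 p4 : Prop) [Decidable p1] [Decidable p2] [Decidable p3] [Decidable p4]
    (h : (if p1 then (1 : ℂ) else 0) - (if p2 then 1 else 0) - (if p3 then 1 else 0)
      + (if p4 then 1 else 0) = 1) (h12 : p1 ∧ p2 → False) (h34 : p3 ∧ p4 → False) :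
    (p1 ∧ ¬ p4) ∨ (¬ p1 ∧ p4) := by
  by_cases h1 : p1 <;> by_cases h2 : p2 <;> by_cases h3 : p3 <;> by_cases h4 : p4 <;>
    simp only [h1, h2, h3, h4, if_true, if_false, and_self, not_true_eq_false, not_false_eq_true,
      or_false, or_true, and_false, imp_false, and_true] at h h12 h34 ⊢ <;>
    norm_num at h

theorem exists_signed_family {I : Type*} (β : I → I → (G → ℂ))
    (hadd : ∀ i j k, β i j + β j k = β i k)
    (hirr : ∀ i j, i ≠ j → ∃ a b : G → ℂ, Cfsg.IsIrrCharacter G a ∧ Cfsg.IsIrrCharacter G b ∧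
      a ≠ b ∧ β i j = a - b)
    (hinner : ∀ i j k, i ≠ j → i ≠ k → j ≠ k → Cfsg.classInner (β i j) (β i k) = 1)
    (hI : ∀ i : I, ∃ j, i ≠ j) :
    ∃ (δ : ℂ) (μ : I → (G → ℂ)), (δ = 1 ∨ δ = -1) ∧ (∀ i, Cfsg.IsIrrCharacter G (μ i)) ∧
      Function.Injective μ ∧ ∀ i j, β i j = δ • (μ i - μ j) := by
  classical
  by_cases hne : Nonempty I
  swap
  · rw [not_nonempty_iff] at hne
    exact ⟨1, fun i => isEmptyElim i, Or.inl rfl, fun i => isEmptyElim i,
      fun i => isEmptyElim i, fun i => isEmptyElim i⟩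
  obtain ⟨i₀⟩ := hne
  obtain ⟨i₁, hi₁⟩ := hI i₀
  -- some irreducible character exists
  obtain ⟨a₁, b₁, ha₁, hb₁, hab₁, hβ₁⟩ := hirr i₀ i₁ hi₁
  have hex : ∀ k, ∃ a b : G → ℂ, Cfsg.IsIrrCharacter G a ∧ Cfsg.IsIrrCharacter G b ∧
      (i₀ ≠ k → a ≠ b ∧ β i₀ k = a - b) := by
    intro k
    by_cases hk : i₀ = k
    · exact ⟨a₁, a₁, ha₁, ha₁, fun h => absurd hk h⟩
    · obtain ⟨a, b, ha, hb, hab, hβ⟩ := hirr i₀ k hk
      exact ⟨a, b, ha, hb, fun _ => ⟨hab, hβ⟩⟩
  choose a b ha hb hab using hex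
  have hβ00 : ∀ i, β i i = 0 := by
    intro i
    have := hadd i i i
    exact add_eq_right.1 this
  -- pairwise dichotomy
  have hP : ∀ k l, i₀ ≠ k → i₀ ≠ l → k ≠ l →
      (a k = a l ∧ b k ≠ b l) ∨ (a k ≠ a l ∧ b k = b l) := by
    intro k l hk hl hkl
    have h := hinner i₀ k l hk hl hkl
    rw [(hab k hk).2, (hab l hl).2, classInner_sub_sub_irr (ha k) (hb k) (ha l) (hb l)] at h
    have hk' := (hab k hk).1
    have hl' := (hab l hl).1
    exact ite_arith _ _ _ _ h (fun h12 => hl' (h12.1.symm.trans h12.2))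
      (fun h34 => hl' (h34.1.symm.trans h34.2))
  have hβ0 : ∀ (μ : I → (G → ℂ)) (δ : ℂ), (∀ k, β i₀ k = δ • (μ i₀ - μ k)) →
      ∀ i j, β i j = δ • (μ i - μ j) := by
    intro μ δ h i j
    have e := hadd i₀ i j
    have : β i j = β i₀ j - β i₀ i := by rw [← e]; abel
    rw [this, h, h, ← smul_sub]
    congr 1
    abel
  have hinj : ∀ (μ : I → (G → ℂ)) (δ : ℂ), (∀ i j, β i j = δ • (μ i - μ j)) →
      Function.Injective μ := by
    intro μ δ h i j hij
    by_contra hne
    obtain ⟨a', b', _, _, hab', hβ'⟩ := hirr i j hne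
    rw [h i j, hij, sub_self, smul_zero] at hβ'
    exact hab' (sub_eq_zero.1 hβ'.symm)
  by_cases hA : ∃ k, i₀ ≠ k ∧ i₁ ≠ k ∧ a k = a i₁
  · -- all `a` equal
    obtain ⟨k₀, hk₀, hk₀₁, hak₀⟩ := hA
    have hbk₀ : b k₀ ≠ b i₁ := by
      rcases hP k₀ i₁ hk₀ hi₁ (Ne.symm hk₀₁) with h | h
      · exact h.2
      · exact absurd hak₀ h.1
    have hall : ∀ l, i₀ ≠ l → a l = a i₁ := by
      intro l hl
      by_cases hl1 : i₁ = l
      · rw [hl1]
      by_cases hlk : k₀ = l
      · rw [← hlk]; exact hak₀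
      rcases hP i₁ l hi₁ hl hl1 with h | h
      · exact h.1.symm
      · exfalso
        rcases hP k₀ l hk₀ hl hlk with h' | h'
        · exact h.1 (hak₀.symm.trans h'.1)
        · exact hbk₀ (h'.2.trans h.2.symm)
    set μ : I → (G → ℂ) := fun i => if i₀ = i then a i₁ else b i with hμ
    have hμ0 : ∀ k, β i₀ k = (1 : ℂ) • (μ i₀ - μ k) := by
      intro k
      rw [one_smul]
      by_cases hk : i₀ = k
      · rw [← hk, hβ00, sub_self]
      · rw [(hab k hk).2, hμ]
        simp only [if_true, if_neg hk]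
        rw [hall k hk]
    have hfull := hβ0 μ 1 hμ0
    refine ⟨1, μ, Or.inl rfl, ?_, hinj μ 1 hfull, hfull⟩
    intro i
    rw [hμ]
    by_cases hi : i₀ = i
    · simp only [if_pos hi]; exact ha i₁
    · simp only [if_neg hi]; exact hb i
  · -- all `b` equal
    push Not at hA
    have hall : ∀ l, i₀ ≠ l → b l = b i₁ := by
      intro l hl
      by_cases hl1 : i₁ = l
      · rw [hl1]
      rcases hP i₁ l hi₁ hl hl1 with h | h
      · exact absurd h.1.symm (hA l hl hl1)
      · exact h.2.symm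
    set μ : I → (G → ℂ) := fun i => if i₀ = i then b i₁ else a i with hμ
    have hμ0 : ∀ k, β i₀ k = (-1 : ℂ) • (μ i₀ - μ k) := by
      intro k
      by_cases hk : i₀ = k
      · rw [← hk, hβ00, sub_self, smul_zero]
      · rw [(hab k hk).2, hμ]
        simp only [if_true, if_neg hk]
        rw [hall k hk, neg_one_smul, neg_sub]
    have hfull := hβ0 μ (-1) hμ0
    refine ⟨-1, μ, Or.inr rfl, ?_, hinj μ (-1) hfull, hfull⟩
    intro i
    rw [hμ]
    by_cases hi : i₀ = i
    · simp only [if_pos hi]; exact hb i₁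
    · simp only [if_neg hi]; exact ha i

end Cfsg.Agent.Lib.Helper11
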