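import Mathlib
import Cfsg.Agent.H5.TCkSound
import Cfsg.Agent.H5.StemTC
import Cfsg.Agent.Lib.Helper5.Sp62Data

/-!
# S2093 piece [L] (helper11 for helper5): unique lifts of elements of order prime to the kernel,
and exact lifting of conjugation relators
-/

set_option autoImplicit false

namespace Cfsg.Agent.Lib.Helper5.Sp62

open Cfsg Cfsg.H5.TCk

universe u v

namespace Helper11

/-- a kernel element is an `n`-th power of a (zpow) power of itself -/
theorem exists_zpow_pow_eq {Γ : Type u} {G : Type v} [Group Γ] [Finite Γ] [Group G] (σ : Γ →* G)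
    {n : ℕ} (hn : n.Coprime (Nat.card σ.ker)) (z : Γ) (hz : z ∈ σ.ker) :
    ∃ b : ℤ, (z ^ b) ^ n = z := by
  have hzn : z ^ (Nat.card σ.ker) = 1 := by
    have h := pow_card_eq_one' (G := σ.ker) (x := ⟨z, hz⟩)
    have h2 := congrArg (Subtype.val) h
    simpa using h2
  have hbez := Int.gcd_eq_gcd_ab (Nat.card σ.ker : ℤ) (n : ℤ)
  have hg : Int.gcd (Nat.card σ.ker : ℤ) (n : ℤ) = 1 := by
    simpa [Int.gcd_natCast_natCast] using hn.symm
  rw [hg] at hbez
  refine ⟨Int.gcdB (Nat.card σ.ker : ℤ) (n : ℤ), ?_⟩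
  set a := Int.gcdA (Nat.card σ.ker : ℤ) (n : ℤ)
  set b := Int.gcdB (Nat.card σ.ker : ℤ) (n : ℤ)
  have h1 : z ^ ((Nat.card σ.ker : ℤ) * a + (n : ℤ) * b) = z := by
    rw [← hbez]; simp
  rw [zpow_add, zpow_mul, zpow_natCast, hzn, one_zpow, one_mul, mul_comm, zpow_mul, zpow_natCast]
    at h1
  exact h1

theorem gl_pow_eq_one {Γ : Type u} [Group Γ] (γ : ℕ → Γ) (c n : ℕ) (h : γ (c / 2) ^ n = 1) :
    gl γ c ^ n = 1 := by
  unfold gl
  by_cases hc : c % 2 = 0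
  · simp only [hc, if_true]; exact h
  · simp only [hc, if_false, inv_pow, h, inv_one]

theorem ev_single {Γ : Type u} [Group Γ] (γ : ℕ → Γ) (i : ℕ) : ev γ [2 * i] = γ i := by
  have h1 : (2 * i) % 2 = 0 := by omega
  have h2 : (2 * i) / 2 = i := by omega
  simp only [ev, gl, h1, if_true, h2, mul_one]

theorem ev_replicate {Γ : Type u} [Group Γ] (γ : ℕ → Γ) (l x : ℕ) :
    ev γ (List.replicate l x) = gl γ x ^ l := by
  induction l with
  | zero => simp [ev]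
  | succ l ih => rw [List.replicate_succ, ev, ih, pow_succ']

theorem ev_cr {Γ : Type u} [Group Γ] (γ : ℕ → Γ) (u : List ℕ) (i c m : ℕ) :
    ev γ (cr u i c m) = ev γ u * γ i * (ev γ u)⁻¹ * gl γ c ^ m := by
  unfold cr
  rw [ev_append, ev_append, ev_append, ev_winv, ev_replicate, ev_single]

end Helper11

/-- [L1] lifts of elements of order prime to the kernel (generic) -/
theorem exists_lift_pow_eq_one {Γ : Type u} {G : Type v} [Group Γ] [Finite Γ] [Group G] (σ : Γ →* G)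
    (hs : Function.Surjective σ) (hc : σ.ker ≤ Subgroup.center Γ) {n : ℕ}
    (hn : n.Coprime (Nat.card σ.ker)) (x : G) (hx : x ^ n = 1) : ∃ y : Γ, σ y = x ∧ y ^ n = 1 := by
  obtain ⟨x0, hx0⟩ := hs x
  have hz : x0 ^ n ∈ σ.ker := by
    rw [MonoidHom.mem_ker, map_pow, hx0, hx]
  obtain ⟨b, hb⟩ := Helper11.exists_zpow_pow_eq σ hn (x0 ^ n) hz
  have hwker : ((x0 ^ n) ^ b)⁻¹ ∈ σ.ker := inv_mem (zpow_mem hz b)
  have hwcen : ((x0 ^ n) ^ b)⁻¹ ∈ Subgroup.center Γ := hc hwker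
  refine ⟨x0 * ((x0 ^ n) ^ b)⁻¹, ?_, ?_⟩
  · rw [map_mul, hx0, MonoidHom.mem_ker.mp hwker, mul_one]
  · have hcm : Commute x0 ((x0 ^ n) ^ b)⁻¹ := (Subgroup.mem_center_iff.mp hwcen) x0
    rw [hcm.mul_pow, inv_pow, hb, mul_inv_cancel]

/-- [L2] such lifts are unique (generic) -/
theorem lift_unique {Γ : Type u} {G : Type v} [Group Γ] [Finite Γ] [Group G] (σ : Γ →* G)
    (hc : σ.ker ≤ Subgroup.center Γ) {n : ℕ} (hn : n.Coprime (Nat.card σ.ker)) {y y' : Γ}
    (hy : y ^ n = 1) (hy' : y' ^ n = 1) (h : σ y = σ y') : y = y' := by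
  have hk : y⁻¹ * y' ∈ σ.ker := by
    rw [MonoidHom.mem_ker, map_mul, map_inv, h, inv_mul_cancel]
  have hkc : y⁻¹ * y' ∈ Subgroup.center Γ := hc hk
  have hcm : Commute y (y⁻¹ * y') := (Subgroup.mem_center_iff.mp hkc) y
  have hym : (y * (y⁻¹ * y')) ^ n = 1 := by rw [mul_inv_cancel_left]; exact hy'
  rw [hcm.mul_pow, hy, one_mul] at hym
  have hkn : (y⁻¹ * y') ^ (Nat.card σ.ker) = 1 := by
    have h := pow_card_eq_one' (G := σ.ker) (x := ⟨y⁻¹ * y', hk⟩)
    have h2 := congrArg (Subtype.val) h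
    simpa using h2
  have h1 : orderOf (y⁻¹ * y') ∣ Nat.gcd n (Nat.card σ.ker) :=
    Nat.dvd_gcd (orderOf_dvd_of_pow_eq_one hym) (orderOf_dvd_of_pow_eq_one hkn)
  rw [hn.gcd_eq_one, Nat.dvd_one, orderOf_eq_one_iff] at h1
  exact (inv_mul_eq_one.mp h1)

/-- [L3] a conjugation relator between such lifts holds as soon as it holds for the images -/
theorem ev_cr_eq_one {Γ : Type u} {G : Type v} [Group Γ] [Finite Γ] [Group G] (σ : Γ →* G)
    (hc : σ.ker ≤ Subgroup.center Γ) {n : ℕ} (hn : n.Coprime (Nat.card σ.ker)) (γh : ℕ → Γ)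
    (u : List ℕ) (i c m : ℕ) (hi : γh i ^ n = 1) (hj : γh (c / 2) ^ n = 1)
    (h : ev (fun k => σ (γh k)) (cr u i c m) = 1) : ev γh (cr u i c m) = 1 := by
  rw [← Cfsg.H5.StemTC.map_ev, Helper11.ev_cr] at h
  rw [Helper11.ev_cr]
  set U := ev γh u with hU
  have hA : (U * γh i * U⁻¹) ^ n = 1 := by
    rw [conj_pow, hi, mul_one, mul_inv_cancel]
  have hB : ((gl γh c ^ m)⁻¹) ^ n = 1 := by
    rw [inv_pow, ← pow_mul, mul_comm, pow_mul, Helper11.gl_pow_eq_one γh c n hj, one_pow, inv_one]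
  have himg : σ (U * γh i * U⁻¹) = σ ((gl γh c ^ m)⁻¹) := by
    rw [map_mul] at h
    rw [map_inv]
    exact eq_inv_of_mul_eq_one_left h
  have := lift_unique σ hc hn hA hB himg
  rw [this, inv_mul_cancel]

end Cfsg.Agent.Lib.Helper5.Sp62
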