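import Mathlib
import Cfsg.Prelude.Def_KGroupFacts
import Cfsg.Agent.S0102
import Cfsg.Agent.H5.TCkSound
import Cfsg.Agent.H5.StemTC
import Cfsg.Agent.H5.StemLift
import Cfsg.Agent.Lib.Helper5.Sp62Data
import Cfsg.Agent.Lib.Helper1.Sp62L

/-!
# S2093 piece [UP] (helper11 for helper5): the upper bound `|ker| ≤ 2`, assembly.
`card_ker_le_two_of` takes [P] (for `G` and for `Γ`) and [C] as hypotheses.
-/

set_option autoImplicit false

namespace Cfsg.Agent.Lib.Helper5.Sp62

open Cfsg Cfsg.H5.TCk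

universe u v

namespace Helper11UP

theorem perfect_of_stem {Γ : Type u} {G : Type v} [Group Γ] [Group G] (σ : Γ →* G)
    (hσ : IsStemExtension σ) (hperf : commutator G = ⊤) : commutator Γ = ⊤ := by
  obtain ⟨hs, _, hcomm⟩ := hσ
  rw [eq_top_iff]
  intro x _
  have hx : σ x ∈ (commutator Γ).map σ := by
    have h1 : (commutator Γ).map σ = commutator G := by
      rw [commutator_def, commutator_def, Subgroup.map_commutator, ← MonoidHom.range_eq_map,
        MonoidHom.range_eq_top.mpr hs]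
    rw [h1, hperf]; exact Subgroup.mem_top _
  obtain ⟨y, hy, hyx⟩ := hx
  have hk : y⁻¹ * x ∈ σ.ker := by
    rw [MonoidHom.mem_ker, map_mul, map_inv, hyx, inv_mul_cancel]
  have : x = y * (y⁻¹ * x) := by group
  rw [this]
  exact mul_mem hy (hcomm hk)

theorem card_eq_mul_ker {Γ : Type u} {G : Type v} [Group Γ] [Group G] (σ : Γ →* G)
    (hs : Function.Surjective σ) : Nat.card Γ = Nat.card G * Nat.card σ.ker := by
  rw [Subgroup.card_eq_card_quotient_mul_card_subgroup σ.ker]
  congr 1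
  exact Nat.card_congr (QuotientGroup.quotientKerEquivOfSurjective σ hs).toEquiv

theorem ev_replicate {Γ : Type u} [Group Γ] (γ : ℕ → Γ) (l x : ℕ) :
    ev γ (List.replicate l x) = gl γ x ^ l := by
  induction l with
  | zero => simp [ev]
  | succ l ih => rw [List.replicate_succ, ev, ih, pow_succ']

theorem ev_pow7 {Γ : Type u} [Group Γ] (γ : ℕ → Γ) (i : ℕ) :
    ev γ (List.replicate 7 (2 * i)) = γ i ^ 7 := by
  rw [ev_replicate]
  have h1 : (2 * i) % 2 = 0 := by omega
  have h2 : (2 * i) / 2 = i := by omega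
  simp only [gl, h1, if_true, h2]

theorem factorization_seven : (1451520 : ℕ).factorization 7 = 1 := by
  have e : (1451520 : ℕ) = 7 ^ 1 * 207360 := by norm_num
  rw [e, Nat.factorization_mul (by norm_num) (by norm_num), Finsupp.add_apply,
    Nat.Prime.factorization_pow (by norm_num), Finsupp.single_eq_same,
    Nat.factorization_eq_zero_of_not_dvd (by norm_num)]

theorem conjH_idx : ∀ q ∈ conjH, q.2.1 < 3 ∧ q.2.2.1 / 2 < 3 := by decide

theorem conjS_idx : ∀ q ∈ conjS, q.2.1 < 3 ∧ q.2.2.1 / 2 < 3 := by decide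

theorem mem_relsK {r : List ℕ} (h : r ∈ relsK) :
    r = List.replicate 7 (2 * 0) ∨ r = List.replicate 7 (2 * 1) ∨ r = List.replicate 7 (2 * 2) ∨
      ∃ q, (q ∈ conjH ∨ q ∈ conjS) ∧ r = crOf q := by
  unfold relsK at h
  rcases List.mem_append.mp h with h | h
  · rcases List.mem_append.mp h with h | h
    · unfold relsH at h
      rcases List.mem_append.mp h with h | h
      · simp only [List.mem_cons, List.not_mem_nil, or_false] at h
        rcases h with h | h
        · left; exact h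
        · right; left; exact h
      · obtain ⟨q, hq, rfl⟩ := List.mem_map.mp h
        right; right; right; exact ⟨q, Or.inl hq, rfl⟩
    · simp only [List.mem_cons, List.not_mem_nil, or_false] at h
      right; right; left; exact h
  · obtain ⟨q, hq, rfl⟩ := List.mem_map.mp h
    right; right; right; exact ⟨q, Or.inr hq, rfl⟩

end Helper11UP

/-- [UP] with [P] and [C] as hypotheses -/
theorem card_ker_le_two_of
    (hP : ∀ {H : Type u} [Group H] (h : ℕ → H),
      Subgroup.closure (Set.range fun i : Fin 3 => h i.val) = ⊤ →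
      (∀ r ∈ relsK, ev h r = 1) → commutator H = ⊤)
    (hC : ∀ {Δ : Type u} [Group Δ] (δ : ℕ → Δ), (∀ r ∈ relsK, ev δ r = 1) →
      Subgroup.closure (Set.range fun i : Fin 3 => δ i.val) = ⊤ →
      Finite Δ ∧ Nat.card Δ ≤ 2903040)
    {G : Type u} [Group G] (g : ℕ → G) (hg : IsSp62Triple g)
    {Γ : Type u} [Group Γ] [Finite Γ] (σ : Γ →* G) (hσ : IsStemExtension σ) :
    Nat.card σ.ker ≤ 2 := by
  classical
  obtain ⟨hcard, hgen, hrel, _⟩ := hg
  haveI : Finite G := Nat.finite_of_card_ne_zero (by rw [hcard]; norm_num)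
  haveI : Fact (Nat.Prime 7) := ⟨by norm_num⟩
  have hGperf : commutator G = ⊤ := hP g hgen hrel
  have hΓperf : commutator Γ = ⊤ := Helper11UP.perfect_of_stem σ hσ hGperf
  -- Sylow 7 cyclic
  have hcyc : ∀ P : Sylow 7 G, IsCyclic P := by
    intro P
    have hc : Nat.card P = 7 ^ (Nat.card G).factorization 7 := Sylow.card_eq_multiplicity P
    rw [hcard, Helper11UP.factorization_seven, pow_one] at hc
    exact isCyclic_of_prime_card hc
  have hnd : ¬ 7 ∣ Nat.card σ.ker :=
    Cfsg.Agent.S0102.result hGperf hcyc σ hσ.1 hσ.2.1 hΓperf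
  have hcop : (7 : ℕ).Coprime (Nat.card σ.ker) :=
    (Nat.Prime.coprime_iff_not_dvd (by norm_num)).mpr hnd
  -- g i ^ 7 = 1
  have hg7 : ∀ i < 3, g i ^ 7 = 1 := by
    intro i hi
    rw [← Helper11UP.ev_pow7]
    apply hrel
    unfold relsK relsH
    interval_cases i <;> simp
  -- the lifts
  have hex : ∀ k : ℕ, ∃ y : Γ, σ y = g k ∧ (k < 3 → y ^ 7 = 1) := by
    intro k
    by_cases hk : k < 3
    · obtain ⟨y, hy1, hy2⟩ := exists_lift_pow_eq_one σ hσ.1 hσ.2.1 hcop (g k) (hg7 k hk)
      exact ⟨y, hy1, fun _ => hy2⟩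
    · obtain ⟨y, hy⟩ := hσ.1 (g k)
      exact ⟨y, hy, fun h => absurd h hk⟩
  choose γh hγσ hγ7 using hex
  have hσγ : (fun k => σ (γh k)) = g := funext hγσ
  -- the relators hold for the lifts
  have hrelΓ : ∀ r ∈ relsK, ev γh r = 1 := by
    intro r hr
    rcases Helper11UP.mem_relsK hr with rfl | rfl | rfl | ⟨q, hq, rfl⟩
    · rw [Helper11UP.ev_pow7]; exact hγ7 0 (by norm_num)
    · rw [Helper11UP.ev_pow7]; exact hγ7 1 (by norm_num)
    · rw [Helper11UP.ev_pow7]; exact hγ7 2 (by norm_num)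
    · have hidx : q.2.1 < 3 ∧ q.2.2.1 / 2 < 3 := by
        rcases hq with hq | hq
        · exact Helper11UP.conjH_idx q hq
        · exact Helper11UP.conjS_idx q hq
      have hqrel : crOf q ∈ relsK := hr
      unfold crOf at hqrel ⊢
      apply ev_cr_eq_one σ hσ.2.1 hcop γh _ _ _ _ (hγ7 _ hidx.1) (hγ7 _ hidx.2)
      rw [hσγ]
      exact hrel _ hqrel
  -- the lifts generate
  have hgenΓ : Subgroup.closure (Set.range fun i : Fin 3 => γh i.val) = ⊤ := by
    apply Cfsg.H5.StemLift.eq_top_of_map_eq_top σ hσ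
    rw [MonoidHom.map_closure, ← Set.range_comp]
    have : (⇑σ ∘ fun i : Fin 3 => γh i.val) = fun i : Fin 3 => g i.val := by
      funext i; exact hγσ i.val
    rw [this, hgen]
  obtain ⟨_, hle⟩ := hC γh hrelΓ hgenΓ
  have hmul := Helper11UP.card_eq_mul_ker σ hσ.1
  rw [hcard] at hmul
  rw [hmul] at hle
  omega

end Cfsg.Agent.Lib.Helper5.Sp62
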