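import Cfsg.Agent.Lib.Helper11.Sp62UP
import Cfsg.Agent.Lib.Helper21.Sp62P
import Cfsg.Agent.Lib.Helper5.Sp62C

/-!
# S2093 piece [UP] (helper11 for helper5): the skeleton statement `card_ker_le_two`
-/

set_option autoImplicit false

namespace Cfsg.Agent.Lib.Helper5.Sp62

open Cfsg Cfsg.H5.TCk

universe u

/-- [UP] the upper bound -/
theorem card_ker_le_two {G : Type u} [Group G] (g : ℕ → G) (hg : IsSp62Triple g)
    {Γ : Type u} [Group Γ] [Finite Γ] (σ : Γ →* G) (hσ : IsStemExtension σ) : Nat.card σ.ker ≤ 2 :=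
  card_ker_le_two_of (fun h hgen hrel => commutator_eq_top_of_relsK h hgen hrel)
    (fun δ hrel hgen => card_le_of_relsK δ hrel hgen) g hg σ hσ

end Cfsg.Agent.Lib.Helper5.Sp62
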