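import Cfsg.Agent.Lib.Helper16.StCCB.Defs

/-!
# S2398/S2100 Part B, piece [BS4] (helper11, for helper16): the word identity (*) for shape 4

Abstract (any group `E`, any maps `φ`): sort the word with the oriented commutation rules
(order `s < q1 < q2 < q3 < q4`), merge equal roots by additivity, compare the four coefficients;
the `q4`-coefficient is the integer identity `hid`.
-/

set_option autoImplicit false
set_option linter.unusedSimpArgs false

namespace Cfsg.Agent.Lib.Helper14.StCC.B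

open Cfsg.Lie Cfsg.Agent.Lib.Helper8.Chev

variable {K : Type*} [Field K] {E : Type*} [Group E]

namespace Helper11BS4

theorem addP_zero {φ : ℕ → K → E} {a : ℕ} (h : AddP φ a) : φ a 0 = 1 := by
  have := h 0 0
  rw [add_zero] at this
  exact mul_left_cancel (a := φ a 0) (by rw [this, mul_one])

theorem addP_inv {φ : ℕ → K → E} {a : ℕ} (h : AddP φ a) (x : K) : (φ a x)⁻¹ = φ a (-x) := by
  apply inv_eq_of_mul_eq_one_right
  rw [h, add_neg_cancel, addP_zero h]

end Helper11BS4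

open Helper11BS4 in
theorem star_shape4 (φ : ℕ → K → E) {s q1 q2 q3 q4 : ℕ} {C11 C21 C31 C32 N N' : ℤ}
    (as : AddP φ s) (a1 : AddP φ q1) (a2 : AddP φ q2) (a3 : AddP φ q3) (a4 : AddP φ q4)
    (c13 : CommP φ q1 q3) (c14 : CommP φ q1 q4) (c23 : CommP φ q2 q3) (c24 : CommP φ q2 q4)
    (c34 : CommP φ q3 q4) (cs1 : CommP φ s q1) (cs2 : CommP φ s q2) (cs4 : CommP φ s q4)
    (h12 : ∀ x y : K, φ q2 y * φ q1 x = φ q1 x * φ q2 y * φ q4 ((N : K) * (-x) ^ 1 * y ^ 1))
    (hs3 : ∀ x y : K, φ q3 y * φ s x = φ s x * φ q3 y * φ q4 ((N' : K) * (-x) ^ 1 * y ^ 1))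
    (hid : N * C11 * C21 + N' * C31 + 2 * C32 = 0) (b t u : K) :
    φ s u * tW φ [(q1, C11, 1, 1), (q2, C21, 2, 1), (q3, C31, 3, 1), (q4, C32, 3, 2)] t (b * u) *
        (tW φ [(q1, C11, 1, 1), (q2, C21, 2, 1), (q3, C31, 3, 1), (q4, C32, 3, 2)] t u)⁻¹ *
        (φ s u)⁻¹ =
      tW φ [(q1, C11, 1, 1), (q2, C21, 2, 1), (q3, C31, 3, 1), (q4, C32, 3, 2)] t ((b - 1) * u) := by
  -- oriented commutation rules (sorting order s < q1 < q2 < q3 < q4), each with a prefixed version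
  have e31 : ∀ x y, φ q3 y * φ q1 x = φ q1 x * φ q3 y := fun x y => (c13 x y).symm
  have e41 : ∀ x y, φ q4 y * φ q1 x = φ q1 x * φ q4 y := fun x y => (c14 x y).symm
  have e32 : ∀ x y, φ q3 y * φ q2 x = φ q2 x * φ q3 y := fun x y => (c23 x y).symm
  have e42 : ∀ x y, φ q4 y * φ q2 x = φ q2 x * φ q4 y := fun x y => (c24 x y).symm
  have e43 : ∀ x y, φ q4 y * φ q3 x = φ q3 x * φ q4 y := fun x y => (c34 x y).symm
  have e1s : ∀ x y, φ q1 y * φ s x = φ s x * φ q1 y := fun x y => (cs1 x y).symm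
  have e2s : ∀ x y, φ q2 y * φ s x = φ s x * φ q2 y := fun x y => (cs2 x y).symm
  have e4s : ∀ x y, φ q4 y * φ s x = φ s x * φ q4 y := fun x y => (cs4 x y).symm
  have e31' : ∀ (P : E) x y, P * φ q3 y * φ q1 x = P * φ q1 x * φ q3 y := fun P x y => by
    rw [mul_assoc, e31, ← mul_assoc]
  have e41' : ∀ (P : E) x y, P * φ q4 y * φ q1 x = P * φ q1 x * φ q4 y := fun P x y => by
    rw [mul_assoc, e41, ← mul_assoc]
  have e32' : ∀ (P : E) x y, P * φ q3 y * φ q2 x = P * φ q2 x * φ q3 y := fun P x y => by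
    rw [mul_assoc, e32, ← mul_assoc]
  have e42' : ∀ (P : E) x y, P * φ q4 y * φ q2 x = P * φ q2 x * φ q4 y := fun P x y => by
    rw [mul_assoc, e42, ← mul_assoc]
  have e43' : ∀ (P : E) x y, P * φ q4 y * φ q3 x = P * φ q3 x * φ q4 y := fun P x y => by
    rw [mul_assoc, e43, ← mul_assoc]
  have e1s' : ∀ (P : E) x y, P * φ q1 y * φ s x = P * φ s x * φ q1 y := fun P x y => by
    rw [mul_assoc, e1s, ← mul_assoc]
  have e2s' : ∀ (P : E) x y, P * φ q2 y * φ s x = P * φ s x * φ q2 y := fun P x y => by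
    rw [mul_assoc, e2s, ← mul_assoc]
  have e4s' : ∀ (P : E) x y, P * φ q4 y * φ s x = P * φ s x * φ q4 y := fun P x y => by
    rw [mul_assoc, e4s, ← mul_assoc]
  have h12' : ∀ (P : E) x y, P * φ q2 y * φ q1 x
      = P * φ q1 x * φ q2 y * φ q4 ((N : K) * (-x) ^ 1 * y ^ 1) := fun P x y => by
    rw [mul_assoc, h12, ← mul_assoc, ← mul_assoc]
  have hs3' : ∀ (P : E) x y, P * φ q3 y * φ s x
      = P * φ s x * φ q3 y * φ q4 ((N' : K) * (-x) ^ 1 * y ^ 1) := fun P x y => by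
    rw [mul_assoc, hs3, ← mul_assoc, ← mul_assoc]
  have ms' : ∀ (P : E) x y, P * φ s x * φ s y = P * φ s (x + y) := fun P x y => by
    rw [mul_assoc, as]
  have m1' : ∀ (P : E) x y, P * φ q1 x * φ q1 y = P * φ q1 (x + y) := fun P x y => by
    rw [mul_assoc, a1]
  have m2' : ∀ (P : E) x y, P * φ q2 x * φ q2 y = P * φ q2 (x + y) := fun P x y => by
    rw [mul_assoc, a2]
  have m3' : ∀ (P : E) x y, P * φ q3 x * φ q3 y = P * φ q3 (x + y) := fun P x y => by
    rw [mul_assoc, a3]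
  have m4' : ∀ (P : E) x y, P * φ q4 x * φ q4 y = P * φ q4 (x + y) := fun P x y => by
    rw [mul_assoc, a4]
  have hid' : (N : K) * C11 * C21 + N' * C31 + 2 * C32 = 0 := by exact_mod_cast congrArg (Int.cast : ℤ → K) hid
  simp only [tW, List.map, wS_cons, wS_nil, mul_one, mul_inv_rev, addP_inv as, addP_inv a1, addP_inv a2, addP_inv a3,
    addP_inv a4, ← mul_assoc]
  simp only [e31, e41, e32, e42, e43, e1s, e2s, e4s, e31', e41', e32', e42', e43', e1s', e2s', e4s',
    h12, h12', hs3, hs3', as _ _, a1 _ _, a2 _ _, a3 _ _, a4 _ _, ms', m1', m2', m3', m4',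
    add_neg_cancel, addP_zero as, one_mul]
  congr 1
  · congr 1
    · congr 1
      · congr 1; ring
      · congr 1; ring
    · congr 1; ring
  · congr 1
    linear_combination (-(b - 1) * t ^ 3 * u ^ 2) * hid'

end Cfsg.Agent.Lib.Helper14.StCC.B
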