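import Mathlib

/-!
Group-theoretic part of Peterfalvi (4.3): `L = K ⋊ W₁` with `W₁` a cyclic Hall subgroup,
`W₂ = C_K(x)` for every `x ∈ W₁ \ {1}`.  Then `W = W₁ ⊔ W₂` is abelian, `C_L(u) = W` for
`u ∈ W \ W₂` and `W \ W₂` controls its own fusion in `L`.
-/

set_option autoImplicit false

namespace Cfsg.Agent.Lib.Helper11

open Pointwise

/-- The hypotheses of Peterfalvi (4.2) (without oddness / nontriviality of `W₂`). -/
structure TypePHyp {L : Type*} [Group L] (K W₁ W₂ : Subgroup L) : Prop where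
  normal : K.Normal
  inf_eq : K ⊓ W₁ = ⊥
  sup_eq : K ⊔ W₁ = ⊤
  cyc₁ : IsCyclic W₁
  hall : Nat.Coprime (Nat.card W₁) W₁.index
  cyc₂ : IsCyclic W₂
  le : W₂ ≤ K
  cent : ∀ x ∈ W₁, x ≠ 1 → K ⊓ Subgroup.centralizer ({x} : Set L) = W₂

namespace TypePHyp

variable {L : Type*} [Group L] {K W₁ W₂ : Subgroup L}

theorem dec_top (h : TypePHyp K W₁ W₂) (g : L) : ∃ k ∈ K, ∃ v ∈ W₁, g = k * v := by
  have := h.normal
  have hg : g ∈ ((K ⊔ W₁ : Subgroup L) : Set L) := by rw [h.sup_eq]; trivial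
  rw [Subgroup.normal_mul] at hg
  obtain ⟨k, hk, v, hv, rfl⟩ := hg
  exact ⟨k, hk, v, hv, rfl⟩

theorem card_K [Finite L] (h : TypePHyp K W₁ W₂) : Nat.card K = W₁.index := by
  have hcompl : Subgroup.IsComplement' K W₁ := by
    apply Subgroup.isComplement'_of_disjoint_and_mul_eq_univ (disjoint_iff.2 h.inf_eq)
    rw [Set.eq_univ_iff_forall]
    intro g
    obtain ⟨k, hk, v, hv, rfl⟩ := h.dec_top g
    exact ⟨k, hk, v, hv, rfl⟩
  have h1 := hcompl.card_mul_card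
  have h2 := Subgroup.card_mul_index W₁
  have hpos : 0 < Nat.card W₁ := Nat.card_pos
  apply Nat.eq_of_mul_eq_mul_right hpos
  rw [h1, mul_comm, h2]

theorem coprime [Finite L] (h : TypePHyp K W₁ W₂) : Nat.Coprime (Nat.card W₁) (Nat.card W₂) := by
  have h1 : Nat.card W₂ ∣ Nat.card K := Subgroup.card_dvd_of_le h.le
  rw [h.card_K] at h1
  exact Nat.Coprime.coprime_dvd_right h1 h.hall

theorem disj (h : TypePHyp K W₁ W₂) : W₁ ⊓ W₂ = ⊥ := by
  rw [eq_bot_iff, ← h.inf_eq]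
  exact le_inf (inf_le_right.trans h.le) inf_le_left

theorem comm12 (h : TypePHyp K W₁ W₂) : ∀ a ∈ W₁, ∀ b ∈ W₂, a * b = b * a := by
  intro a ha b hb
  by_cases ha1 : a = 1
  · rw [ha1]; simp
  · have hb' : b ∈ K ⊓ Subgroup.centralizer ({a} : Set L) := by rw [h.cent a ha ha1]; exact hb
    exact (Subgroup.mem_centralizer_iff.1 hb'.2) a rfl

theorem comm_of_cyclic (W : Subgroup L) (hW : IsCyclic W) : ∀ a ∈ W, ∀ b ∈ W, a * b = b * a := by
  intro a ha b hb
  haveI := hW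
  have := (IsCyclic.commGroup (α := W)).mul_comm ⟨a, ha⟩ ⟨b, hb⟩
  exact congrArg Subtype.val this

theorem dec (h : TypePHyp K W₁ W₂) : ∀ u ∈ W₁ ⊔ W₂, ∃ a ∈ W₁, ∃ b ∈ W₂, u = a * b := by
  intro u hu
  have h4 := h.comm12
  have hle : W₂ ≤ Subgroup.normalizer (W₁ : Set L) := by
    intro b hb
    rw [Subgroup.mem_normalizer_iff]
    intro a
    constructor
    · intro ha
      have : b * a * b⁻¹ = a := by rw [← h4 a ha b hb]; group
      rw [this]; exact ha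
    · intro ha
      have h5 := h4 _ ha b hb
      have : a = b * a * b⁻¹ := by
        have e1 : b * a * b⁻¹ * b = b * (b * a * b⁻¹) := h5
        have e2 : b * a = b * (b * a * b⁻¹) := by rw [← e1]; group
        exact mul_left_cancel e2
      rw [this]; exact ha
  have hu' : u ∈ ((W₁ ⊔ W₂ : Subgroup L) : Set L) := hu
  rw [Subgroup.coe_mul_of_right_le_normalizer_left W₁ W₂ hle] at hu'
  obtain ⟨a, ha, b, hb, rfl⟩ := hu'
  exact ⟨a, ha, b, hb, rfl⟩

theorem comm (h : TypePHyp K W₁ W₂) : ∀ u ∈ W₁ ⊔ W₂, ∀ v ∈ W₁ ⊔ W₂, u * v = v * u := by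
  intro u hu v hv
  obtain ⟨a, ha, b, hb, rfl⟩ := h.dec u hu
  obtain ⟨a', ha', b', hb', rfl⟩ := h.dec v hv
  have c1 : Commute a a' := comm_of_cyclic W₁ h.cyc₁ a ha a' ha'
  have c2 : Commute a b' := h.comm12 a ha b' hb'
  have c3 : Commute b a' := (h.comm12 a' ha' b hb).symm
  have c4 : Commute b b' := comm_of_cyclic W₂ h.cyc₂ b hb b' hb'
  exact (c1.mul_right c2).mul_left (c3.mul_right c4)

theorem centralizer_eq (h : TypePHyp K W₁ W₂) {x : L} (hx : x ∈ W₁) (hx1 : x ≠ 1) :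
    Subgroup.centralizer ({x} : Set L) = W₁ ⊔ W₂ := by
  apply le_antisymm
  · intro g hg
    have hgx : x * g = g * x := (Subgroup.mem_centralizer_iff.1 hg) x rfl
    obtain ⟨k, hk, v, hv, rfl⟩ := h.dec_top g
    have hvx : v * x = x * v := comm_of_cyclic W₁ h.cyc₁ v hv x hx
    have hkW₂ : k ∈ W₂ := by
      rw [← h.cent x hx hx1]
      refine ⟨hk, ?_⟩
      show k ∈ Subgroup.centralizer ({x} : Set L)
      rw [Subgroup.mem_centralizer_iff]
      intro y hy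
      rw [Set.mem_singleton_iff] at hy
      rw [hy]
      -- x * (k * v) = k * v * x, v x = x v  ⇒  x k = k x
      have e1 : x * k * v = k * x * v := by
        calc x * k * v = x * (k * v) := by group
          _ = k * v * x := hgx
          _ = k * (v * x) := by group
          _ = k * (x * v) := by rw [hvx]
          _ = k * x * v := by group
      exact mul_right_cancel e1
    exact (W₁ ⊔ W₂).mul_mem (Subgroup.mem_sup_right hkW₂) (Subgroup.mem_sup_left hv)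
  · intro g hg
    rw [Subgroup.mem_centralizer_iff]
    intro y hy
    rw [Set.mem_singleton_iff] at hy
    rw [hy]
    exact h.comm x (Subgroup.mem_sup_left hx) g hg

theorem quot_comm (h : TypePHyp K W₁ W₂) [K.Normal] :
    ∀ p q : L ⧸ K, p * q = q * p := by
  intro p q
  have hπ : ∀ z : L, (QuotientGroup.mk' K z = 1) ↔ z ∈ K := fun z => QuotientGroup.eq_one_iff z
  obtain ⟨p, rfl⟩ := QuotientGroup.mk'_surjective K p
  obtain ⟨q, rfl⟩ := QuotientGroup.mk'_surjective K q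
  obtain ⟨k, hk, v, hv, rfl⟩ := h.dec_top p
  obtain ⟨k', hk', v', hv', rfl⟩ := h.dec_top q
  simp only [map_mul, (hπ k).2 hk, (hπ k').2 hk', one_mul]
  rw [← map_mul, ← map_mul, comm_of_cyclic W₁ h.cyc₁ v hv v' hv']

/-- Conjugate elements of `W₁` are equal. -/
theorem conj_eq_of_mem (h : TypePHyp K W₁ W₂) {x x' g : L} (hx : x ∈ W₁) (hx' : x' ∈ W₁)
    (hg : g⁻¹ * x * g = x') : x' = x := by
  have := h.normal
  have hπ : ∀ z : L, (QuotientGroup.mk' K z = 1) ↔ z ∈ K := fun z => QuotientGroup.eq_one_iff z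
  have h1 : QuotientGroup.mk' K x' = QuotientGroup.mk' K x := by
    rw [← hg, map_mul, map_mul, h.quot_comm (QuotientGroup.mk' K g⁻¹), mul_assoc, ← map_mul,
      inv_mul_cancel, map_one, mul_one]
  have h2 : x⁻¹ * x' ∈ K := by
    rw [← hπ, map_mul, map_inv, h1, inv_mul_cancel]
  have h3 : x⁻¹ * x' ∈ K ⊓ W₁ := ⟨h2, W₁.mul_mem (W₁.inv_mem hx) hx'⟩
  rw [h.inf_eq, Subgroup.mem_bot] at h3
  exact (inv_mul_eq_one.1 h3).symm

theorem pow_card_W₂ [Finite L] (h : TypePHyp K W₁ W₂) {a b : L} (ha : a ∈ W₁) (hb : b ∈ W₂) :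
    (a * b) ^ Nat.card W₂ = a ^ Nat.card W₂ := by
  have hc : Commute a b := h.comm12 a ha b hb
  rw [hc.mul_pow]
  have : b ^ Nat.card W₂ = 1 := by
    have := pow_card_eq_one' (G := W₂) (x := ⟨b, hb⟩)
    exact congrArg Subtype.val this
  rw [this, mul_one]

theorem pow_card_W₂_ne_one [Finite L] (h : TypePHyp K W₁ W₂) {a : L} (ha : a ∈ W₁) (ha1 : a ≠ 1) :
    a ^ Nat.card W₂ ≠ 1 := by
  intro h1
  apply ha1
  have hd1 : orderOf a ∣ Nat.card W₂ := orderOf_dvd_of_pow_eq_one h1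
  have hd2 : orderOf a ∣ Nat.card W₁ := Subgroup.orderOf_dvd_natCard W₁ ha
  have := Nat.dvd_gcd hd2 hd1
  rw [h.coprime] at this
  exact orderOf_eq_one_iff.1 (Nat.dvd_one.1 this)

/-- `W \ W₂` controls its own fusion. -/
theorem fusion [Finite L] (h : TypePHyp K W₁ W₂) {u g : L} (hu : u ∈ W₁ ⊔ W₂) (hu2 : u ∉ W₂)
    (hg : g⁻¹ * u * g ∈ W₁ ⊔ W₂) : g ∈ W₁ ⊔ W₂ := by
  obtain ⟨a, ha, b, hb, rfl⟩ := h.dec u hu
  obtain ⟨a', ha', b', hb', hab'⟩ := h.dec _ hg
  have ha1 : a ≠ 1 := by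
    rintro rfl
    apply hu2
    rw [one_mul]; exact hb
  set n := Nat.card W₂ with hn
  have e1 : g⁻¹ * a ^ n * g = a' ^ n := by
    have : (g⁻¹ * (a * b) * g) ^ n = a' ^ n := by rw [hab', h.pow_card_W₂ ha' hb']
    rw [← this]
    have : g⁻¹ * (a * b) * g = g⁻¹ * (a * b) * g⁻¹⁻¹ := by rw [inv_inv]
    rw [this, conj_pow, h.pow_card_W₂ ha hb, inv_inv]
  have e2 := h.conj_eq_of_mem (W₁.pow_mem ha n) (W₁.pow_mem ha' n) e1
  rw [e2] at e1
  have hgc : g ∈ Subgroup.centralizer ({a ^ n} : Set L) := by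
    rw [Subgroup.mem_centralizer_iff]
    intro y hy
    rw [Set.mem_singleton_iff] at hy
    rw [hy]
    have : g * (g⁻¹ * a ^ n * g) = g * a ^ n := by rw [e1]
    rw [← this]; group
  rw [h.centralizer_eq (W₁.pow_mem ha n) (h.pow_card_W₂_ne_one ha ha1)] at hgc
  exact hgc

/-- The centralizer of an element of `W \ W₂` is `W`. -/
theorem centralizer_eq' [Finite L] (h : TypePHyp K W₁ W₂) {u : L} (hu : u ∈ W₁ ⊔ W₂)
    (hu2 : u ∉ W₂) : Subgroup.centralizer ({u} : Set L) = W₁ ⊔ W₂ := by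
  apply le_antisymm
  · intro g hg
    have hgu : u * g = g * u := (Subgroup.mem_centralizer_iff.1 hg) u rfl
    apply h.fusion hu hu2
    have : g⁻¹ * u * g = u := by
      rw [mul_assoc, hgu]; group
    rw [this]; exact hu
  · intro g hg
    rw [Subgroup.mem_centralizer_iff]
    intro y hy
    rw [Set.mem_singleton_iff] at hy
    rw [hy]
    exact h.comm u hu g hg

/-- Elements of `W₁ \ {1}` are not in `W₂`. -/
theorem not_mem_W₂ (h : TypePHyp K W₁ W₂) {x : L} (hx : x ∈ W₁) (hx1 : x ≠ 1) : x ∉ W₂ := by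
  intro hx2
  have : x ∈ W₁ ⊓ W₂ := ⟨hx, hx2⟩
  rw [h.disj, Subgroup.mem_bot] at this
  exact hx1 this

end TypePHyp

end Cfsg.Agent.Lib.Helper11
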