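import Mathlib
import Cfsg.Prelude.Def_Characters
import Cfsg.Agent.Lib.Helper11.TypeP
import Cfsg.Agent.Lib.Helper11.SignedFamily
import Cfsg.Agent.Lib.Helper11.TIInduction
import Cfsg.Agent.Lib.Helper11.GenChar
import Cfsg.Agent.Lib.Helper11.Clifford2
import Cfsg.Agent.Lib.Helper11.CharSep
import Cfsg.Agent.Lib.Helper11.LinChar
import Cfsg.Agent.Lib.Helper11.LinCharProd
import Cfsg.Agent.Lib.Helper2.Column
import Cfsg.Agent.Lib.Helper2.Linear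

/-!
Character-theoretic part of Peterfalvi (4.3)/(4.5): the exceptional characters `μ ω` attached to the
linear characters of `W = W₁ ⊔ W₂` in a group `L = K ⋊ W₁` of "type P".
-/

set_option autoImplicit false

namespace Cfsg.Agent.Lib.Helper11

open Cfsg.Agent.Lib.Helper2
open scoped ComplexConjugate

section LinFn

variable {W : Type*} [Group W]

/-- A linear character as a complex-valued function. -/
def linFn (ω : W →* ℂˣ) : W → ℂ := fun w => (ω w : ℂ)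

theorem linFn_apply (ω : W →* ℂˣ) (w : W) : linFn ω w = (ω w : ℂ) := rfl

theorem linFn_injective : Function.Injective (linFn : (W →* ℂˣ) → (W → ℂ)) := by
  intro ω ω' h
  ext w
  exact congrFun h w

theorem linFn_isIrr (ω : W →* ℂˣ) : Cfsg.IsIrrCharacter W (linFn ω) :=
  isIrrCharacter_of_monoidHom ω

theorem linFn_one (ω : W →* ℂˣ) : linFn ω 1 = 1 := by
  rw [linFn_apply, map_one, Units.val_one]

theorem linFn_mul (ω ω' : W →* ℂˣ) (w : W) : linFn (ω * ω') w = linFn ω w * linFn ω' w := by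
  rw [linFn_apply, linFn_apply, linFn_apply, MonoidHom.mul_apply, Units.val_mul]

theorem classInner_linFn_sub [Fintype W] (ω₁ ω₂ ω₃ ω₄ : W →* ℂˣ) [Decidable (ω₁ = ω₃)]
    [Decidable (ω₁ = ω₄)] [Decidable (ω₂ = ω₃)] [Decidable (ω₂ = ω₄)] :
    Cfsg.classInner (linFn ω₁ - linFn ω₂) (linFn ω₃ - linFn ω₄)
      = (if ω₁ = ω₃ then 1 else 0) - (if ω₁ = ω₄ then 1 else 0) - (if ω₂ = ω₃ then 1 else 0)
        + (if ω₂ = ω₄ then 1 else 0) := by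
  classical
  rw [classInner_sub_sub_irr (linFn_isIrr ω₁) (linFn_isIrr ω₂) (linFn_isIrr ω₃) (linFn_isIrr ω₄)]
  simp only [linFn_injective.eq_iff]

end LinFn

section IndSub

variable {G : Type*} [Group G] [Fintype G] (H : Subgroup G)

theorem indFun_sub' (θ φ : H → ℂ) :
    Cfsg.indFun H (θ - φ) = Cfsg.indFun H θ - Cfsg.indFun H φ := by
  have := indFun_add H (θ - φ) φ
  rw [sub_add_cancel] at this
  rw [this, add_sub_cancel_right]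

end IndSub

section TypeP

variable {L : Type*} [Group L] [Fintype L] {K W₁ W₂ : Subgroup L}

/-- two linear characters of `W₁ ⊔ W₂` agree on `W₂` -/
def AgreeOn₂ (W₁ W₂ : Subgroup L) (ω ω' : ↥(W₁ ⊔ W₂) →* ℂˣ) : Prop :=
  ∀ w : ↥(W₁ ⊔ W₂), (w : L) ∈ W₂ → ω w = ω' w

/-- restriction to `W₂` -/
def res₂ (W₁ W₂ : Subgroup L) (ω : ↥(W₁ ⊔ W₂) →* ℂˣ) : W₂ →* ℂˣ :=
  ω.comp (Subgroup.inclusion (le_sup_right : W₂ ≤ W₁ ⊔ W₂))

theorem agreeOn₂_iff (ω ω' : ↥(W₁ ⊔ W₂) →* ℂˣ) :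
    AgreeOn₂ W₁ W₂ ω ω' ↔ res₂ W₁ W₂ ω = res₂ W₁ W₂ ω' := by
  constructor
  · intro h
    ext ⟨y, hy⟩
    have := h (Subgroup.inclusion (le_sup_right : W₂ ≤ W₁ ⊔ W₂) ⟨y, hy⟩) hy
    simp only [res₂, MonoidHom.comp_apply]
    rw [this]
  · intro h w hw
    have := DFunLike.congr_fun h ⟨(w : L), hw⟩
    simp only [res₂, MonoidHom.comp_apply] at this
    have e : Subgroup.inclusion (le_sup_right : W₂ ≤ W₁ ⊔ W₂) ⟨(w : L), hw⟩ = w := Subtype.ext rfl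
    rw [e] at this
    exact this

theorem AgreeOn₂.refl (ω : ↥(W₁ ⊔ W₂) →* ℂˣ) : AgreeOn₂ W₁ W₂ ω ω := fun _ _ => rfl

theorem AgreeOn₂.symm {ω ω' : ↥(W₁ ⊔ W₂) →* ℂˣ} (h : AgreeOn₂ W₁ W₂ ω ω') :
    AgreeOn₂ W₁ W₂ ω' ω := fun w hw => (h w hw).symm

/-- The set `W \ W₂`. -/
def typePSet (W₁ W₂ : Subgroup L) : Set L := {u | u ∈ W₁ ⊔ W₂ ∧ u ∉ W₂}

theorem TypePHyp.hTI (h : TypePHyp K W₁ W₂) :
    ∀ a ∈ typePSet W₁ W₂, ∀ x : L, x⁻¹ * a * x ∈ typePSet W₁ W₂ → x ∈ W₁ ⊔ W₂ :=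
  fun _ ha _ hx => h.fusion ha.1 ha.2 hx.1

theorem TypePHyp.isClassFunction (h : TypePHyp K W₁ W₂) (f : ↥(W₁ ⊔ W₂) → ℂ) :
    Cfsg.IsClassFunction ↥(W₁ ⊔ W₂) f := by
  intro g x
  congr 1
  apply Subtype.ext
  have := h.comm x.1 x.2 g.1 g.2
  simp only [Subgroup.coe_mul, Subgroup.coe_inv]
  rw [this]; group

theorem sub_vanish {ω ω' : ↥(W₁ ⊔ W₂) →* ℂˣ} (hag : AgreeOn₂ W₁ W₂ ω ω') :
    ∀ l : ↥(W₁ ⊔ W₂), (l : L) ∉ typePSet W₁ W₂ → (linFn ω - linFn ω') l = 0 := by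
  intro l hl
  have : (l : L) ∈ W₂ := by
    by_contra h2
    exact hl ⟨l.2, h2⟩
  rw [Pi.sub_apply, linFn_apply, linFn_apply, hag l this, sub_self]

/-- the induced difference -/
noncomputable def indDiff (W₁ W₂ : Subgroup L) (ω ω' : ↥(W₁ ⊔ W₂) →* ℂˣ) : L → ℂ :=
  Cfsg.indFun (W₁ ⊔ W₂) (linFn ω - linFn ω')

theorem indDiff_add (ω₁ ω₂ ω₃ : ↥(W₁ ⊔ W₂) →* ℂˣ) :
    indDiff W₁ W₂ ω₁ ω₂ + indDiff W₁ W₂ ω₂ ω₃ = indDiff W₁ W₂ ω₁ ω₃ := by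
  unfold indDiff
  rw [← indFun_add, sub_add_sub_cancel]

theorem indDiff_isGenChar (ω ω' : ↥(W₁ ⊔ W₂) →* ℂˣ) :
    Cfsg.IsGeneralizedCharacter L (indDiff W₁ W₂ ω ω') := by
  refine ⟨Cfsg.indFun (W₁ ⊔ W₂) (linFn ω), Cfsg.indFun (W₁ ⊔ W₂) (linFn ω'),
    indFun_isCharacter _ _ (IsIrrCharacter.isCharacter (linFn_isIrr ω)),
    indFun_isCharacter _ _ (IsIrrCharacter.isCharacter (linFn_isIrr ω')), ?_⟩
  unfold indDiff
  rw [indFun_sub']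

theorem indDiff_apply_one (ω ω' : ↥(W₁ ⊔ W₂) →* ℂˣ) : indDiff W₁ W₂ ω ω' 1 = 0 := by
  unfold indDiff
  rw [indFun_apply_one, Pi.sub_apply, linFn_one, linFn_one, sub_self, mul_zero]

variable [Fintype ↥(W₁ ⊔ W₂)]

theorem TypePHyp.classInner_indDiff (h : TypePHyp K W₁ W₂) {ω₁ ω₂ ω₃ ω₄ : ↥(W₁ ⊔ W₂) →* ℂˣ}
    (h12 : AgreeOn₂ W₁ W₂ ω₁ ω₂) (h34 : AgreeOn₂ W₁ W₂ ω₃ ω₄) [Decidable (ω₁ = ω₃)]
    [Decidable (ω₁ = ω₄)] [Decidable (ω₂ = ω₃)] [Decidable (ω₂ = ω₄)] :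
    Cfsg.classInner (indDiff W₁ W₂ ω₁ ω₂) (indDiff W₁ W₂ ω₃ ω₄)
      = (if ω₁ = ω₃ then 1 else 0) - (if ω₁ = ω₄ then 1 else 0) - (if ω₂ = ω₃ then 1 else 0)
        + (if ω₂ = ω₄ then 1 else 0) := by
  unfold indDiff
  rw [classInner_indFun_indFun_of_TI (W₁ ⊔ W₂) (typePSet W₁ W₂) h.hTI _ _ (sub_vanish h12)
    (h.isClassFunction _) (sub_vanish h34), classInner_linFn_sub]

theorem TypePHyp.indDiff_apply (h : TypePHyp K W₁ W₂) {ω ω' : ↥(W₁ ⊔ W₂) →* ℂˣ}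
    (hag : AgreeOn₂ W₁ W₂ ω ω') (a : ↥(W₁ ⊔ W₂)) (ha : (a : L) ∉ W₂) :
    indDiff W₁ W₂ ω ω' (a : L) = linFn ω a - linFn ω' a := by
  unfold indDiff
  rw [indFun_apply_of_TI (W₁ ⊔ W₂) (typePSet W₁ W₂) h.hTI _ (h.isClassFunction _) (sub_vanish hag)
    a ⟨a.2, ha⟩, Pi.sub_apply]

/-- a nontrivial linear character of `W` trivial on `W₂` not vanishing at a given `a ∈ W \ W₂` -/
theorem TypePHyp.exists_sep (h : TypePHyp K W₁ W₂) (a : ↥(W₁ ⊔ W₂)) (ha : (a : L) ∉ W₂) :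
    ∃ φ : ↥(W₁ ⊔ W₂) →* ℂˣ, AgreeOn₂ W₁ W₂ φ 1 ∧ φ a ≠ 1 := by
  have hcomm : ∀ x y : ↥(W₁ ⊔ W₂), x * y = y * x := by
    intro x y
    apply Subtype.ext
    exact h.comm x.1 x.2 y.1 y.2
  have hx : a ∉ W₂.subgroupOf (W₁ ⊔ W₂) := by
    rw [Subgroup.mem_subgroupOf]; exact ha
  obtain ⟨φ, hφ, hφa⟩ := exists_char_trivial_ne_one hcomm (W₂.subgroupOf (W₁ ⊔ W₂)) hx
  refine ⟨φ, ?_, hφa⟩
  intro w hw
  rw [hφ w (Subgroup.mem_subgroupOf.2 hw), MonoidHom.one_apply]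

theorem TypePHyp.exists_family (h : TypePHyp K W₁ W₂) (hW₁ : W₁ ≠ ⊥) :
    ∃ (μ : (↥(W₁ ⊔ W₂) →* ℂˣ) → (L → ℂ)) (δ : (↥(W₁ ⊔ W₂) →* ℂˣ) → ℂ),
      (∀ ω, Cfsg.IsIrrCharacter L (μ ω)) ∧ (∀ ω, δ ω = 1 ∨ δ ω = -1) ∧
      (∀ ω ω', AgreeOn₂ W₁ W₂ ω ω' → δ ω = δ ω' ∧ indDiff W₁ W₂ ω ω' = δ ω • (μ ω - μ ω')) ∧
      (∀ ω ω', AgreeOn₂ W₁ W₂ ω ω' → μ ω = μ ω' → ω = ω') := by
  classical
  -- a nontrivial character trivial on `W₂`
  obtain ⟨x₁, hx₁1⟩ := (Subgroup.ne_bot_iff_exists_ne_one.1 hW₁)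
  have hx₁' : (x₁ : L) ≠ 1 := fun e => hx₁1 (Subtype.ext e)
  obtain ⟨φ₀, hφ₀, hφ₀ne⟩ := h.exists_sep ⟨x₁.1, Subgroup.mem_sup_left x₁.2⟩
    (h.not_mem_W₂ x₁.2 hx₁')
  have hφ₀1 : φ₀ ≠ 1 := by
    intro e
    apply hφ₀ne
    rw [e, MonoidHom.one_apply]
  have key : ∀ η : W₂ →* ℂˣ, ∃ (δ : ℂ) (μ : {ω // res₂ W₁ W₂ ω = η} → (L → ℂ)),
      (δ = 1 ∨ δ = -1) ∧ (∀ i, Cfsg.IsIrrCharacter L (μ i)) ∧ Function.Injective μ ∧
      ∀ i j : {ω // res₂ W₁ W₂ ω = η}, indDiff W₁ W₂ i.1 j.1 = δ • (μ i - μ j) := by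
    intro η
    have hag : ∀ i j : {ω // res₂ W₁ W₂ ω = η}, AgreeOn₂ W₁ W₂ i.1 j.1 :=
      fun i j => (agreeOn₂_iff _ _).2 (i.2.trans j.2.symm)
    apply exists_signed_family (fun i j : {ω // res₂ W₁ W₂ ω = η} => indDiff W₁ W₂ i.1 j.1)
    · intro i j k
      exact indDiff_add _ _ _
    · intro i j hij
      have hne : i.1 ≠ j.1 := fun e => hij (Subtype.ext e)
      have hnorm : Cfsg.classInner (indDiff W₁ W₂ i.1 j.1) (indDiff W₁ W₂ i.1 j.1) = 2 := by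
        rw [h.classInner_indDiff (hag i j) (hag i j)]
        simp only [if_true, if_neg hne, if_neg hne.symm]
        norm_num
      obtain ⟨μ₁, μ₂, hμ, he⟩ := IsGeneralizedCharacter.eq_sub_of_norm_two
        (indDiff_isGenChar i.1 j.1) hnorm (indDiff_apply_one _ _)
      exact ⟨μ₁.1, μ₂.1, μ₁.2, μ₂.2, fun e => hμ (Subtype.ext e), he⟩
    · intro i j k hij hik hjk
      have hij' : i.1 ≠ j.1 := fun e => hij (Subtype.ext e)
      have hik' : i.1 ≠ k.1 := fun e => hik (Subtype.ext e)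
      have hjk' : j.1 ≠ k.1 := fun e => hjk (Subtype.ext e)
      show Cfsg.classInner (indDiff W₁ W₂ i.1 j.1) (indDiff W₁ W₂ i.1 k.1) = 1
      rw [h.classInner_indDiff (hag i j) (hag i k)]
      simp only [if_true, if_neg hik', if_neg hij'.symm, if_neg hjk']
      norm_num
    · intro i
      have hag' : AgreeOn₂ W₁ W₂ (i.1 * φ₀) i.1 := by
        intro w hw
        rw [MonoidHom.mul_apply, hφ₀ w hw, MonoidHom.one_apply, mul_one]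
      refine ⟨⟨i.1 * φ₀, ((agreeOn₂_iff _ _).1 hag').trans i.2⟩, ?_⟩
      intro e
      have e' : i.1 = i.1 * φ₀ := congrArg Subtype.val e
      apply hφ₀1
      have : i.1 * 1 = i.1 * φ₀ := (mul_one _).trans e'
      exact (mul_left_cancel this).symm
  choose δ' μ' h1 h2 h3 h4 using key
  have htr : ∀ (η η' : W₂ →* ℂˣ) (e : η = η') (ω : ↥(W₁ ⊔ W₂) →* ℂˣ) (hω : res₂ W₁ W₂ ω = η),
      μ' η ⟨ω, hω⟩ = μ' η' ⟨ω, hω.trans e⟩ := by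
    intro η η' e ω hω
    subst e
    rfl
  refine ⟨fun ω => μ' (res₂ W₁ W₂ ω) ⟨ω, rfl⟩, fun ω => δ' (res₂ W₁ W₂ ω), ?_, ?_, ?_, ?_⟩
  · intro ω
    exact h2 _ _
  · intro ω
    exact h1 _
  · intro ω ω' hag
    have hres := (agreeOn₂_iff _ _).1 hag
    refine ⟨congrArg δ' hres, ?_⟩
    have := h4 (res₂ W₁ W₂ ω) ⟨ω, rfl⟩ ⟨ω', hres.symm⟩
    simp only at this
    show indDiff W₁ W₂ ω ω' = δ' (res₂ W₁ W₂ ω) •
      (μ' (res₂ W₁ W₂ ω) ⟨ω, rfl⟩ - μ' (res₂ W₁ W₂ ω') ⟨ω', rfl⟩)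
    rw [this, htr _ _ hres.symm ω' rfl]
  · intro ω ω' hag e
    have hres := (agreeOn₂_iff _ _).1 hag
    replace e : μ' (res₂ W₁ W₂ ω) ⟨ω, rfl⟩ = μ' (res₂ W₁ W₂ ω') ⟨ω', rfl⟩ := e
    rw [htr _ _ hres.symm ω' rfl] at e
    have := h3 _ e
    exact congrArg Subtype.val this

section Family

variable (h : TypePHyp K W₁ W₂) (hW₁ : W₁ ≠ ⊥)
  (μ : (↥(W₁ ⊔ W₂) →* ℂˣ) → (L → ℂ)) (δ : (↥(W₁ ⊔ W₂) →* ℂˣ) → ℂ)
  (hirr : ∀ ω, Cfsg.IsIrrCharacter L (μ ω)) (hδ : ∀ ω, δ ω = 1 ∨ δ ω = -1)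
  (hind : ∀ ω ω', AgreeOn₂ W₁ W₂ ω ω' →
    δ ω = δ ω' ∧ indDiff W₁ W₂ ω ω' = δ ω • (μ ω - μ ω'))
  (hinj : ∀ ω ω', AgreeOn₂ W₁ W₂ ω ω' → μ ω = μ ω' → ω = ω')

include h hW₁ hirr hδ hind hinj

/-- Global injectivity of the exceptional characters. -/
theorem TypePHyp.family_injective : Function.Injective μ := by
  classical
  intro ω ω' e
  by_cases hag : AgreeOn₂ W₁ W₂ ω ω'
  · exact hinj ω ω' hag e
  exfalso
  obtain ⟨x₁, hx₁1⟩ := (Subgroup.ne_bot_iff_exists_ne_one.1 hW₁)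
  have hx₁' : (x₁ : L) ≠ 1 := fun e => hx₁1 (Subtype.ext e)
  obtain ⟨φ₀, hφ₀, hφ₀ne⟩ := h.exists_sep ⟨x₁.1, Subgroup.mem_sup_left x₁.2⟩
    (h.not_mem_W₂ x₁.2 hx₁')
  have hφ₀1 : φ₀ ≠ 1 := by
    intro e
    apply hφ₀ne
    rw [e, MonoidHom.one_apply]
  have hagφ : ∀ ψ : ↥(W₁ ⊔ W₂) →* ℂˣ, AgreeOn₂ W₁ W₂ ψ (ψ * φ₀) := by
    intro ψ w hw
    rw [MonoidHom.mul_apply, hφ₀ w hw, MonoidHom.one_apply, mul_one]
  have hneφ : ∀ ψ : ↥(W₁ ⊔ W₂) →* ℂˣ, ψ ≠ ψ * φ₀ := by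
    intro ψ e'
    apply hφ₀1
    have : ψ * 1 = ψ * φ₀ := (mul_one _).trans e'
    exact (mul_left_cancel this).symm
  obtain ⟨κ, hκ⟩ : ∃ κ, κ = ω * φ₀ := ⟨_, rfl⟩
  obtain ⟨κ', hκ'⟩ : ∃ κ', κ' = ω' * φ₀ := ⟨_, rfl⟩
  have ag1 : AgreeOn₂ W₁ W₂ ω κ := hκ ▸ hagφ ω
  have ag2 : AgreeOn₂ W₁ W₂ ω' κ' := hκ' ▸ hagφ ω'
  have ne1 : ω ≠ κ := hκ ▸ hneφ ω
  have ne2 : ω' ≠ κ' := hκ' ▸ hneφ ω'
  have n1 : ω ≠ ω' := fun e' => hag (e' ▸ AgreeOn₂.refl ω)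
  have n2 : ω ≠ κ' := by
    intro e'
    apply hag
    rw [e']
    exact ag2.symm
  have n3 : κ ≠ ω' := by
    intro e'
    apply hag
    rw [← e']
    exact ag1
  have n4 : κ ≠ κ' := by
    intro e'
    rw [hκ, hκ'] at e'
    exact n1 (mul_right_cancel e')
  have h0 : Cfsg.classInner (indDiff W₁ W₂ ω κ) (indDiff W₁ W₂ ω' κ') = 0 := by
    rw [h.classInner_indDiff ag1 ag2]
    simp only [if_neg n1, if_neg n2, if_neg n3, if_neg n4]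
    norm_num
  rw [(hind ω κ ag1).2, (hind ω' κ' ag2).2, classInner_smul_left, classInner_smul_right,
    classInner_sub_sub_irr (hirr ω) (hirr κ) (hirr ω') (hirr κ')] at h0
  have m1 : μ ω ≠ μ κ' := by
    intro e'
    exact ne2 (hinj ω' κ' ag2 (e.symm.trans e'))
  have m2 : μ κ ≠ μ ω' := by
    intro e'
    exact ne1 (hinj ω κ ag1 (e.trans e'.symm))
  rw [if_pos e, if_neg m1, if_neg m2] at h0
  have hδ1 : δ ω ≠ 0 := by rcases hδ ω with e' | e' <;> rw [e'] <;> norm_num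
  have hδ2 : conj (δ ω') ≠ 0 := by
    rcases hδ ω' with e' | e' <;> rw [e'] <;> simp
  rcases mul_eq_zero.1 h0 with h0 | h0
  · exact hδ1 h0
  rcases mul_eq_zero.1 h0 with h0 | h0
  · exact hδ2 h0
  split_ifs at h0 <;> norm_num at h0

/-- Values of the exceptional characters on `W \ W₂`, and vanishing of the other irreducible
characters there. -/
theorem TypePHyp.family_values (a : ↥(W₁ ⊔ W₂)) (ha : (a : L) ∉ W₂) :
    (∀ ω, μ ω a = δ ω * linFn ω a) ∧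
      (∀ θ : L → ℂ, Cfsg.IsIrrCharacter L θ → (∀ ω, θ ≠ μ ω) → θ a = 0) := by
  classical
  have hμinj := h.family_injective hW₁ μ δ hirr hδ hind hinj
  have : Fintype (↥(W₁ ⊔ W₂) →* ℂˣ) := Fintype.ofFinite _
  have : Fintype (Cfsg.IrrCharacter L) := Fintype.ofFinite _
  have hδsq : ∀ ω, δ ω * δ ω = 1 := by
    intro ω
    rcases hδ ω with e | e <;> rw [e] <;> norm_num
  have hδnorm : ∀ ω, Complex.normSq (δ ω) = 1 := by
    intro ω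
    rcases hδ ω with e | e <;> rw [e] <;> simp
  set c : (↥(W₁ ⊔ W₂) →* ℂˣ) → ℂ := fun ω => μ ω a - δ ω * linFn ω a with hc
  -- class invariance
  have hcinv : ∀ ω ω', AgreeOn₂ W₁ W₂ ω ω' → c ω = c ω' := by
    intro ω ω' hag
    obtain ⟨e1, e2⟩ := hind ω ω' hag
    have e3 := congrFun e2 (a : L)
    rw [h.indDiff_apply hag a ha, Pi.smul_apply, Pi.sub_apply, smul_eq_mul] at e3
    have e4 : μ ω a - μ ω' a = δ ω * (linFn ω a - linFn ω' a) := by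
      rw [e3, ← mul_assoc, hδsq, one_mul]
    simp only [hc]
    rw [← e1]
    linear_combination e4
  obtain ⟨φ, hφ, hφa⟩ := h.exists_sep a ha
  have hφa' : linFn φ a ≠ 1 := by
    intro e
    apply hφa
    exact Units.ext e
  -- the cross term vanishes
  have hcross : ∑ ω : ↥(W₁ ⊔ W₂) →* ℂˣ, δ ω * linFn ω a * conj (c ω) = 0 := by
    have hagφ : ∀ ψ : ↥(W₁ ⊔ W₂) →* ℂˣ, AgreeOn₂ W₁ W₂ (ψ * φ) ψ := by
      intro ψ w hw
      rw [MonoidHom.mul_apply, hφ w hw, MonoidHom.one_apply, mul_one]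
    have e1 := Equiv.sum_comp (Equiv.mulRight φ)
      (fun ω : ↥(W₁ ⊔ W₂) →* ℂˣ => δ ω * linFn ω a * conj (c ω))
    simp only [Equiv.coe_mulRight] at e1
    have e2 : ∀ ω : ↥(W₁ ⊔ W₂) →* ℂˣ, δ (ω * φ) * linFn (ω * φ) a * conj (c (ω * φ))
        = linFn φ a * (δ ω * linFn ω a * conj (c ω)) := by
      intro ω
      rw [(hind _ _ (hagφ ω)).1, hcinv _ _ (hagφ ω), linFn_mul]
      ring
    simp only [e2] at e1
    rw [← Finset.mul_sum] at e1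
    have e3 : (linFn φ a - 1) * ∑ ω : ↥(W₁ ⊔ W₂) →* ℂˣ, δ ω * linFn ω a * conj (c ω) = 0 := by
      rw [sub_mul, e1, one_mul, sub_self]
    rcases mul_eq_zero.1 e3 with e4 | e4
    · exact absurd (sub_eq_zero.1 e4) hφa'
    · exact e4
  -- sum of squares over the family
  have hcardW : (Fintype.card (↥(W₁ ⊔ W₂) →* ℂˣ) : ℝ) = (Nat.card ↥(W₁ ⊔ W₂) : ℝ) := by
    have hcomm : ∀ x y : ↥(W₁ ⊔ W₂), x * y = y * x := by
      intro x y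
      apply Subtype.ext
      exact h.comm x.1 x.2 y.1 y.2
    rw [← card_linChar_of_comm hcomm, Nat.card_eq_fintype_card]
  have hS1 : ∑ ω : ↥(W₁ ⊔ W₂) →* ℂˣ, Complex.normSq (μ ω a)
      = (Nat.card ↥(W₁ ⊔ W₂) : ℝ) + ∑ ω : ↥(W₁ ⊔ W₂) →* ℂˣ, Complex.normSq (c ω) := by
    have e1 : ∀ ω : ↥(W₁ ⊔ W₂) →* ℂˣ, Complex.normSq (μ ω a)
        = 1 + Complex.normSq (c ω) + 2 * (δ ω * linFn ω a * conj (c ω)).re := by
      intro ω
      have : μ ω a = δ ω * linFn ω a + c ω := by simp only [hc]; ring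
      rw [this, Complex.normSq_add, Complex.normSq_mul, hδnorm, one_mul, Complex.normSq_eq_norm_sq,
        linFn_apply, linChar_norm]
      norm_num
    simp only [e1]
    rw [Finset.sum_add_distrib, Finset.sum_add_distrib, Finset.sum_const, Finset.card_univ,
      ← Finset.mul_sum, ← Complex.re_sum, hcross, nsmul_eq_mul, mul_one, hcardW]
    simp
  -- column orthogonality
  have hS2 : ∑ θ : Cfsg.IrrCharacter L, Complex.normSq ((θ : L → ℂ) a)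
      = (Nat.card ↥(W₁ ⊔ W₂) : ℝ) := by
    have e1 := column_orthogonality (a : L) (a : L)
    rw [if_pos (IsConj.refl _)] at e1
    have e2 : Nat.card (Subgroup.centralizer ({(a : L)} : Set L)) = Nat.card ↥(W₁ ⊔ W₂) := by
      rw [h.centralizer_eq' a.2 ha]
    rw [e2] at e1
    have e3 : ∀ θ : Cfsg.IrrCharacter L, (θ : L → ℂ) a * conj ((θ : L → ℂ) a)
        = ((Complex.normSq ((θ : L → ℂ) a) : ℝ) : ℂ) := fun θ => Complex.mul_conj _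
    simp only [e3] at e1
    rw [← Complex.ofReal_sum] at e1
    have e4 : ((Nat.card ↥(W₁ ⊔ W₂) : ℕ) : ℂ) = (((Nat.card ↥(W₁ ⊔ W₂) : ℕ) : ℝ) : ℂ) := by
      push_cast; rfl
    rw [e4] at e1
    exact Complex.ofReal_injective e1
  -- the image of the family
  set T : Finset (Cfsg.IrrCharacter L) :=
    Finset.univ.image (fun ω : ↥(W₁ ⊔ W₂) →* ℂˣ => (⟨μ ω, hirr ω⟩ : Cfsg.IrrCharacter L)) with hT
  have hS3 : ∑ θ ∈ T, Complex.normSq ((θ : L → ℂ) a)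
      = ∑ ω : ↥(W₁ ⊔ W₂) →* ℂˣ, Complex.normSq (μ ω a) := by
    rw [hT, Finset.sum_image]
    intro ω _ ω' _ e
    exact hμinj (congrArg Subtype.val e)
  have hS4 := Finset.sum_sdiff (Finset.subset_univ T)
    (f := fun θ : Cfsg.IrrCharacter L => Complex.normSq ((θ : L → ℂ) a))
  rw [hS2, hS3, hS1] at hS4
  have hn1 : 0 ≤ ∑ ω : ↥(W₁ ⊔ W₂) →* ℂˣ, Complex.normSq (c ω) :=
    Finset.sum_nonneg (fun _ _ => Complex.normSq_nonneg _)
  have hn2 : 0 ≤ ∑ θ ∈ Finset.univ \ T, Complex.normSq ((θ : L → ℂ) a) :=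
    Finset.sum_nonneg (fun _ _ => Complex.normSq_nonneg _)
  have hz1 : ∑ ω : ↥(W₁ ⊔ W₂) →* ℂˣ, Complex.normSq (c ω) = 0 := by linarith
  have hz2 : ∑ θ ∈ Finset.univ \ T, Complex.normSq ((θ : L → ℂ) a) = 0 := by linarith
  constructor
  · intro ω
    have := (Finset.sum_eq_zero_iff_of_nonneg (fun _ _ => Complex.normSq_nonneg _)).1 hz1 ω
      (Finset.mem_univ _)
    have hc0 : c ω = 0 := Complex.normSq_eq_zero.1 this
    simp only [hc] at hc0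
    exact sub_eq_zero.1 hc0
  · intro θ hθ hne
    have hmem : (⟨θ, hθ⟩ : Cfsg.IrrCharacter L) ∈ Finset.univ \ T := by
      rw [Finset.mem_sdiff]
      refine ⟨Finset.mem_univ _, ?_⟩
      rw [hT, Finset.mem_image]
      rintro ⟨ω, _, e⟩
      exact hne ω (congrArg Subtype.val e).symm
    have := (Finset.sum_eq_zero_iff_of_nonneg (fun _ _ => Complex.normSq_nonneg _)).1 hz2 _ hmem
    exact Complex.normSq_eq_zero.1 this

/-- The congruence `μ ω 1 ≡ δ ω` modulo `|W₁|`. -/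
theorem TypePHyp.family_congr (ω : ↥(W₁ ⊔ W₂) →* ℂˣ) :
    ∃ n : ℤ, μ ω 1 - δ ω = n * (Nat.card W₁ : ℂ) := by
  classical
  have hval := fun a ha => (h.family_values hW₁ μ δ hirr hδ hind hinj a ha).1
  have : Fintype W₁ := Fintype.ofFinite _
  have hχc : Cfsg.IsCharacter L (μ ω) := IsIrrCharacter.isCharacter (hirr ω)
  obtain ⟨n, hn⟩ := classInner_isCharacter_nat hχc (indFun_isCharacter W₁ _
    (IsIrrCharacter.isCharacter (linFn_isIrr (1 : W₁ →* ℂˣ))))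
  rw [classInner_indFun_right W₁ _ (μ ω) (IsCharacter.isClassFunction hχc), classInner_def] at hn
  set ω₁ : W₁ →* ℂˣ := ω.comp (Subgroup.inclusion (le_sup_left : W₁ ≤ W₁ ⊔ W₂)) with hω₁
  have hx : ∀ x : W₁, μ ω (x : L) * conj (linFn (1 : W₁ →* ℂˣ) x)
      = (if x = 1 then μ ω 1 - δ ω else 0) + δ ω * (ω₁ x : ℂ) := by
    intro x
    have e1 : conj (linFn (1 : W₁ →* ℂˣ) x) = 1 := by
      rw [linFn_apply, MonoidHom.one_apply, Units.val_one, map_one]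
    rw [e1, mul_one]
    by_cases hx1 : x = 1
    · rw [if_pos hx1, hx1, map_one, Units.val_one, mul_one, OneMemClass.coe_one]
      ring
    · rw [if_neg hx1, zero_add]
      have hx1' : (x : L) ≠ 1 := fun e => hx1 (Subtype.ext e)
      have := hval (Subgroup.inclusion (le_sup_left : W₁ ≤ W₁ ⊔ W₂) x) (h.not_mem_W₂ x.2 hx1') ω
      rw [linFn_apply] at this
      exact this
  simp only [hx] at hn
  rw [Finset.sum_add_distrib, Finset.sum_ite_eq' Finset.univ (1 : W₁), if_pos (Finset.mem_univ _),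
    ← Finset.mul_sum, sum_linChar ω₁] at hn
  have hne : (Nat.card W₁ : ℂ) ≠ 0 := by
    have : 0 < Nat.card W₁ := Nat.card_pos
    exact_mod_cast this.ne'
  have hcard : (Fintype.card W₁ : ℂ) = (Nat.card W₁ : ℂ) := by rw [Nat.card_eq_fintype_card]
  rw [hcard] at hn
  have key : μ ω 1 - δ ω + δ ω * (if ω₁ = 1 then (Nat.card W₁ : ℂ) else 0)
      = (n : ℂ) * (Nat.card W₁ : ℂ) := by
    rw [← hn]
    field_simp
  by_cases h1 : ω₁ = 1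
  · rw [if_pos h1] at key
    rcases hδ ω with e | e
    · refine ⟨(n : ℤ) - 1, ?_⟩
      rw [e] at key ⊢
      push_cast
      linear_combination key
    · refine ⟨(n : ℤ) + 1, ?_⟩
      rw [e] at key ⊢
      push_cast
      linear_combination key
  · rw [if_neg h1, mul_zero, add_zero] at key
    exact ⟨(n : ℤ), by rw [key]; push_cast; ring⟩

end Family

end TypeP

end Cfsg.Agent.Lib.Helper11
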