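import Mathlib
import Cfsg.Prelude.Def_Characters
import Cfsg.Agent.Lib.Helper11.TypePChar
import Cfsg.Agent.Lib.Helper11.Clifford
import Cfsg.Agent.Lib.Helper11.Clifford3
import Cfsg.Agent.Lib.Helper7.Gallagher
import Cfsg.Agent.Lib.Helper7.VanishDiv
import Cfsg.Agent.Lib.Helper2.PermLemma

/-!
Peterfalvi (4.5)-like: in a group `L = K ⋊ W₁` of "type P", the restrictions to `K` of the exceptional
characters `μ ω` are irreducible, `W₁`-invariant, and induce to `∑_λ μ (ω λ)`.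
-/

set_option autoImplicit false

namespace Cfsg.Agent.Lib.Helper11

open Cfsg.Agent.Lib.Helper2 Cfsg.Agent.Lib.Helper7
open scoped ComplexConjugate

section Infl

variable {L : Type*} [Group L] (K W₁ W₂ : Subgroup L) [hK : K.Normal]

/-- inflation of a linear character of `L ⧸ K` -/
def infl (lam : (L ⧸ K) →* ℂˣ) : L →* ℂˣ := lam.comp (QuotientGroup.mk' K)

/-- restriction to `W₁ ⊔ W₂` of the inflation of a linear character of `L ⧸ K` -/
def reslam (lam : (L ⧸ K) →* ℂˣ) : ↥(W₁ ⊔ W₂) →* ℂˣ := (infl K lam).comp (W₁ ⊔ W₂).subtype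

theorem infl_apply (lam : (L ⧸ K) →* ℂˣ) (g : L) : infl K lam g = lam (QuotientGroup.mk' K g) := rfl

theorem reslam_apply (lam : (L ⧸ K) →* ℂˣ) (w : ↥(W₁ ⊔ W₂)) :
    reslam K W₁ W₂ lam w = infl K lam (w : L) := rfl

theorem infl_of_mem (lam : (L ⧸ K) →* ℂˣ) {g : L} (hg : g ∈ K) : infl K lam g = 1 := by
  have : QuotientGroup.mk' K g = 1 := (QuotientGroup.eq_one_iff g).2 hg
  rw [infl_apply, this, map_one]

theorem reslam_agree (hle : W₂ ≤ K) (lam : (L ⧸ K) →* ℂˣ) :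
    AgreeOn₂ W₁ W₂ (reslam K W₁ W₂ lam) 1 := by
  intro w hw
  rw [reslam_apply, infl_of_mem K lam (hle hw), MonoidHom.one_apply]

theorem reslam_one : reslam K W₁ W₂ 1 = 1 := rfl

theorem linFn_infl_isClassFunction (lam : (L ⧸ K) →* ℂˣ) :
    Cfsg.IsClassFunction L (linFn (infl K lam)) := by
  intro g x
  rw [linFn_apply, linFn_apply, map_mul, map_mul, map_inv, mul_comm, ← mul_assoc, inv_mul_cancel,
    one_mul]

end Infl

section TypeP

variable {L : Type*} [Group L] [Fintype L] {K W₁ W₂ : Subgroup L} [hK : K.Normal]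

omit [Fintype L] in
theorem TypePHyp.reslam_injective (h : TypePHyp K W₁ W₂) :
    Function.Injective (reslam K W₁ W₂) := by
  intro lam lam' e
  refine MonoidHom.ext (fun q => ?_)
  obtain ⟨g, rfl⟩ := QuotientGroup.mk'_surjective K q
  obtain ⟨k, hk, v, hv, rfl⟩ := h.dec_top g
  have := DFunLike.congr_fun e ⟨v, Subgroup.mem_sup_left hv⟩
  simp only [reslam_apply, infl_apply] at this
  have hk1 : QuotientGroup.mk' K k = 1 := (QuotientGroup.eq_one_iff k).2 hk
  rw [map_mul, hk1, one_mul, this]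

theorem TypePHyp.index_K (h : TypePHyp K W₁ W₂) : K.index = Nat.card W₁ := by
  have h1 := Subgroup.card_mul_index K
  have h2 := Subgroup.card_mul_index W₁
  rw [← h.card_K, mul_comm] at h2
  have hpos : 0 < Nat.card K := Nat.card_pos
  apply Nat.eq_of_mul_eq_mul_left hpos
  rw [h1, ← h2]

theorem TypePHyp.sum_infl (h : TypePHyp K W₁ W₂) [Fintype ((L ⧸ K) →* ℂˣ)] (g : L)
    [Decidable (g ∈ K)] :
    ∑ lam : (L ⧸ K) →* ℂˣ, ((infl K lam g : ℂˣ) : ℂ)
      = if g ∈ K then (Nat.card W₁ : ℂ) else 0 := by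
  classical
  have := sum_linChar_apply h.quot_comm (QuotientGroup.mk' K g)
  simp only [infl_apply]
  rw [this]
  have e1 : (QuotientGroup.mk' K g = 1) ↔ g ∈ K := QuotientGroup.eq_one_iff g
  have e2 : Nat.card (L ⧸ K) = Nat.card W₁ := h.index_K
  by_cases hg : g ∈ K
  · rw [if_pos hg, if_pos (e1.2 hg), e2]
  · rw [if_neg hg, if_neg (fun e => hg (e1.1 e))]

/-- Inducing the restriction to `K` of a class function of `L`. -/
theorem TypePHyp.indFun_res (h : TypePHyp K W₁ W₂) [Fintype ((L ⧸ K) →* ℂˣ)] (χ : L → ℂ)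
    (hχ : Cfsg.IsClassFunction L χ) :
    Cfsg.indFun K (fun k : K => χ k)
      = ∑ lam : (L ⧸ K) →* ℂˣ, linFn (infl K lam) * χ := by
  classical
  funext g
  rw [Finset.sum_apply]
  simp only [Pi.mul_apply, linFn_apply]
  rw [← Finset.sum_mul, h.sum_infl g]
  by_cases hg : g ∈ K
  · rw [if_pos hg]
    have := indFun_apply_of_normal K (fun k : K => χ k) ⟨g, hg⟩
    simp only [conjFn_restrict K hχ] at this
    rw [this, Finset.sum_const, Finset.card_univ, nsmul_eq_mul, ← Nat.card_eq_fintype_card,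
      ← Subgroup.card_mul_index K, h.index_K]
    have hne : (Nat.card K : ℂ) ≠ 0 := by
      have : 0 < Nat.card K := Nat.card_pos
      exact_mod_cast this.ne'
    push_cast
    field_simp
  · rw [if_neg hg, zero_mul]
    exact indFun_apply_of_not_mem K _ hg

/-- `a - b = c - d` for irreducible characters with `a ≠ b` forces `a = c`. -/
theorem eq_of_sub_eq_sub_irr {a b c d : L → ℂ} (ha : Cfsg.IsIrrCharacter L a)
    (hb : Cfsg.IsIrrCharacter L b) (hc : Cfsg.IsIrrCharacter L c) (hd : Cfsg.IsIrrCharacter L d)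
    (hab : a ≠ b) (e : a - b = c - d) : a = c := by
  classical
  have h1 : Cfsg.classInner (a - b) a = 1 := by
    rw [classInner_sub_left, classInner_irr_eq_ite ha ha, classInner_irr_eq_ite hb ha,
      if_pos rfl, if_neg (fun e' => hab e'.symm), sub_zero]
  rw [e, classInner_sub_left, classInner_irr_eq_ite hc ha, classInner_irr_eq_ite hd ha] at h1
  by_contra hne
  rw [if_neg (fun e' => hne e'.symm)] at h1
  split_ifs at h1 <;> norm_num at h1

variable [Fintype ↥(W₁ ⊔ W₂)]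

omit hK in
theorem TypePHyp.exists_nontrivial (h : TypePHyp K W₁ W₂) (hW₁ : W₁ ≠ ⊥) :
    ∃ φ₀ : ↥(W₁ ⊔ W₂) →* ℂˣ, AgreeOn₂ W₁ W₂ φ₀ 1 ∧ φ₀ ≠ 1 := by
  obtain ⟨x₁, hx₁1⟩ := (Subgroup.ne_bot_iff_exists_ne_one.1 hW₁)
  have hx₁' : (x₁ : L) ≠ 1 := fun e => hx₁1 (Subtype.ext e)
  obtain ⟨φ₀, hφ₀, hφ₀ne⟩ := h.exists_sep ⟨x₁.1, Subgroup.mem_sup_left x₁.2⟩
    (h.not_mem_W₂ x₁.2 hx₁')
  refine ⟨φ₀, hφ₀, ?_⟩
  intro e
  apply hφ₀ne
  rw [e, MonoidHom.one_apply]

theorem indDiff_twist (lam : (L ⧸ K) →* ℂˣ) (ω ω' : ↥(W₁ ⊔ W₂) →* ℂˣ) :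
    indDiff W₁ W₂ (ω * reslam K W₁ W₂ lam) (ω' * reslam K W₁ W₂ lam)
      = indDiff W₁ W₂ ω ω' * linFn (infl K lam) := by
  unfold indDiff
  rw [← indFun_mul_restrict (W₁ ⊔ W₂) _ _ (linFn_infl_isClassFunction K lam)]
  congr 1
  funext w
  simp only [Pi.sub_apply, Pi.mul_apply, linFn_mul]
  rw [linFn_apply (reslam K W₁ W₂ lam), reslam_apply, linFn_apply (infl K lam)]
  ring

section Family

variable (h : TypePHyp K W₁ W₂) (hW₁ : W₁ ≠ ⊥)
  (μ : (↥(W₁ ⊔ W₂) →* ℂˣ) → (L → ℂ)) (δ : (↥(W₁ ⊔ W₂) →* ℂˣ) → ℂ)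
  (hirr : ∀ ω, Cfsg.IsIrrCharacter L (μ ω)) (hδ : ∀ ω, δ ω = 1 ∨ δ ω = -1)
  (hind : ∀ ω ω', AgreeOn₂ W₁ W₂ ω ω' →
    δ ω = δ ω' ∧ indDiff W₁ W₂ ω ω' = δ ω • (μ ω - μ ω'))
  (hinj : ∀ ω ω', AgreeOn₂ W₁ W₂ ω ω' → μ ω = μ ω' → ω = ω')

include h hW₁ hirr hδ hind hinj

/-- Twisting by a linear character of `L ⧸ K` permutes the exceptional characters. -/
theorem TypePHyp.family_twist (lam : (L ⧸ K) →* ℂˣ) (ω : ↥(W₁ ⊔ W₂) →* ℂˣ) :
    μ (ω * reslam K W₁ W₂ lam) = linFn (infl K lam) * μ ω := by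
  classical
  obtain ⟨φ₀, hφ₀, hφ₀1⟩ := h.exists_nontrivial hW₁
  set r := reslam K W₁ W₂ lam with hr
  have hrag : AgreeOn₂ W₁ W₂ r 1 := reslam_agree K W₁ W₂ h.le lam
  obtain ⟨ω', hω'⟩ : ∃ ω', ω' = ω * φ₀ := ⟨_, rfl⟩
  have hag : AgreeOn₂ W₁ W₂ ω ω' := by
    intro w hw
    rw [hω', MonoidHom.mul_apply, hφ₀ w hw, MonoidHom.one_apply, mul_one]
  have hne : ω ≠ ω' := by
    intro e'
    apply hφ₀1
    have : ω * 1 = ω * φ₀ := (mul_one _).trans (e'.trans hω')
    exact (mul_left_cancel this).symm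
  have hagr : ∀ ψ : ↥(W₁ ⊔ W₂) →* ℂˣ, AgreeOn₂ W₁ W₂ ψ (ψ * r) := by
    intro ψ w hw
    rw [MonoidHom.mul_apply, hrag w hw, MonoidHom.one_apply, mul_one]
  have hag' : AgreeOn₂ W₁ W₂ (ω * r) (ω' * r) := by
    intro w hw
    rw [MonoidHom.mul_apply, MonoidHom.mul_apply, hag w hw]
  have e1 := (hind (ω * r) (ω' * r) hag').2
  rw [indDiff_twist, (hind ω ω' hag).2, ← (hind ω (ω * r) (hagr ω)).1] at e1
  have hδ0 : δ ω ≠ 0 := by rcases hδ ω with e' | e' <;> rw [e'] <;> norm_num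
  have e2 : linFn (infl K lam) * μ ω - linFn (infl K lam) * μ ω' = μ (ω * r) - μ (ω' * r) := by
    have e3 : δ ω • ((μ ω - μ ω') * linFn (infl K lam)) = δ ω • (μ (ω * r) - μ (ω' * r)) := by
      rw [← e1]
      funext g
      simp only [Pi.smul_apply, Pi.mul_apply, smul_eq_mul, Pi.sub_apply]
      ring
    have e4 := smul_right_injective (L → ℂ) hδ0 e3
    rw [← e4]
    funext g
    simp only [Pi.mul_apply, Pi.sub_apply]
    ring
  have hirr1 : Cfsg.IsIrrCharacter L (linFn (infl K lam) * μ ω) :=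
    isIrrCharacter_twist (infl K lam) (hirr ω)
  have hirr2 : Cfsg.IsIrrCharacter L (linFn (infl K lam) * μ ω') :=
    isIrrCharacter_twist (infl K lam) (hirr ω')
  have hne' : linFn (infl K lam) * μ ω ≠ linFn (infl K lam) * μ ω' := by
    intro e'
    apply hne
    apply hinj ω ω' hag
    funext g
    have := congrFun e' g
    simp only [Pi.mul_apply, linFn_apply] at this
    exact mul_left_cancel₀ (Units.ne_zero _) this
  exact (eq_of_sub_eq_sub_irr hirr1 hirr2 (hirr _) (hirr _) hne' e2).symm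

theorem TypePHyp.family_twist_eq_iff (lam : (L ⧸ K) →* ℂˣ) (ω : ↥(W₁ ⊔ W₂) →* ℂˣ) :
    μ (ω * reslam K W₁ W₂ lam) = μ ω ↔ lam = 1 := by
  have hμinj := h.family_injective hW₁ μ δ hirr hδ hind hinj
  constructor
  · intro e
    have e1 : ω * reslam K W₁ W₂ lam = ω := hμinj e
    have e2 : reslam K W₁ W₂ lam = reslam K W₁ W₂ 1 := by
      refine MonoidHom.ext (fun w => ?_)
      have e3 := DFunLike.congr_fun e1 w
      rw [MonoidHom.mul_apply] at e3
      rw [reslam_one, MonoidHom.one_apply]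
      exact mul_left_cancel (e3.trans (mul_one _).symm)
    exact h.reslam_injective e2
  · intro e
    rw [e, reslam_one]
    have : ω * 1 = ω :=
      MonoidHom.ext (fun w => by rw [MonoidHom.mul_apply, MonoidHom.one_apply, mul_one])
    exact congrArg μ this

/-- Induction of the restriction to `K` of an exceptional character. -/
theorem TypePHyp.family_ind_res [Fintype ((L ⧸ K) →* ℂˣ)] (ω : ↥(W₁ ⊔ W₂) →* ℂˣ) :
    Cfsg.indFun K (fun k : K => μ ω k)
      = ∑ lam : (L ⧸ K) →* ℂˣ, μ (ω * reslam K W₁ W₂ lam) := by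
  rw [h.indFun_res (μ ω) (IsCharacter.isClassFunction (IsIrrCharacter.isCharacter (hirr ω)))]
  apply Finset.sum_congr rfl
  intro lam _
  exact (h.family_twist hW₁ μ δ hirr hδ hind hinj lam ω).symm

/-- The restriction to `K` of an exceptional character is irreducible. -/
theorem TypePHyp.family_res_irr [Fintype K] (ω : ↥(W₁ ⊔ W₂) →* ℂˣ) :
    Cfsg.IsIrrCharacter K (fun k : K => μ ω k) := by
  classical
  have : Fintype ((L ⧸ K) →* ℂˣ) := Fintype.ofFinite _
  have hchar : Cfsg.IsCharacter L (μ ω) := IsIrrCharacter.isCharacter (hirr ω)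
  apply isIrrCharacter_of_classInner_self_eq_one (IsCharacter.restrict hchar K)
  rw [← classInner_indFun_left K (fun k : K => μ ω k) (μ ω) (IsCharacter.isClassFunction hchar),
    h.family_ind_res hW₁ μ δ hirr hδ hind hinj ω, classInner_sum_left]
  have e1 : ∀ lam : (L ⧸ K) →* ℂˣ, Cfsg.classInner (μ (ω * reslam K W₁ W₂ lam)) (μ ω)
      = if lam = 1 then 1 else 0 := by
    intro lam
    rw [classInner_irr_eq_ite (hirr _) (hirr _)]
    by_cases e : lam = 1
    · rw [if_pos e, if_pos ((h.family_twist_eq_iff hW₁ μ δ hirr hδ hind hinj lam ω).2 e)]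
    · rw [if_neg e, if_neg (fun e' => e ((h.family_twist_eq_iff hW₁ μ δ hirr hδ hind hinj lam ω).1 e'))]
  simp only [e1]
  rw [Finset.sum_ite_eq' Finset.univ (1 : (L ⧸ K) →* ℂˣ), if_pos (Finset.mem_univ _)]

end Family

end TypeP

end Cfsg.Agent.Lib.Helper11
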