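import Mathlib
import Cfsg.Prelude.Def_Characters
import Cfsg.Agent.Lib.Helper11.TypePClifford
import Cfsg.Agent.Lib.Helper11.LinCharProd
import Cfsg.Agent.S1512

/-!
Peterfalvi (4.5)-like: the `W₁`-invariant irreducible characters of `K` in a group `L = K ⋊ W₁` of
"type P".
-/

set_option autoImplicit false

namespace Cfsg.Agent.Lib.Helper11

open Cfsg.Agent.Lib.Helper2 Cfsg.Agent.Lib.Helper7
open scoped ComplexConjugate

variable {L : Type*} [Group L] [Fintype L] {K W₁ W₂ : Subgroup L} [hK : K.Normal]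

/-- The number of irreducible characters of `K` fixed by `x ∈ W₁ \ {1}` is at most `|W₂|`. -/
theorem TypePHyp.card_fixed_le (h : TypePHyp K W₁ W₂) [Fintype K] {x : L} (hx : x ∈ W₁)
    (hx1 : x ≠ 1) :
    Nat.card {χ : Cfsg.IrrCharacter K // conjFn K x (χ : K → ℂ) = χ} ≤ Nat.card W₂ := by
  have e1 : Nat.card {χ : Cfsg.IrrCharacter K // conjFn K x (χ : K → ℂ) = χ}
      = Nat.card {χ : Cfsg.IrrCharacter K //
          (χ : K → ℂ) ∘ (MulAut.conjNormal x : K ≃* K) = (χ : K → ℂ)} := by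
    apply Nat.card_congr
    apply Equiv.subtypeEquivRight
    intro χ
    rw [conjFn_eq_comp]
  rw [e1, ← brauer_permutation]
  have hcop : Nat.Coprime (orderOf x) (Nat.card K) := by
    rw [h.card_K]
    exact Nat.Coprime.coprime_dvd_left (Subgroup.orderOf_dvd_natCard W₁ hx) h.hall
  have hC : ∀ y ∈ Subgroup.zpowers x, y ≠ 1 →
      K ⊓ Subgroup.centralizer ({y} : Set L) = W₂ := by
    intro y hy hy1
    exact h.cent y ((Subgroup.zpowers_le.2 hx) hy) hy1
  exact Cfsg.Agent.S1512.result K W₂ x hx1 hcop hC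

/-- Peterfalvi (4.5)-like main statement. -/
theorem TypePHyp.clifford_main (h : TypePHyp K W₁ W₂) (hW₁ : W₁ ≠ ⊥) [Fintype K] :
    (∀ θ : K → ℂ, Cfsg.IsIrrCharacter K θ → (∃ x ∈ W₁, conjFn K x θ ≠ θ) →
      Cfsg.IsIrrCharacter L (Cfsg.indFun K θ)) ∧
    Nat.card {θ : Cfsg.IrrCharacter K // ∀ x ∈ W₁, conjFn K x (θ : K → ℂ) = θ} = Nat.card W₂ ∧
    (∀ θ : K → ℂ, Cfsg.IsIrrCharacter K θ → (∀ x ∈ W₁, conjFn K x θ = θ) →
      ∃ C : Finset (L → ℂ), C.card = Nat.card W₁ ∧ (∀ μ ∈ C, Cfsg.IsIrrCharacter L μ) ∧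
        Cfsg.indFun K θ = ∑ μ ∈ C, μ) := by
  classical
  have : Fintype ↥(W₁ ⊔ W₂) := Fintype.ofFinite _
  have : Fintype ((L ⧸ K) →* ℂˣ) := Fintype.ofFinite _
  obtain ⟨μ, δ, hirr, hδ, hind, hinj⟩ := h.exists_family hW₁
  have hμinj := h.family_injective hW₁ μ δ hirr hδ hind hinj
  have hresirr := h.family_res_irr hW₁ μ δ hirr hδ hind hinj
  have hindres := h.family_ind_res hW₁ μ δ hirr hδ hind hinj
  have htwiff := h.family_twist_eq_iff hW₁ μ δ hirr hδ hind hinj
  have hinv : ∀ ω : ↥(W₁ ⊔ W₂) →* ℂˣ, ∀ x ∈ W₁,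
      conjFn K x (fun k : K => μ ω k) = fun k : K => μ ω k :=
    fun ω x _ => conjFn_restrict K
      (IsCharacter.isClassFunction (IsIrrCharacter.isCharacter (hirr ω))) x
  -- the map from characters of `W₂`
  set ext : (W₂ →* ℂˣ) → (↥(W₁ ⊔ W₂) →* ℂˣ) := liftRight W₁ W₂ h.disj h.comm12 with hext
  set Φ : (W₂ →* ℂˣ) → {θ : Cfsg.IrrCharacter K // ∀ x ∈ W₁, conjFn K x (θ : K → ℂ) = θ} :=
    fun η => ⟨⟨fun k : K => μ (ext η) k, hresirr (ext η)⟩, hinv (ext η)⟩ with hΦ
  have hΦinj : Function.Injective Φ := by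
    intro η η' e
    have e1 : (fun k : K => μ (ext η) k) = fun k : K => μ (ext η') k := by
      have := congrArg (fun t => ((t.1 : Cfsg.IrrCharacter K) : K → ℂ)) e
      exact this
    have e2 : ∑ lam : (L ⧸ K) →* ℂˣ, μ (ext η * reslam K W₁ W₂ lam)
        = ∑ lam : (L ⧸ K) →* ℂˣ, μ (ext η' * reslam K W₁ W₂ lam) := by
      rw [← hindres, ← hindres, e1]
    have e3 := congrArg (fun F => Cfsg.classInner F (μ (ext η))) e2
    simp only [classInner_sum_left] at e3
    have e4 : ∀ lam : (L ⧸ K) →* ℂˣ,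
        Cfsg.classInner (μ (ext η * reslam K W₁ W₂ lam)) (μ (ext η)) = if lam = 1 then 1 else 0 := by
      intro lam
      rw [classInner_irr_eq_ite (hirr _) (hirr _)]
      by_cases e : lam = 1
      · rw [if_pos e, if_pos ((htwiff lam (ext η)).2 e)]
      · rw [if_neg e, if_neg (fun e' => e ((htwiff lam (ext η)).1 e'))]
    simp only [e4] at e3
    rw [Finset.sum_ite_eq' Finset.univ (1 : (L ⧸ K) →* ℂˣ), if_pos (Finset.mem_univ _)] at e3
    -- some term on the right is nonzero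
    have e5 : ∃ lam : (L ⧸ K) →* ℂˣ, μ (ext η' * reslam K W₁ W₂ lam) = μ (ext η) := by
      by_contra hno
      push Not at hno
      have : ∑ lam : (L ⧸ K) →* ℂˣ,
          Cfsg.classInner (μ (ext η' * reslam K W₁ W₂ lam)) (μ (ext η)) = 0 := by
        apply Finset.sum_eq_zero
        intro lam _
        rw [classInner_irr_eq_ite (hirr _) (hirr _), if_neg (hno lam)]
      rw [this] at e3
      exact one_ne_zero e3
    obtain ⟨lam, e6⟩ := e5
    have e7 : ext η' * reslam K W₁ W₂ lam = ext η := hμinj e6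
    refine MonoidHom.ext (fun b => ?_)
    have e8 := DFunLike.congr_fun e7 ⟨b, Subgroup.mem_sup_right b.2⟩
    rw [MonoidHom.mul_apply, reslam_agree K W₁ W₂ h.le lam _ b.2, MonoidHom.one_apply, mul_one,
      hext, liftRight_of_mem_right W₁ W₂ h.disj h.comm12 η' _ b.2,
      liftRight_of_mem_right W₁ W₂ h.disj h.comm12 η _ b.2] at e8
    exact e8.symm
  -- cardinalities
  have hcomm₂ : ∀ a b : W₂, a * b = b * a := by
    intro a b
    apply Subtype.ext
    exact TypePHyp.comm_of_cyclic W₂ h.cyc₂ a.1 a.2 b.1 b.2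
  have hcard₂ : Nat.card (W₂ →* ℂˣ) = Nat.card W₂ := card_linChar_of_comm hcomm₂
  obtain ⟨x₁, hx₁1⟩ := (Subgroup.ne_bot_iff_exists_ne_one.1 hW₁)
  have hx₁' : (x₁ : L) ≠ 1 := fun e => hx₁1 (Subtype.ext e)
  -- inclusion of the all-fixed characters into the `x`-fixed ones
  have hincl : ∀ (x : L) (hx : x ∈ W₁), Function.Injective
      (fun t : {θ : Cfsg.IrrCharacter K // ∀ x ∈ W₁, conjFn K x (θ : K → ℂ) = θ} =>
        (⟨t.1, t.2 x hx⟩ : {χ : Cfsg.IrrCharacter K // conjFn K x (χ : K → ℂ) = χ})) := by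
    intro x _ t t' e
    apply Subtype.ext
    have := congrArg (fun s : {χ : Cfsg.IrrCharacter K // conjFn K x (χ : K → ℂ) = χ} => s.1) e
    exact this
  have hle1 : Nat.card W₂ ≤
      Nat.card {θ : Cfsg.IrrCharacter K // ∀ x ∈ W₁, conjFn K x (θ : K → ℂ) = θ} := by
    rw [← hcard₂]
    exact Nat.card_le_card_of_injective Φ hΦinj
  have hle2 : Nat.card {θ : Cfsg.IrrCharacter K // ∀ x ∈ W₁, conjFn K x (θ : K → ℂ) = θ}
      ≤ Nat.card W₂ :=
    (Nat.card_le_card_of_injective _ (hincl x₁.1 x₁.2)).trans (h.card_fixed_le x₁.2 hx₁')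
  have hcardAll : Nat.card {θ : Cfsg.IrrCharacter K // ∀ x ∈ W₁, conjFn K x (θ : K → ℂ) = θ}
      = Nat.card W₂ := le_antisymm hle2 hle1
  have hΦbij : Function.Bijective Φ :=
    hΦinj.bijective_of_nat_card_le (by rw [hcardAll, hcard₂])
  -- a character fixed by one nonidentity element of `W₁` is fixed by all of `W₁`
  have hfixall : ∀ θ : K → ℂ, Cfsg.IsIrrCharacter K θ → ∀ v ∈ W₁, v ≠ 1 → conjFn K v θ = θ →
      ∀ x ∈ W₁, conjFn K x θ = θ := by
    intro θ hθ v hv hv1 hfix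
    have hbij := (hincl v hv).bijective_of_nat_card_le
      (by rw [hcardAll]; exact h.card_fixed_le hv hv1)
    obtain ⟨t, ht⟩ := hbij.2 ⟨⟨θ, hθ⟩, hfix⟩
    have e : ((t.1 : Cfsg.IrrCharacter K) : K → ℂ) = θ := by
      have := congrArg (fun s => ((s.1 : Cfsg.IrrCharacter K) : K → ℂ)) ht
      exact this
    rw [← e]
    exact t.2
  refine ⟨?_, hcardAll, ?_⟩
  · -- (a)
    rintro θ hθ ⟨x, hx, hxθ⟩
    have hno : ∀ v ∈ W₁, v ≠ 1 → conjFn K v θ ≠ θ := by
      intro v hv hv1 hfix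
      exact hxθ (hfixall θ hθ v hv hv1 hfix x hx)
    have hθcf : Cfsg.IsClassFunction K θ := IsCharacter.isClassFunction (IsIrrCharacter.isCharacter hθ)
    have hstab : ∀ g : L, conjFn K g θ = θ ↔ g ∈ K := by
      intro g
      constructor
      · intro hg
        obtain ⟨k, hk, v, hv, rfl⟩ := h.dec_top g
        rw [conjFn_mul, conjFn_of_mem K hθcf hk] at hg
        by_cases hv1 : v = 1
        · rw [hv1, mul_one]; exact hk
        · exact absurd hg (hno v hv hv1)
      · intro hg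
        exact conjFn_of_mem K hθcf hg
    apply isIrrCharacter_of_classInner_self_eq_one
      (indFun_isCharacter K θ (IsIrrCharacter.isCharacter hθ))
    rw [classInner_indFun_self_of_irr K hθ]
    have e : Nat.card {g : L // conjFn K g θ = θ} = Nat.card K :=
      Nat.card_congr (Equiv.subtypeEquivRight hstab)
    rw [e]
    have hne : (Nat.card K : ℂ) ≠ 0 := by
      have : 0 < Nat.card K := Nat.card_pos
      exact_mod_cast this.ne'
    exact div_self hne
  · -- (c)
    intro θ hθ hfix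
    obtain ⟨η, hη⟩ := hΦbij.2 ⟨⟨θ, hθ⟩, hfix⟩
    have e : (fun k : K => μ (ext η) k) = θ := by
      have := congrArg (fun s => ((s.1 : Cfsg.IrrCharacter K) : K → ℂ)) hη
      exact this
    have hinjC : Function.Injective
        (fun lam : (L ⧸ K) →* ℂˣ => μ (ext η * reslam K W₁ W₂ lam)) := by
      intro lam lam' e'
      have e1 : ext η * reslam K W₁ W₂ lam = ext η * reslam K W₁ W₂ lam' := hμinj e'
      exact h.reslam_injective (mul_left_cancel e1)
    refine ⟨Finset.univ.image (fun lam : (L ⧸ K) →* ℂˣ => μ (ext η * reslam K W₁ W₂ lam)),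
      ?_, ?_, ?_⟩
    · rw [Finset.card_image_of_injective _ hinjC, Finset.card_univ, ← Nat.card_eq_fintype_card,
        card_linChar_of_comm h.quot_comm]
      exact h.index_K
    · intro χ hχ
      rw [Finset.mem_image] at hχ
      obtain ⟨lam, _, rfl⟩ := hχ
      exact hirr _
    · rw [← e, hindres, Finset.sum_image (fun a _ b _ e' => hinjC e')]

end Cfsg.Agent.Lib.Helper11
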