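import Mathlib
import Cfsg.Prelude.Def_GeometricClasses
import Cfsg.Agent.Lib.Helper7.AschDefs
import Cfsg.Agent.Lib.Helper24.AschUDefs
import Cfsg.Agent.Lib.Helper2.FormRedU
import Cfsg.Agent.Lib.Helper18.S5663U2
import Cfsg.Agent.Lib.Helper9.HubCorA1
import Cfsg.Agent.Lib.Helper11.AschCliffDefs
import Cfsg.Agent.Lib.Helper11.FormCliffDefs
import Cfsg.Agent.Lib.Helper11.U4Defs
import Cfsg.Agent.Lib.Helper7.S5663U4TH
import Cfsg.Agent.Lib.Helper7.S5663U4TCJ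
import Cfsg.Agent.Lib.Helper13.S5663U4TSW

/-!
# S5663, block U4: BRIDGE of the unitary tensor normalisation U4T (helper11)

The generic pieces U4T-H, U4T-SW, U4T-PW, U4T-WR, U4T-CJ of the sub-skeleton restated with their exact signatures from the
landed deliveries (helper7, helper13).
-/

set_option autoImplicit false

namespace Cfsg.Agent.Lib.Helper11.U4Bridge

open Matrix Cfsg Cfsg.Geo Cfsg.Agent.Lib.Helper7.Asch Cfsg.Agent.Lib.Helper24.AschU
  Cfsg.Agent.Lib.Helper2.FormRedU Cfsg.Agent.Lib.Helper11.Cliff Cfsg.Agent.Lib.Helper11.FCliff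
  Cfsg.Agent.Lib.Helper11.U4
open scoped MatrixGroups Kronecker

variable {F : Type*} [Field F] [Fintype F] {n q : ℕ}

/-- **U4T-H** (hermitian normalisation).  `Γ = G₁ ⊗ₖ G₂` satisfies `Γ p r = (Γ r p) ^ q` (evaluate `hherm` at `Pi.single`s),
i.e. `G₁ i k * G₂ j l = (G₁ k i) ^ q * (G₂ l j) ^ q`.  Fix `j₀ l₀` with `G₂ j₀ l₀ ≠ 0` (then `(G₂ l₀ j₀) ^ q ≠ 0`, else
`G₁ = 0`) and put `lam := G₂ j₀ l₀ / (G₂ l₀ j₀) ^ q`: `(G₁ k i) ^ q = lam * G₁ i k` and `(G₂ l j) ^ q = lam⁻¹ * G₂ j l`; applying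
`^ q` again, `lam * lam ^ q = 1`.  Hilbert 90 (`lam = μ / μ ^ q`: e.g. `μ := c + lam * c ^ q` for a `c` making it non-zero, or
via `exists_norm_eq`): `A := μ • G₁`, `B := μ⁻¹ • G₂` are hermitian (`A k i ^ q = A i k`) and `A ⊗ₖ B = G₁ ⊗ₖ G₂`.
`f₁ := formOfGram (· ^ q) A`, `f₂ := formOfGram (· ^ q) B`: `IsUnitaryFormPow` (`herm` from hermitian Gram +
`sum_pow_q`, `pow_card_sq`; non-degenerate from `IsUnit det`), `gramMatrix f₁ = A`. -/
theorem exists_unitary_factors (hF : Fintype.card F = q ^ 2) {d s : ℕ} (hd : 1 ≤ d) (hs : 1 ≤ s)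
    (G₁ : Matrix (Fin d) (Fin d) F) (G₂ : Matrix (Fin s) (Fin s) F) (h1 : IsUnit G₁.det) (h2 : IsUnit G₂.det)
    (hherm : ∀ x y : Fin d × Fin s → F, formOfGram (fun a : F => a ^ q) (G₁ ⊗ₖ G₂) x y =
      (formOfGram (fun a : F => a ^ q) (G₁ ⊗ₖ G₂) y x) ^ q) :
    ∃ (f₁ : (Fin d → F) → (Fin d → F) → F) (f₂ : (Fin s → F) → (Fin s → F) → F),
      IsUnitaryFormPow q f₁ ∧ IsUnitaryFormPow q f₂ ∧ gramMatrix f₁ ⊗ₖ gramMatrix f₂ = G₁ ⊗ₖ G₂ :=
  Cfsg.Agent.Lib.Helper7.S5663U4TH.exists_unitary_factors hF hd hs G₁ G₂ h1 h2 hherm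

/-- **U4T-SW** (swapping the factors of a tensor form structure; generic in `σ`, `f`).  Reindex the double sum in
`formOfGram` along `Equiv.prodComm`; `(x ∘ Equiv.prodComm _ _) ∘ e = x ∘ (e.trans (Equiv.prodComm _ _))`. -/
theorem isTensorFormStructure_swap (σ : F → F) (f : (Fin n → F) → (Fin n → F) → F) {d s : ℕ}
    (f₁ : (Fin d → F) → (Fin d → F) → F) (f₂ : (Fin s → F) → (Fin s → F) → F)
    (e : Fin n ≃ Fin d × Fin s) (P : GL (Fin n) F) (hT : IsTensorFormStructure σ f f₁ f₂ e P) :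
    IsTensorFormStructure σ f f₂ f₁ (e.trans (Equiv.prodComm (Fin d) (Fin s))) P :=
  Cfsg.Agent.Lib.Helper13.S5663U4TSW.isTensorFormStructure_swap σ f f₁ f₂ e P hT

/-- **U4T-PW** (two equal factors = tensor power with `t = 2`; generic in `σ`, `f`).  Reindex along
`finTwoArrowEquiv (Fin k)`; `∏ i : Fin 2, G (a i) (b i) = G (a 0) (b 0) * G (a 1) (b 1)` (`Fin.prod_univ_two`). -/
theorem isTensorPowerFormStructure_two (σ : F → F) (f : (Fin n → F) → (Fin n → F) → F) {k : ℕ}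
    (f₁ : (Fin k → F) → (Fin k → F) → F) (e : Fin n ≃ Fin k × Fin k) (P : GL (Fin n) F)
    (hT : IsTensorFormStructure σ f f₁ f₁ e P) :
    IsTensorPowerFormStructure σ f f₁ (e.trans (finTwoArrowEquiv (Fin k)).symm) P :=
  Cfsg.Agent.Lib.Helper13.S5663U4TSW.isTensorPowerFormStructure_two σ f f₁ e P hT

/-- **U4T-WR** (= `Helper8.S5630I4TENS3.tensorProductSubgroup_le_tensorWreath` with the explicit `e'`; copy its proof). -/
theorem tensorProductSubgroup_le_tensorWreath' {k : ℕ} (e : Fin n ≃ Fin k × Fin k) (P : GL (Fin n) F) :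
    tensorProductSubgroup k k e P ≤ tensorWreathSubgroup k 2 (e.trans (finTwoArrowEquiv (Fin k)).symm) P :=
  Cfsg.Agent.Lib.Helper13.S5663U4TSW.tensorProductSubgroup_le_tensorWreath' e P

/-- **U4T-CJ** (absorbing an equivalence of the second factor into `P`; generic in `σ`, `f`).  `P' := P * T` with
`T := glReindex e.symm (1 ⊗ₖ C⁻¹)` (an element of the image of `kroneckerSubgroup`): `P' *ᵥ (x ∘ e) = P *ᵥ (((1 ⊗ₖ C⁻¹) *ᵥ x) ∘ e)`
and `formOfGram σ (G₁ ⊗ₖ G₂) ((1 ⊗ C⁻¹) x) ((1 ⊗ C⁻¹) y) = formOfGram σ (G₁ ⊗ₖ G₁) x y` because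
`G₂ = Cᵀ G₁ σ(C)` (from `hC`, needs `σ` multiplicative and additive: state it for a ring hom `σ`);
conjugating the Kronecker subgroup by one of its elements does not change it. -/
theorem exists_conj_equal_factors (σ : F →+* F) (f : (Fin n → F) → (Fin n → F) → F) {k : ℕ}
    (f₁ f₂ : (Fin k → F) → (Fin k → F) → F) (e : Fin n ≃ Fin k × Fin k) (P : GL (Fin n) F)
    (hT : IsTensorFormStructure σ f f₁ f₂ e P) (C : GL (Fin k) F)
    (hlin₁ : ∀ x y : Fin k → F, f₁ x y = formOfGram σ (gramMatrix f₁) x y)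
    (hC : ∀ x y : Fin k → F, f₂ x y = f₁ ((C : Matrix (Fin k) (Fin k) F) *ᵥ x) ((C : Matrix (Fin k) (Fin k) F) *ᵥ y)) :
    ∃ P' : GL (Fin n) F, IsTensorFormStructure σ f f₁ f₁ e P' ∧
      tensorProductSubgroup k k e P' = tensorProductSubgroup k k e P :=
  Cfsg.Agent.Lib.Helper7.S5663U4TCJ.exists_conj_equal_factors σ f f₁ f₂ e P hT C hlin₁ hC

end Cfsg.Agent.Lib.Helper11.U4Bridge
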