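import Mathlib
import Cfsg.Prelude.Def_GeometricClasses
import Cfsg.Agent.Lib.Helper7.AschDefs
import Cfsg.Agent.Lib.Helper24.AschUDefs
import Cfsg.Agent.Lib.Helper2.FormRedU
import Cfsg.Agent.Lib.Helper18.S5663U2
import Cfsg.Agent.Lib.Helper9.HubCorA1
import Cfsg.Agent.Lib.Helper1.GUS1
import Cfsg.Agent.Lib.Helper8.S5630I4TENS3
import Cfsg.Agent.Lib.Helper11.AschCliffDefs
import Cfsg.Agent.Lib.Helper11.FormCliffDefs
import Cfsg.Agent.Lib.Helper11.FormCliffMain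
import Cfsg.Agent.Lib.Helper11.U4Defs
import Cfsg.Agent.Lib.Helper11.U4Bridge
import Cfsg.Agent.Lib.Helper26.FCliffGRAMADJ

/-!
# S5663, block U4: assembly of `cliffordU` from the two corner pieces U4T-22 and U4T-92, taken as hypotheses (helper11)
-/

set_option autoImplicit false

namespace Cfsg.Agent.Lib.Helper11.U4MainP

open Matrix Cfsg Cfsg.Geo Cfsg.Agent.Lib.Helper7.Asch Cfsg.Agent.Lib.Helper24.AschU
  Cfsg.Agent.Lib.Helper2.FormRedU Cfsg.Agent.Lib.Helper11.Cliff Cfsg.Agent.Lib.Helper11.FCliff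
  Cfsg.Agent.Lib.Helper11.U4 Cfsg.Agent.Lib.Helper11.U4Bridge Cfsg.Agent.Lib.Helper11.FCliffMain
open scoped MatrixGroups Kronecker

variable {F : Type*} [Field F] [Fintype F] {n q : ℕ}

/-- **U4T-LT**: different dimensions -> class 4 (swap the factors if necessary) -/
theorem inClassU_of_tensor_ne (hF : Fintype.card F = q ^ 2) (H : Subgroup (GL (Fin n) F)) (hHU : H ≤ GU n F q)
    {d s : ℕ} (hd : 2 ≤ d) (hs : 2 ≤ s) (hne : d ≠ s) (e : Fin n ≃ Fin d × Fin s) (P : GL (Fin n) F)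
    (f₁ : (Fin d → F) → (Fin d → F) → F) (f₂ : (Fin s → F) → (Fin s → F) → F)
    (hf₁ : IsUnitaryFormPow q f₁) (hf₂ : IsUnitaryFormPow q f₂)
    (hT : IsTensorFormStructure (fun x : F => x ^ q) (hermForm n F q) f₁ f₂ e P)
    (hH : H ≤ tensorProductSubgroup d s e P) : InClassU n q H := by
  rcases Nat.lt_or_ge d s with h | h
  · exact InClassU.of_tensor H hHU d s e P f₁ f₂ hd h hf₁ hf₂ hT hH
  · have h' : s < d := lt_of_le_of_ne h (Ne.symm hne)
    rw [Cfsg.Agent.Lib.Helper8.S5630I4TENS3.tensorProductSubgroup_swap] at hH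
    exact InClassU.of_tensor H hHU s d _ P f₂ f₁ hs h' hf₂ hf₁
      (isTensorFormStructure_swap _ _ f₁ f₂ e P hT) hH

/-- **U4T-EQ**: equal dimensions `k ≥ 3`, `(q, k) ≠ (2, 3)` -> class 7 with `t = 2` -/
theorem inClassU_of_tensor_eq (hF : Fintype.card F = q ^ 2) (H : Subgroup (GL (Fin n) F)) (hHU : H ≤ GU n F q)
    {k : ℕ} (hk : 3 ≤ k) (hex : ¬ (q = 2 ∧ k = 3)) (e : Fin n ≃ Fin k × Fin k) (P : GL (Fin n) F)
    (f₁ f₂ : (Fin k → F) → (Fin k → F) → F)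
    (hf₁ : IsUnitaryFormPow q f₁) (hf₂ : IsUnitaryFormPow q f₂)
    (hT : IsTensorFormStructure (fun x : F => x ^ q) (hermForm n F q) f₁ f₂ e P)
    (hH : H ≤ tensorProductSubgroup k k e P) : InClassU n q H := by
  obtain ⟨P₁, hP₁⟩ := Cfsg.Agent.Lib.Helper1.GUS.exists_std hF f₁ hf₁
  obtain ⟨P₂, hP₂⟩ := Cfsg.Agent.Lib.Helper1.GUS.exists_std hF f₂ hf₂
  have hC : ∀ x y : Fin k → F, f₂ x y =
      f₁ (((P₁⁻¹ * P₂ : GL (Fin k) F) : Matrix (Fin k) (Fin k) F) *ᵥ x)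
        (((P₁⁻¹ * P₂ : GL (Fin k) F) : Matrix (Fin k) (Fin k) F) *ᵥ y) := by
    intro x y
    rw [← hP₁, Matrix.mulVec_mulVec, Matrix.mulVec_mulVec, ← Units.val_mul, ← mul_assoc, mul_inv_cancel, one_mul,
      hP₂]
  have hlin := (Cfsg.Agent.Lib.Helper11.U4.rsForm_of_unitary hF hf₁)
  obtain ⟨P', hT', hP'⟩ := exists_conj_equal_factors (frobH hF) (hermForm n F q) f₁ f₂ e P hT (P₁⁻¹ * P₂)
    (fun x y => Cfsg.Agent.Lib.Helper26.FCliffGRAMADJ.eq_formOfGram hlin x y)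
    hC
  rw [← hP'] at hH
  exact InClassU.of_tensorWreath H hHU k 2 _ P' f₁ hk le_rfl hex hf₁
    (isTensorPowerFormStructure_two _ _ f₁ e P' hT')
    (hH.trans (tensorProductSubgroup_le_tensorWreath' e P'))

/-- **U4** Clifford trichotomy with forms, modulo the two corner pieces `h22` (U4T-22, `n = 4`) and `h33` (U4T-92, `n = 9`, `q = 2`) -/
theorem cliffordU_of (hF : Fintype.card F = q ^ 2) (hn : 3 ≤ n) (H N : Subgroup (GL (Fin n) F))
    (hHU : H ≤ GU n F q) (hH : AbsIrr H) (hNH : N ≤ H) (hnorm : NormBy H N)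
    (h22 : ∀ (e : Fin n ≃ Fin 2 × Fin 2) (P : GL (Fin n) F) (f₁ f₂ : (Fin 2 → F) → (Fin 2 → F) → F),
      IsUnitaryFormPow q f₁ → IsUnitaryFormPow q f₂ →
      IsTensorFormStructure (fun x : F => x ^ q) (hermForm n F q) f₁ f₂ e P →
      H ≤ tensorProductSubgroup 2 2 e P → InClassU n q H)
    (h33 : q = 2 → ∀ (e : Fin n ≃ Fin 3 × Fin 3) (P : GL (Fin n) F) (f₁ f₂ : (Fin 3 → F) → (Fin 3 → F) → F),
      IsUnitaryFormPow q f₁ → IsUnitaryFormPow q f₂ →
      IsTensorFormStructure (fun x : F => x ^ q) (hermForm n F q) f₁ f₂ e P →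
      H ≤ tensorProductSubgroup 3 3 e P → InClassU n q H) :
    InClassU n q H ∨ N ≤ scalars (Fin n) F ∨ AbsIrr N := by
  have hf := rsForm_hermForm (n := n) hF
  have hHf := fixesForm_of_le_GU H hHU
  rcases clifford_form hn hf H N hH hNH hnorm hHf with hout | h | h
  swap
  · exact Or.inr (Or.inl h)
  swap
  · exact Or.inr (Or.inr h)
  left
  rcases hout with ⟨t, m, D, hD, hle⟩ | ⟨m, D, hD, hsing, hle⟩ | ⟨r, K, hr, hK, hadj, hle⟩ |
    ⟨d, s, e, P, Y, G₁, G₂, hd, hs, hYa, hXY, hG1, hG2, hinvY, hle, hform⟩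
  · exact InClassU.of_decomposition H hHU m D hD hle
  · have h2 := Cfsg.Agent.Lib.Helper9.HubCor.mul_eq_of_isMDecomposition D hD
    exact InClassU.of_singularPair H hHU m D h2 hD hsing hle
  · exact Cfsg.Agent.Lib.Helper18.S5663U2.inClassU_of_field hF (by omega) H hHU r K hr hK hadj hle
  · have hform' : ∀ x y : Fin d × Fin s → F,
        hermForm n F q ((P : Matrix (Fin n) (Fin n) F) *ᵥ (x ∘ e)) ((P : Matrix (Fin n) (Fin n) F) *ᵥ (y ∘ e)) =
          formOfGram (fun a : F => a ^ q) (G₁ ⊗ₖ G₂) x y := hform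
    have hherm : ∀ x y : Fin d × Fin s → F, formOfGram (fun a : F => a ^ q) (G₁ ⊗ₖ G₂) x y =
        (formOfGram (fun a : F => a ^ q) (G₁ ⊗ₖ G₂) y x) ^ q := by
      intro x y
      rw [← hform' x y, ← hform' y x]
      exact Cfsg.Agent.Lib.Helper18.S5663U2.hermForm_swap hF _ _
    obtain ⟨f₁, f₂, hf₁, hf₂, hgram⟩ := exists_unitary_factors hF (by omega) (by omega) G₁ G₂ hG1 hG2 hherm
    have hT : IsTensorFormStructure (fun x : F => x ^ q) (hermForm n F q) f₁ f₂ e P :=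
      ⟨1, one_ne_zero, fun x y => by rw [one_mul, hgram]; exact hform' x y⟩
    by_cases hds : d = s
    · subst hds
      rcases Nat.lt_or_ge d 3 with h3 | h3
      · have h2 : d = 2 := by omega
        subst h2
        exact h22 e P f₁ f₂ hf₁ hf₂ hT hle
      · by_cases hex : q = 2 ∧ d = 3
        · obtain ⟨hq, hd3⟩ := hex
          subst hd3
          exact h33 hq e P f₁ f₂ hf₁ hf₂ hT hle
        · exact inClassU_of_tensor_eq hF H hHU h3 hex e P f₁ f₂ hf₁ hf₂ hT hle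
    · exact inClassU_of_tensor_ne hF H hHU hd hs hds e P f₁ f₂ hf₁ hf₂ hT hle

end Cfsg.Agent.Lib.Helper11.U4MainP
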