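import Mathlib
import Cfsg.Agent.Lib.Helper11.U4MainP
import Cfsg.Agent.Lib.Helper28.S5663U4T22
import Cfsg.Agent.Lib.Helper24.AschU92

/-!
# S5663, block U4: `cliffordU`, the Clifford trichotomy with forms for the unitary hub (helper11)

`U4MainP.cliffordU_of` with the two corner pieces U4T-22 (helper28) and U4T-92 (helper24) plugged in.
-/

set_option autoImplicit false

namespace Cfsg.Agent.Lib.Helper11.U4Main

open Matrix Cfsg Cfsg.Geo Cfsg.Agent.Lib.Helper7.Asch Cfsg.Agent.Lib.Helper24.AschU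
open scoped MatrixGroups Kronecker

variable {F : Type*} [Field F] [Fintype F] {n q : ℕ}

/-- **U4** Clifford trichotomy with forms (exact signature of `notes/S5663Skel_helper24.lean.txt`) -/
theorem cliffordU (hF : Fintype.card F = q ^ 2) (hn : 3 ≤ n) (H N : Subgroup (GL (Fin n) F))
    (hHU : H ≤ GU n F q) (hH : AbsIrr H) (hNH : N ≤ H) (hnorm : NormBy H N) :
    InClassU n q H ∨ N ≤ scalars (Fin n) F ∨ AbsIrr N :=
  Cfsg.Agent.Lib.Helper11.U4MainP.cliffordU_of hF hn H N hHU hH hNH hnorm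
    (fun e P f₁ f₂ h1 h2 hT hle =>
      Cfsg.Agent.Lib.Helper28.S5663U4T22.inClassU_of_tensor22 hF H hHU e P f₁ f₂ h1 h2 hT hle)
    (fun hq e P f₁ f₂ h1 h2 hT hle =>
      Cfsg.Agent.Lib.Helper24.U92.inClassU_of_tensor33 hF hq H hHU e P f₁ f₂ h1 h2 hT hle)

end Cfsg.Agent.Lib.Helper11.U4Main
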