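import Mathlib

/-!
# S2091-[CL-A] FALLBACK COPY (helper23's `Lib/Helper23/U62MCLA.lean` is THE piece; this one lives in its own namespace)

`σ : Γ → P` a central extension, `c ∈ P` an involution which is a commutator `[x, y]` with `x` an involution in
`oddCent c` (the subgroup generated by the elements of odd order of `C_P(c)`).  Then `τ = [x̃, ỹ]` is an
involution of `Γ` lifting `c`, every lift of an element of `oddCent c` commutes with `τ`, and the conjugates
`g i = γ i τ (γ i)⁻¹` (`γ i` a lift of `gw i`) are canonical lifts of the conjugates `s i = gw i c (gw i)⁻¹`: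
they inherit the commutation and braid relations certified by memberships in `oddCent c`.
-/

set_option autoImplicit false

namespace Cfsg.Agent.Lib.Helper11.U62MCLAFallback

section CLA

variable {P Γ : Type*} [Group P] [Group Γ]

/-- the subgroup generated by the elements of odd order of the centralizer of `c` -/
def oddCent (c : P) : Subgroup P :=
  Subgroup.closure {u | u * c = c * u ∧ ∃ m : ℕ, Odd m ∧ u ^ m = 1}

namespace H11CLA

/-- a lift of an element of odd order centralising `c = σ ct` (`c` an involution) commutes with `ct` -/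
theorem gen_commute (σ : Γ →* P) (hk : σ.ker ≤ Subgroup.center Γ) (vt ct : Γ)
    (hcc : σ ct * σ ct = 1) (hvc : σ vt * σ ct = σ ct * σ vt) (m : ℕ) (hm : Odd m)
    (hvm : σ vt ^ m = 1) : vt * ct = ct * vt := by
  obtain ⟨a, ha⟩ : ∃ a, a = vt * ct * vt⁻¹ * ct⁻¹ := ⟨_, rfl⟩
  have haker : a ∈ σ.ker := by
    rw [MonoidHom.mem_ker, ha]
    simp only [map_mul, map_inv]
    rw [hvc, mul_inv_cancel_right, mul_inv_cancel]
  have hac : ∀ g : Γ, g * a = a * g := Subgroup.mem_center_iff.mp (hk haker)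
  have hconj : vt * ct * vt⁻¹ = a * ct := by rw [ha]; group
  have hakc : ∀ (k : ℕ) (g : Γ), g * a ^ k = a ^ k * g := fun k g =>
    (Commute.pow_right (show Commute g a from hac g) k).eq
  have hpow : ∀ k : ℕ, vt ^ k * ct * (vt ^ k)⁻¹ = a ^ k * ct := by
    intro k
    induction k with
    | zero => simp
    | succ k ih =>
      calc vt ^ (k + 1) * ct * (vt ^ (k + 1))⁻¹
          = vt * (vt ^ k * ct * (vt ^ k)⁻¹) * vt⁻¹ := by rw [pow_succ']; group
        _ = vt * (a ^ k * ct) * vt⁻¹ := by rw [ih]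
        _ = a ^ k * (vt * ct * vt⁻¹) := by
          rw [← mul_assoc vt, hakc k vt]
          simp only [mul_assoc]
        _ = a ^ (k + 1) * ct := by rw [hconj, ← mul_assoc, ← pow_succ]
  have ham : a ^ m = 1 := by
    have hker : vt ^ m ∈ σ.ker := by rw [MonoidHom.mem_ker, map_pow, hvm]
    have hc := Subgroup.mem_center_iff.mp (hk hker)
    have h1 := hpow m
    rw [← hc ct, mul_inv_cancel_right] at h1
    exact right_eq_mul.mp h1
  have ha2 : a ^ 2 = 1 := by
    have hker : ct * ct ∈ σ.ker := by rw [MonoidHom.mem_ker, map_mul, hcc]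
    have hc := Subgroup.mem_center_iff.mp (hk hker)
    have h1 : (a * ct) * (a * ct) = a ^ 2 * (ct * ct) := by
      calc (a * ct) * (a * ct) = a * (ct * a) * ct := by simp only [mul_assoc]
        _ = a * (a * ct) * ct := by rw [hac ct]
        _ = a ^ 2 * (ct * ct) := by rw [pow_two]; simp only [mul_assoc]
    have h2 : (a * ct) * (a * ct) = ct * ct := by
      rw [← hconj]
      calc vt * ct * vt⁻¹ * (vt * ct * vt⁻¹) = vt * (ct * ct) * vt⁻¹ := by group
        _ = ct * ct := by rw [hc vt, mul_inv_cancel_right]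
    rw [h1] at h2
    exact mul_eq_right.mp h2
  have ha1 : a = 1 := by
    obtain ⟨k, rfl⟩ := hm
    rw [pow_succ, pow_mul, ha2, one_pow, one_mul] at ham
    exact ham
  have h3 : vt * ct = a * ct * vt := by rw [ha]; group
  rw [h3, ha1, one_mul]

/-- every lift of an element of `oddCent c` commutes with every lift of the involution `c` -/
theorem lift_commute (σ : Γ →* P) (hs : Function.Surjective σ) (hk : σ.ker ≤ Subgroup.center Γ)
    (c : P) (hcc : c * c = 1) {u : P} (hu : u ∈ oddCent c) (ut ct : Γ) (hut : σ ut = u)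
    (hct : σ ct = c) : ut * ct = ct * ut := by
  have hle : oddCent c ≤ (Subgroup.centralizer {ct}).map σ := by
    unfold oddCent
    rw [Subgroup.closure_le]
    rintro v ⟨hvc, m, hm, hvm⟩
    obtain ⟨vt, rfl⟩ := hs v
    refine ⟨vt, ?_, rfl⟩
    rw [SetLike.mem_coe, Subgroup.mem_centralizer_iff]
    intro h hh
    rw [Set.mem_singleton_iff] at hh
    subst hh
    rw [← hct] at hvc hcc
    exact (gen_commute σ hk vt h hcc hvc m hm hvm).symm
  obtain ⟨v, hv, hvu⟩ := hle hu
  have hz : v⁻¹ * ut ∈ σ.ker := by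
    rw [MonoidHom.mem_ker, map_mul, map_inv, hvu, hut, inv_mul_cancel]
  have hzc := Subgroup.mem_center_iff.mp (hk hz)
  have hvc : ct * v = v * ct := Subgroup.mem_centralizer_iff.mp hv ct rfl
  calc ut * ct = v * ((v⁻¹ * ut) * ct) := by group
    _ = v * (ct * (v⁻¹ * ut)) := by rw [hzc ct]
    _ = (v * ct) * (v⁻¹ * ut) := by rw [mul_assoc]
    _ = ct * v * (v⁻¹ * ut) := by rw [hvc]
    _ = ct * ut := by group

theorem conj_conj (a b t : Γ) : a * (b * t * b⁻¹) * a⁻¹ = (a * b) * t * (a * b)⁻¹ := by group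

end H11CLA

open H11CLA in
/-- [CL-A] -/
theorem exists_coxeter_lifts (σ : Γ →* P) (hs : Function.Surjective σ)
    (hk : σ.ker ≤ Subgroup.center Γ) (c : P) (hcc : c * c = 1)
    (x y : P) (hx : x ∈ oddCent c) (hxy : x * y * x⁻¹ * y⁻¹ = c) (hxx : x * x = 1)
    {ι : Type*} (s gw : ι → P) (hgw : ∀ i, gw i * c * (gw i)⁻¹ = s i) :
    ∃ g : ι → Γ, (∀ i, σ (g i) = s i) ∧ (∀ i, g i * g i = 1) ∧
      (∀ i j, (gw j)⁻¹ * s i * gw j ∈ oddCent c → g i * g j = g j * g i) ∧
      (∀ i j, (gw j)⁻¹ * s i * s j * gw i ∈ oddCent c → g i * g j * g i = g j * g i * g j) := by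
  classical
  obtain ⟨xt, hxt⟩ := hs x
  obtain ⟨yt, hyt⟩ := hs y
  obtain ⟨w, hwdef⟩ : ∃ w, w = yt * xt⁻¹ * yt⁻¹ := ⟨_, rfl⟩
  obtain ⟨τ, hτdef⟩ : ∃ τ, τ = xt * w := ⟨_, rfl⟩
  have hτ : σ τ = c := by
    rw [hτdef, hwdef]
    simp only [map_mul, map_inv, hxt, hyt]
    rw [← hxy]
    group
  -- every lift of an element of `oddCent c` commutes with `τ`
  have hcomm : ∀ {u : P}, u ∈ oddCent c → ∀ ut : Γ, σ ut = u → ut * τ = τ * ut :=
    fun hu ut hut => lift_commute σ hs hk c hcc hu ut τ hut hτ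
  -- `τ` is an involution
  have hτ2 : τ * τ = 1 := by
    have hxτ := hcomm hx xt hxt
    have hx2ker : xt * xt ∈ σ.ker := by rw [MonoidHom.mem_ker, map_mul, hxt, hxx]
    have hx2c := Subgroup.mem_center_iff.mp (hk hx2ker)
    have hw : xt * w = w * xt := by
      apply mul_left_cancel (a := xt)
      rw [hτdef] at hxτ
      rw [hxτ, mul_assoc]
    have hww : w * w = (xt * xt)⁻¹ := by
      calc w * w = yt * (xt * xt)⁻¹ * yt⁻¹ := by rw [hwdef]; group
        _ = (xt * xt)⁻¹ := by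
          have h1 : yt * (xt * xt)⁻¹ = (xt * xt)⁻¹ * yt :=
            (Commute.inv_right (show Commute yt (xt * xt) from hx2c yt)).eq
          rw [h1, mul_inv_cancel_right]
    calc τ * τ = xt * (w * xt) * w := by rw [hτdef]; simp only [mul_assoc]
      _ = xt * (xt * w) * w := by rw [← hw]
      _ = (xt * xt) * (w * w) := by simp only [mul_assoc]
      _ = 1 := by rw [hww, mul_inv_cancel]
  -- the key lemma
  have hL : ∀ g1 g2 : Γ, (σ g2)⁻¹ * σ g1 ∈ oddCent c → g1 * τ * g1⁻¹ = g2 * τ * g2⁻¹ := by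
    intro g1 g2 h
    have h1 := hcomm h (g2⁻¹ * g1) (by simp only [map_mul, map_inv])
    calc g1 * τ * g1⁻¹ = g2 * (g2⁻¹ * g1 * τ) * g1⁻¹ := by group
      _ = g2 * (τ * (g2⁻¹ * g1)) * g1⁻¹ := by rw [h1]
      _ = g2 * τ * g2⁻¹ := by group
  -- the lifts
  choose γ hγ using fun i => hs (gw i)
  obtain ⟨g, hg⟩ : ∃ g : ι → Γ, ∀ i, g i = γ i * τ * (γ i)⁻¹ := ⟨fun i => _, fun i => rfl⟩
  have hσg : ∀ i, σ (g i) = s i := by
    intro i
    rw [hg i]
    simp only [map_mul, map_inv, hγ, hτ]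
    exact hgw i
  have hsq : ∀ i, g i * g i = 1 := by
    intro i
    rw [hg i]
    calc γ i * τ * (γ i)⁻¹ * (γ i * τ * (γ i)⁻¹) = γ i * (τ * τ) * (γ i)⁻¹ := by group
      _ = 1 := by rw [hτ2, mul_one, mul_inv_cancel]
  have hinv : ∀ i, (g i)⁻¹ = g i := fun i => inv_eq_of_mul_eq_one_left (hsq i)
  have hssq : ∀ i, (s i)⁻¹ = s i := by
    intro i
    apply inv_eq_of_mul_eq_one_left
    rw [← hgw i]
    calc gw i * c * (gw i)⁻¹ * (gw i * c * (gw i)⁻¹) = gw i * (c * c) * (gw i)⁻¹ := by group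
      _ = 1 := by rw [hcc, mul_one, mul_inv_cancel]
  refine ⟨g, hσg, hsq, ?_, ?_⟩
  · intro i j hij
    have key : (g i * γ j) * τ * (g i * γ j)⁻¹ = γ j * τ * (γ j)⁻¹ := by
      apply hL
      have e : (σ (γ j))⁻¹ * σ (g i * γ j) = (gw j)⁻¹ * s i * gw j := by
        rw [map_mul, hσg i, hγ j, mul_assoc]
      rw [e]
      exact hij
    rw [← mul_inv_eq_iff_eq_mul, hg j, conj_conj]
    exact key
  · intro i j hij
    have key : (g j * γ i) * τ * (g j * γ i)⁻¹ = (g i * γ j) * τ * (g i * γ j)⁻¹ := by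
      apply hL
      have e : (σ (g i * γ j))⁻¹ * σ (g j * γ i) = (gw j)⁻¹ * s i * s j * gw i := by
        rw [map_mul, map_mul, hσg i, hσg j, hγ i, hγ j, mul_inv_rev, hssq i]
        simp only [mul_assoc]
      rw [e]
      exact hij
    calc g i * g j * g i = g i * g j * (g i)⁻¹ := by rw [hinv i]
      _ = (g i * γ j) * τ * (g i * γ j)⁻¹ := by rw [hg j, conj_conj]
      _ = (g j * γ i) * τ * (g j * γ i)⁻¹ := key.symm
      _ = g j * g i * (g j)⁻¹ := by rw [hg i, conj_conj]
      _ = g j * g i * g j := by rw [hinv j]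

end CLA

end Cfsg.Agent.Lib.Helper11.U62MCLAFallback
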