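import Cfsg.Agent.Lib.Helper7.U62M.Defs

/-!
# S2091 tool (helper7's `PSU₆(2)` multiplier front): word identities in `P` from scalar matrices (helper11)

A code word whose product of helper4's unitary matrices `U62Mat.DQ` is a scalar matrix evaluates to `1` in the
presented group `P ≅ PSU₆(2)` (`U62Iso.exists_iso` is injective and maps the word to the class of a central
element of `SU₆(2)`).
-/

set_option autoImplicit false
set_option maxRecDepth 100000

namespace Cfsg.Agent.Lib.Helper7.U62M

open Cfsg Cfsg.Agent.Helper4.TC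

/-- a code word whose matrix is scalar evaluates to `1` in `P` -/
theorem P_word_eq_one (b : List ℕ)
    (h : isScal (MatD.evM (dlM U62Mat.DQ U62Mat.DQ) (b.map dec)) = true) :
    evc (PresentedGroup.of (rels := RP)) dec b = 1 := by
  obtain ⟨φ, hφ, hbij⟩ := U62Iso.exists_iso
  apply hbij.1
  rw [map_one, Schur.map_evc]
  have h1 : (fun a => φ (PresentedGroup.of (rels := RP) a)) =
      fun a => (QuotientGroup.mk' (Subgroup.center ↥(Cfsg.SU 6 Cfsg.Agent.Lib.Helper6.FFour.K4 2)))
        (suOf U62Mat.DQ U62Mat.hinvQ U62Mat.hunitQ a) := by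
    funext a
    exact hφ a
  rw [h1, ← Schur.map_evc]
  exact (QuotientGroup.eq_one_iff _).mpr (ev_su_mem_center U62Mat.DQ U62Mat.hinvQ U62Mat.hunitQ _ h)

end Cfsg.Agent.Lib.Helper7.U62M
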