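import Mathlib
import Cfsg.Prelude.Def_LieExceptional
import Cfsg.Agent.Lib.Helper11.ZassInvol2
import Cfsg.Agent.Lib.Helper7.ClassCount
import Cfsg.Agent.Lib.Helper7.Orbits2

/-!
# Conjugacy class counting in Zassenhaus groups
-/

set_option autoImplicit false

namespace Cfsg.Agent.Lib.Helper11

open Cfsg MulAction
open Cfsg.Agent.Lib.Helper3.Zass

section ClassSum

attribute [local instance] Classical.propDecidable

/-- Burnside's lemma for a conjugation invariant subset: the sum of the centralizer orders is
the number of classes times the group order. -/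
theorem sum_card_centralizer_eq {G : Type*} [Group G] [Fintype G] (q : G → Prop)
    (hq : ∀ x y : G, IsConj x y → q x → q y) :
    ∑ g : G, (if q g then Nat.card (Subgroup.centralizer ({g} : Set G)) else 0) =
      Nat.card {c : ConjClasses G // ∃ g : G, ConjClasses.mk g = c ∧ q g} * Nat.card G := by
  classical
  haveI : Fintype {c : ConjClasses G // ∃ g : G, ConjClasses.mk g = c ∧ q g} :=
    Fintype.ofFinite _
  let f : {x : G // q x} → {c : ConjClasses G // ∃ g : G, ConjClasses.mk g = c ∧ q g} :=
    fun x => ⟨ConjClasses.mk x.1, x.1, rfl, x.2⟩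
  have h0 : ∑ g : G, (if q g then Nat.card (Subgroup.centralizer ({g} : Set G)) else 0) =
      ∑ x : {x : G // q x}, Nat.card (Subgroup.centralizer ({x.1} : Set G)) := by
    rw [← Finset.sum_filter]
    exact Finset.sum_subtype (Finset.univ.filter q) (by simp)
      (fun g => Nat.card (Subgroup.centralizer ({g} : Set G)))
  rw [h0, ← Finset.sum_fiberwise (s := Finset.univ) (g := f)]
  have h2 : ∀ c : {c : ConjClasses G // ∃ g : G, ConjClasses.mk g = c ∧ q g},
      ∑ x ∈ Finset.univ.filter (fun x : {x : G // q x} => f x = c),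
        Nat.card (Subgroup.centralizer ({x.1} : Set G)) = Nat.card G := by
    rintro ⟨c, g, rfl, hg⟩
    have h3 : ∀ x ∈ Finset.univ.filter (fun x : {x : G // q x} =>
        f x = ⟨ConjClasses.mk g, g, rfl, hg⟩),
        Nat.card (Subgroup.centralizer ({x.1} : Set G)) =
          Nat.card (Subgroup.centralizer ({g} : Set G)) := by
      intro x hx
      rw [Finset.mem_filter] at hx
      have h4 : ConjClasses.mk x.1 = ConjClasses.mk g := congrArg Subtype.val hx.2
      exact Cfsg.Agent.Lib.Helper7.card_centralizer_eq_of_isConj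
        (ConjClasses.mk_eq_mk_iff_isConj.mp h4).symm
    rw [Finset.sum_congr rfl h3, Finset.sum_const, smul_eq_mul,
      ← Cfsg.Agent.Lib.Helper7.card_isConj_mul_card_centralizer g]
    congr 1
    rw [← zc_card_subtype]
    apply Nat.card_congr
    refine
      { toFun := fun x => ⟨x.1.1, ?_⟩
        invFun := fun y => ⟨⟨y.1, hq g y.1 y.2 hg⟩, ?_⟩
        left_inv := fun x => rfl
        right_inv := fun y => rfl }
    · have h5 : ConjClasses.mk x.1.1 = ConjClasses.mk g := congrArg Subtype.val x.2
      exact (ConjClasses.mk_eq_mk_iff_isConj.mp h5).symm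
    · apply Subtype.ext
      exact (ConjClasses.mk_eq_mk_iff_isConj.mpr y.2).symm
  rw [Finset.sum_congr rfl (fun c _ => h2 c), Finset.sum_const, Finset.card_univ, smul_eq_mul,
    Nat.card_eq_fintype_card (α := {c : ConjClasses G // ∃ g : G, ConjClasses.mk g = c ∧ q g})]

end ClassSum

section ZassClasses

attribute [local instance] Classical.propDecidable

variable {G Ω : Type*} [Group G] [MulAction G Ω] [Fintype Ω]

/-- The number of fixed points is a class function. -/
theorem zfix_conj (x g : G) : zfix Ω (x * g * x⁻¹) = zfix Ω g := by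
  unfold zfix
  refine Finset.card_bij' (fun c _ => x⁻¹ • c) (fun c _ => x • c) ?_ ?_ ?_ ?_
  · intro c hc
    simp only [Finset.mem_filter, Finset.mem_univ, true_and] at hc ⊢
    have h1 : x⁻¹ • ((x * g * x⁻¹) • c) = x⁻¹ • c := by rw [hc]
    rw [mul_smul, mul_smul, inv_smul_smul] at h1
    exact h1
  · intro c hc
    simp only [Finset.mem_filter, Finset.mem_univ, true_and] at hc ⊢
    rw [mul_smul, mul_smul, inv_smul_smul, hc]
  · intro c _; simp
  · intro c _; simp

theorem zfix_isConj {g g' : G} (h : IsConj g g') : zfix Ω g' = zfix Ω g := by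
  obtain ⟨x, rfl⟩ := isConj_iff.mp h
  exact zfix_conj x g

/-- `2 A₂ + n (n-1) = |G|` where `A₂` is the number of elements with exactly two fixed
points. -/
theorem zc_two_count [Fintype G] (hZ : IsZassenhausGroup G Ω) {a b : Ω} (hab : a ≠ b) :
    2 * Nat.card {g : G // zfix Ω g = 2} + Fintype.card Ω * (Fintype.card Ω - 1) =
      Fintype.card G := by
  classical
  set n := Fintype.card Ω with hn
  have hn3 : 3 ≤ n := zc_three_le_card hZ hab
  have hpt : ∀ g : G, (zfix Ω g) ^ 2 = zfix Ω g +
      ((if g = 1 then n * (n - 1) else 0) + 2 * (if zfix Ω g = 2 then 1 else 0)) := by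
    intro g
    by_cases hg : g = 1
    · subst hg
      have hnf : ¬ (zfix Ω (1 : G) = 2) := by rw [zfix_one]; omega
      rw [if_pos rfl, if_neg hnf, zfix_one, ← hn]
      obtain ⟨m, hm⟩ : ∃ m, n = m + 3 := ⟨n - 3, by omega⟩
      rw [hm]
      have e2 : m + 3 - 1 = m + 2 := by omega
      rw [e2]; ring
    · rw [if_neg hg, zero_add]
      have h2 := zfix_le_two hZ hg
      have h012 : zfix Ω g = 0 ∨ zfix Ω g = 1 ∨ zfix Ω g = 2 := by omega
      rcases h012 with h | h | h <;> rw [h] <;> norm_num
  have hsum : ∑ g : G, (zfix Ω g) ^ 2 = ∑ g : G, (zfix Ω g +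
      ((if g = 1 then n * (n - 1) else 0) + 2 * (if zfix Ω g = 2 then 1 else 0))) :=
    Finset.sum_congr rfl (fun g _ => hpt g)
  simp only [Finset.sum_add_distrib, ← Finset.mul_sum] at hsum
  rw [zc_sum_fix_sq hZ hab, zc_sum_fix hZ, Finset.sum_ite_eq', if_pos (Finset.mem_univ _),
    ← Finset.card_filter, ← zc_card_subtype] at hsum
  omega

/-- Under the inversion property, an element with exactly two fixed points has centralizer of
order `e`. -/
theorem zc_card_centralizer_two [Finite G] (hZ : IsZassenhausGroup G Ω) {a b : Ω} (hab : a ≠ b)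
    (hodd : Odd (Nat.card ↥(stabilizer G a ⊓ stabilizer G b : Subgroup G)))
    (hI : ∀ c d : Ω, c ≠ d → ZInv G c d) {g : G} (hg : zfix Ω g = 2) :
    Nat.card (Subgroup.centralizer ({g} : Set G)) =
      Nat.card ↥(stabilizer G a ⊓ stabilizer G b : Subgroup G) := by
  have hg2 : 1 < zfix Ω g := by omega
  unfold zfix at hg2
  obtain ⟨c, hc, d, hd, hcd⟩ := Finset.one_lt_card.mp hg2
  simp only [Finset.mem_filter, Finset.mem_univ, true_and] at hc hd
  have hg1 : g ≠ 1 := by
    rintro rfl
    rw [zfix_one] at hg
    have := zc_three_le_card hZ hab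
    omega
  have hgE : g ∈ (stabilizer G c ⊓ stabilizer G d : Subgroup G) :=
    Subgroup.mem_inf.mpr ⟨hc, hd⟩
  have hfixg : ∀ c' : Ω, g • c' = c' → c' = c ∨ c' = d := by
    intro c' hc'
    by_contra hne
    push Not at hne
    exact hg1 (fix3 hZ g hcd (Ne.symm hne.2) (Ne.symm hne.1) hc hd hc')
  have hoddcd : Odd (Nat.card ↥(stabilizer G c ⊓ stabilizer G d : Subgroup G)) := by
    rw [zc_card_stab_inf_eq hZ hab hcd]; exact hodd
  have hCeq : Subgroup.centralizer ({g} : Set G) =
      (stabilizer G c ⊓ stabilizer G d : Subgroup G) := by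
    obtain ⟨w, hwc, hwd⟩ := two_trans hZ hcd hcd.symm
    ext x
    constructor
    · intro hx
      have hxg : g * x = x * g := Subgroup.mem_centralizer_iff.mp hx g rfl
      have hxc : g • (x • c) = x • c := by rw [← mul_smul, hxg, mul_smul, hc]
      have hxd : g • (x • d) = x • d := by rw [← mul_smul, hxg, mul_smul, hd]
      rcases hfixg _ hxc with h1 | h1
      · rcases hfixg _ hxd with h2 | h2
        · exact absurd (smul_left_cancel x (h1.trans h2.symm)) hcd
        · exact Subgroup.mem_inf.mpr ⟨h1, h2⟩
      · rcases hfixg _ hxd with h2 | h2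
        · -- `x` swaps `c` and `d`, so it inverts `g`
          exfalso
          have h3 := hI c d hcd x h1 h2 g hgE
          have h4 : x * g * x⁻¹ = g := by rw [← hxg]; group
          rw [h4] at h3
          have h5 : g ^ 2 = 1 := by
            rw [pow_two]; exact mul_eq_one_iff_eq_inv.mpr h3
          have h6 : orderOf g ∣ 2 := orderOf_dvd_of_pow_eq_one h5
          have h7 : orderOf (⟨g, hgE⟩ : ↥(stabilizer G c ⊓ stabilizer G d : Subgroup G)) ∣
              Nat.card ↥(stabilizer G c ⊓ stabilizer G d : Subgroup G) := orderOf_dvd_natCard _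
          rw [Subgroup.orderOf_mk] at h7
          have h8 : orderOf g ∣ Nat.gcd 2
              (Nat.card ↥(stabilizer G c ⊓ stabilizer G d : Subgroup G)) := Nat.dvd_gcd h6 h7
          have h9 : Nat.gcd 2 (Nat.card ↥(stabilizer G c ⊓ stabilizer G d : Subgroup G)) = 1 :=
            Nat.coprime_two_left.mpr hoddcd
          rw [h9, Nat.dvd_one] at h8
          exact hg1 (orderOf_eq_one_iff.mp h8)
        · exact absurd (smul_left_cancel x (h1.trans h2.symm)) hcd
    · intro hx
      rw [Subgroup.mem_centralizer_iff]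
      intro y hy
      rw [Set.mem_singleton_iff] at hy
      subst hy
      exact (hI c d hcd).comm w hwc hwd hgE hx
  rw [hCeq, zc_card_stab_inf_eq hZ hab hcd]

end ZassClasses

end Cfsg.Agent.Lib.Helper11
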