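import Mathlib
import Cfsg.Prelude.Def_LieExceptional
import Cfsg.Prelude.Def_OddOrderLocal
import Cfsg.Agent.Lib.Helper11.ZassFrob
import Cfsg.Agent.Lib.Helper11.IndLinear
import Cfsg.Agent.Lib.Helper25.Kernel
import Cfsg.Agent.S0739
import Cfsg.Agent.S0878

/-!
# Zassenhaus groups with odd two point stabilizer: preparations for Feit's theorem

Group theoretic facts and facts on the characters of the point stabilizer `G_a`, under the
hypothesis that `G` has no normal `q`-complement for the primes `q` dividing `e`.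
-/

set_option autoImplicit false

namespace Cfsg.Agent.Lib.Helper11

open Cfsg MulAction
open Cfsg.Agent.Lib.Helper2 Cfsg.Agent.Lib.Helper7 Cfsg.Agent.Lib.Helper3.Zass

section ZassFeitA

variable {G Ω : Type*} [Group G] [MulAction G Ω]

/-- Two non conjugate fixed point free elements (no simplicity needed). -/
theorem zf_fpf_pair [Finite G] [Fintype Ω] (hZ : IsZassenhausGroup G Ω) {a b : Ω} (hab : a ≠ b)
    (hodd : Odd (Nat.card ↥(stabilizer G a ⊓ stabilizer G b : Subgroup G)))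
    (hlt : Nat.card ↥(stabilizer G a ⊓ stabilizer G b : Subgroup G) < Fintype.card Ω - 2) :
    ∃ x y : G, (∀ c : Ω, x • c ≠ c) ∧ (∀ c : Ω, y • c ≠ c) ∧ ¬ IsConj x y := by
  classical
  haveI : Fintype G := Fintype.ofFinite G
  by_contra hcon
  push Not at hcon
  have hcount := zc_fpf_count hZ hab
  have hG := zc_card_group hZ hab
  have hn3 := zc_three_le_card hZ hab
  have he2 := zc_one_lt_card hZ hab
  rw [← Nat.card_eq_fintype_card (α := G)] at hcount
  set e := Nat.card ↥(stabilizer G a ⊓ stabilizer G b : Subgroup G) with he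
  have he3 : 3 ≤ e := by
    obtain ⟨k, hk⟩ := hodd
    omega
  obtain ⟨m, hm⟩ : ∃ m, Fintype.card Ω = m + 3 := ⟨Fintype.card Ω - 3, by omega⟩
  rw [hm] at hcount hG
  have e1 : m + 3 - 2 = m + 1 := by omega
  have e2 : m + 3 - 1 = m + 2 := by omega
  rw [e1, e2] at hcount
  rw [e2] at hG
  set F := Nat.card {g : G // ∀ c : Ω, g • c ≠ c} with hF
  have hbig : (m + 3) * ((m + 2) * 3) ≤ (m + 3) * ((m + 2) * e) :=
    Nat.mul_le_mul_left _ (Nat.mul_le_mul_left _ he3)
  have hFpos : 0 < F := by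
    by_contra h0
    have hF0 : F = 0 := by omega
    rw [hF0, hG] at hcount
    nlinarith
  obtain ⟨x, hx⟩ : Nonempty {g : G // ∀ c : Ω, g • c ≠ c} := (Nat.card_pos_iff.mp hFpos).1
  have hFeq : F = Nat.card {y : G // IsConj x y} := by
    apply Nat.card_congr
    apply Equiv.subtypeEquivRight
    intro y
    constructor
    · intro hy
      exact hcon x y hx hy
    · intro hxy c hc
      obtain ⟨g, rfl⟩ := isConj_iff.mp hxy
      apply hx (g⁻¹ • c)
      have h1 : g⁻¹ • ((g * x * g⁻¹) • c) = g⁻¹ • c := by rw [hc]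
      rw [mul_smul, mul_smul, inv_smul_smul] at h1
      exact h1
  have hcl := Cfsg.Agent.Lib.Helper7.card_isConj_mul_card_centralizer x
  rw [← hFeq, hG] at hcl
  rw [hG] at hcount
  set c := Nat.card (Subgroup.centralizer ({x} : Set G)) with hc
  rcases Nat.lt_or_ge c 3 with hc3 | hc3
  · have h1 : F * c ≤ F * 2 := Nat.mul_le_mul_left _ (by omega)
    nlinarith
  · have h1 : F * 3 ≤ F * c := Nat.mul_le_mul_left _ hc3
    nlinarith

/-- An element of `G_a` fixing no other point lies in the kernel `H`. -/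
theorem zf_mem_kernel [Finite G] [Fintype Ω] (hZ : IsZassenhausGroup G Ω) {a b : Ω}
    (hab : a ≠ b) (H : Subgroup G) (hHa : H ≤ stabilizer G a)
    (hHcard : Nat.card H + 1 = Fintype.card Ω)
    (hHfix : ∀ u ∈ H, u ≠ 1 → ∀ d : Ω, u • d = d → d = a) {x : G} (hx : x ∈ stabilizer G a)
    (hfix : ∀ c : Ω, c ≠ a → x • c ≠ c) : x ∈ H := by
  obtain ⟨K, hFD, hK, hcard⟩ := exists_point_kernel hZ hab
  have hle : H.subgroupOf (stabilizer G a) ≤ K := by
    intro z hz
    rw [Subgroup.mem_subgroupOf] at hz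
    rw [hK]
    by_cases hz1 : z = 1
    · exact Or.inl hz1
    · right
      intro d hda hfix'
      apply hda
      have hz1' : (z : G) ≠ 1 := fun h => hz1 (Subtype.ext h)
      exact hHfix z.1 hz hz1' d hfix'
  have hcardH : Nat.card (H.subgroupOf (stabilizer G a)) = Nat.card H :=
    Nat.card_congr (Subgroup.subgroupOfEquivOfLe hHa).toEquiv
  have hKH : H.subgroupOf (stabilizer G a) = K := by
    apply Subgroup.eq_of_le_of_card_ge hle
    rw [hcardH, hcard, zc_card_orbit_stab hZ hab]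
    omega
  have hmem : (⟨x, hx⟩ : stabilizer G a) ∈ K := (hK _).mpr (Or.inr (fun c hc => hfix c hc))
  rw [← hKH, Subgroup.mem_subgroupOf] at hmem
  exact hmem

/-- The Frobenius condition: centralizers of non identity elements of `H` in `G_a` lie in `H`. -/
theorem zf_cent [Finite G] [Fintype Ω] (hZ : IsZassenhausGroup G Ω) {a b : Ω}
    (hab : a ≠ b) (H : Subgroup G) (hHa : H ≤ stabilizer G a)
    (hHcard : Nat.card H + 1 = Fintype.card Ω)
    (hHfix : ∀ u ∈ H, u ≠ 1 → ∀ d : Ω, u • d = d → d = a) :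
    ∀ u ∈ H, u ≠ 1 → ∀ x ∈ stabilizer G a, x * u = u * x → x ∈ H := by
  intro u hu hu1 x hx hxu
  by_contra hxH
  have hex : ∃ c : Ω, c ≠ a ∧ x • c = c := by
    by_contra hcon
    push Not at hcon
    exact hxH (zf_mem_kernel hZ hab H hHa hHcard hHfix hx hcon)
  obtain ⟨c, hca, hxc⟩ := hex
  have hx1 : x ≠ 1 := fun h => hxH (h ▸ H.one_mem)
  have hua : u • a = a := mem_stabilizer_iff.mp (hHa hu)
  have huc : u • c ≠ c := fun h => hca (hHfix u hu hu1 c h)
  have hxuc : x • (u • c) = u • c := by rw [← mul_smul, hxu, mul_smul, hxc]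
  have huca : u • c ≠ a := smul_ne_of_stab (Ne.symm hca) u hua
  exact hx1 (fix3 hZ x (Ne.symm hca) (Ne.symm huc) (Ne.symm huca) (mem_stabilizer_iff.mp hx)
    hxc hxuc)

/-- The Frobenius data of the pair `(H, G_a)`. -/
theorem zf_frob_data [Finite G] [Fintype Ω] (hZ : IsZassenhausGroup G Ω) {a b : Ω}
    (hab : a ≠ b) (H : Subgroup G) (hHa : H ≤ stabilizer G a)
    (hHcard : Nat.card H + 1 = Fintype.card Ω)
    (hHfix : ∀ u ∈ H, u ≠ 1 → ∀ d : Ω, u • d = d → d = a) :
    (∀ x ∈ stabilizer G a, ∀ h ∈ H, x * h * x⁻¹ ∈ H) ∧ IsTISubset (H : Set G) ∧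
      Subgroup.normalizer (H : Set G) = stabilizer G a ∧ H ≠ ⊥ ∧ ¬ stabilizer G a ≤ H ∧
      (H.subgroupOf (stabilizer G a)).index =
        Nat.card ↥(stabilizer G a ⊓ stabilizer G b : Subgroup G) := by
  obtain ⟨part1, hN⟩ := Cfsg.Agent.S0878.result hZ a H hHa hHcard hHfix
  have hn3 := zc_three_le_card hZ hab
  have he2 := zc_one_lt_card hZ hab
  have hL := zc_card_stab_eq hZ hab
  have hcardK : Nat.card (H.subgroupOf (stabilizer G a)) = Nat.card H :=
    Nat.card_congr (Subgroup.subgroupOfEquivOfLe hHa).toEquiv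
  have hidx : (H.subgroupOf (stabilizer G a)).index =
      Nat.card ↥(stabilizer G a ⊓ stabilizer G b : Subgroup G) := by
    have h1 := Subgroup.card_mul_index (H.subgroupOf (stabilizer G a))
    rw [hcardK, hL] at h1
    have h2 : Nat.card H = Fintype.card Ω - 1 := by omega
    rw [h2] at h1
    exact Nat.eq_of_mul_eq_mul_left (by omega) h1
  refine ⟨?_, ?_, hN, ?_, ?_, hidx⟩
  · intro x hx h hh
    rw [← hN] at hx
    exact ((Subgroup.mem_normalizer_iff).1 hx h).1 hh
  · intro g hg x hx hgx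
    rw [hN] at hg
    exact part1 g hg x hx hgx
  · intro h
    rw [h] at hHcard
    simp at hHcard
    omega
  · intro hle
    have h1 := Subgroup.card_le_of_le hle
    rw [hL] at h1
    have h2 : Nat.card H = Fintype.card Ω - 1 := by omega
    rw [h2] at h1
    have h3 : (Fintype.card Ω - 1) * 2 ≤ (Fintype.card Ω - 1) *
        Nat.card ↥(stabilizer G a ⊓ stabilizer G b : Subgroup G) :=
      Nat.mul_le_mul_left _ he2
    omega

/-- Without normal `q`-complements the two point stabilizers are abelian and inverted by the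
elements swapping the two points. -/
theorem zf_zinv [Finite G] [Fintype Ω] (hZ : IsZassenhausGroup G Ω) {a b : Ω} (hab : a ≠ b)
    (hodd : Odd (Nat.card ↥(stabilizer G a ⊓ stabilizer G b : Subgroup G)))
    (hnil : ∀ q : ℕ, q.Prime →
      q ∣ Nat.card ↥(stabilizer G a ⊓ stabilizer G b : Subgroup G) →
      ¬ ∃ N : Subgroup G, N.Normal ∧ N.index = q ^ (Nat.card G).factorization q)
    {c : Ω} (hac : a ≠ c) :
    (∀ x ∈ (stabilizer G a ⊓ stabilizer G c : Subgroup G),
      ∀ y ∈ (stabilizer G a ⊓ stabilizer G c : Subgroup G), x * y = y * x) ∧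
    ∀ s : G, s • a = c → s • c = a →
      ∀ k ∈ (stabilizer G a ⊓ stabilizer G c : Subgroup G), s * k * s⁻¹ = k⁻¹ := by
  have hcard := zc_card_stab_inf_eq hZ hab hac
  obtain ⟨hcyc, -, hinv⟩ := Cfsg.Agent.S0739.result hZ hac (by rw [hcard]; exact hodd)
    (by
      intro q hq hqe
      rw [hcard] at hqe
      exact hnil q hq hqe)
  refine ⟨?_, hinv⟩
  intro x hx y hy
  haveI := hcyc
  obtain ⟨g, hg⟩ := IsCyclic.exists_generator
    (α := ↥(stabilizer G a ⊓ stabilizer G c : Subgroup G))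
  obtain ⟨i, hi⟩ := Subgroup.mem_zpowers_iff.mp (hg ⟨x, hx⟩)
  obtain ⟨j, hj⟩ := Subgroup.mem_zpowers_iff.mp (hg ⟨y, hy⟩)
  have h1 : (⟨x, hx⟩ : ↥(stabilizer G a ⊓ stabilizer G c : Subgroup G)) * ⟨y, hy⟩ =
      ⟨y, hy⟩ * ⟨x, hx⟩ := by
    rw [← hi, ← hj, ← zpow_add, ← zpow_add, add_comm]
  exact congrArg Subtype.val h1

/-- The Mackey condition for a non principal linear character of `G_a` trivial on `H`. -/
theorem zf_mackey [Finite G] [Fintype Ω] (hZ : IsZassenhausGroup G Ω) {a b : Ω} (hab : a ≠ b)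
    (hodd : Odd (Nat.card ↥(stabilizer G a ⊓ stabilizer G b : Subgroup G)))
    (hnil : ∀ q : ℕ, q.Prime →
      q ∣ Nat.card ↥(stabilizer G a ⊓ stabilizer G b : Subgroup G) →
      ¬ ∃ N : Subgroup G, N.Normal ∧ N.index = q ^ (Nat.card G).factorization q)
    (H : Subgroup G) (hHa : H ≤ stabilizer G a)
    (hHcard : Nat.card H + 1 = Fintype.card Ω)
    (hHfix : ∀ u ∈ H, u ≠ 1 → ∀ d : Ω, u • d = d → d = a)
    (μ : stabilizer G a → ℂ) (hμc : IsCharacter (stabilizer G a) μ) (hμ1 : μ 1 = 1)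
    (hμH : ∀ u : stabilizer G a, (u : G) ∈ H → μ u = 1) (hμne : μ ≠ fun _ => 1) :
    ∀ x : G, x ∉ stabilizer G a → ∃ k : stabilizer G a,
      ∃ hk : x⁻¹ * (k : G) * x ∈ stabilizer G a, μ k ≠ μ ⟨x⁻¹ * (k : G) * x, hk⟩ := by
  intro x hxN
  by_contra hcon
  push Not at hcon
  have hac : a ≠ x • a := fun h => hxN (mem_stabilizer_iff.mpr h.symm)
  obtain ⟨-, hinv⟩ := zf_zinv hZ hab hodd hnil hac
  obtain ⟨v, hva, hvc⟩ := two_trans hZ hac (Ne.symm hac)
  have hvinv : ∀ k ∈ (stabilizer G a ⊓ stabilizer G (x • a) : Subgroup G),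
      v⁻¹ * k * v = k⁻¹ := by
    intro k hk
    have h1 := hinv v hva hvc k⁻¹ (Subgroup.inv_mem _ hk)
    rw [inv_inv] at h1
    calc v⁻¹ * k * v = v⁻¹ * (v * k⁻¹ * v⁻¹) * v := by rw [h1]
      _ = k⁻¹ := by group
  have hn : x⁻¹ * v ∈ stabilizer G a := by
    rw [mem_stabilizer_iff, mul_smul, hva, inv_smul_smul]
  have hE'odd : Odd (Nat.card ↥(stabilizer G a ⊓ stabilizer G (x • a) : Subgroup G)) := by
    rw [zc_card_stab_inf_eq hZ hab hac]; exact hodd
  -- `μ k * μ k = 1` on the two point stabilizer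
  have key : ∀ k (hk : k ∈ (stabilizer G a ⊓ stabilizer G (x • a) : Subgroup G)),
      μ ⟨k, (Subgroup.mem_inf.mp hk).1⟩ * μ ⟨k, (Subgroup.mem_inf.mp hk).1⟩ = 1 := by
    intro k hk
    have hkN : k ∈ stabilizer G a := (Subgroup.mem_inf.mp hk).1
    have hconj : x⁻¹ * k * x = (x⁻¹ * v) * k⁻¹ * (x⁻¹ * v)⁻¹ := by
      rw [← hvinv k hk]
      group
    have hmem : x⁻¹ * k * x ∈ stabilizer G a := by
      rw [hconj]
      exact Subgroup.mul_mem _ (Subgroup.mul_mem _ hn (Subgroup.inv_mem _ hkN))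
        (Subgroup.inv_mem _ hn)
    have h1 := hcon ⟨k, hkN⟩ hmem
    have h2 : (⟨x⁻¹ * k * x, hmem⟩ : stabilizer G a) =
        (⟨x⁻¹ * v, hn⟩ : stabilizer G a)⁻¹⁻¹ * (⟨k, hkN⟩ : stabilizer G a)⁻¹ *
          (⟨x⁻¹ * v, hn⟩ : stabilizer G a)⁻¹ := by
      apply Subtype.ext
      simp only [Subgroup.coe_mul, Subgroup.coe_inv, inv_inv]
      exact hconj
    rw [h2, linear_char_conj_apply _ hμc hμ1, linear_char_inv hμc hμ1] at h1
    have hne := linear_char_ne_zero hμc hμ1 ⟨k, hkN⟩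
    calc μ ⟨k, hkN⟩ * μ ⟨k, hkN⟩ = μ ⟨k, hkN⟩ * (μ ⟨k, hkN⟩)⁻¹ := by rw [← h1]
      _ = 1 := mul_inv_cancel₀ hne
  have hC1 : ∀ k (hk : k ∈ (stabilizer G a ⊓ stabilizer G (x • a) : Subgroup G)),
      μ ⟨k, (Subgroup.mem_inf.mp hk).1⟩ = 1 := by
    intro k hk
    obtain ⟨j, hj⟩ := hE'odd
    have hpow : k ^ (2 * j + 1) = 1 := by
      have h1 : (⟨k, hk⟩ : ↥(stabilizer G a ⊓ stabilizer G (x • a) : Subgroup G)) ^
          (Nat.card ↥(stabilizer G a ⊓ stabilizer G (x • a) : Subgroup G)) = 1 :=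
        pow_card_eq_one'
      rw [hj] at h1
      exact congrArg Subtype.val h1
    have hk' : k ^ (j + 1) ∈ (stabilizer G a ⊓ stabilizer G (x • a) : Subgroup G) :=
      Subgroup.pow_mem _ hk _
    have hsq : k = k ^ (j + 1) * k ^ (j + 1) := by
      rw [← pow_add]
      have h2 : j + 1 + (j + 1) = (2 * j + 1) + 1 := by ring
      rw [h2, pow_succ, hpow, one_mul]
    have h3 : (⟨k, (Subgroup.mem_inf.mp hk).1⟩ : stabilizer G a) =
        ⟨k ^ (j + 1), (Subgroup.mem_inf.mp hk').1⟩ * ⟨k ^ (j + 1), (Subgroup.mem_inf.mp hk').1⟩ :=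
      Subtype.ext hsq
    rw [h3, linear_char_mul hμc hμ1]
    exact key _ hk'
  apply hμne
  funext k
  obtain ⟨u, hu, s, hs, hks⟩ := zc_stab_eq_mul hZ hac H hHa hHcard hHfix k.1 k.2
  have h1 : k = (⟨u, hHa hu⟩ : stabilizer G a) * ⟨s, (Subgroup.mem_inf.mp hs).1⟩ :=
    Subtype.ext hks
  rw [h1, linear_char_mul hμc hμ1, hμH _ hu, hC1 s hs, mul_one]

/-- An irreducible character of `G_a` with `H` in its kernel is linear. -/
theorem zf_linear [Finite G] [Fintype Ω] (hZ : IsZassenhausGroup G Ω) {a c : Ω} (hac : a ≠ c)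
    (H : Subgroup G) (hHa : H ≤ stabilizer G a)
    (hHcard : Nat.card H + 1 = Fintype.card Ω)
    (hHfix : ∀ u ∈ H, u ≠ 1 → ∀ d : Ω, u • d = d → d = a)
    (hcomm : ∀ x ∈ (stabilizer G a ⊓ stabilizer G c : Subgroup G),
      ∀ y ∈ (stabilizer G a ⊓ stabilizer G c : Subgroup G), x * y = y * x)
    [hn : (H.subgroupOf (stabilizer G a)).Normal]
    {φ : stabilizer G a → ℂ} (hφ : IsIrrCharacter (stabilizer G a) φ)
    (hker : ∀ u : stabilizer G a, (u : G) ∈ H → φ u = φ 1) : φ 1 = 1 := by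
  obtain ⟨ψ, hψ, hψφ⟩ := Cfsg.Agent.Lib.Helper25.exists_deflation
    (H.subgroupOf (stabilizer G a)) hφ (fun n hn => hker n (Subgroup.mem_subgroupOf.mp hn))
  have hmk : ∀ x : stabilizer G a, ∃ s : G, ∃ hs : s ∈ (stabilizer G a ⊓ stabilizer G c :
      Subgroup G), (x : stabilizer G a ⧸ H.subgroupOf (stabilizer G a)) =
        ((⟨s, (Subgroup.mem_inf.mp hs).1⟩ : stabilizer G a) :
          stabilizer G a ⧸ H.subgroupOf (stabilizer G a)) := by
    intro x
    obtain ⟨u, hu, s, hs, hxs⟩ := zc_stab_eq_mul hZ hac H hHa hHcard hHfix x.1 x.2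
    refine ⟨s, hs, ?_⟩
    have h1 : x = (⟨u, hHa hu⟩ : stabilizer G a) * ⟨s, (Subgroup.mem_inf.mp hs).1⟩ :=
      Subtype.ext hxs
    have h2 : ((⟨u, hHa hu⟩ : stabilizer G a) :
        stabilizer G a ⧸ H.subgroupOf (stabilizer G a)) = 1 := by
      rw [QuotientGroup.eq_one_iff, Subgroup.mem_subgroupOf]
      exact hu
    rw [h1, QuotientGroup.mk_mul, h2, one_mul]
  have hq : ∀ p q : stabilizer G a ⧸ H.subgroupOf (stabilizer G a), p * q = q * p := by
    intro p q
    induction p using QuotientGroup.induction_on with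
    | H x =>
      induction q using QuotientGroup.induction_on with
      | H y =>
        obtain ⟨s, hs, hx⟩ := hmk x
        obtain ⟨s', hs', hy⟩ := hmk y
        rw [hx, hy, ← QuotientGroup.mk_mul, ← QuotientGroup.mk_mul]
        congr 1
        apply Subtype.ext
        exact hcomm s hs s' hs'
  have h1 := IsIrrCharacter.apply_one_of_comm hq hψ
  rw [hψφ 1, QuotientGroup.mk_one]
  exact h1

/-- Induced functions from `G_a` vanish at the fixed point free elements. -/
theorem zf_ind_fpf [Fintype G] {a : Ω} (ψ : stabilizer G a → ℂ) {y : G}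
    (hy : ∀ c : Ω, y • c ≠ c) : indFun (stabilizer G a) ψ y = 0 := by
  rw [Cfsg.Agent.Lib.Helper2.indFun_apply]
  have h1 : ∀ x : G, extendByZero (stabilizer G a) ψ (x⁻¹ * y * x) = 0 := by
    intro x
    apply Cfsg.Agent.Lib.Helper2.extendByZero_of_not_mem
    intro hmem
    rw [mem_stabilizer_iff] at hmem
    apply hy (x • a)
    have h2 := congrArg (fun t => x • t) hmem
    simp only [mul_smul, smul_inv_smul] at h2
    exact h2
  simp only [h1, Finset.sum_const_zero, mul_zero]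

end ZassFeitA

end Cfsg.Agent.Lib.Helper11
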