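import Cfsg.Agent.Lib.Helper11.ZassFeitA
import Cfsg.Agent.Lib.Helper11.FrobNonExc
import Cfsg.Agent.Lib.Helper11.Clifford5
import Cfsg.Agent.Lib.Helper2.TwoTransitive

/-!
# Feit's theorem on Zassenhaus groups with `e` odd: the coherent case

If the set of irreducible characters of `G_a` not containing `H` in their kernel is coherent
(and `G` has no normal `q`-complements for `q ∣ e`, `e < n - 2`), then `n - 2 ∣ 2 e`.
-/

set_option autoImplicit false

namespace Cfsg.Agent.Lib.Helper11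

open Cfsg MulAction
open Cfsg.Agent.Lib.Helper2 Cfsg.Agent.Lib.Helper7 Cfsg.Agent.Lib.Helper3.Zass
open scoped ComplexConjugate

section ZassFeitB

variable {G Ω : Type*} [Group G] [MulAction G Ω]

/-- An irreducible character separating two fixed point free elements restricts to `G_a` without
constituents having `H` in their kernel. -/
theorem zf_restrict_orth [Fintype G] [Fintype Ω] (hZ : IsZassenhausGroup G Ω) {a b : Ω}
    (hab : a ≠ b)
    (hodd : Odd (Nat.card ↥(stabilizer G a ⊓ stabilizer G b : Subgroup G)))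
    (hnil : ∀ q : ℕ, q.Prime →
      q ∣ Nat.card ↥(stabilizer G a ⊓ stabilizer G b : Subgroup G) →
      ¬ ∃ N : Subgroup G, N.Normal ∧ N.index = q ^ (Nat.card G).factorization q)
    (H : Subgroup G) (hHa : H ≤ stabilizer G a)
    (hHcard : Nat.card H + 1 = Fintype.card Ω)
    (hHfix : ∀ u ∈ H, u ≠ 1 → ∀ d : Ω, u • d = d → d = a) [Fintype (stabilizer G a)]
    {y₁ y₂ : G} (hy₁ : ∀ c : Ω, y₁ • c ≠ c) (hy₂ : ∀ c : Ω, y₂ • c ≠ c)
    {X : G → ℂ} (hX : IsIrrCharacter G X) (hXy : X y₁ ≠ X y₂)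
    (φ : stabilizer G a → ℂ) (hφ : IsIrrCharacter (stabilizer G a) φ)
    (hker : ∀ x : stabilizer G a, (x : G) ∈ H → φ x = φ 1) :
    classInner (fun l : stabilizer G a => X l) φ = 0 := by
  classical
  have hXcf : IsClassFunction G X := IsCharacter.isClassFunction (IsIrrCharacter.isCharacter hX)
  rw [← classInner_indFun_right (stabilizer G a) φ X hXcf]
  obtain ⟨hHn, -, -, -, -, -⟩ := zf_frob_data hZ hab H hHa hHcard hHfix
  haveI hn : (H.subgroupOf (stabilizer G a)).Normal := subgroupOf_normal_of_conj H _ hHn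
  obtain ⟨hcomm, -⟩ := zf_zinv hZ hab hodd hnil hab
  have hφ1 : φ 1 = 1 := zf_linear hZ hab H hHa hHcard hHfix hcomm hφ hker
  have hφc := IsIrrCharacter.isCharacter hφ
  by_cases hφtriv : φ = fun _ => 1
  · haveI := zc_pretransitive hZ
    rw [hφtriv, ← permChar_eq_indFun Ω a]
    have h2t : IsMultiplyPretransitive G Ω 2 := hZ.2.1
    have hcard2 : 2 ≤ Nat.card Ω := by
      rw [Nat.card_eq_fintype_card]
      have := zc_three_le_card hZ hab
      omega
    have hX₀ : IsIrrCharacter G (fun g => (Nat.card (fixedBy Ω g) : ℂ) - 1) :=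
      (isIrrCharacter_fixedPoints_sub_one_iff Ω hcard2).mpr h2t
    have hsplit : (fun g : G => (Nat.card (fixedBy Ω g) : ℂ)) =
        (fun g => (Nat.card (fixedBy Ω g) : ℂ) - 1) + (fun _ => (1 : ℂ)) := by
      funext g
      simp
    have hf : ∀ y : G, (∀ c : Ω, y • c ≠ c) → Nat.card (fixedBy Ω y) = 0 := by
      intro y hy
      haveI : IsEmpty (fixedBy Ω y) := ⟨fun ⟨c, hc⟩ => hy c hc⟩
      exact Nat.card_of_isEmpty
    have hne1 : X ≠ (fun _ => (1 : ℂ)) := by
      intro h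
      apply hXy
      rw [h]
    have hne0 : X ≠ (fun g => (Nat.card (fixedBy Ω g) : ℂ) - 1) := by
      intro h
      apply hXy
      rw [h]
      simp only [hf y₁ hy₁, hf y₂ hy₂]
    rw [hsplit, classInner_add_right, classInner_irr_eq_ite hX hX₀,
      classInner_irr_eq_ite hX isIrrCharacter_one, if_neg hne0, if_neg hne1, add_zero]
  · have hirr := isIrrCharacter_indFun_linear (stabilizer G a) hφc hφ1
      (zf_mackey hZ hab hodd hnil H hHa hHcard hHfix φ hφc hφ1
        (fun u hu => by rw [hker u hu, hφ1]) hφtriv)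
    rw [classInner_irr_eq_ite hX hirr, if_neg]
    intro h
    apply hXy
    rw [h, zf_ind_fpf φ hy₁, zf_ind_fpf φ hy₂]

/-- The coherent case of Feit's theorem: `n - 2` divides `2 e`. -/
theorem zf_coherent_dvd [Fintype G] [Fintype Ω] (hZ : IsZassenhausGroup G Ω) {a b : Ω}
    (hab : a ≠ b)
    (hodd : Odd (Nat.card ↥(stabilizer G a ⊓ stabilizer G b : Subgroup G)))
    (hnil : ∀ q : ℕ, q.Prime →
      q ∣ Nat.card ↥(stabilizer G a ⊓ stabilizer G b : Subgroup G) →
      ¬ ∃ N : Subgroup G, N.Normal ∧ N.index = q ^ (Nat.card G).factorization q)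
    (hlt : Nat.card ↥(stabilizer G a ⊓ stabilizer G b : Subgroup G) < Fintype.card Ω - 2)
    (H : Subgroup G) (hHa : H ≤ stabilizer G a)
    (hHcard : Nat.card H + 1 = Fintype.card Ω)
    (hHfix : ∀ u ∈ H, u ≠ 1 → ∀ d : Ω, u • d = d → d = a) [Fintype (stabilizer G a)]
    (hcoh : IsCoherent {χ : stabilizer G a → ℂ | IsIrrCharacter (stabilizer G a) χ ∧
      ∃ x : stabilizer G a, (x : G) ∈ H ∧ χ x ≠ χ 1} {1}ᶜ
      (fun α : stabilizer G a → ℂ => indFun (stabilizer G a) α)) :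
    Fintype.card Ω - 2 ∣ 2 * Nat.card ↥(stabilizer G a ⊓ stabilizer G b : Subgroup G) := by
  classical
  obtain ⟨-, τ₁, hiso, hagree⟩ := hcoh
  obtain ⟨hHn, hTI, hN, hH1, hLH, hidx⟩ := zf_frob_data hZ hab H hHa hHcard hHfix
  have hcent := zf_cent hZ hab H hHa hHcard hHfix
  have C := frobCtx0_of H (stabilizer G a) hHa hHn hcent hTI hN τ₁ hiso hagree
  obtain ⟨y₁, y₂, hy₁, hy₂, hconj⟩ := zf_fpf_pair hZ hab hodd hlt
  have hnc : ∀ y : G, (∀ c : Ω, y • c ≠ c) → y ∉ conjSet H := by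
    intro y hy hmem
    obtain ⟨-, x, hx⟩ := hmem
    have h1 := mem_stabilizer_iff.mp (hHa hx)
    apply hy (x⁻¹ • a)
    have h2 := congrArg (fun t => x⁻¹ • t) h1
    simp only [mul_smul, inv_smul_smul] at h2
    exact h2
  have hne1 : ∀ y : G, (∀ c : Ω, y • c ≠ c) → y ≠ 1 := by
    intro y hy h
    exact hy a (by rw [h, one_smul])
  obtain ⟨X, hX, hXy, ha⟩ := frob_exists_nonexceptional H (stabilizer G a) hHa hLH hH1 hcent
    τ₁ C (hnc y₁ hy₁) (hnc y₂ hy₂) (hne1 y₁ hy₁) (hne1 y₂ hy₂) hconj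
  obtain ⟨m, hm⟩ := frob_degree_of_orth H (stabilizer G a) hHa hLH hH1 hcent τ₁ C hX ha
    (fun φ hφ hker => zf_restrict_orth hZ hab hodd hnil H hHa hHcard hHfix hy₁ hy₂ hX hXy
      φ hφ hker)
  obtain ⟨d, hd, hdvd⟩ := IsIrrCharacter.exists_degree_dvd_card hX
  have hn3 := zc_three_le_card hZ hab
  obtain ⟨k, hk⟩ : ∃ k, Fintype.card Ω = k + 2 := ⟨Fintype.card Ω - 2, by omega⟩
  have hk2 : Fintype.card Ω - 2 = k := by omega
  have hHc : Nat.card H = k + 1 := by omega
  have hdm : d = m * k := by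
    have h1 : (d : ℂ) = (m : ℂ) * ((Nat.card H : ℂ) - 1) := by rw [← hd, hm]
    rw [hHc] at h1
    have h2 : (d : ℂ) = ((m * k : ℕ) : ℂ) := by
      rw [h1]
      push_cast
      ring
    exact_mod_cast h2
  have hG := zc_card_group hZ hab
  have hk_dvd : k ∣ Nat.card G := Dvd.dvd.trans ⟨m, by rw [hdm]; ring⟩ hdvd
  rw [hG, hk] at hk_dvd
  have e1 : k + 2 - 1 = k + 1 := by omega
  rw [e1] at hk_dvd
  have hexp : (k + 2) * ((k + 1) * Nat.card ↥(stabilizer G a ⊓ stabilizer G b : Subgroup G)) =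
      k * ((k + 3) * Nat.card ↥(stabilizer G a ⊓ stabilizer G b : Subgroup G)) +
        2 * Nat.card ↥(stabilizer G a ⊓ stabilizer G b : Subgroup G) := by ring
  rw [hexp] at hk_dvd
  rw [hk2]
  exact (Nat.dvd_add_right (dvd_mul_right k _)).mp hk_dvd

end ZassFeitB

end Cfsg.Agent.Lib.Helper11
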