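import Mathlib
import Cfsg.Prelude.Def_LieExceptional
import Cfsg.Agent.Lib.Helper11.ZassClasses

/-!
# Pairs of involutions in a Zassenhaus group
-/

set_option autoImplicit false

namespace Cfsg.Agent.Lib.Helper11

open Cfsg MulAction
open Cfsg.Agent.Lib.Helper3.Zass

section ZassPairs

attribute [local instance] Classical.propDecidable

variable {G Ω : Type*} [Group G] [MulAction G Ω] [Fintype G] [Fintype Ω]

/-- The pairs of involutions with fixed point free product. -/
noncomputable def zB3 (G : Type*) [Group G] (Ω : Type*) [MulAction G Ω] : ℕ :=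
  Nat.card {p : G × G // zinv p.1 ∧ zinv p.2 ∧ ∀ c : Ω, (p.1 * p.2) • c ≠ c}

/-- Fibre bound: the number of pairs of involutions with product `g` is at most `|C(g)|`. -/
theorem zp_fibre_le (g : G) :
    (Finset.univ.filter (fun p : G × G => (zinv p.1 ∧ zinv p.2) ∧ p.1 * p.2 = g)).card ≤
      Nat.card (Subgroup.centralizer ({g} : Set G)) := by
  by_cases hne : (Finset.univ.filter
      (fun p : G × G => (zinv p.1 ∧ zinv p.2) ∧ p.1 * p.2 = g)).Nonempty
  · obtain ⟨p₀, hp₀⟩ := hne
    rw [Finset.mem_filter] at hp₀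
    obtain ⟨-, ⟨h₀1, h₀2⟩, h₀g⟩ := hp₀
    have hinvert : ∀ p : G × G, zinv p.1 → zinv p.2 → p.1 * p.2 = g →
        p.1 * g * p.1⁻¹ = g⁻¹ := by
      intro p h1 h2 hg
      have hi1 : p.1⁻¹ = p.1 := inv_eq_of_mul_eq_one_right h1.2
      have hi2 : p.2⁻¹ = p.2 := inv_eq_of_mul_eq_one_right h2.2
      rw [← hg, mul_inv_rev, hi1, hi2]
      calc p.1 * (p.1 * p.2) * p.1 = (p.1 * p.1) * p.2 * p.1 := by group
        _ = p.2 * p.1 := by rw [h1.2, one_mul]
    have hcard : Nat.card (Subgroup.centralizer ({g} : Set G)) =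
        (Finset.univ.filter (fun x : G => x ∈ Subgroup.centralizer ({g} : Set G))).card := by
      show Nat.card {x : G // x ∈ Subgroup.centralizer ({g} : Set G)} = _
      rw [zc_card_subtype]
    rw [hcard]
    apply Finset.card_le_card_of_injOn (fun p => p₀.1⁻¹ * p.1)
    · intro p hp
      have hp' := Finset.mem_filter.mp (Finset.mem_coe.mp hp)
      obtain ⟨-, ⟨h1, h2⟩, hg⟩ := hp'
      simp only [Finset.coe_filter, Finset.mem_univ, true_and, Set.mem_ofPred_eq]
      rw [Subgroup.mem_centralizer_iff]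
      intro y hy
      rw [Set.mem_singleton_iff] at hy
      subst hy
      have e1 := hinvert p h1 h2 hg
      have e0 := hinvert p₀ h₀1 h₀2 h₀g
      -- y * (p₀.1⁻¹ * p.1) = (p₀.1⁻¹ * p.1) * y
      have e2 : p.1 * y = y⁻¹ * p.1 := by rw [← e1]; group
      have e3 : p₀.1⁻¹ * y⁻¹ = y * p₀.1⁻¹ := by
        have : y⁻¹ = p₀.1 * y * p₀.1⁻¹ := e0.symm
        rw [this]; group
      calc y * (p₀.1⁻¹ * p.1) = (y * p₀.1⁻¹) * p.1 := by group
        _ = (p₀.1⁻¹ * y⁻¹) * p.1 := by rw [e3]
        _ = p₀.1⁻¹ * (y⁻¹ * p.1) := by group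
        _ = p₀.1⁻¹ * (p.1 * y) := by rw [e2]
        _ = p₀.1⁻¹ * p.1 * y := by group
    · intro p hp p' hp' hpp
      have hp1 := Finset.mem_filter.mp (Finset.mem_coe.mp hp)
      have hp2 := Finset.mem_filter.mp (Finset.mem_coe.mp hp')
      have h1 : p.1 = p'.1 := mul_left_cancel hpp
      have h2 : p.2 = p'.2 := by
        have : p.1 * p.2 = p'.1 * p'.2 := by rw [hp1.2.2, hp2.2.2]
        rw [h1] at this
        exact mul_left_cancel this
      exact Prod.ext h1 h2
  · rw [Finset.not_nonempty_iff_eq_empty] at hne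
    rw [hne, Finset.card_empty]
    exact Nat.zero_le _

/-- `B₃ ≤ k₃ |G|`. -/
theorem zB3_le :
    zB3 G Ω ≤ Nat.card {c : ConjClasses G // ∃ g : G, ConjClasses.mk g = c ∧ zfix Ω g = 0} *
      Nat.card G := by
  have hq : ∀ x y : G, IsConj x y → zfix Ω x = 0 → zfix Ω y = 0 := by
    intro x y hxy hx
    rw [zfix_isConj hxy, hx]
  rw [← sum_card_centralizer_eq (fun g : G => zfix Ω g = 0) hq]
  unfold zB3
  rw [zc_card_subtype,
    Finset.card_eq_sum_card_fiberwise (f := fun p : G × G => p.1 * p.2) (t := Finset.univ)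
      (fun _ _ => Finset.mem_univ _)]
  apply Finset.sum_le_sum
  intro g _
  rw [Finset.filter_filter]
  by_cases hg : zfix Ω g = 0
  · rw [if_pos hg]
    refine le_trans (Finset.card_le_card ?_) (zp_fibre_le g)
    intro p hp
    rw [Finset.mem_filter] at hp ⊢
    exact ⟨hp.1, ⟨hp.2.1.1, hp.2.1.2.1⟩, hp.2.2⟩
  · rw [if_neg hg]
    apply le_of_eq
    rw [Finset.card_eq_zero, Finset.filter_eq_empty_iff]
    intro p _ hp
    apply hg
    rw [zfix_eq_zero_iff, ← hp.2]
    exact hp.1.2.2

/-- Counting pairs of involutions: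
`2 I² ≤ 2 I + 2 Σ_c (i_c² - i_c) + Σ_c Σ_{d≠c} (j_cd² - j_cd) + 2 B₃`. -/
theorem zp_pairs_bound :
    2 * (Nat.card {t : G // zinv t} * Nat.card {t : G // zinv t}) ≤
      2 * Nat.card {t : G // zinv t} +
      2 * ∑ c : Ω, (zJ G c c * zJ G c c - zJ G c c) +
      ∑ c : Ω, ∑ d ∈ Finset.univ.erase c, (zJ G c d * zJ G c d - zJ G c d) +
      2 * zB3 G Ω := by
  set T : Finset G := Finset.univ.filter (fun t : G => zinv t) with hT
  have hI : Nat.card {t : G // zinv t} = T.card := zc_card_subtype _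
  let Tc : Ω → Ω → Finset G := fun c d => Finset.univ.filter (fun t : G => zinv t ∧ t • c = d)
  have hTc : ∀ c d, (Tc c d).card = zJ G c d := fun c d => (zJ_eq_card c d).symm
  set P2 : Finset (G × G) := Finset.univ.biUnion (fun c : Ω => (Tc c c).offDiag) with hP2def
  set P3 : Finset (G × G) :=
    T.offDiag.filter (fun p => ∃ c : Ω, p.1 • c = p.2 • c ∧ p.1 • c ≠ c) with hP3def
  set P4 : Finset (G × G) := Finset.univ.filter
    (fun p : G × G => zinv p.1 ∧ zinv p.2 ∧ ∀ c : Ω, (p.1 * p.2) • c ≠ c) with hP4def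
  have hP4 : zB3 G Ω = P4.card := zc_card_subtype _
  have hsub : T.offDiag ⊆ P2 ∪ P3 ∪ P4 := by
    intro p hp
    rw [Finset.mem_offDiag] at hp
    obtain ⟨h1, h2, hne⟩ := hp
    have h1' : zinv p.1 := (Finset.mem_filter.mp h1).2
    have h2' : zinv p.2 := (Finset.mem_filter.mp h2).2
    by_cases hfpf : ∀ c : Ω, (p.1 * p.2) • c ≠ c
    · apply Finset.mem_union_right
      rw [Finset.mem_filter]; exact ⟨Finset.mem_univ _, h1', h2', hfpf⟩
    · push Not at hfpf
      obtain ⟨c, hc⟩ := hfpf
      have hpc : p.1 • c = p.2 • c := by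
        have h3 : p.1 • ((p.1 * p.2) • c) = p.1 • c := by rw [hc]
        rw [← mul_smul, ← mul_assoc, h1'.2, one_mul] at h3
        exact h3.symm
      apply Finset.mem_union_left
      by_cases hfix : p.1 • c = c
      · apply Finset.mem_union_left
        rw [Finset.mem_biUnion]
        refine ⟨c, Finset.mem_univ _, ?_⟩
        rw [Finset.mem_offDiag]
        refine ⟨?_, ?_, hne⟩
        · simp only [Tc, Finset.mem_filter, Finset.mem_univ, true_and]; exact ⟨h1', hfix⟩
        · simp only [Tc, Finset.mem_filter, Finset.mem_univ, true_and]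
          exact ⟨h2', by rw [← hpc]; exact hfix⟩
      · apply Finset.mem_union_right
        rw [Finset.mem_filter, Finset.mem_offDiag]
        exact ⟨⟨h1, h2, hne⟩, c, hpc, hfix⟩
  have hoff : T.offDiag.card = T.card * T.card - T.card := Finset.offDiag_card T
  have hle1 : T.offDiag.card ≤ P2.card + P3.card + P4.card :=
    (Finset.card_le_card hsub).trans ((Finset.card_union_le _ _).trans
      (Nat.add_le_add_right (Finset.card_union_le _ _) _))
  have hP2 : P2.card ≤ ∑ c : Ω, (zJ G c c * zJ G c c - zJ G c c) := by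
    refine (Finset.card_biUnion_le).trans ?_
    apply le_of_eq
    apply Finset.sum_congr rfl
    intro c _
    rw [Finset.offDiag_card, hTc]
  have hP3 : 2 * P3.card ≤
      ∑ c : Ω, ∑ d ∈ Finset.univ.erase c, (zJ G c d * zJ G c d - zJ G c d) := by
    have hw : ∀ p ∈ P3, 2 ≤ (Finset.univ.filter
        (fun c : Ω => p.1 • c = p.2 • c ∧ p.1 • c ≠ c)).card := by
      intro p hp
      rw [Finset.mem_filter, Finset.mem_offDiag] at hp
      obtain ⟨⟨h1, h2, hne⟩, c, hpc, hfix⟩ := hp
      have h1' : zinv p.1 := (Finset.mem_filter.mp h1).2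
      have h2' : zinv p.2 := (Finset.mem_filter.mp h2).2
      apply Finset.one_lt_card.mpr
      have e1 : p.1 • (p.1 • c) = c := by rw [← mul_smul, h1'.2, one_smul]
      have e2 : p.2 • (p.1 • c) = c := by rw [hpc, ← mul_smul, h2'.2, one_smul]
      refine ⟨c, ?_, p.1 • c, ?_, Ne.symm hfix⟩
      · simp only [Finset.mem_filter, Finset.mem_univ, true_and]; exact ⟨hpc, hfix⟩
      · simp only [Finset.mem_filter, Finset.mem_univ, true_and]
        exact ⟨by rw [e1, e2], by rw [e1]; exact Ne.symm hfix⟩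
    calc 2 * P3.card = ∑ _p ∈ P3, 2 := by rw [Finset.sum_const, smul_eq_mul, mul_comm]
      _ ≤ ∑ p ∈ P3, (Finset.univ.filter
            (fun c : Ω => p.1 • c = p.2 • c ∧ p.1 • c ≠ c)).card := Finset.sum_le_sum hw
      _ ≤ ∑ p ∈ T.offDiag, (Finset.univ.filter
            (fun c : Ω => p.1 • c = p.2 • c ∧ p.1 • c ≠ c)).card :=
          Finset.sum_le_sum_of_subset (Finset.filter_subset _ _)
      _ = ∑ c : Ω, (T.offDiag.filter
            (fun p => p.1 • c = p.2 • c ∧ p.1 • c ≠ c)).card := by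
          simp only [Finset.card_filter]
          rw [Finset.sum_comm]
      _ = ∑ c : Ω, ∑ d ∈ Finset.univ.erase c, (zJ G c d * zJ G c d - zJ G c d) := by
          apply Finset.sum_congr rfl
          intro c _
          rw [Finset.card_eq_sum_card_fiberwise (f := fun p : G × G => p.1 • c)
            (t := Finset.univ.erase c) ?_]
          · apply Finset.sum_congr rfl
            intro d hd
            rw [← hTc, ← Finset.offDiag_card]
            congr 1
            ext p
            simp only [Finset.mem_filter, Finset.mem_offDiag, Tc, hT, Finset.mem_univ, true_and]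
            constructor
            · rintro ⟨⟨⟨h1, h2, hne⟩, hpc, hfix⟩, hd'⟩
              exact ⟨⟨h1, hd'⟩, ⟨h2, by rw [← hpc]; exact hd'⟩, hne⟩
            · rintro ⟨⟨h1, hd1⟩, ⟨h2, hd2⟩, hne⟩
              refine ⟨⟨⟨h1, h2, hne⟩, by rw [hd1, hd2], ?_⟩, hd1⟩
              rw [hd1]; exact Finset.ne_of_mem_erase hd
          · intro p hp
            rw [Finset.mem_coe, Finset.mem_filter] at hp
            exact Finset.mem_coe.mpr (Finset.mem_erase.mpr ⟨hp.2.2, Finset.mem_univ _⟩)
  have hTT : T.card ≤ T.card * T.card := Nat.le_mul_self _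
  rw [hI, hP4]
  omega

end ZassPairs

end Cfsg.Agent.Lib.Helper11
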